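import Cfsg.Agent.StdAlt.Five.Sec4

/-!
# S1766, n = 5, case (I): the 2-group `P` of order 64 (blueprint S1766-five, section 3)
-/

set_option autoImplicit false

namespace Cfsg.Agent.StdAlt.Five.PGroup

open Subgroup Cfsg.Agent.StdAlt.Conj Cfsg.Agent.J2Sylow.Model Cfsg.Agent.StdAlt.Five
open Cfsg.Agent.StdAlt.Five.Sec4

variable {G : Type*} [Group G]

/-- Decomposition into the 2-part and the odd part. -/
theorem exists_two_odd [Finite G] (g : G) : ∃ a b : G, a ∈ zpowers g ∧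
    b ∈ zpowers g ∧ g = a * b ∧ (∃ k, a ^ (2 ^ k) = 1) ∧ Odd (orderOf b) := by
  obtain ⟨k, m, hm, hkm⟩ := Nat.exists_eq_two_pow_mul_odd (orderOf_pos g).ne'
  have hcop : IsCoprime ((2 : ℤ) ^ k) (m : ℤ) := by
    have : Nat.Coprime (2 ^ k) m := Nat.Coprime.pow_left _ (Nat.coprime_two_left.mpr hm)
    have := Nat.isCoprime_iff_coprime.mpr this
    simpa using this
  obtain ⟨u, v, huv⟩ := hcop
  have hg : g ^ ((2 : ℤ) ^ k * m) = 1 := by
    have : ((2 : ℤ) ^ k * m) = ((orderOf g : ℕ) : ℤ) := by rw [hkm]; push_cast; ring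
    rw [this, zpow_natCast, pow_orderOf_eq_one]
  refine ⟨g ^ (v * m), g ^ (u * 2 ^ k), zpow_mem (mem_zpowers g) _, zpow_mem (mem_zpowers g) _,
    ?_, ⟨k, ?_⟩, ?_⟩
  · rw [← zpow_add, add_comm, huv, zpow_one]
  · rw [← zpow_natCast, ← zpow_mul]
    have : v * m * ((2 ^ k : ℕ) : ℤ) = (2 ^ k * m) * v := by push_cast; ring
    rw [this, zpow_mul, hg, one_zpow]
  · have h1 : (g ^ (u * 2 ^ k)) ^ m = 1 := by
      rw [← zpow_natCast, ← zpow_mul]
      have : u * 2 ^ k * (m : ℤ) = (2 ^ k * m) * u := by ring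
      rw [this, zpow_mul, hg, one_zpow]
    exact hm.of_dvd_nat (orderOf_dvd_of_pow_eq_one h1)

/-- an element of odd order whose odd power is... : `x ^ n = 1`, `x * x = 1`, `n` odd -/
theorem eq_one_of_odd {x : G} (h2 : x * x = 1) (ho : Odd (orderOf x)) : x = 1 := by
  have h : orderOf x ∣ 2 := orderOf_dvd_of_pow_eq_one (by rw [pow_two, h2])
  rcases (Nat.dvd_prime Nat.prime_two).1 h with h1 | h1
  · exact orderOf_eq_one_iff.1 h1
  · rw [h1] at ho
    exact absurd ho (by decide)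

variable {A R V : Subgroup G} {ρ g : G}

section basic

variable (h : OddE A R V ρ g)
include h

theorem comm_RV {r v : G} (hr : r ∈ R) (hv : v ∈ V) : r * v = v * r :=
  comm_of_C (h.R_le hr) (h.V_le hv)

theorem inf_RV {x : G} (hr : x ∈ R) (hv : x ∈ V) : x = 1 :=
  h.te.disj x (h.V_le hv) (h.R_le hr)

theorem invR {r : G} (hr : r ∈ R) : r⁻¹ = r := by
  rw [inv_eq_iff_mul_eq_one]; exact h.sqR r hr

theorem invV {v : G} (hv : v ∈ V) : v⁻¹ = v := by
  rw [inv_eq_iff_mul_eq_one]; exact h.sqV v hv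

theorem commR {r s : G} (hr : r ∈ R) (hs : s ∈ R) : r * s = s * r := by
  have h' := h.sqR _ (R.mul_mem hr hs)
  calc r * s = (r * s)⁻¹ := by rw [eq_inv_iff_mul_eq_one]; exact h'
    _ = s⁻¹ * r⁻¹ := by group
    _ = s * r := by rw [invR h hr, invR h hs]

theorem commV {r s : G} (hr : r ∈ V) (hs : s ∈ V) : r * s = s * r := by
  have h' := h.sqV _ (V.mul_mem hr hs)
  calc r * s = (r * s)⁻¹ := by rw [eq_inv_iff_mul_eq_one]; exact h'
    _ = s⁻¹ * r⁻¹ := by group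
    _ = s * r := by rw [invV h hr, invV h hs]

theorem mem_E {x : G} : x ∈ R ⊔ V ↔ ∃ r ∈ R, ∃ v ∈ V, x = r * v := by
  constructor
  · intro hx
    let E' : Subgroup G :=
      { carrier := {x | ∃ r ∈ R, ∃ v ∈ V, x = r * v}
        mul_mem' := by
          rintro _ _ ⟨r, hr, v, hv, rfl⟩ ⟨r', hr', v', hv', rfl⟩
          refine ⟨r * r', mul_mem hr hr', v * v', mul_mem hv hv', ?_⟩
          calc r * v * (r' * v') = r * (v * r') * v' := by group
            _ = r * r' * (v * v') := by rw [← comm_RV h hr' hv]; group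
        one_mem' := ⟨1, one_mem _, 1, one_mem _, by rw [one_mul]⟩
        inv_mem' := by
          rintro _ ⟨r, hr, v, hv, rfl⟩
          refine ⟨r⁻¹, inv_mem hr, v⁻¹, inv_mem hv, ?_⟩
          rw [mul_inv_rev, ← comm_RV h (inv_mem hr) (inv_mem hv)] }
    have h1 : R ⊔ V ≤ E' := sup_le (fun r hr => ⟨r, hr, 1, one_mem _, by rw [mul_one]⟩)
      (fun v hv => ⟨1, one_mem _, v, hv, by rw [one_mul]⟩)
    exact h1 hx
  · rintro ⟨r, hr, v, hv, rfl⟩
    exact mul_mem (mem_sup_left hr) (mem_sup_right hv)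

theorem E_sq {x : G} (hx : x ∈ R ⊔ V) : x * x = 1 := by
  obtain ⟨r, hr, v, hv, rfl⟩ := (mem_E h).1 hx
  calc r * v * (r * v) = r * (v * r) * v := by group
    _ = (r * r) * (v * v) := by rw [← comm_RV h hr hv]; group
    _ = 1 := by rw [h.sqR r hr, h.sqV v hv, mul_one]

theorem E_comm {x y : G} (hx : x ∈ R ⊔ V) (hy : y ∈ R ⊔ V) : x * y = y * x := by
  have h' := E_sq h (mul_mem hx hy)
  have hx' := E_sq h hx
  have hy' := E_sq h hy
  calc x * y = (x * y)⁻¹ := by rw [eq_inv_iff_mul_eq_one]; exact h'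
    _ = y⁻¹ * x⁻¹ := by group
    _ = y * x := by rw [inv_eq_of_mul_eq_one_left hx', inv_eq_of_mul_eq_one_left hy']

theorem E_conj {n : G} (hn : n ∈ N (R ⊔ V)) {x : G} (hx : x ∈ R ⊔ V) : n * x * n⁻¹ ∈ R ⊔ V :=
  conj_mem hn hx

/-- `V` has no involution of K-type -/
theorem not_KT {v : G} (hv : v ∈ V) : ¬ KT A v := by
  rintro ⟨h1, h2, x, hx⟩
  exact h.nK x v (h.V_le hv) h1 h2 hx

omit h in
theorem KT_conj {x : G} (hx : KT A x) (n : G) : KT A (n * x * n⁻¹) := by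
  obtain ⟨h1, h2, y, hy⟩ := hx
  refine ⟨?_, ?_, y * n⁻¹, ?_⟩
  · intro e
    apply h1
    rw [show x = n⁻¹ * (n * x * n⁻¹) * n by group, e]; group
  · rw [show n * x * n⁻¹ * (n * x * n⁻¹) = n * (x * x) * n⁻¹ by group, h2]; group
  · rw [show y * n⁻¹ * (n * x * n⁻¹) * (y * n⁻¹)⁻¹ = y * x * y⁻¹ by group]
    exact hy

/-- elements of `R` have K-type -/
theorem KT_R {r : G} (hr : r ∈ R) (h1 : r ≠ 1) : KT A r :=
  ⟨h1, h.sqR r hr, 1, by rw [one_mul, inv_one, mul_one]; exact h.R_le hr⟩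

theorem ρN : ρ ∈ N A := le_N h.ρ_mem

theorem ρR {r : G} (hr : r ∈ R) : ρ * r * ρ⁻¹ = r := by
  rw [← comm_of_C (h.R_le hr) h.ρ_mem]; group

theorem ρE [Finite G] : ρ ∈ N (R ⊔ V) := by
  refine mem_N_of fun x hx => ?_
  obtain ⟨r, hr, v, hv, rfl⟩ := (mem_E h).1 hx
  rw [show ρ * (r * v) * ρ⁻¹ = (ρ * r * ρ⁻¹) * (ρ * v * ρ⁻¹) by group, ρR h hr]
  exact mul_mem (mem_sup_left hr) (mem_sup_right (h.ρV v hv))

theorem ρ3' (x : G) : ρ * (ρ * (ρ * x * ρ⁻¹) * ρ⁻¹) * ρ⁻¹ = x := by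
  have h3 := h.ρ3
  rw [pow_succ, pow_two] at h3
  have : ρ * (ρ * (ρ * x * ρ⁻¹) * ρ⁻¹) * ρ⁻¹ = (ρ * ρ * ρ) * x * (ρ * ρ * ρ)⁻¹ := by group
  rw [this, h3]; group

/-- the four elements of `V` -/
theorem V_elts [Finite G] {v : G} (hv : v ∈ V) (hv1 : v ≠ 1) {x : G} (hx : x ∈ V) :
    x = 1 ∨ x = v ∨ x = ρ * v * ρ⁻¹ ∨ x = ρ * (ρ * v * ρ⁻¹) * ρ⁻¹ := by
  classical
  by_contra hcon
  push_neg at hcon
  obtain ⟨c1, c2, c3, c4⟩ := hcon
  set b1 := ρ * v * ρ⁻¹ with hb1d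
  set b2 := ρ * b1 * ρ⁻¹ with hb2d
  have m1 : b1 ∈ V := h.ρV v hv
  have m2 : b2 ∈ V := h.ρV b1 m1
  have h3 : ρ * b2 * ρ⁻¹ = v := ρ3' h v
  have n1 : b1 ≠ 1 := by
    intro e
    apply hv1
    rw [show v = ρ⁻¹ * b1 * ρ by rw [hb1d]; group, e]; group
  have n2 : b2 ≠ 1 := by
    intro e
    apply n1
    rw [show b1 = ρ⁻¹ * b2 * ρ by rw [hb2d]; group, e]; group
  have n01 : b1 ≠ v := h.ρfix v hv hv1
  have n12 : b2 ≠ b1 := h.ρfix b1 m1 n1
  have n02 : b2 ≠ v := by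
    intro e
    rw [e] at h3
    exact n01 h3
  have hc : ({⟨1, V.one_mem⟩, ⟨v, hv⟩, ⟨b1, m1⟩, ⟨b2, m2⟩, ⟨x, hx⟩} : Finset V).card ≤ Nat.card V := by
    haveI := Fintype.ofFinite V
    rw [Nat.card_eq_fintype_card]
    exact Finset.card_le_univ _
  rw [h.cardV] at hc
  rw [Finset.card_insert_of_notMem, Finset.card_insert_of_notMem, Finset.card_insert_of_notMem,
    Finset.card_insert_of_notMem, Finset.card_singleton] at hc
  · omega
  · simp only [Finset.mem_singleton, Subtype.mk.injEq]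
    exact fun h => c4 h.symm
  · simp only [Finset.mem_insert, Finset.mem_singleton, Subtype.mk.injEq, not_or]
    exact ⟨fun h => n12 h.symm, fun h => c3 h.symm⟩
  · simp only [Finset.mem_insert, Finset.mem_singleton, Subtype.mk.injEq, not_or]
    exact ⟨fun h => n01 h.symm, fun h => n02 h.symm, fun h => c2 h.symm⟩
  · simp only [Finset.mem_insert, Finset.mem_singleton, Subtype.mk.injEq, not_or]
    exact ⟨fun h => hv1 h.symm, fun h => n1 h.symm, fun h => n2 h.symm, fun h => c1 h.symm⟩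

theorem exists_g [Finite G] {r : G} (hr : r ∈ R) (hr1 : r ≠ 1) :
    ∃ s ∈ R, s ≠ 1 ∧ ∃ b ∈ V, b ≠ 1 ∧ g * s * g⁻¹ = r * b := by
  -- decomposition of the conjugates by `g`
  have hdec : ∀ s : R, ∃ p : R × V, g * (s : G) * g⁻¹ = (p.1 : G) * p.2 := by
    rintro ⟨s, hs⟩
    obtain ⟨r', hr', v', hv', e⟩ := (mem_E h).1 (E_conj h h.gE (mem_sup_left hs))
    exact ⟨(⟨r', hr'⟩, ⟨v', hv'⟩), e⟩
  choose f hf using hdec
  have hinj : Function.Injective (fun s : R => (f s).1) := by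
    intro s t hst
    simp only at hst
    by_contra hne
    have h1 : g * ((s : G) * t) * g⁻¹ ∈ V := by
      have e1 : g * ((s : G) * t) * g⁻¹ = (g * s * g⁻¹) * (g * t * g⁻¹) := by group
      rw [e1, hf, hf, hst]
      have e2 : ((f t).1 : G) * (f s).2 * ((f t).1 * (f t).2) = ((f t).1 * ((f s).2 * (f t).1)) * (f t).2 := by
        group
      rw [e2, ← comm_RV h (f t).1.2 (f s).2.2]
      have e3 : ((f t).1 : G) * ((f t).1 * (f s).2) * (f t).2 = ((f t).1 * (f t).1) * ((f s).2 * (f t).2) := by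
        group
      rw [e3, h.sqR _ (f t).1.2, one_mul]
      exact mul_mem (f s).2.2 (f t).2.2
    have h2 : (s : G) * t ≠ 1 := by
      intro e
      apply hne
      apply Subtype.ext
      rw [mul_eq_one_iff_eq_inv, invR h t.2] at e
      exact e
    exact not_KT h h1 (KT_conj (KT_R h (mul_mem s.2 t.2) h2) g)
  have hsurj : Function.Surjective (fun s : R => (f s).1) := Finite.surjective_of_injective hinj
  obtain ⟨s, hs⟩ := hsurj ⟨r, hr⟩
  have hs' : ((f s).1 : G) = r := congrArg Subtype.val hs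
  have hs1 : (s : G) ≠ 1 := by
    intro e
    apply hr1
    have h1 := hf s
    rw [e, hs'] at h1
    have h2 : r = ((f s).2 : G)⁻¹ := by
      rw [eq_inv_iff_mul_eq_one, ← h1]; group
    exact inf_RV h hr (by rw [h2]; exact inv_mem (f s).2.2)
  have hgs : g * s * g⁻¹ = r * ((f s).2 : G) := by rw [hf, hs']
  refine ⟨s, s.2, hs1, (f s).2, (f s).2.2, ?_, hgs⟩
  intro e
  rw [e, mul_one] at hgs
  apply h.gA
  exact h.te.key s g (h.R_le s.2) hs1 (h.sqR _ s.2) (by rw [hgs]; exact h.R_le hr)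

/-- **the K-type elements of `E`**: each `r * v` is `N(E)`-conjugate to an element of `R` -/
theorem exists_conj_E [Finite G] {r v : G} (hr : r ∈ R) (hr1 : r ≠ 1) (hv : v ∈ V) :
    ∃ n ∈ N (R ⊔ V), ∃ s ∈ R, s ≠ 1 ∧ n * s * n⁻¹ = r * v := by
  obtain ⟨s, hs, hs1, b, hbV, hb1, hgs⟩ := exists_g h hr hr1
  have hρ := ρE h
  rcases V_elts h hbV hb1 hv with e | e | e | e
  · exact ⟨1, one_mem _, r, hr, hr1, by rw [e]; group⟩
  · exact ⟨g, h.gE, s, hs, hs1, by rw [e, hgs]⟩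
  · refine ⟨ρ * g, mul_mem hρ h.gE, s, hs, hs1, ?_⟩
    rw [e, show ρ * g * s * (ρ * g)⁻¹ = ρ * (g * s * g⁻¹) * ρ⁻¹ by group, hgs,
      show ρ * (r * b) * ρ⁻¹ = (ρ * r * ρ⁻¹) * (ρ * b * ρ⁻¹) by group, ρR h hr]
  · refine ⟨ρ * (ρ * g), mul_mem hρ (mul_mem hρ h.gE), s, hs, hs1, ?_⟩
    rw [e, show ρ * (ρ * g) * s * (ρ * (ρ * g))⁻¹ = ρ * (ρ * (g * s * g⁻¹) * ρ⁻¹) * ρ⁻¹ by group, hgs,
      show ρ * (ρ * (r * b) * ρ⁻¹) * ρ⁻¹ = (ρ * (ρ * r * ρ⁻¹) * ρ⁻¹) * (ρ * (ρ * b * ρ⁻¹) * ρ⁻¹) by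
        group, ρR h hr, ρR h hr]

theorem KT_E [Finite G] {r v : G} (hr : r ∈ R) (hr1 : r ≠ 1) (hv : v ∈ V) : KT A (r * v) := by
  obtain ⟨n, -, s, hs, hs1, e⟩ := exists_conj_E h hr hr1 hv
  rw [← e]
  exact KT_conj (KT_R h hs hs1) n

theorem normV [Finite G] {x : G} (hx : x ∈ N (R ⊔ V)) {v : G} (hv : v ∈ V) : x * v * x⁻¹ ∈ V := by
  obtain ⟨r, hr, w, hw, e⟩ := (mem_E h).1 (E_conj h hx (mem_sup_right hv))
  by_cases hr1 : r = 1
  · rw [e, hr1, one_mul]; exact hw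
  · exfalso
    apply not_KT h hv
    have h1 := KT_conj (KT_E h hr hr1 hw) x⁻¹
    rw [← e] at h1
    rwa [show x⁻¹ * (x * v * x⁻¹) * x⁻¹⁻¹ = v by group] at h1

theorem mem_R_of_E {x : G} (hx : x ∈ R ⊔ V) (hxA : x ∈ C A) : x ∈ R := by
  obtain ⟨r, hr, v, hv, rfl⟩ := (mem_E h).1 hx
  have h1 : v ∈ C A := by
    rw [show v = r⁻¹ * (r * v) by group]
    exact mul_mem (inv_mem (h.R_le hr)) hxA
  rw [h.te.disj v (h.V_le hv) h1, mul_one]
  exact hr

/-- elements of `N(E) ∩ N(A)` normalize `R` -/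
theorem normR {x : G} (hx : x ∈ N (R ⊔ V)) (hxA : x ∈ N A) {r : G} (hr : r ∈ R) :
    x * r * x⁻¹ ∈ R :=
  mem_R_of_E h (E_conj h hx (mem_sup_left hr)) (conj_mem_C hxA (h.R_le hr))

/-- 2-elements of `C A` normalizing `R` lie in `R` -/
theorem mem_R_of_two [Finite G] {y : G} (hy : y ∈ C A) (hyR : ∀ r ∈ R, y * r * y⁻¹ ∈ R)
    (hy2 : ∃ k : ℕ, y ^ (2 ^ k) = 1) : y ∈ R := by
  have hR : IsPGroup 2 R := IsPGroup.of_card (n := 2) (by rw [h.cardR]; norm_num)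
  have hZ : IsPGroup 2 (zpowers y) := by
    obtain ⟨k, hk⟩ := hy2
    have h1 : Nat.card (zpowers y) ∣ 2 ^ k := by
      rw [Nat.card_zpowers]; exact orderOf_dvd_of_pow_eq_one hk
    obtain ⟨m, -, hm⟩ := (Nat.dvd_prime_pow Nat.prime_two).1 h1
    exact IsPGroup.of_card hm
  have hyN : zpowers y ≤ N R := by
    rw [zpowers_le]
    exact mem_N_of hyR
  have hsup : IsPGroup 2 ((zpowers y) ⊔ R : Subgroup G) := hZ.to_sup_of_normal_right' hR hyN
  obtain ⟨n, hn⟩ := hsup.exists_card_eq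
  have hle : (zpowers y) ⊔ R ≤ C A := sup_le (by rw [zpowers_le]; exact hy) h.R_le
  have hdvd : Nat.card ((zpowers y) ⊔ R : Subgroup G) ∣ Nat.card (C A) := card_dvd_of_le hle
  have hn2 : n ≤ 2 := by
    by_contra hcon
    push_neg at hcon
    apply h.card8
    have : (8 : ℕ) ∣ 2 ^ n := by
      rw [show (8 : ℕ) = 2 ^ 3 by norm_num]
      exact pow_dvd_pow 2 hcon
    rw [hn] at hdvd
    exact this.trans hdvd
  have hcard : Nat.card ((zpowers y) ⊔ R : Subgroup G) ≤ Nat.card R := by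
    rw [hn, h.cardR]
    calc 2 ^ n ≤ 2 ^ 2 := Nat.pow_le_pow_right (by norm_num) hn2
      _ = 4 := by norm_num
  have heq : R = (zpowers y) ⊔ R := eq_of_le_of_card_ge le_sup_right hcard
  rw [heq]
  exact mem_sup_left (mem_zpowers y)

/-- an element of `N(E)` commuting with an involution of `R` and moving `E` only modulo `V` centralizes `R` -/
theorem cent_R {x r₀ : G} (hx : x ∈ N (R ⊔ V)) (hx' : ∀ r ∈ R, x * r * x⁻¹ * r⁻¹ ∈ V)
    (hr₀ : r₀ ∈ R) (h1 : r₀ ≠ 1) (hc : x * r₀ = r₀ * x) {r : G} (hr : r ∈ R) : x * r = r * x := by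
  have hxA : x ∈ N A := h.te.nrm (h.R_le hr₀) h1 (h.sqR _ hr₀) hc
  have h2 := normR h hx hxA hr
  have h3 := inf_RV h (mul_mem h2 (inv_mem hr)) (hx' r hr)
  rw [mul_inv_eq_one] at h3
  calc x * r = (x * r * x⁻¹) * x := by group
    _ = r * x := by rw [h3]

/-- `C_G(E)` -/
def CE (R V : Subgroup G) (x : G) : Prop := (∀ r ∈ R, x * r = r * x) ∧ ∀ v ∈ V, x * v = v * x

theorem CE_NA {x : G} (hx : CE R V x) : x ∈ N A := by
  have : Nontrivial R := by
    haveI : Finite R := Nat.finite_of_card_ne_zero (by rw [h.cardR]; norm_num)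
    exact (Finite.one_lt_card_iff_nontrivial).mp (by rw [h.cardR]; norm_num)
  obtain ⟨⟨r, hr⟩, hr1⟩ := exists_ne (1 : R)
  exact h.te.nrm (h.R_le hr) (fun e => hr1 (Subtype.ext e)) (h.sqR r hr) (hx.1 r hr)

/-- elements of odd order of `C_G(E)` centralize `A` -/
theorem CE_odd {x : G} (hx : CE R V x) (ho : Odd (orderOf x)) : x ∈ C A := by
  obtain ⟨v, hv, hxv⟩ := h.CV x (CE_NA h hx) hx.2
  have h1 : (x * v) ^ orderOf x ∈ C A := pow_mem hxv _
  have h2 : (x * v) ^ orderOf x = v := by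
    rw [(show Commute x v from hx.2 v hv).mul_pow, pow_orderOf_eq_one, one_mul]
    obtain ⟨k, hk⟩ := ho
    rw [hk, pow_add, pow_mul, pow_two, h.sqV v hv, one_pow, one_mul, pow_one]
  rw [h2] at h1
  have h3 := h.te.disj v (h.V_le hv) h1
  rw [h3, mul_one] at hxv
  exact hxv

/-- 2-elements of `C_G(E)` lie in `E` -/
theorem CE_two [Finite G] {x : G} (hx : CE R V x) (h2 : ∃ k : ℕ, x ^ (2 ^ k) = 1) : x ∈ R ⊔ V := by
  obtain ⟨v, hv, hxv⟩ := h.CV x (CE_NA h hx) hx.2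
  have h3 : x * v ∈ R := by
    refine mem_R_of_two h hxv (fun r hr => ?_) ?_
    · have e1 := hx.1 r hr
      have e2 := comm_RV h hr hv
      have : x * v * r * (x * v)⁻¹ = r := by
        calc x * v * r * (x * v)⁻¹ = x * (v * r) * v⁻¹ * x⁻¹ := by group
          _ = (x * r) * x⁻¹ := by rw [← e2]; group
          _ = r := by rw [e1]; group
      rw [this]; exact hr
    · obtain ⟨k, hk⟩ := h2
      refine ⟨k + 1, ?_⟩
      rw [(show Commute x v from hx.2 v hv).mul_pow, pow_succ, pow_mul, hk, one_pow, one_mul,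
        mul_comm, pow_mul, pow_two, h.sqV v hv, one_pow]
  rw [show x = (x * v) * v⁻¹ by group]
  exact mul_mem (mem_sup_left h3) (mem_sup_right (inv_mem hv))

end basic

end Cfsg.Agent.StdAlt.Five.PGroup
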