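import Cfsg.Agent.StdAlt.Five.Pair

/-!
# The odd configuration
-/

set_option autoImplicit false
set_option linter.unusedSectionVars false

namespace Cfsg.Agent.StdAlt.Five

open Subgroup Equiv Cfsg.Agent.StdAlt.Conj Cfsg.Agent.StdAlt.Pairs Cfsg.Agent.StdAlt.First

variable {G : Type*} [Group G] {A B : Subgroup G}

theorem Lab.ev_inj (L : Lab A (Fin 5)) (hA : TE A) {a b : G} (ha : a ∈ A) (hb : b ∈ A)
    (h : Lab.ev L ha = Lab.ev L hb) : a = b := L.inj hA ha hb (congrArg Subtype.val h)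

/-- data of an odd pair -/
structure OddP (L : Lab A (Fin 5)) (hA : TE A) (B T : Subgroup G) (i : Fin 5) (R : Subgroup G) : Prop where
  sqT : ∀ t ∈ T, t * t = 1
  fixT : ∀ t ∈ T, L.φ t i = i
  le : R ≤ C A
  card : Nat.card R = 4
  commT : ∀ t ∈ T, ∀ a ∈ Kl L hA i, t * a = a * t
  up : ∀ t ∈ T, ∃ a ∈ Kl L hA i, L.φ t = L.φ a ∧ t * a ∈ R
  dn : ∀ r ∈ R, ∃ t ∈ T, ∃ a ∈ Kl L hA i, r = t * a
  surj : ∀ a ∈ Kl L hA i, ∃ t ∈ T, L.φ t = L.φ a ∧ t * a ∈ R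

theorem exists_oddP [Finite G] (L : Lab A (Fin 5)) (hA : TE A) (hB : Cj A B) (hne : A ≠ B)
    (hno : ∀ a ∈ A, a ∈ C B → a * a = 1 → a = 1) {T : Subgroup G} (hTB : T ≤ C B) (hTA : T ≤ N A)
    (hT4 : Nat.card T = 4) : ∃ i R, OddP L hA B T i R := by
  classical
  obtain ⟨i, hi, hsurj⟩ := odd_pair L hA hB hne hno hTB hTA hT4
  have hlift : ∀ t : T, ∃ a ∈ A, L.φ a = L.φ t := fun t => L.lift _ (hi t t.2).2.2
  choose b hbA hbφ using hlift
  have hbK : ∀ t : T, b t ∈ Kl L hA i := by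
    intro t
    refine mem_Kl.2 ⟨hbA t, ?_, by rw [hbφ]; exact (hi t t.2).2.1⟩
    apply L.eq_one hA (mul_mem (hbA t) (hbA t))
    rw [L.mul _ _ (le_N (hbA t)) (le_N (hbA t)), hbφ, ← L.mul _ _ (hTA t.2) (hTA t.2), (hi t t.2).1,
      L.one]
  have hcomm : ∀ t ∈ T, ∀ a ∈ Kl L hA i, t * a = a * t := by
    intro t ht a ha
    refine (L.comm_of hA (mem_Kl.1 ha).1 (hTA ht) ?_).symm
    rw [show L.φ t = L.φ (b ⟨t, ht⟩) from (hbφ ⟨t, ht⟩).symm]
    exact L.comm' (le_N (mem_Kl.1 ha).1) (le_N (hbA _)) (Kl_comm ha (hbK _))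
  have hbm : ∀ s t : T, b (s * t) = b s * b t := by
    intro s t
    apply L.inj hA (hbA _) (mul_mem (hbA s) (hbA t))
    rw [hbφ, L.mul _ _ (le_N (hbA s)) (le_N (hbA t)), hbφ, hbφ, ← L.mul _ _ (hTA s.2) (hTA t.2)]
    rfl
  let f : T →* G :=
    { toFun := fun t => t * b t
      map_one' := by
        show ((1 : T) : G) * b 1 = 1
        have h1 : b 1 = 1 := L.eq_one hA (hbA 1) (by rw [hbφ]; exact L.one)
        rw [h1, mul_one]; rfl
      map_mul' := by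
        intro s t
        show (s : G) * t * b (s * t) = s * b s * (t * b t)
        rw [hbm, mul_assoc, ← mul_assoc (t : G) (b s), hcomm t t.2 _ (hbK s)]
        simp only [mul_assoc] }
  have hf1 : ∀ t : T, f t = 1 → t = 1 := by
    intro t ht
    have h1 : (t : G) * b t = 1 := ht
    have h2 : b t = (t : G)⁻¹ := eq_inv_of_mul_eq_one_right h1
    have h3 : b t = 1 := hno _ (hbA t) (by rw [h2]; exact inv_mem (hTB t.2)) (mem_Kl.1 (hbK t)).2.1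
    rw [h3] at h2
    exact Subtype.ext (inv_eq_one.1 h2.symm)
  have hfinj : Function.Injective f := (injective_iff_map_eq_one f).2 hf1
  have hfC : ∀ t : T, f t ∈ C A := by
    intro t
    show (t : G) * b t ∈ C A
    rw [← L.ker _ (mul_mem (hTA t.2) (le_N (hbA t))), L.mul _ _ (hTA t.2) (le_N (hbA t)), hbφ,
      ← L.mul _ _ (hTA t.2) (hTA t.2), (hi t t.2).1, L.one]
  refine ⟨i, f.range, ⟨fun t ht => (hi t ht).1, fun t ht => (hi t ht).2.1, ?_, ?_, hcomm, ?_, ?_, ?_⟩⟩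
  · rintro _ ⟨t, rfl⟩
    exact hfC t
  · rw [← hT4]
    exact (Nat.card_congr (MonoidHom.ofInjective hfinj).toEquiv).symm
  · intro t ht
    exact ⟨b ⟨t, ht⟩, hbK _, (hbφ ⟨t, ht⟩).symm, ⟨⟨t, ht⟩, rfl⟩⟩
  · rintro _ ⟨t, rfl⟩
    exact ⟨t, t.2, b t, hbK t, rfl⟩
  · intro a ha
    obtain ⟨t, ht, hta⟩ := hsurj a ha
    refine ⟨t, ht, hta, ⟨⟨t, ht⟩, ?_⟩⟩
    have : b ⟨t, ht⟩ = a := L.inj hA (hbA _) (mem_Kl.1 ha).1 (by rw [hbφ]; exact hta)
    show t * b ⟨t, ht⟩ = t * a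
    rw [this]

/-- the centralizer of an involution of `R` in `C A` -/
theorem cent_le [Finite G] (L' : Lab B (Fin 5)) (hA : TE A) (hB : Cj A B) (hne : A ≠ B)
    (hno : ∀ b ∈ B, b ∈ C A → b * b = 1 → b = 1) {R : Subgroup G} (hRA : R ≤ C A) (hRB : R ≤ N B)
    (hR4 : Nat.card R = 4) {n r : G} (hnA : n ∈ C A) (hnB : n ∈ N B) (hr : r ∈ R) (hr1 : r ≠ 1)
    (hnr : n * r = r * n) : ∃ r' ∈ R, n * r' ∈ C B := by
  have hBt : TE B := hA.of_cj hB
  obtain ⟨j, hj, hsurj⟩ := odd_pair L' hBt hB.symm (Ne.symm hne) hno hRA hRB hR4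
  obtain ⟨hrr, hrj, hre⟩ := hj r hr
  have hrφ : L'.φ r ≠ 1 := by
    intro h
    exact hne (hA.eq_of_mem hB hr1 hrr (hRA hr) ((L'.ker r (hRB hr)).1 h))
  set X : A5 := ⟨L'.φ r, hre⟩ with hX
  have hXX : X * X = 1 := by
    apply Subtype.ext
    show L'.φ r * L'.φ r = 1
    rw [← L'.mul _ _ (hRB hr) (hRB hr), hrr, L'.one]
  have hX1 : X ≠ 1 := fun h => hrφ (congrArg Subtype.val h)
  have hnj : L'.φ n j = j := by
    have h1 := L'.comm' hnB (hRB hr) hnr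
    apply fix_unique X hXX hX1 _ _ _ hrj
    show L'.φ r (L'.φ n j) = L'.φ n j
    rw [← Perm.mul_apply, ← h1, Perm.mul_apply, hrj]
  have hcent : ∀ y : A5, y * y = 1 → y.1 j = j → L'.φ n * y.1 = y.1 * L'.φ n := by
    intro y hyy hyj
    obtain ⟨b, hb, rfl⟩ := Lab.exists_ev L' y
    rw [Lab.ev_val] at hyj ⊢
    by_cases hb1 : b = 1
    · rw [hb1, L'.one, mul_one, one_mul]
    have hbb : b * b = 1 := (Lab.ev_sq L' hBt hb).1 hyy
    have hy1 : Lab.ev L' hb ≠ 1 := fun h => hb1 ((Lab.ev_eq_one L' hBt hb).1 h)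
    have h1 : b * r = r * b := by
      apply L'.comm_of hBt hb (hRB hr)
      exact congrArg Subtype.val (comm_of_fix _ hyy hy1 X hXX hX1 j hyj hrj)
    have hbA : b ∈ N A := hA.nrm (hRA hr) hr1 hrr h1
    have h2 : n * b⁻¹ * n⁻¹ ∈ B := conj_mem hnB (inv_mem hb)
    have h3 : b * (n * b⁻¹ * n⁻¹) ∈ B := mul_mem hb h2
    have h4 : b * (n * b⁻¹ * n⁻¹) ∈ C A := by
      rw [show b * (n * b⁻¹ * n⁻¹) = (b * n * b⁻¹) * n⁻¹ by group]
      exact mul_mem (conj_mem_C hbA hnA) (inv_mem hnA)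
    have h5 : b * (n * b⁻¹ * n⁻¹) ∈ Kl L' hBt j := by
      refine mul_mem (mem_Kl.2 ⟨hb, hbb, hyj⟩) (mem_Kl.2 ⟨h2, ?_, ?_⟩)
      · rw [show n * b⁻¹ * n⁻¹ * (n * b⁻¹ * n⁻¹) = n * (b * b)⁻¹ * n⁻¹ by group, hbb]; group
      · have h7 : (L'.φ n)⁻¹ j = j := by
          rw [Perm.inv_eq_iff_eq]; exact hnj.symm
        have h8 : (L'.φ b)⁻¹ j = j := by
          rw [Perm.inv_eq_iff_eq]; exact hyj.symm
        rw [L'.conj hnB (inv_mem (le_N hb)), L'.inv (le_N hb), Perm.mul_apply, Perm.mul_apply,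
          h7, h8, hnj]
    have h6 := hno _ h3 h4 (mem_Kl.1 h5).2.1
    have h7 : b * n = n * b := by
      have h8 : b * (n * b⁻¹ * n⁻¹) * (n * b) = n * b := by rw [h6, one_mul]
      rw [← h8]; group
    exact L'.comm' hnB (le_N hb) h7.symm
  obtain ⟨h1, h2, h3⟩ := fact_centV j (L'.φ n) hcent
  obtain ⟨b, hb, hbn⟩ := L'.lift (L'.φ n) (mem_alt_iff.2 h3)
  have hbK : b ∈ Kl L' hBt j := by
    refine mem_Kl.2 ⟨hb, ?_, by rw [hbn]; exact h2⟩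
    apply L'.eq_one hBt (mul_mem hb hb)
    rw [L'.mul _ _ (le_N hb) (le_N hb), hbn, h1]
  obtain ⟨r', hr', hr'b⟩ := hsurj b hbK
  refine ⟨r', hr', ?_⟩
  rw [← L'.ker _ (mul_mem hnB (hRB hr')), L'.mul _ _ hnB (hRB hr'), hr'b, hbn, h1]

/-- `R` is a Sylow 2-subgroup of `C A` -/
theorem not_eight [Finite G] (L' : Lab B (Fin 5)) (hA : TE A) (hB : Cj A B) (hne : A ≠ B)
    (hno : ∀ b ∈ B, b ∈ C A → b * b = 1 → b = 1) {R : Subgroup G} (hRA : R ≤ C A) (hRB : R ≤ N B)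
    (hR4 : Nat.card R = 4) (hcent : ∀ n ∈ C A, ∀ r ∈ R, r ≠ 1 → n * r = r * n → n ∈ N B) :
    ¬ 8 ∣ Nat.card (C A) := by
  intro h8
  obtain ⟨Q, hQ, hRQ, hQA, hdiv⟩ := exists_two_subgroup (C A) R (isPGroup_four hR4) hRA
  have hQ8 : 8 ∣ Nat.card Q := hdiv 3 (by rw [show 2 ^ 3 = 8 by norm_num]; exact h8)
  have hneQ : R ≠ Q := by
    rintro rfl
    rw [hR4] at hQ8
    exact absurd hQ8 (by norm_num)
  obtain ⟨c, hcQ, hcR, hcn⟩ := exists_normalizing Q R hQ hRQ hneQ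
  have hPle : R ⊔ zpowers c ≤ Q := sup_le hRQ (by rwa [zpowers_le])
  have hP2 : IsPGroup 2 ↥(R ⊔ zpowers c) := hQ.to_le hPle
  have hPN : R ⊔ zpowers c ≤ N R := sup_le le_normalizer (by
    rw [zpowers_le]; exact mem_N_of hcn)
  have hR1 : R ≠ ⊥ := by
    intro h
    rw [h, card_bot] at hR4
    exact absurd hR4 (by norm_num)
  obtain ⟨r, hr, hr1, hrr, hrc⟩ := exists_comm_inv hP2 le_sup_left hR1
    (fun x hx r hr => conj_mem (hPN hx) hr)
  have hcr : c * r = r * c := hrc c ((le_sup_right : zpowers c ≤ _) (mem_zpowers c))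
  have hcB := hcent c (hQA hcQ) r hr hr1 hcr
  obtain ⟨r', hr', h⟩ := cent_le L' hA hB hne hno hRA hRB hR4 (hQA hcQ) hcB hr hr1 hcr
  have h1 := eq_one_of_CC hA hB hne hQ (mul_mem hcQ (hRQ hr')) (mul_mem (hQA hcQ) (hRA hr')) h
  apply hcR
  rw [eq_inv_of_mul_eq_one_left h1]
  exact inv_mem hr'

theorem exists_card_four [Finite G] {H : Subgroup G} (h : 4 ∣ Nat.card H) :
    ∃ T : Subgroup G, T ≤ H ∧ Nat.card T = 4 := by
  have : Fact (Nat.Prime 2) := ⟨Nat.prime_two⟩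
  obtain ⟨K, hK⟩ := Sylow.exists_subgroup_card_pow_prime 2 (n := 2) (G := H) (by simpa using h)
  refine ⟨K.map H.subtype, ?_, ?_⟩
  · rintro _ ⟨x, -, rfl⟩
    exact x.2
  · rw [← Nat.card_congr (K.equivMapOfInjective H.subtype H.subtype_injective).toEquiv, hK]
    norm_num

/-- the configuration for an odd pair -/
theorem exists_oddE [Finite G] (L : Lab A (Fin 5)) (hA : TE A) (hgood : Good A)
    (nK : ∀ x : G, ∀ a ∈ A, a ≠ 1 → a * a = 1 → x * a * x⁻¹ ∉ C A) :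
    ∃ (i : Fin 5) (R : Subgroup G) (ρ g : G), OddE A R (Kl L hA i) ρ g := by
  obtain ⟨B, hB, hne, h4⟩ := hgood
  have hBt : TE B := hA.of_cj hB
  obtain ⟨h, rfl⟩ := hB.exists_eq
  set L' := L.cj h with hL'
  have noA : ∀ a ∈ A, a ∈ C (Conj.cj h A) → a * a = 1 → a = 1 := by
    intro a ha haB haa
    by_contra ha1
    apply nK h⁻¹ a ha ha1 haa
    rw [inv_inv]; exact mem_C_cj.1 haB
  have noB : ∀ b ∈ Conj.cj h A, b ∈ C A → b * b = 1 → b = 1 := by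
    intro b hb hbA hbb
    by_contra hb1
    rw [mem_cj] at hb
    apply nK h (h⁻¹ * b * h) hb
    · intro e
      apply hb1
      rw [show b = h * (h⁻¹ * b * h) * h⁻¹ by group, e]; group
    · rw [show h⁻¹ * b * h * (h⁻¹ * b * h) = h⁻¹ * (b * b) * h by group, hbb]; group
    · rw [show h * (h⁻¹ * b * h) * h⁻¹ = b by group]; exact hbA
  obtain ⟨T, hT, hT4⟩ := exists_card_four h4
  have hTA : T ≤ C A := hT.trans inf_le_left
  have hTB : T ≤ N (Conj.cj h A) := hT.trans inf_le_right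
  obtain ⟨j, T', P⟩ := exists_oddP L' hBt hB.symm (Ne.symm hne) noB hTA hTB hT4
  -- an involution of `T`
  have hexT : ∀ T : Subgroup G, Nat.card T = 4 → ∃ t ∈ T, t ≠ 1 := by
    intro T hT4
    by_contra hcon
    push Not at hcon
    have : T = ⊥ := (eq_bot_iff_forall T).2 hcon
    rw [this, card_bot] at hT4
    exact absurd hT4 (by norm_num)
  obtain ⟨t₀, ht₀, ht₀1⟩ := hexT T hT4
  have hcTT' : ∀ t ∈ T, ∀ s ∈ T', t * s = s * t := by
    intro t ht s hs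
    obtain ⟨u, hu, a, ha, rfl⟩ := P.dn s hs
    rw [← mul_assoc, comm_of_card_four hT4 ht hu, mul_assoc, P.commT t ht a ha, mul_assoc]
  have hT'A : T' ≤ N A := fun s hs =>
    hA.nrm (hTA ht₀) ht₀1 (P.sqT t₀ ht₀) (hcTT' t₀ ht₀ s hs).symm
  obtain ⟨i, R, Q⟩ := exists_oddP L hA hB hne noA P.le hT'A P.card
  have hR1 : ∀ r ∈ R, r ≠ 1 → ∃ s ∈ T', s ≠ 1 ∧ ∃ a ∈ Kl L hA i, r = s * a := by
    intro r hr hr1
    obtain ⟨s, hs, a, ha, rfl⟩ := Q.dn r hr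
    refine ⟨s, hs, ?_, a, ha, rfl⟩
    rintro rfl
    rw [one_mul] at hr hr1
    exact hr1 (hA.disj a (mem_Kl.1 ha).1 (Q.le hr))
  have hcent : ∀ n ∈ C A, ∀ r ∈ R, r ≠ 1 → n * r = r * n → n ∈ N (Conj.cj h A) := by
    intro n hn r hr hr1 hnr
    obtain ⟨s, hs, hs1, a, ha, rfl⟩ := hR1 r hr hr1
    refine hBt.nrm (P.le hs) hs1 (Q.sqT s hs) ?_
    have h1 : n * a = a * n := comm_of_C hn (mem_Kl.1 ha).1
    have h2 : n * s * a = s * n * a := by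
      rw [mul_assoc, hnr, mul_assoc, mul_assoc, h1]
    exact mul_right_cancel h2
  have hRB : R ≤ N (Conj.cj h A) := by
    intro r hr
    by_cases hr1 : r = 1
    · rw [hr1]; exact one_mem _
    · exact hcent r (Q.le hr) r hr hr1 rfl
  have h8 := not_eight L' hA hB hne noB Q.le hRB Q.card hcent
  -- `T = R`
  have hRT : R ≤ T := by
    intro r hr
    by_contra hrT
    obtain ⟨s, hs, a, ha, hrsa⟩ := Q.dn r hr
    have hrc : ∀ t ∈ T, r * t = t * r := by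
      intro t ht
      have h1 : t * a = a * t := comm_of_C (hTA ht) (mem_Kl.1 ha).1
      rw [hrsa, mul_assoc, ← h1, ← mul_assoc, ← hcTT' t ht s hs, mul_assoc]
    have hrr : r * r = 1 := by
      rw [hrsa, mul_assoc, ← mul_assoc a, ← Q.commT s hs a ha, mul_assoc, (mem_Kl.1 ha).2.1, mul_one,
        Q.sqT s hs]
    have hrN : r ∈ N T := mem_N_of (fun t ht => by rwa [hrc t ht, mul_inv_cancel_right])
    apply h8
    have h1 := card_sup_zpowers hrN hrr hrT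
    rw [hT4] at h1
    have h2 : T ⊔ zpowers r ≤ C A := sup_le hTA (by rw [zpowers_le]; exact Q.le hr)
    have h3 := card_dvd_of_le h2
    rw [h1] at h3
    exact h3
  have hRT' : R = T := eq_of_le_of_card_ge hRT (by rw [Q.card, hT4])
  set V := Kl L hA i with hV
  have hT'E : T' ≤ T ⊔ V := by
    intro s hs
    obtain ⟨a, ha, -, hsa⟩ := Q.up s hs
    have h1 : s = (s * a) * a⁻¹ := by group
    rw [h1]
    exact mul_mem ((le_sup_left : T ≤ _) (hRT hsa)) (inv_mem ((le_sup_right : V ≤ _) ha))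
  have hV'E : Kl L' hBt j ≤ T ⊔ V := by
    intro b hb
    obtain ⟨t, ht, -, htb⟩ := P.surj b hb
    have h1 : b = t⁻¹ * (t * b) := by group
    rw [h1]
    exact mul_mem (inv_mem ((le_sup_left : T ≤ _) ht)) (hT'E htb)
  -- conjugating element
  have h8' : ¬ 8 ∣ Nat.card (C (Conj.cj h A)) := by rw [← hB.card_C]; exact h8
  have hmax : ∀ P' : Subgroup G, IsPGroup 2 P' → T' ≤ P' → P' ≤ C (Conj.cj h A) → P' = T' := by
    intro P' hP' hle hle'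
    obtain ⟨k, hk⟩ := IsPGroup.iff_card.1 hP'
    have h1 : 4 ≤ Nat.card P' := by
      rw [← P.card]
      exact Nat.card_le_card_of_injective _ (inclusion_injective hle)
    have h2 : k < 3 := by
      by_contra hcon
      push Not at hcon
      apply h8'
      have h3 : 2 ^ 3 ∣ Nat.card P' := by rw [hk]; exact pow_dvd_pow 2 hcon
      exact (show (8 : ℕ) = 2 ^ 3 by norm_num) ▸ h3.trans (card_dvd_of_le hle')
    have h3 : Nat.card P' ≤ 4 := by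
      rw [hk]
      calc 2 ^ k ≤ 2 ^ 2 := Nat.pow_le_pow_right (by norm_num) (by omega)
        _ = 4 := by norm_num
    exact (eq_of_le_of_card_ge hle (by rw [P.card]; exact h3)).symm
  have hTh : IsPGroup 2 ↥(Conj.cj h T) := isPGroup_four (by rw [card_cj, hT4])
  have hThB : Conj.cj h T ≤ C (Conj.cj h A) := by
    intro x hx
    rw [mem_C_cj]
    exact hTA (mem_cj.1 hx)
  obtain ⟨m₁, hm₁, hm₁T⟩ := exists_conj_le (C (Conj.cj h A)) T' (Conj.cj h T)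
    (isPGroup_four P.card) hTh P.le hThB hmax
  obtain ⟨m', hm'⟩ := fact_trans1 i j
  obtain ⟨m₂, hm₂, rfl⟩ := Lab.exists_ev L' m'
  rw [Lab.ev_val] at hm'
  have hgE : m₂ * m₁ * h ∈ N (T ⊔ V) := by
    refine mem_N_of (fun x hx => ?_)
    have hmap : (T ⊔ V).map (MulAut.conj (m₂ * m₁ * h)).toMonoidHom ≤ T ⊔ V := by
      rw [Subgroup.map_sup, sup_le_iff]
      constructor
      · rintro _ ⟨t, ht, rfl⟩
        have h1 : m₁ * (h * t * h⁻¹) * m₁⁻¹ ∈ T' := hm₁T _ (conj_mem_cj.2 ht)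
        have h2 := comm_of_C (P.le h1) hm₂
        have h3 : (MulAut.conj (m₂ * m₁ * h)).toMonoidHom t = m₁ * (h * t * h⁻¹) * m₁⁻¹ := by
          show m₂ * m₁ * h * t * (m₂ * m₁ * h)⁻¹ = _
          rw [show m₂ * m₁ * h * t * (m₂ * m₁ * h)⁻¹ = m₂ * (m₁ * (h * t * h⁻¹) * m₁⁻¹) * m₂⁻¹ by group,
            ← h2, mul_inv_cancel_right]
        rw [h3]
        exact hT'E h1
      · rintro _ ⟨v, hv, rfl⟩
        obtain ⟨hvA, hvv, hvi⟩ := mem_Kl.1 hv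
        have h1 : h * v * h⁻¹ ∈ Conj.cj h A := conj_mem_cj.2 hvA
        have h2 := comm_of_C hm₁ h1
        have h3 : (MulAut.conj (m₂ * m₁ * h)).toMonoidHom v = m₂ * (h * v * h⁻¹) * m₂⁻¹ := by
          show m₂ * m₁ * h * v * (m₂ * m₁ * h)⁻¹ = _
          rw [show m₂ * m₁ * h * v * (m₂ * m₁ * h)⁻¹ = m₂ * (m₁ * (h * v * h⁻¹) * m₁⁻¹) * m₂⁻¹ by group,
            h2, mul_inv_cancel_right]
        rw [h3]
        apply hV'E
        refine mem_Kl.2 ⟨conj_mem (le_N hm₂) h1, ?_, ?_⟩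
        · rw [show m₂ * (h * v * h⁻¹) * m₂⁻¹ * (m₂ * (h * v * h⁻¹) * m₂⁻¹) =
            m₂ * h * (v * v) * h⁻¹ * m₂⁻¹ by group, hvv]; group
        · have h4 : L'.φ (h * v * h⁻¹) = L.φ v := by
            rw [hL', Lab.cj_φ, show h⁻¹ * (h * v * h⁻¹) * h = v by group]
          have h5 : (L'.φ m₂)⁻¹ j = i := by rw [Perm.inv_eq_iff_eq, hm']
          rw [L'.conj (le_N hm₂) (le_N h1), Perm.mul_apply, Perm.mul_apply, h5, h4, hvi, hm']
    exact hmap ⟨x, hx, rfl⟩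
  have hgA : m₂ * m₁ * h ∉ N A := by
    intro hg
    have h1 : Conj.cj (m₂ * m₁ * h) A = A := cj_eq_iff.2 hg
    have h2 : m₂ * m₁ ∈ N (Conj.cj h A) := mul_mem (le_N hm₂) (C_le_N hm₁)
    have h3 : Conj.cj (m₂ * m₁) (Conj.cj h A) = Conj.cj h A := cj_eq_iff.2 h2
    rw [cj_cj, h1] at h3
    exact hne h3
  obtain ⟨ρ', hρi, hρ3, hρ⟩ := fact_ord3 i
  obtain ⟨ρ, hρA, rfl⟩ := Lab.exists_ev L ρ'
  rw [Lab.ev_val] at hρi
  refine ⟨i, T, ρ, m₂ * m₁ * h, ⟨hA, nK, hTA, fun v hv => (mem_Kl.1 hv).1, hT4, card_Kl L hA i, P.sqT,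
    fun v hv => (mem_Kl.1 hv).2.1, h8, hρA, ?_, ?_, ?_, ?_, hgE, hgA⟩⟩
  · apply L.eq_one hA (pow_mem hρA 3)
    rw [L.pow (le_N hρA)]
    exact congrArg Subtype.val hρ3
  · intro v hv
    obtain ⟨hvA, hvv, hvi⟩ := mem_Kl.1 hv
    refine mem_Kl.2 ⟨conj_mem (le_N hρA) hvA, ?_, ?_⟩
    · rw [show ρ * v * ρ⁻¹ * (ρ * v * ρ⁻¹) = ρ * (v * v) * ρ⁻¹ by group, hvv]; group
    · have h5 : (L.φ ρ)⁻¹ i = i := by rw [Perm.inv_eq_iff_eq, hρi]
      rw [L.conj (le_N hρA) (le_N hvA), Perm.mul_apply, Perm.mul_apply, h5, hvi, hρi]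
  · intro v hv hv1 e
    obtain ⟨hvA, hvv, hvi⟩ := mem_Kl.1 hv
    apply hρ (Lab.ev L hvA) ((Lab.ev_sq L hA hvA).2 hvv) hvi
      (fun h => hv1 ((Lab.ev_eq_one L hA hvA).1 h))
    apply Subtype.ext
    show L.φ ρ * L.φ v * (L.φ ρ)⁻¹ = L.φ v
    rw [← L.conj (le_N hρA) (le_N hvA), e]
  · intro x hx hxV
    have hcen : ∀ y : A5, y * y = 1 → y.1 i = i → L.φ x * y.1 = y.1 * L.φ x := by
      intro y hyy hyi
      obtain ⟨a, ha, rfl⟩ := Lab.exists_ev L y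
      rw [Lab.ev_val] at hyi ⊢
      exact L.comm' hx (le_N ha) (hxV a (mem_Kl.2 ⟨ha, (Lab.ev_sq L hA ha).1 hyy, hyi⟩))
    obtain ⟨h1, h2, h3⟩ := fact_centV i (L.φ x) hcen
    obtain ⟨a, ha, hax⟩ := L.lift (L.φ x) (mem_alt_iff.2 h3)
    refine ⟨a, mem_Kl.2 ⟨ha, ?_, by rw [hax]; exact h2⟩, ?_⟩
    · apply L.eq_one hA (mul_mem ha ha)
      rw [L.mul _ _ (le_N ha) (le_N ha), hax, h1]
    · rw [← L.ker _ (mul_mem hx (le_N ha)), L.mul _ _ hx (le_N ha), hax, h1]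

end Cfsg.Agent.StdAlt.Five
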