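import Cfsg.Agent.StdAlt.Five.TwoPair2

/-!
# From a pair of type two to the configuration `TypeTwo`
-/

set_option autoImplicit false
set_option linter.unusedSectionVars false

namespace Cfsg.Agent.StdAlt.Five

open Subgroup Equiv Cfsg.Agent.StdAlt.Conj Cfsg.Agent.StdAlt.Pairs Cfsg.Agent.StdAlt.First
open Cfsg.Agent.StdAlt.Two (HasFour)

variable {G : Type*} [Group G] {A B : Subgroup G}

theorem act_of_lab (L : Lab A (Fin 5)) : Act A L.φ :=
  ⟨fun g hg h hh => L.mul g h hg hh, fun g hg h => (L.ker g hg).1 h, fun _ hg => L.of_C hg,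
    fun a ha => L.even a ha, fun σ hσ => L.lift σ hσ⟩

theorem std_of_lab (L : Lab A (Fin 5)) (hA : TE A) : Std A L.φ :=
  ⟨hA, act_of_lab L, fun g h => hA.ncomm (Conj.cj g A) (Cj.cj A g) (fun a ha => by
    rw [mem_C]
    intro x hx
    have h1 := h a ha (g⁻¹ * x * g) (mem_cj.1 hx)
    rwa [show g * (g⁻¹ * x * g) * g⁻¹ = x by group] at h1)⟩

/-- the inverse of the labelling on `A` -/
noncomputable def inv (L : Lab A (Fin 5)) (x : A5) : G := Classical.choose (L.lift x.1 x.2)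

theorem inv_mem' (L : Lab A (Fin 5)) (x : A5) : inv L x ∈ A := (Classical.choose_spec (L.lift x.1 x.2)).1

theorem inv_φ (L : Lab A (Fin 5)) (x : A5) : L.φ (inv L x) = x.1 :=
  (Classical.choose_spec (L.lift x.1 x.2)).2

theorem inv_mul (L : Lab A (Fin 5)) (hA : TE A) (x y : A5) : inv L (x * y) = inv L x * inv L y := by
  apply L.inj hA (inv_mem' L _) (mul_mem (inv_mem' L x) (inv_mem' L y))
  rw [inv_φ, L.mul _ _ (le_N (inv_mem' L x)) (le_N (inv_mem' L y)), inv_φ, inv_φ]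
  rfl

theorem inv_surj (L : Lab A (Fin 5)) (hA : TE A) {a : G} (ha : a ∈ A) : inv L (Lab.ev L ha) = a :=
  L.inj hA (inv_mem' L _) ha (inv_φ L _)

theorem exists_typeTwo [Finite G] {L : Lab A (Fin 5)} {L' : Lab B (Fin 5)} {i j : Fin 5}
    (h : TwoP L L' i j) : ∃ β, TypeTwo A L.φ β := by
  classical
  have hA := h.teA
  have hBt : TE B := h.teA.of_cj h.cj
  -- relabel so that `j = 4`
  obtain ⟨M, hM⟩ : ∃ M : Lab B (Fin 5), ∀ x, x ∈ N B → (M.φ x 4 = 4 ↔ L'.φ x j = j) := by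
    refine ⟨L'.relabel (swap j 4), fun x _ => ?_⟩
    rw [Lab.relabel_φ, Perm.mul_apply, Perm.mul_apply, swap_inv, swap_apply_right]
    constructor
    · intro h1
      have := congrArg (swap j 4) h1
      rwa [swap_apply_self, swap_apply_right] at this
    · intro h1
      rw [h1, swap_apply_left]
  have hfixB : ∀ b ∈ B, b ∈ C A ↔ M.φ b 4 = 4 := fun b hb => by
    rw [h.fixB b hb, hM b (le_N hb)]
  -- transversal
  have h1 : ∀ x : Fin 5, ∃ a ∈ A, L.φ a i = x := by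
    intro x
    obtain ⟨s, hs⟩ := fact_trans1 i x
    obtain ⟨a, ha, rfl⟩ := Lab.exists_ev L s
    exact ⟨a, ha, hs⟩
  choose t htA hti using h1
  have htC : ∀ x (b : G), b ∈ C A → t x * b * (t x)⁻¹ = b := by
    intro x b hb
    rw [← comm_of_C hb (htA x), mul_inv_cancel_right]
  refine ⟨fun x σ => t x * inv M σ * (t x)⁻¹, ⟨std_of_lab L hA, ?_, ?_, ?_, ?_, ?_, ?_, ?_, ?_, ?_⟩⟩
  · -- mulβ
    intro x σ τ
    rw [inv_mul M hBt]; group
  · -- injβ
    intro x σ hσ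
    have h2 : inv M σ = 1 := by
      rw [show inv M σ = (t x)⁻¹ * (t x * inv M σ * (t x)⁻¹) * t x by group, hσ]; group
    apply Subtype.ext
    rw [← inv_φ M σ, h2, M.one]; rfl
  · -- conjβ
    intro x
    obtain ⟨g, hg⟩ := h.cj.exists_eq
    refine ⟨t x * g, fun y => ?_⟩
    constructor
    · intro hy
      have h2 : g * y * g⁻¹ ∈ B := by rw [hg]; exact conj_mem_cj.2 hy
      refine ⟨Lab.ev M h2, ?_⟩
      rw [inv_surj M hBt]; group
    · rintro ⟨σ, hσ⟩
      have h2 : g * y * g⁻¹ = inv M σ := by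
        have : (t x)⁻¹ * (t x * g * y * (t x * g)⁻¹) * t x = (t x)⁻¹ * (t x * inv M σ * (t x)⁻¹) * t x :=
          congrArg (fun z => (t x)⁻¹ * z * t x) hσ
        rw [show (t x)⁻¹ * (t x * g * y * (t x * g)⁻¹) * t x = g * y * g⁻¹ by group,
          show (t x)⁻¹ * (t x * inv M σ * (t x)⁻¹) * t x = inv M σ by group] at this
        exact this
      have h3 : g * y * g⁻¹ ∈ B := by rw [h2]; exact inv_mem' M σ
      rw [hg] at h3
      exact conj_mem_cj.1 h3
  · -- agree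
    intro x y σ hσ
    have h2 : inv M σ ∈ C A := (hfixB _ (inv_mem' M σ)).2 (by rw [inv_φ]; exact hσ)
    show t x * inv M σ * (t x)⁻¹ = t y * inv M σ * (t y)⁻¹
    rw [htC x _ h2, htC y _ h2]
  · -- act
    intro a ha x σ
    set y := L.φ a x with hy
    have hc : (t y)⁻¹ * (a * t x) ∈ A := mul_mem (inv_mem (htA y)) (mul_mem ha (htA x))
    have h2 : (t y)⁻¹ * (a * t x) ∈ C B := by
      rw [h.fixA _ hc, L.mul _ _ (inv_mem (le_N (htA y))) (mul_mem (le_N ha) (le_N (htA x))),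
        L.inv (le_N (htA y)), L.mul _ _ (le_N ha) (le_N (htA x)), Perm.mul_apply, Perm.mul_apply,
        hti, Perm.inv_eq_iff_eq, hti]
    have h3 := comm_of_C h2 (inv_mem' M σ)
    show a * (t x * inv M σ * (t x)⁻¹) * a⁻¹ = t y * inv M σ * (t y)⁻¹
    calc a * (t x * inv M σ * (t x)⁻¹) * a⁻¹
        = t y * ((t y)⁻¹ * (a * t x) * inv M σ) * (t x)⁻¹ * a⁻¹ := by group
      _ = t y * inv M σ * (t y)⁻¹ := by rw [h3]; group
  · -- K0
    intro x σ
    have h2 : inv M σ ∈ C A ↔ σ.1 4 = 4 := by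
      rw [hfixB _ (inv_mem' M σ), inv_φ]
    rw [← h2]
    constructor
    · intro h3
      have h4 : inv M σ = (t x)⁻¹ * (t x * inv M σ * (t x)⁻¹) * t x := by group
      rw [h4, show (t x)⁻¹ * (t x * inv M σ * (t x)⁻¹) * t x =
        (t x)⁻¹ * (t x * inv M σ * (t x)⁻¹ * t x) by group, comm_of_C h3 (htA x),
        inv_mul_cancel_left]
      exact h3
    · intro h3
      show t x * inv M σ * (t x)⁻¹ ∈ C A
      rw [htC x _ h3]; exact h3
  · -- CA
    intro k hk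
    obtain ⟨b, hb, hbj, d, hdA, hdB, rfl⟩ := decomp h hk
    have hb4 : M.φ b 4 = 4 := (hM b (le_N hb)).2 hbj
    have hbC : b ∈ C A := (hfixB b hb).2 hb4
    refine ⟨Lab.ev M hb, hb4, d, ⟨hdA, fun x σ => ?_⟩, ?_⟩
    · have h2 := comm_of_C hdA (htA x)
      have h3 := comm_of_C hdB (inv_mem' M σ)
      have h4 := comm_of_C hdA (inv_mem (htA x))
      show d * (t x * inv M σ * (t x)⁻¹) = t x * inv M σ * (t x)⁻¹ * d
      rw [mul_assoc (t x * inv M σ), ← h4, ← mul_assoc, ← mul_assoc, h2, mul_assoc (t x) d, h3]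
      group
    · show b * d = t 0 * inv M (Lab.ev M hb) * (t 0)⁻¹ * d
      rw [inv_surj M hBt, htC 0 b hbC]
  · -- odd
    rintro d ⟨hdA, hd⟩ hdd
    by_contra hd1
    refine h.ne (hA.eq_of_mem h.cj hd1 hdd hdA ?_)
    rw [mem_C]
    intro b hb
    have h2 : d * (t 0 * inv M (Lab.ev M hb) * (t 0)⁻¹) = t 0 * inv M (Lab.ev M hb) * (t 0)⁻¹ * d :=
      hd 0 (Lab.ev M hb)
    rw [inv_surj M hBt] at h2
    have h3 := comm_of_C hdA (htA 0)
    calc d * b = (t 0)⁻¹ * (t 0 * d * b * (t 0)⁻¹) * t 0 := by group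
      _ = (t 0)⁻¹ * (d * (t 0 * b * (t 0)⁻¹)) * t 0 := by rw [← h3]; group
      _ = (t 0)⁻¹ * (t 0 * b * (t 0)⁻¹ * d) * t 0 := by rw [h2]
      _ = b * ((t 0)⁻¹ * (d * t 0)) := by group
      _ = b * d := by rw [h3]; group
  · -- fix
    intro a ha x
    have hc : (t x)⁻¹ * (a * t x) ∈ A := mul_mem (inv_mem (htA x)) (mul_mem ha (htA x))
    have h2 : (t x)⁻¹ * (a * t x) ∈ C B ↔ L.φ a x = x := by
      rw [h.fixA _ hc, L.mul _ _ (inv_mem (le_N (htA x))) (mul_mem (le_N ha) (le_N (htA x))),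
        L.inv (le_N (htA x)), L.mul _ _ (le_N ha) (le_N (htA x)), Perm.mul_apply, Perm.mul_apply,
        hti, Perm.inv_eq_iff_eq, hti]
    rw [← h2, mem_C]
    constructor
    · intro h3 b hb
      have h4 : a * (t x * inv M (Lab.ev M hb) * (t x)⁻¹) = t x * inv M (Lab.ev M hb) * (t x)⁻¹ * a :=
        h3 (Lab.ev M hb)
      rw [inv_surj M hBt] at h4
      calc (t x)⁻¹ * (a * t x) * b = (t x)⁻¹ * (a * (t x * b * (t x)⁻¹)) * t x := by group
        _ = (t x)⁻¹ * (t x * b * (t x)⁻¹ * a) * t x := by rw [h4]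
        _ = b * ((t x)⁻¹ * (a * t x)) := by group
    · intro h3 σ
      have h4 := h3 _ (inv_mem' M σ)
      show a * (t x * inv M σ * (t x)⁻¹) = t x * inv M σ * (t x)⁻¹ * a
      calc a * (t x * inv M σ * (t x)⁻¹) = t x * ((t x)⁻¹ * (a * t x) * inv M σ) * (t x)⁻¹ := by group
        _ = t x * (inv M σ * ((t x)⁻¹ * (a * t x))) * (t x)⁻¹ := by rw [h4]
        _ = t x * inv M σ * (t x)⁻¹ * a := by group

/-- **Type two.** -/
theorem typeTwo_of_inv [Finite G] (L : Lab A (Fin 5)) (hA : TE A) (hF : HasFour A)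
    (hK : ∃ x : G, ∃ a ∈ A, a ≠ 1 ∧ a * a = 1 ∧ x * a * x⁻¹ ∈ C A) : ∃ β, TypeTwo A L.φ β := by
  obtain ⟨x, a, ha, ha1, haa, hx⟩ := hK
  have hxB : a ∈ C (Conj.cj x⁻¹ A) := by
    rw [mem_C_cj, inv_inv]; exact hx
  have hne : A ≠ Conj.cj x⁻¹ A := by
    intro e
    rw [← e] at hxB
    exact ha1 (hA.disj a ha hxB)
  obtain ⟨i, j, h⟩ := exists_twoP L (L.cj x⁻¹) hA (Cj.cj A x⁻¹) hne hF ha ha1 haa hxB
  exact exists_typeTwo h

end Cfsg.Agent.StdAlt.Five
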