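import Cfsg.Agent.J2Sylow.MainGW
import Cfsg.Agent.S0483

/-!
# Recognition of `J₂` from its Sylow 2-subgroup, two classes of involutions

The variant of `Cfsg.Agent.J2Sylow.MainGW.main` without `J₃`; the Gorenstein-Walter theorem (S0483) is the
hypothesis `gw`.
-/

set_option autoImplicit false

namespace Cfsg.Agent.StdAlt.Five.JTwo

open Subgroup Cfsg Cfsg.Agent.J2Sylow Cfsg.Agent.J2Sylow.Main Cfsg.Agent.J2Sylow.MainGW

universe u

/-- a finite simple group with a Sylow 2-subgroup of `J₂` type and more than one class of involutions is `J₂` -/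
theorem isoJ2_of_gw (gw : CentPSL.GW.{u}) {G : Type u} [Group G] [Finite G] [IsSimpleGroup G]
    (h : Setup G) (hone : ¬ ∀ x y : G, orderOf x = 2 → orderOf y = 2 → IsConj x y) :
    Cfsg.Spor.IsoJ2 G := by
  have F := h.fused_of_simple
  have c := centZ_of solvFun oddSolv zStar h F
  have hK := core_eq_bot solvFun oddSolv zStar gw seCore h F h.z
    (h.orderOf_phi_two (by decide) (by decide))
  have hK' : Functor.K h.z = ⊥ := hK
  have h1 : h.Q ⊔ Functor.K h.z = h.Q := by rw [hK', sup_bot_eq]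
  obtain ⟨hN, hq, hc⟩ := c
  have hN' : (h.Q.subgroupOf (centralizer ({h.z} : Set G))).Normal := by rwa [h1] at hN
  have h1' : (h.Q ⊔ Functor.K h.z).subgroupOf (centralizer ({h.z} : Set G)) =
      h.Q.subgroupOf (centralizer ({h.z} : Set G)) := by rw [h1]
  refine Final.isoJ2_of h hN' (CentZBuild.quot_congr h1' hN hN' hq) ?_ ?_ hone
  · intro g hg hgQ
    have h2 := hc g hg (fun x hx => by
      rw [hgQ x hx, mul_inv_cancel_right, mul_inv_cancel]; exact one_mem _)
    rwa [h1] at h2
  · refine ⟨h.t, fun t ht => ?_⟩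
    have h2 : t * t = 1 := by rw [← pow_two, ← ht, pow_orderOf_eq_one]
    have h3 : t ≠ 1 := by rintro rfl; rw [orderOf_one] at ht; norm_num at ht
    rcases h.isConj_z_or_t F h2 h3 with h4 | h4
    · exact Or.inl h4.symm
    · exact Or.inr h4.symm

/-- the same with S0483 -/
theorem isoJ2 {G : Type u} [Group G] [Finite G] [IsSimpleGroup G]
    (h : Setup G) (hone : ¬ ∀ x y : G, orderOf x = 2 → orderOf y = 2 → IsConj x y) :
    Cfsg.Spor.IsoJ2 G :=
  isoJ2_of_gw (fun _X _ _ _ S n hn hS => Cfsg.Agent.S0483.result S n hn hS) h hone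

end Cfsg.Agent.StdAlt.Five.JTwo
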