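import Cfsg.Agent.StdAlt.Five.ExtOf
import Cfsg.Agent.StdAlt.Five.JTwo
import Cfsg.Agent.S1169
import Cfsg.Agent.S1741

/-!
# S1766, n = 5
-/

set_option autoImplicit false

namespace Cfsg.Agent.StdAlt.Five.Main

open Subgroup Cfsg.Agent.StdAlt.Conj Cfsg.Agent.StdAlt.Five

universe u

theorem ext : End.Ext.{u} :=
  ExtOf.ext_of
    (fun _ _ _ hs S A h1 h2 h3 => by
      have := hs
      exact Cfsg.Agent.S1169.result S A h1 h2 h3)
    (fun _ _ _ hs S P h1 h2 => by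
      have := hs
      exact Cfsg.Agent.S1741.result S P h1 h2)
    (fun _ _ _ hs h h1 => by
      have := hs
      exact JTwo.isoJ2 h h1)

/-- **the theorem for `n = 5`** -/
theorem main {G : Type*} [Group G] [Finite G] (hO : Cfsg.oddCore G = ⊥) {A : Subgroup G}
    (hA : Cfsg.IsStandardSubgroup A) (e : A ≃* alternatingGroup (Fin 5))
    (hR : ¬ Cfsg.PRankLE 2 1 ↥(centralizer (A : Set G))) :
    A.Normal ∨ Nonempty (↥(normalClosure (A : Set G)) ≃* ↥(alternatingGroup (Fin 9))) ∨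
      Cfsg.Spor.IsoM12 ↥(normalClosure (A : Set G)) ∨ Cfsg.Spor.IsoJ2 ↥(normalClosure (A : Set G)) :=
  End.main ext hO hA e hR

/-- **`n = 5`, `μ = 1`** (for S1767) -/
theorem mu_one {G : Type*} [Group G] [Finite G] (hO : Cfsg.oddCore G = ⊥) {A : Subgroup G}
    (hA : Cfsg.IsStandardSubgroup A) (e : A ≃* alternatingGroup (Fin 5))
    (hR : ¬ Cfsg.PRankLE 2 1 ↥(centralizer (A : Set G))) (hn : ¬ A.Normal)
    (hmu : ∀ g ∈ normalizer (A : Set G), ∃ a ∈ A, ∃ k ∈ centralizer (A : Set G), g = a * k) :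
    Cfsg.Spor.IsoJ2 ↥(normalClosure (A : Set G)) ∧
      ∀ x ∈ centralizer (A : Set G), (∃ k : ℕ, x ^ (2 ^ k) = 1) → x ∈ normalClosure (A : Set G) :=
  End.mu_one ext hO hA e hR hn hmu

end Cfsg.Agent.StdAlt.Five.Main
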