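import Cfsg.Agent.StdAlt.Lab

/-!
# The action on five points

Every automorphism of the alternating group of degree five is induced by a permutation.  Hence a subgroup
isomorphic to `A_5` has a labelling by `Fin 5`.
-/

set_option autoImplicit false

namespace Cfsg.Agent.StdAlt.Five

open Subgroup Equiv Cfsg.Agent.StdAlt.Conj

/-- abbreviation -/
abbrev A5 := alternatingGroup (Fin 5)

theorem exists_fix : ∀ x : A5, x * x = 1 → x ≠ 1 → ∃ i, x.1 i = i := by decide +kernel

theorem fix_unique : ∀ x : A5, x * x = 1 → x ≠ 1 → ∀ i j, x.1 i = i → x.1 j = j → i = j := by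
  decide +kernel

theorem fix_of_comm : ∀ x : A5, x * x = 1 → x ≠ 1 → ∀ y : A5, y * y = 1 → y ≠ 1 → x * y = y * x →
    ∀ i, x.1 i = i → y.1 i = i := by decide +kernel

theorem comm_of_fix : ∀ x : A5, x * x = 1 → x ≠ 1 → ∀ y : A5, y * y = 1 → y ≠ 1 →
    ∀ i, x.1 i = i → y.1 i = i → x * y = y * x := by decide +kernel

theorem exists_inv : ∀ i : Fin 5, ∃ x : A5, x * x = 1 ∧ x ≠ 1 ∧ x.1 i = i := by decide +kernel

theorem inv_app (σ : Perm (Fin 5)) (i : Fin 5) : σ⁻¹ (σ i) = i := σ.symm_apply_apply i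

theorem exists_perm (α : MulAut A5) : ∃ σ : Perm (Fin 5), ∀ x, ((α x : A5) : Perm (Fin 5)) = σ * x * σ⁻¹ := by
  choose u hu using exists_inv
  have hαu : ∀ i, α (u i) * α (u i) = 1 ∧ α (u i) ≠ 1 := by
    intro i
    refine ⟨by rw [← map_mul, (hu i).1, map_one], fun h => (hu i).2.1 ?_⟩
    apply α.injective
    rw [h, map_one]
  have h1 : ∀ i, ∃ j, (α (u i)).1 j = j := fun i => exists_fix _ (hαu i).1 (hαu i).2
  choose s hs using h1
  have hinj : Function.Injective s := by
    intro i j hij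
    have h2 : α (u i) * α (u j) = α (u j) * α (u i) := by
      apply comm_of_fix _ (hαu i).1 (hαu i).2 _ (hαu j).1 (hαu j).2 (s i) (hs i)
      rw [hij]; exact hs j
    have h3 : u i * u j = u j * u i := by
      apply α.injective
      rw [map_mul, map_mul, h2]
    have h4 := fix_of_comm _ (hu i).1 (hu i).2.1 _ (hu j).1 (hu j).2.1 h3 i (hu i).2.2
    exact fix_unique _ (hu j).1 (hu j).2.1 _ _ h4 (hu j).2.2
  have hbij : Function.Bijective s := Finite.injective_iff_bijective.1 hinj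
  let σ : Perm (Fin 5) := Equiv.ofBijective s hbij
  refine ⟨σ, fun x => ?_⟩
  have key : ∀ i, (α x).1 (σ i) = σ (x.1 i) := by
    intro i
    show (α x).1 (s i) = s (x.1 i)
    have h2 : (x * u i * x⁻¹) * (x * u i * x⁻¹) = 1 := by
      rw [show x * u i * x⁻¹ * (x * u i * x⁻¹) = x * (u i * u i) * x⁻¹ by group, (hu i).1]; group
    have h3 : x * u i * x⁻¹ ≠ 1 := by
      intro h
      apply (hu i).2.1
      rw [show u i = x⁻¹ * (x * u i * x⁻¹) * x by group, h]; group
    have h4 : (x * u i * x⁻¹).1 (x.1 i) = x.1 i := by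
      show (x.1 * (u i).1 * (x.1)⁻¹) (x.1 i) = x.1 i
      rw [Perm.mul_apply, Perm.mul_apply, inv_app, (hu i).2.2]
    have h5 := comm_of_fix _ (hu (x.1 i)).1 (hu (x.1 i)).2.1 _ h2 h3 _ (hu (x.1 i)).2.2 h4
    have h6 : α (u (x.1 i)) * (α x * α (u i) * (α x)⁻¹) = (α x * α (u i) * (α x)⁻¹) * α (u (x.1 i)) := by
      have := congrArg α h5
      simpa only [map_mul, map_inv] using this
    have h7 : (α x * α (u i) * (α x)⁻¹) * (α x * α (u i) * (α x)⁻¹) = 1 := by
      rw [show α x * α (u i) * (α x)⁻¹ * (α x * α (u i) * (α x)⁻¹) = α x * (α (u i) * α (u i)) * (α x)⁻¹ by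
        group, (hαu i).1]; group
    have h8 : α x * α (u i) * (α x)⁻¹ ≠ 1 := by
      intro h
      apply (hαu i).2
      rw [show α (u i) = (α x)⁻¹ * (α x * α (u i) * (α x)⁻¹) * α x by group, h]; group
    have h9 := fix_of_comm _ (hαu (x.1 i)).1 (hαu (x.1 i)).2 _ h7 h8 h6 _ (hs (x.1 i))
    apply fix_unique _ h7 h8
    · show ((α x).1 * (α (u i)).1 * ((α x).1)⁻¹) ((α x).1 (s i)) = (α x).1 (s i)
      rw [Perm.mul_apply, Perm.mul_apply, inv_app, hs i]
    · exact h9
  ext i
  obtain ⟨j, rfl⟩ := σ.surjective i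
  rw [Perm.mul_apply, Perm.mul_apply, inv_app, key]

variable {G : Type*} [Group G]

theorem exists_lab {A : Subgroup G} (e : A ≃* A5) : ∃ L : Lab A (Fin 5), ∀ a : A, L.φ a = e a := by
  refine Lab.exists_of_induced 5 (by norm_num) e ?_
  intro g hg
  -- conjugation by `g` as an automorphism of `A`
  let c : A →* A :=
    { toFun := fun a => ⟨g * a * g⁻¹, conj_mem hg a.2⟩
      map_one' := Subtype.ext (by simp)
      map_mul' := fun a b => Subtype.ext (by
        show g * (a * b : G) * g⁻¹ = g * a * g⁻¹ * (g * b * g⁻¹)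
        group) }
  have hc : Function.Bijective c := by
    constructor
    · intro a b hab
      apply Subtype.ext
      have h : g * (a : G) * g⁻¹ = g * b * g⁻¹ := congrArg Subtype.val hab
      have := congrArg (fun x => g⁻¹ * x * g) h
      simpa [mul_assoc] using this
    · intro a
      refine ⟨⟨g⁻¹ * a * g, conj_mem' hg a.2⟩, Subtype.ext ?_⟩
      show g * (g⁻¹ * a * g) * g⁻¹ = a
      group
  let c' : A ≃* A := MulEquiv.ofBijective c hc
  obtain ⟨σ, hσ⟩ := exists_perm (e.symm.trans (c'.trans e))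
  refine ⟨σ, fun a => ?_⟩
  have := hσ (e a)
  rw [← this]
  show ((e ⟨g * a * g⁻¹, conj_mem hg a.2⟩ : A5) : Perm (Fin 5)) =
    ((e (c (e.symm (e a))) : A5) : Perm (Fin 5))
  rw [e.symm_apply_apply]
  rfl

end Cfsg.Agent.StdAlt.Five
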