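import Cfsg.Agent.StdAlt.Five.Moves

/-!
# S1766, n = 5, case (I): the structure `Base`
-/

set_option autoImplicit false

namespace Cfsg.Agent.StdAlt.Five.Base

open Subgroup Cfsg.Agent.StdAlt.Conj Cfsg.Agent.J2Sylow.Model Cfsg.Agent.StdAlt.Five
open Cfsg.Agent.StdAlt.Five.Sec4 Cfsg.Agent.StdAlt.Five.PGroup Cfsg.Agent.StdAlt.Five.PExists
open Cfsg.Agent.StdAlt.Five.PData Cfsg.Agent.StdAlt.Five.Coord Cfsg.Agent.StdAlt.Five.Moves

variable {G : Type*} [Group G] {A R V P : Subgroup G} {ρ g : G} {ε : F4} {X Y Z : F4 → G}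

theorem mk [Finite G] {h : OddE A R V ρ g} (hP : IsP h P) (hε : ε = 0 ∨ ε = F4.e)
    (F : Frame R V P ρ ε X Y Z) : Sec4.Base A R V P ρ ε X Y Z where
  odd := ⟨g, h⟩
  eps := hε
  data := PData.data hP
  frame := F
  le := fun _ hx => P_N hP hx
  norm := fun _ hx _ hp => PData.norm hP hx hp
  normV := fun _ hx _ hv => PGroup.normV h hx hv
  fact := by
    intro x hx
    obtain ⟨p, hp, m, hm, hmE, e⟩ := PData.fact hP hx
    exact ⟨p, hp, m, hm, mem_N_of fun r hr => PGroup.normR h hmE hm hr,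
      mem_N_of fun v hv => PGroup.normV h hmE hv, e⟩
  kt := by
    intro a c
    constructor
    · rintro hk rfl
      rw [F.X_zero, one_mul] at hk
      exact not_KT h (F.Z_mem c) hk
    · intro ha
      refine KT_E h (F.X_mem a) ?_ (F.Z_mem c)
      intro e
      apply ha
      apply F.X_inj
      rw [e, F.X_zero]

/-- the coordinates exist -/
theorem exists_base [Finite G] {h : OddE A R V ρ g} (hP : IsP h P) :
    ∃ ε X Y Z, Sec4.Base A R V P ρ ε X Y Z := by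
  obtain ⟨ε, X, Y, Z, hε, F⟩ := (PData.data hP).exists_frame
  exact ⟨ε, X, Y, Z, mk hP hε F⟩

theorem exists_isP [Finite G] (h : OddE A R V ρ g) : ∃ P, IsP h P := by
  obtain ⟨P, h1, h2, h3⟩ := PExists.exists_P h
  exact ⟨P, h1, h2, h3⟩

/-- elements of `N(E)` normalize `V`, `P`; those of `N(E) ∩ N(A)` also `R` -/
theorem nrm [Finite G] {h : OddE A R V ρ g} (hP : IsP h P) {x : G} (hx : x ∈ N (R ⊔ V))
    (hxA : x ∈ N A) : Nrm R V P x where
  P := fun _ hp => PData.norm hP hx hp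
  R := fun _ hr => PGroup.normR h hx hxA hr
  V := fun _ hv => PGroup.normV h hx hv

/-- elements normalizing `R` and `V` normalize `E` -/
theorem mem_NE [Finite G] (h : OddE A R V ρ g) {x : G} (hR : ∀ r ∈ R, x * r * x⁻¹ ∈ R)
    (hV : ∀ v ∈ V, x * v * x⁻¹ ∈ V) : x ∈ N (R ⊔ V) := by
  refine mem_N_of fun y hy => ?_
  obtain ⟨r, hr, v, hv, rfl⟩ := (mem_E h).1 hy
  rw [conj_mul']
  exact mul_mem (mem_sup_left (hR r hr)) (mem_sup_right (hV v hv))

/-- `C A` centralizes `V` -/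
theorem CA_V (h : OddE A R V ρ g) {x : G} (hx : x ∈ C A) {v : G} (hv : v ∈ V) : x * v * x⁻¹ = v := by
  rw [comm_of_C hx (h.V_le hv)]; group

/-! ### `κ` -/

/-- case `κ ≠ 1`: there is an element of odd order inducing an automorphism of order 3 on `R` -/
theorem kap [Finite G] {h : OddE A R V ρ g} (hP : IsP h P) (hε : ε = 0 ∨ ε = F4.e)
    (F : Frame R V P ρ ε X Y Z) (hk : ¬ Kap1 A R) :
    ε = 0 ∧ ∃ k ρ₀, Odd (orderOf ρ₀) ∧ Kap3 A X (fun b => Y b * Z (k * b)) ρ₀ := by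
  have D := PData.data hP
  unfold Kap1 at hk
  push_neg at hk
  obtain ⟨x, hxA, hxR, r, hr, hne⟩ := hk
  obtain ⟨a, b, ha, hb, hab, ha2, hbo⟩ := exists_two_odd x
  have hzA : zpowers x ≤ C A := by rw [zpowers_le]; exact hxA
  have hzR : zpowers x ≤ N R := by rw [zpowers_le]; exact hxR
  have haR : a ∈ R := mem_R_of_two h (hzA ha) (fun r hr => conj_mem (hzR ha) hr) ha2
  have hbne : b * r ≠ r * b := by
    intro e
    apply hne
    rw [hab, mul_assoc, e, ← mul_assoc, commR h haR hr, mul_assoc]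
  have hbA := hzA hb
  have hbR : ∀ r ∈ R, b * r * b⁻¹ ∈ R := fun r hr => conj_mem (hzR hb) hr
  have hbE : b ∈ N (R ⊔ V) := mem_NE h hbR (fun v hv => by rw [CA_V h hbA hv]; exact hv)
  have hbN : Nrm R V P b := nrm hP hbE (C_le_N hbA)
  have hbρ : b * ρ * b⁻¹ = ρ := by rw [comm_of_C hbA h.ρ_mem]; group
  obtain ⟨f, l, n, hh, hf0, hl0, hfl, hX, hY, hZ⟩ := act_lin D F hbN hbρ
  have hh1 : hh = F4.e := by
    have h1 := hZ F4.e
    rw [CA_V h hbA (F.Z_mem _)] at h1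
    have h2 := F.Z_inj h1
    rw [h2]
    exact (mul_one hh).symm
  rw [hh1] at hfl
  have hl1 : l ≠ F4.e := by
    intro e
    apply hbne
    obtain ⟨a', rfl⟩ := F.X_surj r hr
    have h1 := hX a'
    rw [e] at hfl
    have h2 : f = F4.e := by
      rw [show f * F4.e = f from mul_one f] at hfl
      exact hfl.symm
    rw [h2, show F4.e * a' = a' from one_mul a'] at h1
    calc b * X a' = (b * X a' * b⁻¹) * b := by group
      _ = X a' * b := by rw [h1]
  -- squares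
  have hεz : ε = 0 := by
    rcases hε with e | e
    · exact e
    exfalso
    subst e
    have h1 : (Y F4.e) * (Y F4.e) = Z F4.e := by
      rw [F.Y_mul]
      change Y 0 * Z F4.e = _
      rw [F.Y_zero, one_mul]
    have h2 : b * (Y F4.e * Y F4.e) * b⁻¹ = Z F4.e := by
      rw [h1, CA_V h hbA (F.Z_mem _)]
    rw [conj_mul', hY, E2_mul D F] at h2
    have h3 : Y (l * F4.e + l * F4.e) * Z (n * F4.e + n * F4.e + F4.e * F4.fr (l * F4.e * (l * F4.e))) =
      Y 0 * Z F4.e := by rw [h2, F.Y_zero, one_mul]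
    have h4 := (E2_inj D F h3).2
    have : ∀ l n : F4, l ≠ 0 → l ≠ F4.e → n * F4.e + n * F4.e + F4.e * F4.fr (l * F4.e * (l * F4.e)) ≠ F4.e := by
      decide
    exact this l n hl0 hl1 h4
  refine ⟨hεz, ?_⟩
  subst hεz
  -- the element with `l = u`
  obtain ⟨ρ₀, hρo, hρA, n', hX', hY'⟩ : ∃ ρ₀, Odd (orderOf ρ₀) ∧ ρ₀ ∈ C A ∧ ∃ n',
      (∀ a, ρ₀ * X a * ρ₀⁻¹ = X (F4.w * a)) ∧ ∀ b, ρ₀ * Y b * ρ₀⁻¹ = Y (F4.u * b) * Z (n' * b) := by
    have hcases : (l = F4.u ∧ f = F4.w) ∨ (l = F4.w ∧ f = F4.u) := by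
      have : ∀ l f : F4, l ≠ 0 → l ≠ F4.e → F4.e = f * l → (l = F4.u ∧ f = F4.w) ∨ (l = F4.w ∧ f = F4.u) := by
        decide
      exact this l f hl0 hl1 hfl
    rcases hcases with ⟨rfl, rfl⟩ | ⟨rfl, rfl⟩
    · exact ⟨b, hbo, hbA, n, hX, hY⟩
    · refine ⟨b * b, ?_, mul_mem hbA hbA, n * F4.w + n, fun a => ?_, fun c => ?_⟩
      · have : orderOf (b * b) ∣ orderOf b := by
          rw [← pow_two]; exact orderOf_pow_dvd 2
        exact hbo.of_dvd_nat this
      · rw [show b * b * X a * (b * b)⁻¹ = b * (b * X a * b⁻¹) * b⁻¹ by group, hX, hX, ← mul_assoc]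
        rfl
      · rw [show b * b * Y c * (b * b)⁻¹ = b * (b * Y c * b⁻¹) * b⁻¹ by group, hY, conj_mul', hY, hZ,
          ← mul_assoc, hh1, mul_assoc (Y _), ← F.Z_add]
        congr 2
        rw [show F4.e * (n * c) = n * c from one_mul _, add_mul, mul_assoc]
  refine ⟨F4.u * n', ρ₀, hρo, hρA, hX', fun b => ?_⟩
  rw [conj_mul', hY', CA_V h hρA (F.Z_mem _), mul_assoc, ← F.Z_add]
  congr 2
  have : ∀ n b : F4, n * b + F4.u * n * b = F4.u * n * (F4.u * b) := by decide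
  exact this n' b

end Cfsg.Agent.StdAlt.Five.Base
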