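import Cfsg.Agent.StdAlt.Five.KillLink
import Cfsg.Agent.TwoFusion.StronglyEmbeddedBasic
import Cfsg.Prelude.Def_TwoFusion

/-!
# S1766, `n = 5`, kill A1: `S = P` of type `L₃(4)`, `E2` strongly closed
-/

set_option autoImplicit false

namespace Cfsg.Agent.StdAlt.Five.Kill

open Subgroup Cfsg.Agent.StdAlt.Conj Cfsg.Agent.J2Sylow.Model Cfsg.Agent.J2Sylow.Model.F4
open Cfsg.Agent.StdAlt.Five Sec4 KillModel

variable {G : Type*} [Group G]

/-- the statement S1169 for the group `G` -/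
def Gold (G : Type*) [Group G] : Prop :=
  ∀ (S : Sylow 2 G) (A : Subgroup G), A ≠ ⊥ → IsMulCommutative A →
    Cfsg.IsStronglyClosed A (S : Subgroup G) →
    IsMulCommutative (S : Subgroup G) ∨ ∃ H : Subgroup G, Cfsg.IsStronglyEmbedded H

variable {A R V P : Subgroup G} {ρ ρ₀ w s : G} {X Y Z : F4 → G} {S : Sylow 2 G}

/-- the subgroup `{Y b * Z c}` -/
def E2 (B : Base A R V P ρ 0 X Y Z) : Subgroup G where
  carrier := {x | ∃ b c, x = Y b * Z c}
  one_mem' := ⟨0, 0, by rw [Y_zero B, Z_zero B, mul_one]⟩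
  mul_mem' := by
    rintro _ _ ⟨b, c, rfl⟩ ⟨b', c', rfl⟩
    refine ⟨b + b', c + c', ?_⟩
    have h := B.data.cent _ (B.frame.Y_mem b') _ (B.frame.Z_mem c)
    rw [← YY B, B.frame.Z_add]
    calc Y b * Z c * (Y b' * Z c') = Y b * (Z c * Y b') * Z c' := by group
      _ = Y b * (Y b' * Z c) * Z c' := by rw [h]
      _ = _ := by group
  inv_mem' := by
    rintro _ ⟨b, c, rfl⟩
    refine ⟨b, c, ?_⟩
    have h := B.data.cent _ (B.frame.Y_mem b) _ (B.frame.Z_mem c)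
    have h1 : Y b * Y b = 1 := by rw [YY B, F4.add_self, Y_zero B]
    have h2 : Z c * Z c = 1 := B.data.sqB _ (B.frame.Z_mem c)
    rw [inv_eq_iff_mul_eq_one]
    calc Y b * Z c * (Y b * Z c) = Y b * (Z c * Y b) * Z c := by group
      _ = Y b * Y b * (Z c * Z c) := by rw [← h]; group
      _ = 1 := by rw [h1, h2, mul_one]

theorem mem_E2 (B : Base A R V P ρ 0 X Y Z) {x : G} : x ∈ E2 B ↔ ∃ b c, x = Y b * Z c := Iff.rfl

theorem E2_comm (B : Base A R V P ρ 0 X Y Z) {x y : G} (hx : x ∈ E2 B) (hy : y ∈ E2 B) :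
    x * y = y * x := by
  obtain ⟨b, c, rfl⟩ := hx
  obtain ⟨b', c', rfl⟩ := hy
  have h1 := B.data.cent _ (B.frame.Y_mem b) _ (B.frame.Z_mem c')
  have h2 := B.data.cent _ (B.frame.Y_mem b') _ (B.frame.Z_mem c)
  have h3 : Y b * Y b' = Y b' * Y b := by rw [YY B, YY B, add_comm]
  have h4 : Z c * Z c' = Z c' * Z c := by
    rw [← B.frame.Z_add, ← B.frame.Z_add, add_comm]
  calc Y b * Z c * (Y b' * Z c') = Y b * (Z c * Y b') * Z c' := by group
    _ = Y b * Y b' * (Z c * Z c') := by rw [← h2]; group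
    _ = Y b' * (Y b * Z c') * Z c := by rw [h3, h4]; group
    _ = Y b' * (Z c' * Y b) * Z c := by rw [h1]
    _ = _ := by group

theorem E2_sq (B : Base A R V P ρ 0 X Y Z) {x : G} (hx : x ∈ E2 B) : x * x = 1 := by
  have h1 := (E2 B).inv_mem hx
  obtain ⟨b, c, rfl⟩ := hx
  have h := B.data.cent _ (B.frame.Y_mem b) _ (B.frame.Z_mem c)
  have h1 : Y b * Y b = 1 := by rw [YY B, F4.add_self, Y_zero B]
  have h2 : Z c * Z c = 1 := B.data.sqB _ (B.frame.Z_mem c)
  calc Y b * Z c * (Y b * Z c) = Y b * (Z c * Y b) * Z c := by group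
    _ = Y b * Y b * (Z c * Z c) := by rw [← h]; group
    _ = 1 := by rw [h1, h2, mul_one]

theorem E2_ne (B : Base A R V P ρ 0 X Y Z) : E2 B ≠ ⊥ := by
  intro h
  have h1 : Z 1 ∈ E2 B := ⟨0, 1, by rw [Y_zero B, one_mul]⟩
  rw [h, mem_bot] at h1
  have h3 : Y 0 * X 0 * Z 1 = Y 0 * X 0 * Z 0 := by rw [h1, Z_zero B]
  obtain ⟨-, -, h4⟩ := B.frame.inj _ _ _ _ _ _ h3
  exact absurd h4 (by decide)

/-- squares in `P` -/
theorem P_sq (B : Base A R V P ρ 0 X Y Z) (a b c : F4) :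
    (Y b * X a * Z c) * (Y b * X a * Z c) = Z (a * b) := by
  have h1 := B.data.cent _ (B.frame.Y_mem b) _ (B.frame.Z_mem c)
  have h2 := B.data.cent _ (B.data.R_le (B.frame.X_mem a)) _ (B.frame.Z_mem c)
  have h3 : Y b * Y b = 1 := by rw [YY B, F4.add_self, Y_zero B]
  have h4 : Z c * Z c = 1 := B.data.sqB _ (B.frame.Z_mem c)
  have h5 : X a * X a = 1 := B.data.sqR _ (B.frame.X_mem a)
  have h6 := B.data.cent _ (B.data.R_le (B.frame.X_mem a)) _ (B.frame.Z_mem (a * b))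
  calc (Y b * X a * Z c) * (Y b * X a * Z c) = Y b * X a * (Z c * Y b) * X a * Z c := by group
    _ = Y b * (X a * Y b) * (Z c * X a) * Z c := by rw [← h1]; group
    _ = Y b * (Y b * X a * Z (a * b)) * (X a * Z c) * Z c := by rw [B.frame.X_Y, ← h2]
    _ = (Y b * Y b) * (X a * Z (a * b)) * X a * (Z c * Z c) := by group
    _ = (Y b * Y b) * (Z (a * b) * X a) * X a * (Z c * Z c) := by rw [h6]
    _ = (Y b * Y b) * Z (a * b) * (X a * X a) * (Z c * Z c) := by group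
    _ = _ := by rw [h3, h4, h5]; group

/-- the elements of `P` of order two that are not of K-type -/
theorem mem_E2_of (B : Base A R V P ρ 0 X Y Z) {x : G} (hx : x ∈ P) (h2 : x * x = 1)
    (hk : ¬ KT A x) : x ∈ E2 B := by
  obtain ⟨b, a, c, rfl⟩ := B.frame.P_surj _ hx
  rw [P_sq B] at h2
  have h3 : Y 0 * X 0 * Z (a * b) = Y 0 * X 0 * Z 0 := by rw [h2, Z_zero B]
  obtain ⟨-, -, h4⟩ := B.frame.inj _ _ _ _ _ _ h3
  rcases mz a b h4 with ha | hb
  · exact ⟨b, c, by rw [ha, X_zero B, mul_one]⟩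
  · by_cases ha : a = 0
    · exact ⟨b, c, by rw [ha, X_zero B, mul_one]⟩
    · exfalso
      apply hk
      rw [hb, Y_zero B, one_mul]
      exact (B.kt a c).mpr ha

/-- no element of `E2` is of K-type -/
theorem E2_nkt (B : Base A R V P ρ 0 X Y Z) (W : WC A R V P Y Z S) {x : G} (hx : x ∈ E2 B) :
    ¬ KT A x := by
  obtain ⟨b, c, rfl⟩ := hx
  by_cases hb : b = 0
  · rw [hb, Y_zero B, ← X_zero B]
    intro h
    exact (B.kt 0 c).mp h rfl
  · exact W.nkt b c hb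

theorem P_not_comm (B : Base A R V P ρ 0 X Y Z) (h : ∀ x ∈ P, ∀ y ∈ P, x * y = y * x) : False := by
  have h1 := h _ (B.data.R_le (B.frame.X_mem 1)) _ (B.frame.Y_mem 1)
  rw [B.frame.X_Y] at h1
  have h2 : Z (1 * 1) = 1 := by
    have : Y 1 * X 1 * Z (1 * 1) = Y 1 * X 1 := h1
    exact mul_eq_left.mp this
  have h3 : Y 0 * X 0 * Z (1 * 1) = Y 0 * X 0 * Z 0 := by rw [h2, Z_zero B]
  obtain ⟨-, -, h4⟩ := B.frame.inj _ _ _ _ _ _ h3
  exact absurd h4 (by decide)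

/-- a strongly closed abelian subgroup is impossible -/
theorem false_of_closed [Finite G] [IsSimpleGroup G] (B : Base A R V P ρ 0 X Y Z)
    (hPS : P ≤ (S : Subgroup G)) (hG : Gold G) {Q : Subgroup G} (hQ : Q ≠ ⊥)
    (hc : ∀ x ∈ Q, ∀ y ∈ Q, x * y = y * x) (hcl : Cfsg.IsStronglyClosed Q (S : Subgroup G)) :
    False := by
  rcases hG S Q hQ ⟨⟨fun x y => Subtype.ext (hc x x.2 y y.2)⟩⟩ hcl with h | ⟨H, hH⟩
  · apply P_not_comm B
    intro x hx y hy
    have := h.is_comm.comm (⟨x, hPS hx⟩ : (S : Subgroup G)) ⟨y, hPS hy⟩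
    exact congrArg Subtype.val this
  · apply nZ_of B 1
    obtain ⟨g0, od⟩ := B.odd
    apply Cfsg.Agent.TwoFusion.StronglyEmbeddedBasic.isConj_of_involutions hH
    · apply orderOf_eq_prime
      · rw [pow_two]; exact od.sqR _ (B.frame.X_mem 1)
      · intro h1
        have h3 : Y 0 * X 1 * Z 0 = Y 0 * X 0 * Z 0 := by rw [h1, X_zero B]
        obtain ⟨-, h4, -⟩ := B.frame.inj _ _ _ _ _ _ h3
        exact absurd h4 (by decide)
    · apply orderOf_eq_prime
      · rw [pow_two]; exact od.sqV _ (B.frame.Z_mem 1)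
      · intro h1
        have h3 : Y 0 * X 0 * Z 1 = Y 0 * X 0 * Z 0 := by rw [h1, Z_zero B]
        obtain ⟨-, -, h4⟩ := B.frame.inj _ _ _ _ _ _ h3
        exact absurd h4 (by decide)

/-- **A1** -/
theorem a1 [Finite G] [IsSimpleGroup G] (B : Base A R V P ρ 0 X Y Z) (W : WC1 A R V P Y Z S)
    (hG : Gold G) : False := by
  apply false_of_closed B W.le hG (E2_ne B) (fun x hx y hy => E2_comm B hx hy)
  refine ⟨?_, ?_⟩
  · rintro _ ⟨b, c, rfl⟩
    exact W.le (P.mul_mem (B.frame.Y_mem b) (B.data.B_le (B.frame.Z_mem c)))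
  · intro x hx g hg
    rw [W.eq] at hg
    apply mem_E2_of B hg
    · calc g * x * g⁻¹ * (g * x * g⁻¹) = g * (x * x) * g⁻¹ := by group
        _ = 1 := by rw [E2_sq B hx]; group
    · intro hk
      apply E2_nkt B W.toWC hx
      apply kt_conj hk
      rw [isConj_iff]
      exact ⟨g⁻¹, by group⟩

end Cfsg.Agent.StdAlt.Five.Kill
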