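import Mathlib
import Cfsg.Agent.J2Sylow.Model

/-!
# The group `UT₃(4) : ⟨s⟩` (order 128), `s` the field automorphism, and homomorphisms from it
-/

set_option autoImplicit false

namespace Cfsg.Agent.StdAlt.Five.KillModel

open Cfsg.Agent.J2Sylow.Model Cfsg.Agent.J2Sylow.Model.F4

/-- the element `y(b) x(a) z(c) s^j` -/
@[ext] structure M : Type where
  a : F4
  b : F4
  c : F4
  j : Bool
  deriving DecidableEq

namespace M

/-- product -/
def mul (x y : M) : M :=
  match x.j with
  | false => ⟨x.a + y.a, x.b + y.b, x.c + y.c + x.a * y.b, y.j⟩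
  | true => ⟨x.a + fr y.a, x.b + fr y.b, x.c + fr y.c + x.a * fr y.b, !y.j⟩

/-- inverse -/
def inv (x : M) : M :=
  match x.j with
  | false => ⟨x.a, x.b, x.c + x.a * x.b, false⟩
  | true => ⟨fr x.a, fr x.b, fr x.c + fr x.a * fr x.b, true⟩

/-- identity -/
def one : M := ⟨o, o, o, false⟩

instance : Mul M := ⟨mul⟩
instance : Inv M := ⟨inv⟩
instance : One M := ⟨one⟩

instance decForall (p : M → Prop) [DecidablePred p] : Decidable (∀ x, p x) :=
  decidable_of_iff (∀ a b c : F4, p ⟨a, b, c, false⟩ ∧ p ⟨a, b, c, true⟩)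
    ⟨fun h x => by
      obtain ⟨a, b, c, s⟩ := x
      cases s
      · exact (h a b c).1
      · exact (h a b c).2, fun h a b c => ⟨h _, h _⟩⟩

instance decExists (p : M → Prop) [DecidablePred p] : Decidable (∃ x, p x) :=
  decidable_of_iff (∃ a b c : F4, p ⟨a, b, c, false⟩ ∨ p ⟨a, b, c, true⟩)
    ⟨fun ⟨a, b, c, h⟩ => by rcases h with h | h <;> exact ⟨_, h⟩,
     fun ⟨⟨a, b, c, s⟩, h⟩ => ⟨a, b, c, by cases s <;> simp_all⟩⟩

theorem mul_false (xa xb xc : F4) (y : M) :
    (⟨xa, xb, xc, false⟩ : M) * y = ⟨xa + y.a, xb + y.b, xc + y.c + xa * y.b, y.j⟩ := rfl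

theorem mul_true (xa xb xc : F4) (y : M) :
    (⟨xa, xb, xc, true⟩ : M) * y = ⟨xa + fr y.a, xb + fr y.b, xc + fr y.c + xa * fr y.b, !y.j⟩ := rfl

theorem inv_mul_cancel' : ∀ x : M, x⁻¹ * x = 1 := by decide +kernel

theorem one_mul' : ∀ x : M, 1 * x = x := by decide +kernel

theorem mul_one' : ∀ x : M, x * 1 = x := by decide +kernel

protected theorem mul_assoc (x y z : M) : x * y * z = x * (y * z) := by
  obtain ⟨xa, xb, xc, xs⟩ := x
  obtain ⟨ya, yb, yc, ys⟩ := y
  obtain ⟨za, zb, zc, zs⟩ := z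
  cases xs <;> cases ys <;> simp only [mul_false, mul_true, M.mk.injEq, fr_add, fr_mul, fr_fr,
    Bool.not_not, and_true, Bool.not_true, Bool.not_false] <;> refine ⟨?_, ?_, ?_⟩ <;> ring1

instance : Group M where
  mul_assoc := M.mul_assoc
  one_mul := one_mul'
  mul_one := mul_one'
  inv_mul_cancel := inv_mul_cancel'

/-- listing -/
def equivProd : M ≃ F4 × F4 × F4 × Bool where
  toFun x := (x.a, x.b, x.c, x.j)
  invFun y := ⟨y.1, y.2.1, y.2.2.1, y.2.2.2⟩
  left_inv _ := rfl
  right_inv _ := rfl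

instance : Fintype M := Fintype.ofEquiv _ equivProd.symm

/-- the field automorphism -/
def s : M := ⟨0, 0, 0, true⟩

/-- `Z 1` -/
def z : M := ⟨0, 0, 1, false⟩

/-- `E⟨s⟩` -/
def IsE (x : M) : Bool := decide (x.b = 0)

/-- the centralizer of `t` -/
def cS (t : M) : Finset M := Finset.univ.filter (fun x : M => x * t = t * x)

/-- the centralizer of `t` in `E⟨s⟩` -/
def eS (t : M) : Finset M := Finset.univ.filter (fun x : M => IsE x = true ∧ x * t = t * x)

theorem mem_cS {t x : M} : x ∈ cS t ↔ x * t = t * x := by simp [cS]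

theorem mem_eS {t x : M} : x ∈ eS t ↔ IsE x = true ∧ x * t = t * x := by simp [eS]

theorem z_central : ∀ x : M, x * z = z * x := by decide +kernel

set_option maxRecDepth 100000 in
theorem card_ge : ∀ t : M, t * t = 1 → 16 ≤ (cS t).card := by
  decide +kernel

set_option maxRecDepth 100000 in
theorem card_E : ∀ t : M, IsE t = true → t.j = true → (eS t).card ≤ 8 := by
  decide +kernel

theorem conj_s : ∀ t : M, t * t = 1 → t.j = true → ∃ a b c : F4,
    (⟨a, b, c, false⟩ : M) * t * (⟨a, b, c, false⟩ : M)⁻¹ = s := by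
  decide +kernel

theorem card_univ : Nat.card M = 128 := by
  rw [Nat.card_eq_fintype_card]
  decide +kernel

theorem card_EM : (Finset.univ.filter (fun x : M => IsE x = true)).card = 32 := by decide +kernel

attribute [irreducible] cS eS

theorem pgroup : IsPGroup 2 M := IsPGroup.of_card (n := 7) (by rw [card_univ]; norm_num)

end M

end Cfsg.Agent.StdAlt.Five.KillModel
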