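import Cfsg.Agent.StdAlt.Five.KillA1
import Cfsg.Agent.StdAlt.Five.KillModelS

/-!
# S1766, `n = 5`, kill A2: `S = P⟨s⟩` of order 128
-/

set_option autoImplicit false

namespace Cfsg.Agent.StdAlt.Five.Kill

open Subgroup Cfsg.Agent.StdAlt.Conj Cfsg.Agent.J2Sylow.Model Cfsg.Agent.J2Sylow.Model.F4
open Cfsg.Agent.StdAlt.Five Sec4 KillModel

variable {G : Type*} [Group G]

/-- `UT₃(4)` with the field automorphism -/
structure FieldP (X Y Z : F4 → G) (s : G) : Prop where
  XX : ∀ a b, X a * X b = X (a + b)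
  YY : ∀ a b, Y a * Y b = Y (a + b)
  ZZ : ∀ a b, Z a * Z b = Z (a + b)
  XY : ∀ a b, X a * Y b = Y b * (X a * Z (a * b))
  ZX : ∀ a b, Z a * X b = X b * Z a
  ZY : ∀ a b, Z a * Y b = Y b * Z a
  sX : ∀ a, s * X a = X (fr a) * s
  sY : ∀ a, s * Y a = Y (fr a) * s
  sZ : ∀ a, s * Z a = Z (fr a) * s
  ss : s * s = 1
  inj : ∀ a b c, Y b * (X a * Z c) = 1 → a = 0 ∧ b = 0 ∧ c = 0
  out : ∀ a b c, Y b * (X a * Z c) ≠ s

/-- normal form -/
def mFun (X Y Z : F4 → G) (s : G) (x : M) : G :=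
  Y x.b * (X x.a * (Z x.c * (if x.j then s else 1)))

theorem maux_true : ∀ a b' c c' : F4, a * b' + (c + c') = c + c' + a * b' := by decide +kernel

theorem mFun_mul {X Y Z : F4 → G} {s : G} (h : FieldP X Y Z s) (x y : M) :
    mFun X Y Z s (x * y) = mFun X Y Z s x * mFun X Y Z s y := by
  have hXX : ∀ a b (r : G), X a * (X b * r) = X (a + b) * r := fun a b r => by
    rw [← mul_assoc, h.XX]
  have hYY : ∀ a b (r : G), Y a * (Y b * r) = Y (a + b) * r := fun a b r => by
    rw [← mul_assoc, h.YY]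
  have hZZ : ∀ a b (r : G), Z a * (Z b * r) = Z (a + b) * r := fun a b r => by
    rw [← mul_assoc, h.ZZ]
  have hXY : ∀ a b (r : G), X a * (Y b * r) = Y b * (X a * (Z (a * b) * r)) := fun a b r => by
    rw [← mul_assoc, h.XY]; simp only [mul_assoc]
  have hZX : ∀ a b (r : G), Z a * (X b * r) = X b * (Z a * r) := fun a b r => by
    rw [← mul_assoc, h.ZX, mul_assoc]
  have hZY : ∀ a b (r : G), Z a * (Y b * r) = Y b * (Z a * r) := fun a b r => by
    rw [← mul_assoc, h.ZY, mul_assoc]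
  have hTX : ∀ a (r : G), s * (X a * r) = X (fr a) * (s * r) := fun a r => by
    rw [← mul_assoc, h.sX, mul_assoc]
  have hTY : ∀ a (r : G), s * (Y a * r) = Y (fr a) * (s * r) := fun a r => by
    rw [← mul_assoc, h.sY, mul_assoc]
  have hTZ : ∀ a (r : G), s * (Z a * r) = Z (fr a) * (s * r) := fun a r => by
    rw [← mul_assoc, h.sZ, mul_assoc]
  obtain ⟨a, b, c, i⟩ := x
  obtain ⟨a', b', c', i'⟩ := y
  cases i
  · rw [M.mul_false]
    simp only [mFun, mul_assoc, Bool.false_eq_true, if_false, one_mul, hZY, hZX, hXY, hYY, hXX,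
      hZZ, maux_true]
  · rw [M.mul_true]
    have hS : s * (if i' = true then s else 1) = if (!i') = true then s else 1 := by
      cases i' <;> simp [h.ss]
    simp only [mFun, mul_assoc, if_true, hTX, hTY, hTZ, hS, hZY, hZX, hXY, hYY, hXX, hZZ,
      maux_true]

namespace FieldP

variable {X Y Z : F4 → G} {s : G}

/-- the homomorphism given by the relations -/
def hom (h : FieldP X Y Z s) : M →* G := MonoidHom.mk' (mFun X Y Z s) (mFun_mul h)

theorem hom_apply (h : FieldP X Y Z s) (x : M) :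
    h.hom x = Y x.b * (X x.a * (Z x.c * (if x.j then s else 1))) := rfl

theorem X0 (h : FieldP X Y Z s) : X 0 = 1 := by
  have := h.XX 0 0
  rw [add_zero] at this
  exact mul_eq_left.mp this

theorem Y0 (h : FieldP X Y Z s) : Y 0 = 1 := by
  have := h.YY 0 0
  rw [add_zero] at this
  exact mul_eq_left.mp this

theorem Z0 (h : FieldP X Y Z s) : Z 0 = 1 := by
  have := h.ZZ 0 0
  rw [add_zero] at this
  exact mul_eq_left.mp this

theorem hom_X (h : FieldP X Y Z s) (a : F4) : h.hom ⟨a, 0, 0, false⟩ = X a := by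
  simp [hom_apply, h.Y0, h.Z0]

theorem hom_Z (h : FieldP X Y Z s) (a : F4) : h.hom ⟨0, 0, a, false⟩ = Z a := by
  simp [hom_apply, h.X0, h.Y0]

theorem hom_s (h : FieldP X Y Z s) : h.hom M.s = s := by
  simp [hom_apply, h.X0, h.Y0, h.Z0, M.s]

theorem hom_inj (h : FieldP X Y Z s) : Function.Injective h.hom := by
  rw [injective_iff_map_eq_one]
  rintro ⟨a, b, c, i⟩ hx
  rw [hom_apply] at hx
  cases i
  · simp only [Bool.false_eq_true, if_false, mul_one] at hx
    obtain ⟨rfl, rfl, rfl⟩ := h.inj a b c hx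
    rfl
  · exfalso
    simp only [if_true] at hx
    have h1 : Y b * (X a * Z c) = s := by
      have h2 : Y b * (X a * Z c) * s = 1 := by
        rw [← hx]; simp only [mul_assoc]
      calc Y b * (X a * Z c) = Y b * (X a * Z c) * (s * s) := by rw [h.ss, mul_one]
        _ = (Y b * (X a * Z c) * s) * s := by simp only [mul_assoc]
        _ = s := by rw [h2, one_mul]
    exact h.out a b c h1

theorem sq_lift (h : FieldP X Y Z s) {ξ : M} : h.hom ξ * h.hom ξ = 1 ↔ ξ * ξ = 1 := by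
  rw [← map_mul]
  constructor
  · intro hx; apply h.hom_inj; rw [hx, map_one]
  · intro hx; rw [hx, map_one]

/-- `s` is not conjugate to `Z 1` -/
theorem s_nZ [Finite G] (h : FieldP X Y Z s) (S : Sylow 2 G)
    (hS : ∀ g, g ∈ (S : Subgroup G) ↔ ∃ x, h.hom x = g)
    (cent' : ∀ Q : Subgroup G, IsPGroup 2 Q → (∀ q ∈ Q, q * X 1 = X 1 * q) →
      ∃ k : G, k * X 1 = X 1 * k ∧ ∀ q ∈ Q, ∃ x : M, M.IsE x = true ∧ h.hom x = k * q * k⁻¹)
    (out : ∀ k : G, k * X 1 = X 1 * k → ∀ a c, k * s * k⁻¹ ≠ X a * Z c) : ¬ IsConj s (Z 1) := by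
  intro hc1
  rw [isConj_iff] at hc1
  obtain ⟨g, hg⟩ := hc1
  have hXs : X 1 * s = s * X 1 := by rw [h.sX]; rfl
  have hX2 : X 1 * X 1 = 1 := by rw [h.XX, F4.add_self, h.X0]
  have hSZ : ∀ x : M, h.hom x * Z 1 = Z 1 * h.hom x := by
    intro x
    have h1 := congrArg h.hom (M.z_central x)
    rw [map_mul, map_mul] at h1
    change h.hom x * h.hom ⟨0, 0, 1, false⟩ = h.hom ⟨0, 0, 1, false⟩ * h.hom x at h1
    rwa [h.hom_Z] at h1
  -- move `g X1 g⁻¹` into `S`
  have hgp : IsPGroup 2 (Subgroup.zpowers (g * X 1 * g⁻¹)) := by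
    have hk2 : (g * X 1 * g⁻¹) ^ 2 ^ 1 = 1 := by
      rw [pow_one, pow_two]
      calc g * X 1 * g⁻¹ * (g * X 1 * g⁻¹) = g * (X 1 * X 1) * g⁻¹ := by group
        _ = 1 := by rw [hX2]; group
    rintro ⟨z, hz⟩
    obtain ⟨i, rfl⟩ := Subgroup.mem_zpowers_iff.mp hz
    refine ⟨1, ?_⟩
    apply Subtype.ext
    change ((g * X 1 * g⁻¹) ^ i) ^ 2 ^ 1 = 1
    rw [← zpow_natCast, ← zpow_mul, mul_comm, zpow_mul, zpow_natCast, hk2, one_zpow]
  obtain ⟨k, hk, hkS⟩ := conj_into S (H := Subgroup.centralizer {Z 1}) (by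
      intro t ht
      obtain ⟨x, rfl⟩ := (hS _).mp ht
      rw [Subgroup.mem_centralizer_singleton_iff]
      exact hSZ x) hgp (by
      rw [Subgroup.zpowers_le, Subgroup.mem_centralizer_singleton_iff, ← hg]
      calc g * X 1 * g⁻¹ * (g * s * g⁻¹) = g * (X 1 * s) * g⁻¹ := by group
        _ = g * (s * X 1) * g⁻¹ := by rw [hXs]
        _ = _ := by group)
  rw [Subgroup.mem_centralizer_singleton_iff] at hk
  set g1 := k * g with hg1
  have hg1s : g1 * s * g1⁻¹ = Z 1 := by
    calc g1 * s * g1⁻¹ = k * (g * s * g⁻¹) * k⁻¹ := by rw [hg1]; group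
      _ = Z 1 := by rw [hg, hk]; group
  obtain ⟨τ, hτ⟩ := (hS _).mp (hkS _ (Subgroup.mem_zpowers _))
  have hτ' : h.hom τ = g1 * X 1 * g1⁻¹ := by rw [hτ, hg1]; group
  have hττ : τ * τ = 1 := by
    rw [← h.sq_lift, hτ']
    calc g1 * X 1 * g1⁻¹ * (g1 * X 1 * g1⁻¹) = g1 * (X 1 * X 1) * g1⁻¹ := by group
      _ = 1 := by rw [hX2]; group
  have hmem : ∀ x : M, x ∈ Subgroup.centralizer {τ} ↔ x * τ = τ * x := fun x =>
    Subgroup.mem_centralizer_singleton_iff
  set Q : Subgroup G := (Subgroup.centralizer {τ} : Subgroup M).map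
    ((MulAut.conj g1⁻¹).toMonoidHom.comp h.hom) with hQ
  have hQmem : ∀ q, q ∈ Q ↔ ∃ x ∈ (Subgroup.centralizer {τ} : Subgroup M),
    g1⁻¹ * h.hom x * g1⁻¹⁻¹ = q := fun q => Iff.rfl
  have hQp : IsPGroup 2 Q := (M.pgroup.to_subgroup _).map _
  obtain ⟨k', hk', hkQ'⟩ := cent' Q hQp (by
    intro q hq
    obtain ⟨x, hx, rfl⟩ := (hQmem q).mp hq
    have h1 := congrArg h.hom ((hmem x).mp hx)
    rw [map_mul, map_mul, hτ'] at h1
    calc g1⁻¹ * h.hom x * g1⁻¹⁻¹ * X 1 = g1⁻¹ * (h.hom x * (g1 * X 1 * g1⁻¹)) * g1 := by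
          group
      _ = g1⁻¹ * ((g1 * X 1 * g1⁻¹) * h.hom x) * g1 := by rw [h1]
      _ = _ := by group)
  have hsQ : s ∈ Q := by
    rw [hQmem]
    refine ⟨⟨0, 0, 1, false⟩, ?_, ?_⟩
    · rw [hmem]; exact (M.z_central τ).symm
    · rw [h.hom_Z, ← hg1s]; group
  obtain ⟨e, he, he2⟩ := hkQ' s hsQ
  have hej : e.j = true := by
    by_contra hne
    have h1 : e.j = false := by simpa using hne
    obtain ⟨a, b, c', j⟩ := e
    change j = false at h1
    subst h1
    have h2 : decide (b = 0) = true := he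
    rw [decide_eq_true_eq] at h2
    subst h2
    apply out k' hk' a c'
    rw [← he2, h.hom_apply, h.Y0]; simp
  have hQs : ∀ q ∈ Q, q * s = s * q := by
    intro q hq
    obtain ⟨x, hx, rfl⟩ := (hQmem q).mp hq
    have h1 := hSZ x
    rw [← hg1s] at h1
    calc g1⁻¹ * h.hom x * g1⁻¹⁻¹ * s = g1⁻¹ * (h.hom x * (g1 * s * g1⁻¹)) * g1 := by
          group
      _ = g1⁻¹ * ((g1 * s * g1⁻¹) * h.hom x) * g1 := by rw [h1]
      _ = _ := by group
  have hQ16 : 16 ≤ Nat.card Q := by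
    rw [hQ, Subgroup.card_map_of_injective]
    · rw [Nat.card_congr (show (Subgroup.centralizer {τ} : Subgroup M) ≃ {x : M // x ∈ M.cS τ} from
        Equiv.subtypeEquivRight (fun x => (hmem x).trans M.mem_cS.symm)), Nat.card_eq_fintype_card,
        Fintype.card_coe]
      exact M.card_ge τ hττ
    · exact (MulAut.conj g1⁻¹).injective.comp h.hom_inj
  choose f hfE hf using fun q : Q => hkQ' q q.2
  have hfm : ∀ q, f q ∈ M.eS e := by
    intro q
    rw [M.mem_eS]
    refine ⟨hfE q, ?_⟩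
    apply h.hom_inj
    rw [map_mul, map_mul, hf, he2]
    have h1 := hQs q q.2
    calc k' * q * k'⁻¹ * (k' * s * k'⁻¹) = k' * (q * s) * k'⁻¹ := by group
      _ = k' * (s * q) * k'⁻¹ := by rw [h1]
      _ = _ := by group
  have hinj : Function.Injective (fun q : Q => (⟨f q, hfm q⟩ : {x // x ∈ M.eS e})) := by
    intro r r' hrr
    have h1 : f r = f r' := congrArg Subtype.val hrr
    have h2 : k' * (r : G) * k'⁻¹ = k' * (r' : G) * k'⁻¹ := by rw [← hf, ← hf, h1]
    apply Subtype.ext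
    exact mul_left_cancel (mul_right_cancel h2)
  have hle := Nat.card_le_card_of_injective _ hinj
  have h16 : Nat.card {x // x ∈ M.eS e} = (M.eS e).card := by
    rw [Nat.card_eq_fintype_card, Fintype.card_coe]
  rw [h16] at hle
  have := M.card_E e he hej
  omega

end FieldP

variable {A R V P : Subgroup G} {ρ ρ₀ w s : G} {X Y Z : F4 → G} {S : Sylow 2 G}

theorem fieldP_of (B : Base A R V P ρ 0 X Y Z) (m : Mu2 A ρ X Y Z s) : FieldP X Y Z s := by
  have F := B.frame
  have D := B.data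
  have hs := m.sq
  have hc : ∀ x ∈ P, ∀ c, Z c * x = x * Z c := fun x hx c => (D.cent x hx _ (F.Z_mem c)).symm
  refine
    { XX := fun a b => (F.X_add a b).symm
      YY := YY B
      ZZ := fun a b => (F.Z_add a b).symm
      XY := fun a b => by rw [F.X_Y, mul_assoc]
      ZX := fun a b => hc _ (D.R_le (F.X_mem b)) a
      ZY := fun a b => hc _ (F.Y_mem b) a
      sX := fun a => by rw [← m.conjX, mul_assoc, hs, mul_one]
      sY := fun a => by rw [← m.conjY, mul_assoc, hs, mul_one]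
      sZ := fun a => by rw [← m.conjZ, mul_assoc, hs, mul_one]
      ss := hs
      inj := ?_
      out := ?_ }
  · intro a b c h
    have h1 : Y b * X a * Z c = Y 0 * X 0 * Z 0 := by
      rw [Y_zero B, X_zero B, Z_zero B, mul_assoc, h]; group
    obtain ⟨h2, h3, h4⟩ := F.inj _ _ _ _ _ _ h1
    exact ⟨h3, h2, h4⟩
  · intro a b c h
    have hsP : s ∈ P := by
      rw [← h]
      exact P.mul_mem (F.Y_mem b) (P.mul_mem (D.R_le (F.X_mem a)) (D.B_le (F.Z_mem c)))
    have h1 := hc s hsP F4.w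
    have h2 := m.conjZ F4.w
    rw [← h1, mul_assoc, hs, mul_one] at h2
    have h3 : Y 0 * X 0 * Z F4.w = Y 0 * X 0 * Z (fr F4.w) := by rw [← h2]
    obtain ⟨-, -, h4⟩ := F.inj _ _ _ _ _ _ h3
    exact absurd h4 (by decide)

/-- **A2** -/
theorem a2 [Finite G] [IsSimpleGroup G] (B : Base A R V P ρ 0 X Y Z)
    (W : WC2 A R V P ρ X Y Z s S) (hA : ¬ 8 ∣ Nat.card A)
    (hM : ∀ m ∈ N A, m ∈ AC A ∨ m * s ∈ AC A) (hG : Gold G) : False := by
  obtain ⟨g0, od⟩ := B.odd
  have F := B.frame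
  have D := B.data
  have h := fieldP_of B W.mu2
  have hs := W.mu2.sq
  have hPk : ∀ p ∈ P, ∃ a b c, p = h.hom ⟨a, b, c, false⟩ := by
    intro p hp
    obtain ⟨b, a, c, h1⟩ := F.P_surj _ hp
    exact ⟨a, b, c, by rw [h1, h.hom_apply]; simp [mul_assoc]⟩
  have hkP : ∀ a b c, h.hom ⟨a, b, c, false⟩ ∈ P := by
    intro a b c
    rw [h.hom_apply]
    simp only [Bool.false_eq_true, if_false, mul_one]
    exact P.mul_mem (F.Y_mem b) (P.mul_mem (D.R_le (F.X_mem a)) (D.B_le (F.Z_mem c)))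
  have hjs : ∀ a b c, h.hom ⟨a, b, c, true⟩ = h.hom ⟨a, b, c, false⟩ * s := by
    intro a b c
    rw [h.hom_apply, h.hom_apply]
    simp [mul_assoc]
  have hS : ∀ g, g ∈ (S : Subgroup G) ↔ ∃ x, h.hom x = g := by
    intro g
    rw [W.mem]
    constructor
    · rintro (hg | hg)
      · obtain ⟨a, b, c, h1⟩ := hPk _ hg
        exact ⟨_, h1.symm⟩
      · obtain ⟨a, b, c, h1⟩ := hPk _ hg
        exact ⟨⟨a, b, c, true⟩, by rw [hjs, ← h1, mul_assoc, hs, mul_one]⟩
    · rintro ⟨⟨a, b, c, j⟩, rfl⟩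
      cases j
      · left; exact hkP a b c
      · right; rw [hjs, mul_assoc, hs, mul_one]; exact hkP a b c
  have hcent : ∀ Q : Subgroup G, IsPGroup 2 Q → (∀ q ∈ Q, q * X 1 = X 1 * q) →
      ∃ k : G, k * X 1 = X 1 * k ∧ ∀ q ∈ Q, ∃ x : M, M.IsE x = true ∧ h.hom x = k * q * k⁻¹ := by
    intro Q hQ hQX
    let EM : Subgroup M :=
      { carrier := {x | M.IsE x = true}
        one_mem' := by decide
        mul_mem' := by
          intro x y hx hy
          have h1 : ∀ x : M, M.IsE x = true → x = ⟨x.a, 0, x.c, x.j⟩ := by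
            decide +kernel
          change M.IsE (x * y) = true
          rw [h1 x hx, h1 y hy]
          generalize x.a = a
          generalize x.c = c
          generalize x.j = j
          generalize y.a = a'
          generalize y.c = c'
          generalize y.j = j'
          revert a c a' c' j j'
          decide +kernel
        inv_mem' := by
          intro x hx
          have h1 : ∀ x : M, M.IsE x = true → M.IsE x⁻¹ = true := by decide +kernel
          exact h1 x hx }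
    have hEM : Nat.card EM = 32 := by
      rw [Nat.card_congr (show EM ≃ {x : M // M.IsE x = true} from
        Equiv.subtypeEquivRight (fun _ => Iff.rfl)), Nat.card_eq_fintype_card, Fintype.card_subtype]
      exact M.card_EM
    have hE : Nat.card (EM.map h.hom) = 32 := by
      rw [Subgroup.card_map_of_injective h.hom_inj, hEM]
    obtain ⟨d, hd, hdE⟩ := conj_into_max (D := centralizer {X 1}) (R := EM.map h.hom) (Q := Q) (by
        rintro _ ⟨x, hx, rfl⟩
        rw [mem_centralizer_singleton_iff, ← h.hom_X 1, ← map_mul, ← map_mul]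
        congr 1
        have h1 : ∀ x : M, M.IsE x = true → x * ⟨1, 0, 0, false⟩ = ⟨1, 0, 0, false⟩ * x := by
          decide +kernel
        exact h1 x hx) ((M.pgroup.to_subgroup _).map _) (by
        intro R' h1 h2 h3
        have h4 : Nat.card (R' ⊓ AC A : Subgroup G) ≤ 16 :=
          card_le_AC (four_A B) (four_C B) hA od.card8 (h2.to_le inf_le_left) inf_le_right
        have h5 : Nat.card R' ≤ 2 * Nat.card (R' ⊓ AC A : Subgroup G) := by
          apply card_le_two
          intro x hx y hy hx' hy'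
          have e1 := (hM x (cent_le B (h1 hx))).resolve_left hx'
          have e2 := (hM y (cent_le B (h1 hy))).resolve_left hy'
          have e3 : x * y⁻¹ = (x * s) * (y * s)⁻¹ := by group
          rw [e3]
          exact mul_mem e1 (inv_mem e2)
        exact (Subgroup.eq_of_le_of_card_ge h3 (by rw [hE]; omega)).ge) hQ
        (fun q hq => mem_centralizer_singleton_iff.mpr (hQX q hq))
    refine ⟨d, mem_centralizer_singleton_iff.mp hd, fun q hq => ?_⟩
    obtain ⟨x, hx, h2⟩ := hdE q hq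
    exact ⟨x, hx, h2⟩
  have hout : ∀ k : G, k * X 1 = X 1 * k → ∀ a c, k * s * k⁻¹ ≠ X a * Z c := by
    intro k hk a c h1
    have hkN : k ∈ N A := cent_le B (mem_centralizer_singleton_iff.mpr hk)
    have h2 : k⁻¹ * Z c * k ∈ A := conj_mem' hkN (od.V_le (F.Z_mem c))
    have h3 : k⁻¹ * X a * k ∈ C A := conj_mem_C' hkN (od.R_le (F.X_mem a))
    have h4 : X a * Z c = Z c * X a := D.cent _ (D.R_le (F.X_mem a)) _ (F.Z_mem c)
    apply W.mu2.out _ h2 _ h3
    calc s = k⁻¹ * (k * s * k⁻¹) * k := by group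
      _ = k⁻¹ * (Z c * X a) * k := by rw [h1, h4]
      _ = _ := by group
  have hnZ := h.s_nZ S hS hcent hout
  -- all elements of `V#` are conjugate
  have hVc : ∀ c : F4, c ≠ 0 → IsConj (Z 1) (Z c) := by
    intro c hc
    have h1 : IsConj (Z 1) (Z F4.w) := by
      rw [isConj_iff]
      exact ⟨ρ, by rw [F.ρZ]; rfl⟩
    have h2 : IsConj (Z F4.w) (Z F4.u) := by
      rw [isConj_iff]
      exact ⟨ρ, by rw [F.ρZ]; rfl⟩
    have h3 : ∀ a : F4, a ≠ 0 → a = 1 ∨ a = F4.w ∨ a = F4.u := by decide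
    rcases h3 c hc with rfl | rfl | rfl
    · exact IsConj.refl _
    · exact h1
    · exact h1.trans h2
  -- all elements of `E2 - V` are conjugate
  have hYc : ∀ b c : F4, b ≠ 0 → IsConj (Y 1) (Y b * Z c) := by
    intro b c hb
    have h1 : IsConj (Y 1) (Y F4.w) := by
      rw [isConj_iff]
      exact ⟨ρ, by rw [F.ρY]; rfl⟩
    have h2 : IsConj (Y F4.w) (Y F4.u) := by
      rw [isConj_iff]
      exact ⟨ρ, by rw [F.ρY]; rfl⟩
    have h3 : ∀ a : F4, a ≠ 0 → a = 1 ∨ a = F4.w ∨ a = F4.u := by decide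
    have h4 : IsConj (Y 1) (Y b) := by
      rcases h3 b hb with rfl | rfl | rfl
      · exact IsConj.refl _
      · exact h1
      · exact h1.trans h2
    refine h4.trans ?_
    have h5 : ∀ b c : F4, b ≠ 0 → ∃ a, a * b = c := by decide
    obtain ⟨a, ha⟩ := h5 b c hb
    rw [isConj_iff]
    refine ⟨X a, ?_⟩
    have h6 := D.cent _ (D.R_le (F.X_mem a)) _ (F.Z_mem (a * b))
    calc X a * Y b * (X a)⁻¹ = Y b * (X a * Z (a * b)) * (X a)⁻¹ := by rw [F.X_Y]; group
      _ = Y b * (Z (a * b) * X a) * (X a)⁻¹ := by rw [h6]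
      _ = Y b * Z c := by rw [ha]; group
  have hPn : ∀ g x : G, x ∈ E2 B → g * x * g⁻¹ ∈ P → g * x * g⁻¹ ∈ E2 B := by
    intro g x hx hg
    apply mem_E2_of B hg
    · calc g * x * g⁻¹ * (g * x * g⁻¹) = g * (x * x) * g⁻¹ := by group
        _ = 1 := by rw [E2_sq B hx]; group
    · intro hk
      apply E2_nkt B W.toWC hx
      apply kt_conj hk
      rw [isConj_iff]
      exact ⟨g⁻¹, by group⟩
  -- the elements of `S - P` of order two are conjugate to `s`
  have hSs : ∀ y : G, y ∈ (S : Subgroup G) → y ∉ P → y * y = 1 → IsConj s y := by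
    intro y hy hyP hy2
    obtain ⟨ξ, rfl⟩ := (hS y).mp hy
    have hj : ξ.j = true := by
      by_contra hne
      have h1 : ξ.j = false := by simpa using hne
      apply hyP
      obtain ⟨a, b, c, j⟩ := ξ
      change j = false at h1
      subst h1
      exact hkP a b c
    obtain ⟨a, b, c, e⟩ := M.conj_s ξ (h.sq_lift.mp hy2) hj
    apply IsConj.symm
    rw [isConj_iff]
    refine ⟨h.hom ⟨a, b, c, false⟩, ?_⟩
    rw [← map_inv, ← map_mul, ← map_mul, e, h.hom_s]
  have hnZc : ∀ c, c ≠ 0 → ¬ IsConj s (Z c) := fun c hc hcon => hnZ (hcon.trans (hVc c hc).symm)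
  have hE2S : E2 B ≤ (S : Subgroup G) := by
    rintro _ ⟨b, c, rfl⟩
    exact W.le (P.mul_mem (F.Y_mem b) (D.B_le (F.Z_mem c)))
  by_cases hsY : IsConj s (Y 1)
  · -- `V` is strongly closed
    have hVne : V ≠ ⊥ := by
      intro hV
      have h1 := F.Z_mem 1
      rw [hV, mem_bot] at h1
      have h3 : Y 0 * X 0 * Z 1 = Y 0 * X 0 * Z 0 := by rw [h1, Z_zero B]
      obtain ⟨-, -, h4⟩ := F.inj _ _ _ _ _ _ h3
      exact absurd h4 (by decide)
    apply false_of_closed B W.le hG hVne (fun x hx y hy => D.cent x (D.B_le hx) y hy)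
    refine ⟨D.B_le.trans W.le, ?_⟩
    intro x hx g hg
    by_cases hx1 : x = 1
    · rw [hx1]; have : g * 1 * g⁻¹ = 1 := by group
      rw [this]; exact V.one_mem
    obtain ⟨c, rfl⟩ := F.Z_surj x hx
    have hc0 : c ≠ 0 := by rintro rfl; exact hx1 (Z_zero B)
    have hxE : Z c ∈ E2 B := ⟨0, c, by rw [Y_zero B, one_mul]⟩
    have hxc : IsConj (Z c) (g * Z c * g⁻¹) := by rw [isConj_iff]; exact ⟨g, rfl⟩
    by_cases hgP : g * Z c * g⁻¹ ∈ P
    · obtain ⟨b', c', e⟩ := hPn g _ hxE hgP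
      by_cases hb : b' = 0
      · rw [e, hb, Y_zero B, one_mul]; exact F.Z_mem c'
      · exfalso
        apply hnZc c hc0
        have h1 := hYc b' c' hb
        rw [← e] at h1
        exact hsY.trans (h1.trans hxc.symm)
    · exfalso
      apply hnZc c hc0
      refine (hSs _ hg hgP ?_).trans hxc.symm
      calc g * Z c * g⁻¹ * (g * Z c * g⁻¹) = g * (Z c * Z c) * g⁻¹ := by group
        _ = 1 := by rw [D.sqB _ (F.Z_mem c)]; group
  · apply false_of_closed B W.le hG (E2_ne B) (fun x hx y hy => E2_comm B hx hy)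
    refine ⟨hE2S, ?_⟩
    intro x hx g hg
    by_cases hgP : g * x * g⁻¹ ∈ P
    · exact hPn g x hx hgP
    exfalso
    have hxc : IsConj x (g * x * g⁻¹) := by rw [isConj_iff]; exact ⟨g, rfl⟩
    have h1 : IsConj s (g * x * g⁻¹) := by
      apply hSs _ hg hgP
      calc g * x * g⁻¹ * (g * x * g⁻¹) = g * (x * x) * g⁻¹ := by group
        _ = 1 := by rw [E2_sq B hx]; group
    have h2 : IsConj s x := h1.trans hxc.symm
    obtain ⟨b, c, rfl⟩ := hx
    by_cases hb : b = 0
    · rw [hb, Y_zero B, one_mul] at h2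
      by_cases hc : c = 0
      · rw [hc, Z_zero B, isConj_one_left] at h2
        apply W.mu2.out 1 A.one_mem 1 (C A).one_mem
        rw [h2, mul_one]
      · exact hnZc c hc h2
    · exact hsY (h2.trans (hYc b c hb).symm)

end Cfsg.Agent.StdAlt.Five.Kill
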