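import Mathlib
import Cfsg.Agent.J2Sylow.Model

/-!
# Coordinates for a 2-group of order 64 (S1766, n = 5, type Ib)

`R`, `B` are four-groups, `P` has order 64, centralises `B`, `[P,R] ≤ B`, `C_P(r) = RB` for `r ∈ R#`,
squares of `P` are in `B`, and `ρ` normalises `P` and `B`, centralises `R`, acts with order 3 on `P` and
without fixed points on `B`.
-/

set_option autoImplicit false

namespace Cfsg.Agent.StdAlt.Five.Coord

open Cfsg.Agent.J2Sylow.Model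

/-- the hypotheses -/
structure Data {G : Type*} [Group G] (R B P : Subgroup G) (ρ : G) : Prop where
  cardR : Nat.card R = 4
  cardB : Nat.card B = 4
  cardP : Nat.card P = 64
  sqR : ∀ r ∈ R, r * r = 1
  sqB : ∀ b ∈ B, b * b = 1
  inf : ∀ x ∈ R, x ∈ B → x = 1
  R_le : R ≤ P
  B_le : B ≤ P
  cent : ∀ x ∈ P, ∀ b ∈ B, x * b = b * x
  comm_mem : ∀ x ∈ P, ∀ r ∈ R, x * r * x⁻¹ * r⁻¹ ∈ B
  free : ∀ x ∈ P, ∀ r ∈ R, r ≠ 1 → x * r = r * x → ∃ r' ∈ R, ∃ b ∈ B, x = r' * b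
  sq : ∀ x ∈ P, x * x ∈ B
  ρP : ∀ x ∈ P, ρ * x * ρ⁻¹ ∈ P
  ρR : ∀ r ∈ R, ρ * r * ρ⁻¹ = r
  ρB : ∀ b ∈ B, ρ * b * ρ⁻¹ ∈ B
  ρ3 : ∀ x ∈ P, ρ * (ρ * (ρ * x * ρ⁻¹) * ρ⁻¹) * ρ⁻¹ = x
  ρfix : ∀ b ∈ B, ρ * b * ρ⁻¹ = b → b = 1

/-- coordinates; `ε = o` : `E2 = 2^4`; `ε = e` : `E2 = 4 × 4`, inverted by `X e`. -/
structure Frame {G : Type*} [Group G] (R B P : Subgroup G) (ρ : G) (ε : F4) (X Y Z : F4 → G) :
    Prop where
  X_mem : ∀ a, X a ∈ R
  Y_mem : ∀ b, Y b ∈ P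
  Z_mem : ∀ c, Z c ∈ B
  X_add : ∀ a a', X (a + a') = X a * X a'
  Z_add : ∀ c c', Z (c + c') = Z c * Z c'
  Y_mul : ∀ b b', Y b * Y b' = Y (b + b') * Z (ε * F4.fr (b * b'))
  X_surj : ∀ r ∈ R, ∃ a, X a = r
  Z_surj : ∀ z ∈ B, ∃ c, Z c = z
  P_surj : ∀ x ∈ P, ∃ b a c, x = Y b * X a * Z c
  inj : ∀ a b c a' b' c', Y b * X a * Z c = Y b' * X a' * Z c' → b = b' ∧ a = a' ∧ c = c'
  X_Y : ∀ a b, X a * Y b = Y b * X a * Z (a * b)
  ρX : ∀ a, ρ * X a * ρ⁻¹ = X a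
  ρY : ∀ b, ρ * Y b * ρ⁻¹ = Y (F4.w * b)
  ρZ : ∀ c, ρ * Z c * ρ⁻¹ = Z (F4.w * c)

namespace Data

variable {G : Type*} [Group G] {R B P : Subgroup G} {ρ : G} (D : Data R B P ρ)
include D

theorem conj_mul (x y : G) : ρ * (x * y) * ρ⁻¹ = (ρ * x * ρ⁻¹) * (ρ * y * ρ⁻¹) := by group

theorem invB {b : G} (hb : b ∈ B) : b⁻¹ = b := by
  rw [inv_eq_iff_mul_eq_one]; exact D.sqB b hb

theorem invR {r : G} (hr : r ∈ R) : r⁻¹ = r := by
  rw [inv_eq_iff_mul_eq_one]; exact D.sqR r hr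

theorem commR {r s : G} (hr : r ∈ R) (hs : s ∈ R) : r * s = s * r := by
  have h := D.sqR _ (R.mul_mem hr hs)
  calc r * s = (r * s)⁻¹ := by rw [eq_inv_iff_mul_eq_one]; exact h
    _ = s⁻¹ * r⁻¹ := by group
    _ = s * r := by rw [D.invR hr, D.invR hs]

theorem exists_out : ∃ x ∈ P, ¬ ∃ r ∈ R, ∃ b ∈ B, x = r * b := by
  classical
  by_contra hcon
  push_neg at hcon
  have hf : Function.Surjective (fun p : R × B => (⟨(p.1 : G) * p.2,
      P.mul_mem (D.R_le p.1.2) (D.B_le p.2.2)⟩ : P)) := by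
    rintro ⟨x, hx⟩
    obtain ⟨r, hr, b, hb, rfl⟩ := hcon x hx
    exact ⟨(⟨r, hr⟩, ⟨b, hb⟩), rfl⟩
  haveI : Finite R := Nat.finite_of_card_ne_zero (by rw [D.cardR]; norm_num)
  haveI : Finite B := Nat.finite_of_card_ne_zero (by rw [D.cardB]; norm_num)
  have := Nat.card_le_card_of_surjective _ hf
  rw [Nat.card_prod, D.cardR, D.cardB, D.cardP] at this
  omega

/-- the four elements of `B` -/
theorem frameB {b : G} (hb : b ∈ B) (hb1 : b ≠ 1) :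
    ρ * (ρ * b * ρ⁻¹) * ρ⁻¹ = b * (ρ * b * ρ⁻¹) ∧
      ∀ x ∈ B, x = 1 ∨ x = b ∨ x = ρ * b * ρ⁻¹ ∨ x = b * (ρ * b * ρ⁻¹) := by
  classical
  set b1 := ρ * b * ρ⁻¹ with hb1d
  set b2 := ρ * b1 * ρ⁻¹ with hb2d
  have m1 : b1 ∈ B := D.ρB b hb
  have m2 : b2 ∈ B := D.ρB b1 m1
  have h3 : ρ * b2 * ρ⁻¹ = b := D.ρ3 b (D.B_le hb)
  have n1 : b1 ≠ 1 := by
    intro h
    apply hb1
    rw [hb1d] at h
    have : b = ρ⁻¹ * 1 * ρ := by rw [← h]; group
    simpa using this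
  have n2 : b2 ≠ 1 := by
    intro h
    apply n1
    rw [hb2d] at h
    have : b1 = ρ⁻¹ * 1 * ρ := by rw [← h]; group
    simpa using this
  have n01 : b1 ≠ b := fun h => hb1 (D.ρfix b hb h)
  have n12 : b2 ≠ b1 := fun h => n1 (D.ρfix b1 m1 h)
  have n02 : b2 ≠ b := by
    intro h
    rw [h] at h3
    exact n01 h3
  haveI : Finite B := Nat.finite_of_card_ne_zero (by rw [D.cardB]; norm_num)
  have key : ∀ x ∈ B, x = 1 ∨ x = b ∨ x = b1 ∨ x = b * b1 := by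
    intro x hx
    by_contra hcon
    push_neg at hcon
    obtain ⟨c1, c2, c3, c4⟩ := hcon
    have hbb : b * b1 ∈ B := B.mul_mem hb m1
    have e1 : b * b1 ≠ 1 := by
      intro h
      apply n01
      have : b1 = b⁻¹ := by rw [eq_inv_iff_mul_eq_one, ← D.cent b (D.B_le hb) b1 m1]; exact h
      rw [this]; exact D.invB hb
    have e2 : b * b1 ≠ b := by
      intro h; apply n1; simpa using h
    have e3 : b * b1 ≠ b1 := by
      intro h; apply hb1; simpa using h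
    have hc : ({⟨1, B.one_mem⟩, ⟨b, hb⟩, ⟨b1, m1⟩, ⟨b * b1, hbb⟩, ⟨x, hx⟩} : Finset B).card ≤ Nat.card B := by
      haveI := Fintype.ofFinite B
      rw [Nat.card_eq_fintype_card]
      exact Finset.card_le_univ _
    rw [D.cardB] at hc
    rw [Finset.card_insert_of_notMem, Finset.card_insert_of_notMem, Finset.card_insert_of_notMem,
      Finset.card_insert_of_notMem, Finset.card_singleton] at hc
    · omega
    · simp only [Finset.mem_singleton, Subtype.mk.injEq]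
      exact fun h => c4 h.symm
    · simp only [Finset.mem_insert, Finset.mem_singleton, Subtype.mk.injEq, not_or]
      exact ⟨fun h => e3 h.symm, fun h => c3 h.symm⟩
    · simp only [Finset.mem_insert, Finset.mem_singleton, Subtype.mk.injEq, not_or]
      exact ⟨fun h => n01 h.symm, fun h => e2 h.symm, fun h => c2 h.symm⟩
    · simp only [Finset.mem_insert, Finset.mem_singleton, Subtype.mk.injEq, not_or]
      exact ⟨fun h => hb1 h.symm, fun h => n1 h.symm, fun h => e1 h.symm, fun h => c1 h.symm⟩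
  refine ⟨?_, key⟩
  rcases key b2 m2 with h | h | h | h
  · exact absurd h n2
  · exact absurd h n02
  · exact absurd h n12
  · exact h

end Data

/-- the map of `F4` onto a four-group -/
def four {G : Type*} [Group G] (p q : G) : F4 → G
  | .o => 1
  | .e => p
  | .w => q
  | .u => p * q

theorem four_add {G : Type*} [Group G] {p q : G} (hp : p * p = 1) (hq : q * q = 1)
    (hpq : p * q = q * p) (c c' : F4) : four p q (c + c') = four p q c * four p q c' := by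
  have h1 : p * (p * q) = q := by rw [← mul_assoc, hp, one_mul]
  have h2 : p * q * p = q := by rw [hpq, mul_assoc, hp, mul_one]
  have h3 : q * (p * q) = p := by rw [hpq, ← mul_assoc, hq, one_mul]
  have h4 : p * q * q = p := by rw [mul_assoc, hq, mul_one]
  have h5 : p * q * (p * q) = 1 := by rw [← mul_assoc, h2, hq]
  change four p q (F4.add c c') = _
  -- by definition (so that no unfolding lemma of `F4.add` is generated in this file)
  have a0 : ∀ x, F4.add .o x = x := fun _ => rfl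
  have b1 : F4.add .e .o = .e := rfl
  have b2 : F4.add .w .o = .w := rfl
  have b3 : F4.add .u .o = .u := rfl
  have c1 : F4.add .e .e = .o := rfl
  have c2 : F4.add .e .w = .u := rfl
  have c3 : F4.add .e .u = .w := rfl
  have c4 : F4.add .w .e = .u := rfl
  have c5 : F4.add .w .w = .o := rfl
  have c6 : F4.add .w .u = .e := rfl
  have c7 : F4.add .u .e = .w := rfl
  have c8 : F4.add .u .w = .e := rfl
  have c9 : F4.add .u .u = .o := rfl
  cases c <;> cases c' <;> simp only [a0, b1, b2, b3, c1, c2, c3, c4, c5, c6, c7, c8, c9, four,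
    one_mul, mul_one, hp, hq, h1, h2, h3, h4, h5, hpq] <;>
    simp only [← hpq, h1, h2, h3, h4, h5]

/-- the images of `o, e, w, u` -/
def quad {G : Type*} [Group G] (p q r : G) : F4 → G
  | .o => 1
  | .e => p
  | .w => q
  | .u => r

namespace Data

variable {G : Type*} [Group G] {R B P : Subgroup G} {ρ : G} (D : Data R B P ρ)
include D

theorem K_mul {x y r : G} (hx : x ∈ P) (hy : y ∈ P) (hr : r ∈ R) :
    x * y * r * (x * y)⁻¹ * r⁻¹ = (y * r * y⁻¹ * r⁻¹) * (x * r * x⁻¹ * r⁻¹) := by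
  have h := D.cent x hx _ (D.comm_mem y hy r hr)
  calc x * y * r * (x * y)⁻¹ * r⁻¹ = (x * (y * r * y⁻¹ * r⁻¹)) * r * x⁻¹ * r⁻¹ := by group
    _ = ((y * r * y⁻¹ * r⁻¹) * x) * r * x⁻¹ * r⁻¹ := by rw [h]
    _ = _ := by group

theorem K_inv {x r : G} (hx : x ∈ P) (hr : r ∈ R) :
    x⁻¹ * r * x⁻¹⁻¹ * r⁻¹ = x * r * x⁻¹ * r⁻¹ := by
  have h := D.K_mul hx (P.inv_mem hx) hr
  rw [mul_inv_cancel] at h
  have h' : (1 : G) * r * 1⁻¹ * r⁻¹ = 1 := by group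
  rw [h'] at h
  rw [eq_comm, mul_eq_one_iff_eq_inv] at h
  rw [h, D.invB (D.comm_mem x hx r hr)]

theorem K_cj {x r : G} (hr : r ∈ R) : ρ * (x * r * x⁻¹ * r⁻¹) * ρ⁻¹ =
    (ρ * x * ρ⁻¹) * r * (ρ * x * ρ⁻¹)⁻¹ * r⁻¹ := by
  have h := D.ρR r hr
  calc ρ * (x * r * x⁻¹ * r⁻¹) * ρ⁻¹
      = (ρ * x * ρ⁻¹) * (ρ * r * ρ⁻¹) * (ρ * x * ρ⁻¹)⁻¹ * (ρ * r * ρ⁻¹)⁻¹ := by group
    _ = _ := by rw [h]

theorem K_add {x r s : G} (hx : x ∈ P) (hr : r ∈ R) (hs : s ∈ R) :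
    x * (r * s) * x⁻¹ * (r * s)⁻¹ = (x * r * x⁻¹ * r⁻¹) * (x * s * x⁻¹ * s⁻¹) := by
  have h := D.cent r (D.R_le hr) _ (D.comm_mem x hx s hs)
  calc x * (r * s) * x⁻¹ * (r * s)⁻¹
      = (x * r * x⁻¹ * r⁻¹) * (r * (x * s * x⁻¹ * s⁻¹)) * r⁻¹ := by group
    _ = (x * r * x⁻¹ * r⁻¹) * ((x * s * x⁻¹ * s⁻¹) * r) * r⁻¹ := by rw [h]
    _ = _ := by group

/-- the element `y0 = [x0⁻¹, ρ]` -/
theorem exists_y : ∃ y ∈ P, (∀ r ∈ R, r ≠ 1 → y * r * y⁻¹ * r⁻¹ ≠ 1) ∧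
    y * (ρ * y * ρ⁻¹) * (ρ * (ρ * y * ρ⁻¹) * ρ⁻¹) = 1 := by
  obtain ⟨x, hx, hxE⟩ := D.exists_out
  have hx1 := D.ρP x hx
  refine ⟨x⁻¹ * (ρ * x * ρ⁻¹), P.mul_mem (P.inv_mem hx) hx1, ?_, ?_⟩
  · intro r hr hr1 h
    rw [D.K_mul (P.inv_mem hx) hx1 hr, D.K_inv hx hr, ← D.K_cj hr] at h
    have hK := D.comm_mem x hx r hr
    rw [mul_eq_one_iff_eq_inv, D.invB hK] at h
    have h1 := D.ρfix _ hK h
    apply hxE
    apply D.free x hx r hr hr1
    calc x * r = (x * r * x⁻¹ * r⁻¹) * (r * x) := by group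
      _ = r * x := by rw [h1, one_mul]
  · have h3 := D.ρ3 x hx
    calc x⁻¹ * (ρ * x * ρ⁻¹) * (ρ * (x⁻¹ * (ρ * x * ρ⁻¹)) * ρ⁻¹) *
        (ρ * (ρ * (x⁻¹ * (ρ * x * ρ⁻¹)) * ρ⁻¹) * ρ⁻¹)
        = x⁻¹ * (ρ * (ρ * (ρ * x * ρ⁻¹) * ρ⁻¹) * ρ⁻¹) := by group
      _ = 1 := by rw [h3]; group

theorem sqcomm {x y : G} (hx : x ∈ P) (hy : y ∈ P) : x * y * x⁻¹ * y⁻¹ ∈ B := by
  have h1 := D.sq (x * y) (P.mul_mem hx hy)
  have h2 := D.sq x⁻¹ (P.inv_mem hx)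
  have h3 := D.sq y⁻¹ (P.inv_mem hy)
  have e : x * y * x⁻¹ * y⁻¹ = (x * y) * (x * y) * (y⁻¹ * (x⁻¹ * x⁻¹) * y) * (y⁻¹ * y⁻¹) := by
    group
  have h4 : y⁻¹ * (x⁻¹ * x⁻¹) * y = x⁻¹ * x⁻¹ := by
    rw [D.cent _ (P.inv_mem hy) _ h2]; group
  rw [e, h4]
  exact B.mul_mem (B.mul_mem h1 h2) h3

/-- coordinates with a prescribed `Y e = y`, and a prescribed `Z e = b1` if `y² = 1` -/
theorem frame_of_y {y : G} (hy : y ∈ P) (hyK : ∀ r ∈ R, r ≠ 1 → y * r * y⁻¹ * r⁻¹ ≠ 1)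
    (hy3 : y * (ρ * y * ρ⁻¹) * (ρ * (ρ * y * ρ⁻¹) * ρ⁻¹) = 1)
    {b1 : G} (hb1 : b1 ∈ B) (hb1n : b1 ≠ 1) (hyb : y * y = 1 ∨ y * y = b1) :
    ∃ (ε : F4) (X Y Z : F4 → G), (ε = 0 ∨ ε = F4.e) ∧
    Frame R B P ρ ε X Y Z ∧ Y .e = y ∧ Z .e = b1 := by
  classical
  haveI : Finite B := Nat.finite_of_card_ne_zero (by rw [D.cardB]; norm_num)
  haveI : Finite R := Nat.finite_of_card_ne_zero (by rw [D.cardR]; norm_num)
  haveI : Finite P := Nat.finite_of_card_ne_zero (by rw [D.cardP]; norm_num)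
  set y1 := ρ * y * ρ⁻¹ with hy1d
  set y2 := ρ * y1 * ρ⁻¹ with hy2d
  have m1 : y1 ∈ P := D.ρP y hy
  have m2 : y2 ∈ P := D.ρP y1 m1
  have h3 : ρ * y2 * ρ⁻¹ = y := D.ρ3 y hy
  have hB2 : y2 = (y * y1)⁻¹ := (eq_inv_of_mul_eq_one_right hy3)
  -- the commutator
  have hc01 : y * y1 = y1 * y := by
    have hcB := D.sqcomm hy m1
    have e1 : ρ * (y * y1 * y⁻¹ * y1⁻¹) * ρ⁻¹ = y * y1 * y⁻¹ * y1⁻¹ := by
      have e2 : ρ * (y * y1 * y⁻¹ * y1⁻¹) * ρ⁻¹ = y1 * y2 * y1⁻¹ * y2⁻¹ := by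
        rw [hy2d, hy1d]; group
      have e4 : y1 * y2 * y1⁻¹ * y2⁻¹ = (y1 * y)⁻¹ * (y * y1 * y⁻¹ * y1⁻¹) * (y1 * y) := by
        rw [hB2]; group
      have e5 : (y1 * y)⁻¹ * (y * y1 * y⁻¹ * y1⁻¹) * (y1 * y) = y * y1 * y⁻¹ * y1⁻¹ := by
        rw [D.cent _ (P.inv_mem (P.mul_mem m1 hy)) _ hcB]; group
      rw [e2, e4, e5]
    have h1 := D.ρfix _ hcB e1
    calc y * y1 = (y * y1 * y⁻¹ * y1⁻¹) * (y1 * y) := by group
      _ = y1 * y := by rw [h1, one_mul]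
  have hc12 : y1 * y2 = y2 * y1 := by
    have h : Commute y y1 := hc01
    rw [hB2]
    exact ((Commute.mul_right h.symm (Commute.refl y1)).inv_right).eq
  have hc02 : y * y2 = y2 * y := by
    have h : Commute y y1 := hc01
    rw [hB2]
    exact ((Commute.mul_right (Commute.refl y) h).inv_right).eq
  -- the element b1
  obtain ⟨ε, hε, hsq⟩ : ∃ (ε : F4), (ε = 0 ∨ ε = F4.e) ∧ y * y = four b1 (ρ * b1 * ρ⁻¹) ε := by
    rcases hyb with hs | hs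
    · exact ⟨0, Or.inl rfl, hs⟩
    · exact ⟨F4.e, Or.inr rfl, hs⟩
  obtain ⟨hb2, hBall⟩ := D.frameB hb1 hb1n
  set c1 := ρ * b1 * ρ⁻¹ with hc1d
  have hc1 : c1 ∈ B := D.ρB b1 hb1
  have hbb := D.sqB b1 hb1
  have hcc := D.sqB c1 hc1
  have hbc : b1 * c1 = c1 * b1 := D.cent b1 (D.B_le hb1) c1 hc1
  have hc1n : c1 ≠ 1 := by
    intro h
    apply hb1n
    have : b1 = ρ⁻¹ * 1 * ρ := by rw [← h, hc1d]; group
    simpa using this
  have hbcn : b1 * c1 ≠ 1 := by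
    intro h
    apply hb1n
    apply D.ρfix b1 hb1
    rw [mul_eq_one_iff_eq_inv, D.invB hc1] at h
    exact h.symm
  set Z : F4 → G := four b1 c1 with hZ
  have Z_mem : ∀ c, Z c ∈ B := by
    intro c
    cases c
    · exact B.one_mem
    · exact hb1
    · exact hc1
    · exact B.mul_mem hb1 hc1
  have Z_add : ∀ c c', Z (c + c') = Z c * Z c' := four_add hbb hcc hbc
  have Z_surj : ∀ z ∈ B, ∃ c, Z c = z := by
    intro z hz
    rcases hBall z hz with h | h | h | h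
    · exact ⟨.o, h.symm⟩
    · exact ⟨.e, h.symm⟩
    · exact ⟨.w, h.symm⟩
    · exact ⟨.u, h.symm⟩
  have Z_ker : ∀ c, Z c = 1 → c = 0 := by
    intro c hc
    cases c
    · rfl
    · exact absurd hc hb1n
    · exact absurd hc hc1n
    · exact absurd hc hbcn
  have Z_inj : ∀ c c', Z c = Z c' → c = c' := by
    intro c c' h
    have h1 : Z (c + c') = 1 := by rw [Z_add, h, ← Z_add, F4.add_self]; rfl
    have h2 := Z_ker _ h1
    have : c = c + c' + c' := by rw [add_assoc, F4.add_self, add_zero]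
    rw [this, h2, zero_add]
  have ρZ : ∀ c, ρ * Z c * ρ⁻¹ = Z (F4.w * c) := by
    intro c
    cases c
    · change ρ * 1 * ρ⁻¹ = 1; group
    · rfl
    · exact hb2
    · change ρ * (b1 * c1) * ρ⁻¹ = b1
      rw [D.conj_mul, hb2, ← hc1d, hbc, ← mul_assoc, hcc, one_mul]
  -- the map r ↦ [y, r]
  have hsurj : ∀ c ∈ B, ∃ r ∈ R, y * r * y⁻¹ * r⁻¹ = c := by
    have hinj : Function.Injective (fun r : R => (⟨y * r * y⁻¹ * (r : G)⁻¹,
        D.comm_mem y hy r r.2⟩ : B)) := by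
      rintro ⟨r, hr⟩ ⟨s, hs⟩ h
      have h' : y * r * y⁻¹ * r⁻¹ = y * s * y⁻¹ * s⁻¹ := congrArg Subtype.val h
      have h2 := D.K_add hy hr hs
      rw [h', D.sqB _ (D.comm_mem y hy s hs)] at h2
      by_contra hne
      apply hyK (r * s) (R.mul_mem hr hs) _ h2
      intro h3
      apply hne
      apply Subtype.ext
      change r = s
      rw [mul_eq_one_iff_eq_inv, D.invR hs] at h3
      exact h3
    have hs := hinj.bijective_of_nat_card_le (by rw [D.cardR, D.cardB])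
    intro c hc
    obtain ⟨r, hr⟩ := hs.2 ⟨c, hc⟩
    exact ⟨r, r.2, congrArg Subtype.val hr⟩
  have hK_inj : ∀ r ∈ R, ∀ s ∈ R, y * r * y⁻¹ * r⁻¹ = y * s * y⁻¹ * s⁻¹ → r = s := by
    intro r hr s hs h'
    have h2 := D.K_add hy hr hs
    rw [h', D.sqB _ (D.comm_mem y hy s hs)] at h2
    by_contra hne
    apply hyK (r * s) (R.mul_mem hr hs) _ h2
    intro h3
    apply hne
    rw [mul_eq_one_iff_eq_inv, D.invR hs] at h3
    exact h3
  choose X X_mem hX using fun a : F4 => hsurj (Z a) (Z_mem a)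
  have X_add : ∀ a a', X (a + a') = X a * X a' := by
    intro a a'
    apply hK_inj _ (X_mem _) _ (R.mul_mem (X_mem _) (X_mem _))
    rw [hX, D.K_add hy (X_mem _) (X_mem _), hX, hX, Z_add]
  have X_surj : ∀ r ∈ R, ∃ a, X a = r := by
    intro r hr
    obtain ⟨c, hc⟩ := Z_surj _ (D.comm_mem y hy r hr)
    exact ⟨c, hK_inj _ (X_mem _) _ hr (by rw [hX, hc])⟩
  set Y : F4 → G := quad y y1 y2 with hY
  have Y_mem : ∀ b, Y b ∈ P := by
    intro b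
    cases b
    · exact P.one_mem
    · exact hy
    · exact m1
    · exact m2
  have ρY : ∀ b, ρ * Y b * ρ⁻¹ = Y (F4.w * b) := by
    intro b
    cases b
    · change ρ * 1 * ρ⁻¹ = 1; group
    · rfl
    · rfl
    · exact h3
  -- commutators
  have hXY : ∀ b a, Y b * X a * (Y b)⁻¹ * (X a)⁻¹ = Z (a * b) := by
    intro b a
    have k1 : y1 * X a * y1⁻¹ * (X a)⁻¹ = Z (F4.w * a) := by
      rw [hy1d, ← D.K_cj (X_mem a), hX, ρZ]
    have k2 : y2 * X a * y2⁻¹ * (X a)⁻¹ = Z (F4.w * (F4.w * a)) := by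
      rw [hy2d, ← D.K_cj (X_mem a), k1, ρZ]
    cases b
    · change 1 * X a * 1⁻¹ * (X a)⁻¹ = Z (a * 0)
      rw [mul_zero]
      change _ = (1 : G)
      group
    · change y * X a * y⁻¹ * (X a)⁻¹ = Z (a * 1)
      rw [hX, mul_one]
    · change y1 * X a * y1⁻¹ * (X a)⁻¹ = Z (a * F4.w)
      rw [k1, mul_comm]
    · change y2 * X a * y2⁻¹ * (X a)⁻¹ = Z (a * F4.u)
      rw [k2, ← mul_assoc, mul_comm]
      rfl
  have X_Y : ∀ a b, X a * Y b = Y b * X a * Z (a * b) := by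
    intro a b
    have h := hXY b a
    have hz := Z_mem (a * b)
    have h1 : Y b * X a = Z (a * b) * (X a * Y b) := by
      rw [← h]; group
    have h2 : X a * Y b = (Z (a * b))⁻¹ * (Y b * X a) := by rw [h1]; group
    rw [h2, D.invB hz]
    exact (D.cent _ (P.mul_mem (Y_mem b) (D.R_le (X_mem a))) _ hz).symm
  -- squares
  have s0 : y * y = Z ε := hsq
  have s1 : y1 * y1 = Z (F4.w * ε) := by
    rw [← ρZ, ← s0, D.conj_mul]
  have s2 : y2 * y2 = Z (F4.w * (F4.w * ε)) := by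
    rw [← ρZ, ← s1, D.conj_mul]
  have i0 : y⁻¹ = y * Z ε := by
    rw [inv_eq_iff_mul_eq_one, ← mul_assoc, s0, ← Z_add, F4.add_self]; rfl
  have i1 : y1⁻¹ = y1 * Z (F4.w * ε) := by
    rw [inv_eq_iff_mul_eq_one, ← mul_assoc, s1, ← Z_add, F4.add_self]; rfl
  have i2 : y2⁻¹ = y2 * Z (F4.w * (F4.w * ε)) := by
    rw [inv_eq_iff_mul_eq_one, ← mul_assoc, s2, ← Z_add, F4.add_self]; rfl
  have p01 : y * y1 = y2⁻¹ := by rw [hB2, inv_inv]
  have p12 : y1 * y2 = y⁻¹ := by rw [hB2]; group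
  have p02 : y * y2 = y1⁻¹ := by rw [hB2, hc01]; group
  have Y_mul : ∀ b b', Y b * Y b' = Y (b + b') * Z (ε * F4.fr (b * b')) := by
    have z0 : Z 0 = 1 := rfl
    intro b b'
    cases b <;> cases b'
    · change 1 * 1 = 1 * Z (ε * 0); rw [mul_zero, z0]
    · change 1 * y = y * Z (ε * 0); rw [mul_zero, z0]; group
    · change 1 * y1 = y1 * Z (ε * 0); rw [mul_zero, z0]; group
    · change 1 * y2 = y2 * Z (ε * 0); rw [mul_zero, z0]; group
    · change y * 1 = y * Z (ε * 0); rw [mul_zero, z0]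
    · change y * y = 1 * Z (ε * 1); rw [mul_one, one_mul, s0]
    · change y * y1 = y2 * Z (ε * F4.u); rw [p01, i2, mul_comm ε, ← mul_assoc]; rfl
    · change y * y2 = y1 * Z (ε * F4.w); rw [p02, i1, mul_comm ε]
    · change y1 * 1 = y1 * Z (ε * 0); rw [mul_zero, z0]
    · change y1 * y = y2 * Z (ε * F4.u); rw [← hc01, p01, i2, mul_comm ε, ← mul_assoc]; rfl
    · change y1 * y1 = 1 * Z (ε * F4.w); rw [one_mul, s1, mul_comm ε]
    · change y1 * y2 = y * Z (ε * 1); rw [mul_one, p12, i0]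
    · change y2 * 1 = y2 * Z (ε * 0); rw [mul_zero, z0]
    · change y2 * y = y1 * Z (ε * F4.w); rw [← hc02, p02, i1, mul_comm ε]
    · change y2 * y1 = y * Z (ε * 1); rw [← hc12, mul_one, p12, i0]
    · change y2 * y2 = 1 * Z (ε * F4.u); rw [one_mul, s2, mul_comm ε, ← mul_assoc]; rfl
  have hinj : ∀ a b c a' b' c', Y b * X a * Z c = Y b' * X a' * Z c' → b = b' ∧ a = a' ∧ c = c' := by
    intro a b c a' b' c' h
    have hE : ∀ a c, ∀ r ∈ R, (X a * Z c) * r * (X a * Z c)⁻¹ * r⁻¹ = 1 := by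
      intro a c r hr
      have h1 := D.commR (X_mem a) hr
      have h2 := D.cent r (D.R_le hr) _ (Z_mem c)
      calc (X a * Z c) * r * (X a * Z c)⁻¹ * r⁻¹ = X a * (Z c * r) * (Z c)⁻¹ * (X a)⁻¹ * r⁻¹ := by
            group
        _ = X a * (r * Z c) * (Z c)⁻¹ * (X a)⁻¹ * r⁻¹ := by rw [h2]
        _ = (X a * r) * (X a)⁻¹ * r⁻¹ := by group
        _ = 1 := by rw [h1]; group
    have hb : ∀ b a c, (Y b * X a * Z c) * X F4.e * (Y b * X a * Z c)⁻¹ * (X F4.e)⁻¹ = Z b := by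
      intro b a c
      rw [mul_assoc (Y b), D.K_mul (Y_mem b) (P.mul_mem (D.R_le (X_mem a)) (D.B_le (Z_mem c)))
        (X_mem _), hE a c _ (X_mem _), one_mul, hXY]
      change Z (1 * b) = _
      rw [one_mul]
    have e1 : b = b' := by
      apply Z_inj
      rw [← hb b a c, ← hb b' a' c', h]
    subst e1
    have h2 : X a * Z c = X a' * Z c' := by
      rw [mul_assoc, mul_assoc] at h
      exact mul_left_cancel h
    have h3 : (X a')⁻¹ * X a = Z c' * (Z c)⁻¹ := by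
      rw [eq_mul_inv_iff_mul_eq, mul_assoc, h2]; group
    have h4 : (X a')⁻¹ * X a = 1 := by
      apply D.inf _ (R.mul_mem (R.inv_mem (X_mem _)) (X_mem _))
      rw [h3]
      exact B.mul_mem (Z_mem _) (B.inv_mem (Z_mem _))
    have h5 : X a = X a' := by
      rw [inv_mul_eq_one] at h4; exact h4.symm
    have h6 : Z c = Z c' := by
      rw [h5] at h2; exact mul_left_cancel h2
    refine ⟨rfl, ?_, Z_inj _ _ h6⟩
    apply Z_inj
    rw [← hX, ← hX, h5]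
  refine ⟨ε, X, Y, Z, hε, ⟨X_mem, Y_mem, Z_mem, X_add, Z_add, Y_mul, X_surj, Z_surj, ?_, hinj, X_Y,
    fun a => D.ρR _ (X_mem a), ρY, ρZ⟩, rfl, rfl⟩
  have hi : Function.Injective (fun p : F4 × F4 × F4 => (⟨Y p.1 * X p.2.1 * Z p.2.2,
      P.mul_mem (P.mul_mem (Y_mem _) (D.R_le (X_mem _))) (D.B_le (Z_mem _))⟩ : P)) := by
    rintro ⟨b, a, c⟩ ⟨b', a', c'⟩ h
    obtain ⟨h1, h2, h3⟩ := hinj _ _ _ _ _ _ (congrArg Subtype.val h)
    exact Prod.ext h1 (Prod.ext h2 h3)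
  have hb := hi.bijective_of_nat_card_le (by
    rw [D.cardP, Nat.card_prod, Nat.card_prod, Nat.card_eq_fintype_card]
    decide)
  intro x hx
  obtain ⟨⟨b, a, c⟩, h⟩ := hb.2 ⟨x, hx⟩
  exact ⟨b, a, c, (congrArg Subtype.val h).symm⟩

theorem exists_frame : ∃ (ε : F4) (X Y Z : F4 → G), (ε = 0 ∨ ε = F4.e) ∧
    Frame R B P ρ ε X Y Z := by
  haveI : Finite B := Nat.finite_of_card_ne_zero (by rw [D.cardB]; norm_num)
  obtain ⟨y, hy, hyK, hy3⟩ := D.exists_y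
  obtain ⟨b1, hb1, hb1n, hyb⟩ : ∃ b1 ∈ B, b1 ≠ 1 ∧ (y * y = 1 ∨ y * y = b1) := by
    by_cases hs : y * y = 1
    · haveI : Nontrivial B := (Finite.one_lt_card_iff_nontrivial).mp (by rw [D.cardB]; norm_num)
      obtain ⟨⟨b, hb⟩, hbn⟩ := exists_ne (1 : B)
      exact ⟨b, hb, fun h => hbn (Subtype.ext h), Or.inl hs⟩
    · exact ⟨y * y, D.sq y hy, hs, Or.inr rfl⟩
  obtain ⟨ε, X, Y, Z, hε, hF, -, -⟩ := D.frame_of_y hy hyK hy3 hb1 hb1n hyb
  exact ⟨ε, X, Y, Z, hε, hF⟩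

end Data

namespace Frame

variable {G : Type*} [Group G] {R B P : Subgroup G} {ρ : G} {ε : F4} {X Y Z : F4 → G}

theorem X_zero (F : Frame R B P ρ ε X Y Z) : X 0 = 1 := by
  have h := F.X_add 0 0
  rw [add_zero] at h
  exact left_eq_mul.mp h

theorem Z_zero (F : Frame R B P ρ ε X Y Z) : Z 0 = 1 := by
  have h := F.Z_add 0 0
  rw [add_zero] at h
  exact left_eq_mul.mp h

theorem Y_zero (F : Frame R B P ρ ε X Y Z) : Y 0 = 1 := by
  have h := F.Y_mul 0 0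
  rw [add_zero, mul_zero] at h
  change Y 0 * Y 0 = Y 0 * Z (ε * 0) at h
  rw [mul_zero, F.Z_zero] at h
  exact mul_left_cancel h

theorem Z_inj (F : Frame R B P ρ ε X Y Z) {c c' : F4} (h : Z c = Z c') : c = c' :=
  (F.inj 0 0 c 0 0 c' (by rw [h])).2.2

theorem X_inj (F : Frame R B P ρ ε X Y Z) {c c' : F4} (h : X c = X c') : c = c' :=
  (F.inj c 0 0 c' 0 0 (by rw [h])).2.1

end Frame

end Cfsg.Agent.StdAlt.Five.Coord
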