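import Mathlib
import Cfsg.Agent.StdAlt.Five.Coord

/-!
# An involution interchanging `E = RB` and `E2` (S1766, n = 5, type Ib, `ε = 0`)
-/

set_option autoImplicit false

namespace Cfsg.Agent.StdAlt.Five.Swap

open Cfsg.Agent.J2Sylow.Model Cfsg.Agent.StdAlt.Five.Coord

/-- additive function with prescribed values at `e`, `w` -/
def addFun (p q : F4) : F4 → F4
  | .o => 0
  | .e => p
  | .w => q
  | .u => p + q

theorem addFun_of {f : F4 → F4} (hf : ∀ a b, f (a + b) = f a + f b) (c : F4) :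
    f c = addFun (f .e) (f .w) c := by
  have h0 : f 0 = 0 := by
    have h := hf 0 0
    rw [add_zero] at h
    exact left_eq_add.mp h
  cases c
  · exact h0
  · rfl
  · rfl
  · change f (F4.e + F4.w) = f F4.e + f F4.w
    exact hf _ _

theorem autotopism_aux : ∀ h1 hw k1 kw f1 fw : F4,
    (∀ a b, addFun h1 hw (a * b) = addFun f1 fw a * addFun k1 kw b) →
    (∀ a, addFun k1 kw (addFun f1 fw a) = a) →
      (∀ c, addFun h1 hw c = c) ∨ (h1 ≠ 0 ∧ (∀ c, addFun h1 hw c = h1 * F4.fr c) ∧
        ∀ c, addFun f1 fw c = h1 * h1 * F4.fr c) := by decide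

theorem autotopism {h k f : F4 → F4} (hh : ∀ a b, h (a + b) = h a + h b)
    (hk : ∀ a b, k (a + b) = k a + k b) (hf : ∀ a b, f (a + b) = f a + f b)
    (h1 : ∀ a b, h (a * b) = f a * k b) (h2 : ∀ a, k (f a) = a) :
    (∀ c, h c = c) ∨ (h .e ≠ 0 ∧ (∀ c, h c = h .e * F4.fr c) ∧
      ∀ c, f c = h .e * h .e * F4.fr c) := by
  have a1 := fun c => addFun_of hh c
  have a2 := fun c => addFun_of hk c
  have a3 := fun c => addFun_of hf c
  have := autotopism_aux (h .e) (h .w) (k .e) (k .w) (f .e) (f .w)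
    (fun a b => by rw [← a1, ← a2, ← a3]; exact h1 a b)
    (fun a => by rw [← a2, ← a3]; exact h2 a)
  rcases this with h | ⟨h, h', h''⟩
  · left; intro c; rw [a1 c]; exact h c
  · right
    refine ⟨h, fun c => ?_, fun c => ?_⟩
    · rw [a1 c]; exact h' c
    · rw [a3 c]; exact h'' c

section swap

variable {G : Type*} [Group G] {R B P : Subgroup G} {ρ : G} {X Y Z : F4 → G}

/-- the involution `τ` interchanges `E` and `E2` -/
structure IsSwap (R B : Subgroup G) (X Y Z : F4 → G) (τ : G) : Prop where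
  sq : τ * τ = 1
  tX : ∀ a, ∃ b c, τ * X a * τ = Y b * Z c
  tY : ∀ b, ∃ a c, τ * Y b * τ = X a * Z c
  tZ : ∀ c, ∃ c', τ * Z c * τ = Z c'

variable (D : Data R B P ρ) (F : Frame R B P ρ 0 X Y Z) {τ : G} (S : IsSwap R B X Y Z τ)
include D F S

omit S in
theorem YY (b b' : F4) : Y b * Y b' = Y (b + b') := by
  rw [F.Y_mul, zero_mul, F.Z_zero, mul_one]

omit F D in
theorem IsSwap.conj_mul (x y : G) : τ * (x * y) * τ = (τ * x * τ) * (τ * y * τ) := by
  calc τ * (x * y) * τ = τ * x * 1 * y * τ := by group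
    _ = _ := by rw [← S.sq]; group

omit F D in
theorem IsSwap.conj_conj (x : G) : τ * (τ * x * τ) * τ = x := by
  calc τ * (τ * x * τ) * τ = (τ * τ) * x * (τ * τ) := by group
    _ = x := by rw [S.sq]; group

omit S in
theorem commZX (c a : F4) : Z c * X a = X a * Z c :=
  (D.cent _ (D.R_le (F.X_mem a)) _ (F.Z_mem c)).symm

omit S in
theorem commZY (c b : F4) : Z c * Y b = Y b * Z c :=
  (D.cent _ (F.Y_mem b) _ (F.Z_mem c)).symm

theorem swap_main : (∀ c, τ * Z c * τ = Z c) ∨ ∃ μ : F4, μ ≠ 0 ∧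
    (∀ c, τ * Z c * τ = Z (μ * F4.fr c)) ∧
    ∀ a, ∃ c, τ * X a * τ = Y (μ * μ * F4.fr a) * Z c := by
  choose f g hfg using S.tX
  choose k l hkl using S.tY
  choose h hh using S.tZ
  have h_add : ∀ a b, h (a + b) = h a + h b := by
    intro a b
    apply F.Z_inj
    rw [F.Z_add, ← hh, ← hh, ← hh, F.Z_add, S.conj_mul]
  have f_add : ∀ a b, f (a + b) = f a + f b := by
    intro a b
    have h1 : Y (f (a + b)) * Z (g (a + b)) = Y (f a + f b) * Z (g a + g b) := by
      rw [← hfg, F.X_add, S.conj_mul, hfg, hfg, F.Z_add, ← YY D F]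
      calc Y (f a) * Z (g a) * (Y (f b) * Z (g b)) = Y (f a) * (Z (g a) * Y (f b)) * Z (g b) := by
            group
        _ = _ := by rw [commZY D F]; group
    have h2 := F.inj 0 (f (a + b)) (g (a + b)) 0 (f a + f b) (g a + g b)
    refine (F.inj 0 (f (a + b)) (g (a + b)) 0 (f a + f b) (g a + g b) ?_).1
    rw [F.X_zero, mul_one, mul_one]
    exact h1
  have k_add : ∀ a b, k (a + b) = k a + k b := by
    intro a b
    have h1 : X (k (a + b)) * Z (l (a + b)) = X (k a + k b) * Z (l a + l b) := by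
      rw [← hkl, ← YY D F, S.conj_mul, hkl, hkl, F.Z_add, F.X_add]
      calc X (k a) * Z (l a) * (X (k b) * Z (l b)) = X (k a) * (Z (l a) * X (k b)) * Z (l b) := by
            group
        _ = _ := by rw [commZX D F]; group
    refine (F.inj (k (a + b)) 0 (l (a + b)) (k a + k b) 0 (l a + l b) ?_).2.1
    rw [F.Y_zero, one_mul, one_mul]
    exact h1
  have hkf : ∀ a, k (f a) = a := by
    intro a
    have h1 : X a = X (k (f a)) * Z (l (f a) + h (g a)) := by
      calc X a = τ * (τ * X a * τ) * τ := (S.conj_conj _).symm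
        _ = _ := by rw [hfg, S.conj_mul, hkl, hh, F.Z_add]; group
    refine (F.inj (k (f a)) 0 (l (f a) + h (g a)) a 0 0 ?_).2.1
    rw [F.Y_zero, F.Z_zero, one_mul, one_mul, mul_one]
    exact h1.symm
  have hmul : ∀ a b, h (a * b) = f a * k b := by
    intro a b
    apply F.Z_inj
    have e1 : Z (a * b) = (X a)⁻¹ * (Y b)⁻¹ * X a * Y b := by
      have := F.X_Y a b
      rw [mul_assoc ((X a)⁻¹ * (Y b)⁻¹), this]; group
    have hXi : ∀ a, (X a)⁻¹ = X a := fun a => D.invR (F.X_mem a)
    have hYi : ∀ b, (Y b)⁻¹ = Y b := by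
      intro b
      rw [inv_eq_iff_mul_eq_one, YY D F, F4.add_self]
      exact F.Y_zero
    have e2 : τ * Z (a * b) * τ = (Y (f a) * Z (g a)) * (X (k b) * Z (l b)) *
        (Y (f a) * Z (g a)) * (X (k b) * Z (l b)) := by
      rw [e1, hXi, hYi, S.conj_mul, S.conj_mul, S.conj_mul, hfg, hkl]
    have e3 : (Y (f a) * Z (g a)) * (X (k b) * Z (l b)) *
        (Y (f a) * Z (g a)) * (X (k b) * Z (l b)) = Y (f a) * X (k b) * (Y (f a) * X (k b)) := by
      have c1 := D.cent _ (P.mul_mem (F.Y_mem (f a)) (D.R_le (F.X_mem (k b)))) _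
        (B.mul_mem (F.Z_mem (g a)) (F.Z_mem (l b)))
      have c2 := D.sqB _ (B.mul_mem (F.Z_mem (g a)) (F.Z_mem (l b)))
      calc (Y (f a) * Z (g a)) * (X (k b) * Z (l b)) *
          (Y (f a) * Z (g a)) * (X (k b) * Z (l b))
          = Y (f a) * (Z (g a) * X (k b)) * Z (l b) *
            (Y (f a) * (Z (g a) * X (k b)) * Z (l b)) := by group
        _ = Y (f a) * X (k b) * (Z (g a) * Z (l b)) * (Y (f a) * X (k b)) *
            (Z (g a) * Z (l b)) := by rw [commZX D F]; group
        _ = Y (f a) * X (k b) * ((Z (g a) * Z (l b)) * (Y (f a) * X (k b))) *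
            (Z (g a) * Z (l b)) := by group
        _ = Y (f a) * X (k b) * (Y (f a) * X (k b)) * ((Z (g a) * Z (l b)) *
            (Z (g a) * Z (l b))) := by rw [← c1]; group
        _ = _ := by rw [c2, mul_one]
    have e4 : Y (f a) * X (k b) * (Y (f a) * X (k b)) = Z (f a * k b) := by
      have := F.X_Y (k b) (f a)
      calc Y (f a) * X (k b) * (Y (f a) * X (k b)) = Y (f a) * (X (k b) * Y (f a)) * X (k b) := by
            group
        _ = (Y (f a) * Y (f a)) * (X (k b) * (Z (k b * f a) * X (k b))) := by rw [this]; group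
        _ = (Y (f a) * Y (f a)) * (X (k b) * X (k b)) * Z (k b * f a) := by
            rw [commZX D F]; group
        _ = Z (f a * k b) := by
            rw [YY D F, F4.add_self, ← F.X_add, F4.add_self]
            change Y 0 * X 0 * _ = _
            rw [F.Y_zero, F.X_zero, one_mul, one_mul, mul_comm]
    rw [← e4, ← e3, ← e2, hh]
  rcases autotopism h_add k_add f_add hmul hkf with h1 | ⟨h1, h2, h3⟩
  · left
    intro c
    rw [hh, h1]
  · right
    refine ⟨h .e, h1, fun c => ?_, fun a => ⟨g a, ?_⟩⟩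
    · rw [hh, h2]
    · rw [hfg, h3]

/-- the semilinear case: the model group of type `J₂` -/
theorem exists_hom (hne : ∃ c, τ * Z c * τ ≠ Z c) : ∃ φ : T →* G, Function.Injective φ ∧
    (∀ x, x ∈ φ.range ↔ x ∈ P ∨ x * τ ∈ P) ∧ φ T.tau = τ ∧
    (∀ a, φ ⟨a, 0, 0, false⟩ = X a) ∧ (∀ x ∈ B, ∃ c, φ ⟨0, 0, c, false⟩ = x) := by
  rcases swap_main D F S with h | ⟨μ, hμ, hZ, hX⟩
  · obtain ⟨c, hc⟩ := hne
    exact absurd (h c) hc
  -- new coordinates
  set Y' : F4 → G := fun b => τ * X (F4.fr b) * τ with hY'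
  set Z' : F4 → G := fun c => Z (μ * μ * c) with hZ'
  have hXe : ∀ b, ∃ c, Y' b = Y (μ * μ * b) * Z c := by
    intro b
    obtain ⟨c, hc⟩ := hX (F4.fr b)
    refine ⟨c, ?_⟩
    rw [F4.fr_fr] at hc
    exact hc
  have Y'_mem : ∀ b, Y' b ∈ P := by
    intro b
    obtain ⟨c, hc⟩ := hXe b
    rw [hc]
    exact P.mul_mem (F.Y_mem _) (D.B_le (F.Z_mem _))
  have Y'_add : ∀ b b', Y' (b + b') = Y' b * Y' b' := by
    intro b b'
    simp only [hY']
    rw [F4.fr_add, F.X_add, S.conj_mul]
  have Z'_add : ∀ b b', Z' (b + b') = Z' b * Z' b' := by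
    intro b b'
    simp only [hZ']
    rw [mul_add, F.Z_add]
  have Z'_mem : ∀ c, Z' c ∈ B := fun c => F.Z_mem _
  have XY' : ∀ a b, X a * Y' b = Y' b * X a * Z' (a * b) := by
    intro a b
    obtain ⟨c, hc⟩ := hXe b
    rw [hc, ← mul_assoc, F.X_Y]
    have h1 := commZX D F c a
    have h2 : a * (μ * μ * b) = μ * μ * (a * b) := by ring
    have h3 : Z (μ * μ * (a * b)) * Z c = Z c * Z (μ * μ * (a * b)) := by
      rw [← F.Z_add, ← F.Z_add, add_comm]
    rw [h2]
    calc Y (μ * μ * b) * X a * Z (μ * μ * (a * b)) * Z c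
        = Y (μ * μ * b) * X a * (Z (μ * μ * (a * b)) * Z c) := by group
      _ = Y (μ * μ * b) * (X a * Z c) * Z (μ * μ * (a * b)) := by rw [h3]; group
      _ = _ := by rw [← h1]; simp only [hZ']; group
  have tX' : ∀ a, τ * X a * τ = Y' (F4.fr a) := by
    intro a
    simp only [hY']
    rw [F4.fr_fr]
  have tY' : ∀ b, τ * Y' b * τ = X (F4.fr b) := by
    intro b
    simp only [hY']
    exact S.conj_conj _
  have tZ' : ∀ c, τ * Z' c * τ = Z' (F4.fr c) := by
    intro c
    simp only [hZ']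
    rw [hZ]
    congr 1
    have : ∀ μ c : F4, μ * F4.fr (μ * μ * c) = μ * μ * F4.fr c := by decide
    exact this μ c
  set U : F4 → F4 → F4 → G := fun b a c => Y' b * X a * Z' c with hU
  have U_mem : ∀ b a c, U b a c ∈ P := fun b a c =>
    P.mul_mem (P.mul_mem (Y'_mem _) (D.R_le (F.X_mem _))) (D.B_le (Z'_mem _))
  have U_mul : ∀ b a c b' a' c', U b a c * U b' a' c' = U (b + b') (a + a') (c + c' + a * b') := by
    intro b a c b' a' c'
    simp only [hU]
    have h1 := D.cent _ (P.mul_mem (Y'_mem b') (D.R_le (F.X_mem a'))) _ (Z'_mem c)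
    have h2 := D.cent _ (D.R_le (F.X_mem a')) _ (Z'_mem (a * b'))
    rw [Y'_add, F.X_add, Z'_add, Z'_add]
    have h3 := D.cent _ (D.B_le (Z'_mem (a * b'))) _ (Z'_mem c)
    have h4 := D.cent _ (D.B_le (Z'_mem (a * b'))) _ (Z'_mem c')
    calc Y' b * X a * Z' c * (Y' b' * X a' * Z' c')
        = Y' b * X a * (Z' c * (Y' b' * X a')) * Z' c' := by group
      _ = Y' b * (X a * Y' b') * X a' * Z' c * Z' c' := by rw [← h1]; group
      _ = Y' b * Y' b' * X a * (Z' (a * b') * X a') * Z' c * Z' c' := by rw [XY']; group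
      _ = Y' b * Y' b' * X a * X a' * (Z' (a * b') * Z' c) * Z' c' := by rw [← h2]; group
      _ = Y' b * Y' b' * X a * X a' * Z' c * (Z' (a * b') * Z' c') := by rw [h3]; group
      _ = _ := by rw [h4]; group
  have τU : ∀ b a c, τ * U b a c = U (F4.fr a) (F4.fr b) (F4.fr c + F4.fr (a * b)) * τ := by
    intro b a c
    have h1 : τ * U b a c * τ = U (F4.fr a) (F4.fr b) (F4.fr c + F4.fr (a * b)) := by
      simp only [hU]
      rw [S.conj_mul, S.conj_mul, tX', tY', tZ', XY', Z'_add, F4.fr_mul, mul_comm (F4.fr b)]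
      have h2 := D.cent _ (D.B_le (Z'_mem (F4.fr a * F4.fr b))) _ (Z'_mem (F4.fr c))
      calc Y' (F4.fr a) * X (F4.fr b) * Z' (F4.fr a * F4.fr b) * Z' (F4.fr c)
          = Y' (F4.fr a) * X (F4.fr b) * (Z' (F4.fr a * F4.fr b) * Z' (F4.fr c)) := by group
        _ = _ := by rw [h2]
    rw [← h1, mul_assoc _ τ τ, S.sq, mul_one]
  have hμ3 : ∀ b, μ * μ * (μ * b) = b := by
    intro b
    have : ∀ μ b : F4, μ ≠ 0 → μ * μ * (μ * b) = b := by decide
    exact this μ b hμ
  have hμ0 : ∀ b, μ * μ * b = 0 → b = 0 := by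
    intro b
    have : ∀ μ b : F4, μ ≠ 0 → μ * μ * b = 0 → b = 0 := by decide
    exact this μ b hμ
  have hτP : τ ∉ P := by
    intro h
    obtain ⟨c, hc⟩ := hne
    apply hc
    rw [D.cent τ h _ (F.Z_mem c), mul_assoc, S.sq, mul_one]
  have Y'0 : Y' 0 = 1 := by
    simp only [hY']
    change τ * X 0 * τ = 1
    rw [F.X_zero, mul_one, S.sq]
  have Z'0 : Z' 0 = 1 := by
    simp only [hZ']
    rw [mul_zero, F.Z_zero]
  let f : T → G := fun x => U x.b x.a x.c * (if x.s then τ else 1)
  have hf : ∀ x y : T, f (x * y) = f x * f y := by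
    rintro ⟨xa, xb, xc, xs⟩ ⟨ya, yb, yc, ys⟩
    cases xs
    · rw [T.mul_false]
      change U (xb + yb) (xa + ya) (xc + yc + xa * yb) * (if ys then τ else 1) =
        U xb xa xc * (if false = true then τ else 1) * (U yb ya yc * (if ys then τ else 1))
      rw [← U_mul]
      simp only [Bool.false_eq_true, if_false, mul_one]
      rw [mul_assoc]
    · rw [T.mul_true]
      change U (xb + F4.fr ya) (xa + F4.fr yb)
          (xc + F4.fr yc + (F4.fr (ya * yb) + xa * F4.fr ya)) * (if !ys then τ else 1) =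
        U xb xa xc * (if true = true then τ else 1) * (U yb ya yc * (if ys then τ else 1))
      have e1 : xc + F4.fr yc + (F4.fr (ya * yb) + xa * F4.fr ya) =
        xc + (F4.fr yc + F4.fr (ya * yb)) + xa * F4.fr ya := by ring
      rw [e1, ← U_mul]
      simp only [if_true]
      have e2 : U xb xa xc * τ * (U yb ya yc * (if ys then τ else 1)) =
          U xb xa xc * (τ * U yb ya yc) * (if ys then τ else 1) := by group
      rw [e2, τU]
      have e3 : (if (!ys) = true then τ else 1) = τ * (if ys = true then τ else 1) := by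
        cases ys
        · simp
        · simp [S.sq]
      rw [e3]
      group
  refine ⟨MonoidHom.mk' f hf, ?_, ?_, ?_, ?_, ?_⟩
  · rw [injective_iff_map_eq_one]
    rintro ⟨a, b, c, s⟩ hx
    change U b a c * (if s then τ else 1) = 1 at hx
    cases s
    · simp only [Bool.false_eq_true, if_false, mul_one] at hx
      obtain ⟨c', hc'⟩ := hXe b
      have h1 : Y (μ * μ * b) * X a * Z (c' + μ * μ * c) = Y 0 * X 0 * Z 0 := by
        rw [F.Y_zero, F.X_zero, F.Z_zero, F.Z_add]
        simp only [hU, hZ', hc'] at hx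
        calc Y (μ * μ * b) * X a * (Z c' * Z (μ * μ * c))
            = Y (μ * μ * b) * (X a * Z c') * Z (μ * μ * c) := by group
          _ = Y (μ * μ * b) * Z c' * X a * Z (μ * μ * c) := by rw [← commZX D F]; group
          _ = 1 * 1 * 1 := by rw [hx]; group
      obtain ⟨hb, ha, -⟩ := F.inj _ _ _ _ _ _ h1
      have hb0 := hμ0 b hb
      subst hb0
      subst ha
      have h2 : Z (μ * μ * c) = Z 0 := by
        simp only [hU, hZ'] at hx
        rw [Y'0, F.X_zero, one_mul, one_mul] at hx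
        rw [hx, F.Z_zero]
      have h3 := hμ0 c (F.Z_inj h2)
      subst h3
      rfl
    · exfalso
      apply hτP
      simp only [if_true] at hx
      have : τ = (U b a c)⁻¹ := eq_inv_of_mul_eq_one_right hx
      rw [this]
      exact P.inv_mem (U_mem _ _ _)
  · intro x
    have hP : ∀ x ∈ P, ∃ a b c, U b a c = x := by
      intro x hx
      obtain ⟨b, a, c, rfl⟩ := F.P_surj x hx
      obtain ⟨c', hc'⟩ := hXe (μ * b)
      rw [hμ3] at hc'
      refine ⟨a, μ * b, μ * (c + c'), ?_⟩
      simp only [hU, hZ']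
      rw [hc', hμ3, F.Z_add]
      have h1 := commZX D F c' a
      have h2 : Z c' * (Z c * Z c') = Z c := by
        rw [← F.Z_add, ← F.Z_add]
        congr 1
        have : c' + (c + c') = c + (c' + c') := by ring
        rw [this, F4.add_self, add_zero]
      calc Y b * Z c' * X a * (Z c * Z c') = Y b * (Z c' * X a) * (Z c * Z c') := by group
        _ = Y b * X a * (Z c' * (Z c * Z c')) := by rw [h1]; group
        _ = _ := by rw [h2]
    constructor
    · rintro ⟨⟨a, b, c, s⟩, rfl⟩
      change U b a c * (if s then τ else 1) ∈ P ∨ U b a c * (if s then τ else 1) * τ ∈ P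
      cases s
      · left
        simp only [Bool.false_eq_true, if_false, mul_one]
        exact U_mem _ _ _
      · right
        simp only [if_true]
        rw [mul_assoc, S.sq, mul_one]
        exact U_mem _ _ _
    · rintro (h | h)
      · obtain ⟨a, b, c, rfl⟩ := hP x h
        refine ⟨⟨a, b, c, false⟩, ?_⟩
        change U b a c * (if false = true then τ else 1) = _
        simp
      · obtain ⟨a, b, c, habc⟩ := hP _ h
        refine ⟨⟨a, b, c, true⟩, ?_⟩
        change U b a c * (if true = true then τ else 1) = _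
        rw [habc]
        simp only [if_true]
        rw [mul_assoc, S.sq, mul_one]
  · change U 0 0 0 * (if true = true then τ else 1) = τ
    simp only [hU, if_true]
    rw [Y'0, F.X_zero, Z'0, one_mul, one_mul, one_mul]
  · intro a
    change U 0 a 0 * (if false = true then τ else 1) = _
    simp only [hU, Bool.false_eq_true, if_false]
    rw [Y'0, Z'0, one_mul, mul_one, mul_one]
  · intro x hx
    obtain ⟨c, rfl⟩ := F.Z_surj x hx
    refine ⟨μ * c, ?_⟩
    change U 0 0 (μ * c) * (if false = true then τ else 1) = _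
    simp only [hU, hZ', Bool.false_eq_true, if_false]
    rw [Y'0, F.X_zero, hμ3, one_mul, one_mul, mul_one]

end swap

end Cfsg.Agent.StdAlt.Five.Swap
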