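import Cfsg.Agent.StdAlt.Five.KillLink
import Cfsg.Agent.StdAlt.Five.Swap
import Cfsg.Agent.J2Sylow.Setup
import Cfsg.Prelude.Def_Spor_J2

/-!
# S1766, `n = 5`, case A4: the Sylow 2-subgroup is of type `J₂` and there are two classes of involutions
-/

set_option autoImplicit false

namespace Cfsg.Agent.StdAlt.Five.Kill

open Subgroup Cfsg.Agent.StdAlt.Conj Cfsg.Agent.J2Sylow.Model Cfsg.Agent.J2Sylow.Model.F4
open Cfsg.Agent.StdAlt.Five Sec4 KillModel

variable {G : Type*} [Group G] [Finite G]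
variable {A R V P : Subgroup G} {ρ w : G} {X Y Z : F4 → G} {S : Sylow 2 G}

/-- the embedding of the model group -/
theorem setup_of (B : Base A R V P ρ 0 X Y Z) (sw : SwapSemi A P X Y Z w S) :
    Nonempty (Cfsg.Agent.J2Sylow.Setup G) := by
  have F := B.frame
  have hne : ∃ c, w * Z c * w ≠ Z c := by
    refine ⟨F4.w, ?_⟩
    rw [sw.conjZ]
    intro h
    have h3 : Y 0 * X 0 * Z (fr F4.w) = Y 0 * X 0 * Z F4.w := by rw [h]
    obtain ⟨-, -, h4⟩ := F.inj _ _ _ _ _ _ h3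
    exact absurd h4 (by decide)
  obtain ⟨φ, hφ, hr, -⟩ := Swap.exists_hom B.data F
    (τ := w) { sq := sw.sq
               tX := fun a => ⟨fr a, 0, by rw [sw.conjX, Z_zero B, mul_one]⟩
               tY := fun b => ⟨fr b, 0, by rw [sw.conjY, Z_zero B, mul_one]⟩
               tZ := fun c => ⟨fr c, sw.conjZ c⟩ } hne
  have hS : φ.range = (S : Subgroup G) := by
    ext x
    rw [hr, sw.mem]
  refine ⟨⟨φ, hφ, ?_⟩⟩
  rw [hS, Nat.odd_iff, ← Nat.two_dvd_ne_zero]
  exact S.not_dvd_index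

omit [Finite G] in
/-- `X 1` and `Z 1` are not conjugate -/
theorem not_one (B : Base A R V P ρ 0 X Y Z) :
    ¬ ∀ x y : G, orderOf x = 2 → orderOf y = 2 → IsConj x y := by
  intro h
  obtain ⟨g0, od⟩ := B.odd
  have F := B.frame
  apply nZ_of B 1
  apply h
  · apply orderOf_eq_prime
    · rw [pow_two]; exact od.sqR _ (F.X_mem 1)
    · intro h1
      have h3 : Y 0 * X 1 * Z 0 = Y 0 * X 0 * Z 0 := by rw [h1, X_zero B]
      obtain ⟨-, h4, -⟩ := F.inj _ _ _ _ _ _ h3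
      exact absurd h4 (by decide)
  · apply orderOf_eq_prime
    · rw [pow_two]; exact od.sqV _ (F.Z_mem 1)
    · intro h1
      have h3 : Y 0 * X 0 * Z 1 = Y 0 * X 0 * Z 0 := by rw [h1, Z_zero B]
      obtain ⟨-, -, h4⟩ := F.inj _ _ _ _ _ _ h3
      exact absurd h4 (by decide)

/-- **A4**, from the recognition theorem of `J₂` by a Sylow 2-subgroup -/
theorem a4 (B : Base A R V P ρ 0 X Y Z) (sw : SwapSemi A P X Y Z w S)
    (hJ : Cfsg.Agent.J2Sylow.Setup G → (¬ ∀ x y : G, orderOf x = 2 → orderOf y = 2 → IsConj x y) →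
      Cfsg.Spor.IsoJ2 G) : Cfsg.Spor.IsoJ2 G := by
  obtain ⟨h⟩ := setup_of B sw
  exact hJ h (not_one B)

end Cfsg.Agent.StdAlt.Five.Kill
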