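import Cfsg.Agent.StdAlt.Five.KillFacts

/-!
# Facts about the group `L` of order 256, by computation
-/

set_option autoImplicit false

namespace Cfsg.Agent.StdAlt.Five.KillModel

open Cfsg.Agent.J2Sylow.Model Cfsg.Agent.J2Sylow.Model.F4

namespace L

/-- listing -/
def equivProd : L ≃ K × Bool where
  toFun x := (x.k, x.j)
  invFun y := ⟨y.1, y.2⟩
  left_inv _ := rfl
  right_inv _ := rfl

instance : Fintype L := Fintype.ofEquiv _ equivProd.symm

/-- the field automorphism -/
def s : L := ⟨1, true⟩

/-- the product of the swap and the field automorphism -/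
def v : L := ⟨K.W, true⟩

/-- `Z 1` -/
def z : L := ⟨⟨0, 0, 1, false⟩, false⟩

/-- an element of order 8 -/
def y8 : L := ⟨⟨1, 0, 0, true⟩, false⟩

/-- `V` -/
def IsV (x : L) : Bool := K.IsV x.k && !x.j

/-- `E⟨s⟩` -/
def IsE (x : L) : Bool := decide (x.k.b = 0) && !x.k.i

theorem y8_s : y8 * s = s * y8 := by decide

theorem y8_pow : y8 * y8 * (y8 * y8) ≠ 1 := by decide

theorem E_pow : ∀ x : L, IsE x = true → x * x * (x * x) = 1 := by decide +kernel

theorem z_central : ∀ x : L, x * z = z * x := by decide +kernel

/-- the centralizer of `t` -/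
def cS (t : L) : Finset L := Finset.univ.filter (fun x : L => x * t = t * x)

/-- the centralizer of `t` in `E⟨s⟩` -/
def eS (t : L) : Finset L := Finset.univ.filter (fun x : L => IsE x = true ∧ x * t = t * x)

/-- the solutions of `x² = 1` in the centralizer of `t` -/
def iS (t : L) : Finset L := Finset.univ.filter (fun x : L => x * t = t * x ∧ x * x = 1)

theorem mem_cS {t x : L} : x ∈ cS t ↔ x * t = t * x := by simp [cS]

theorem mem_eS {t x : L} : x ∈ eS t ↔ IsE x = true ∧ x * t = t * x := by simp [eS]

theorem mem_iS {t x : L} : x ∈ iS t ↔ x * t = t * x ∧ x * x = 1 := by simp [iS]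

set_option maxRecDepth 100000 in
theorem card_ge : ∀ t : L, t * t = 1 → 16 ≤ (cS t).card := by
  decide +kernel

set_option maxRecDepth 100000 in
theorem card_le : ∀ t : L, t * t = 1 → IsV t = false → (cS t).card ≤ 32 := by
  decide +kernel

set_option maxRecDepth 100000 in
theorem card_E : ∀ t : L, IsE t = true → t.j = true → (eS t).card ≤ 8 := by
  decide +kernel

theorem conj_v : ∀ t : L, t * t = 1 → t.k.i = true → t.j = true → ∃ a b c : F4,
    (⟨⟨a, b, c, false⟩, false⟩ : L) * t * (⟨⟨a, b, c, false⟩, false⟩ : L)⁻¹ = v := by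
  decide +kernel

theorem card_s : (iS s).card = 20 := by
  decide +kernel

theorem card_v : (iS v).card = 12 := by
  decide +kernel

theorem card_v' : (cS v).card = 32 := by
  decide +kernel

attribute [irreducible] cS eS iS

end L

end Cfsg.Agent.StdAlt.Five.KillModel
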