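import Mathlib

/-!
# Conjugation into Sylow subgroups, elementwise
-/

set_option autoImplicit false

namespace Cfsg.Agent.StdAlt.Five.Kill

variable {G : Type*} [Group G]

/-- a 2-subgroup that is maximal among the 2-subgroups of `D` is a Sylow 2-subgroup of `D` -/
theorem conj_into_max [Finite G] {D R Q : Subgroup G} (hRD : R ≤ D) (hR : IsPGroup 2 R)
    (hmax : ∀ R' : Subgroup G, R' ≤ D → IsPGroup 2 R' → R ≤ R' → R' ≤ R)
    (hQ : IsPGroup 2 Q) (hQD : Q ≤ D) : ∃ d ∈ D, ∀ q ∈ Q, d * q * d⁻¹ ∈ R := by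
  have hQ' : IsPGroup 2 (Q.subgroupOf D) :=
    hQ.comap_of_injective D.subtype (Subgroup.subtype_injective D)
  have hR' : IsPGroup 2 (R.subgroupOf D) :=
    hR.comap_of_injective D.subtype (Subgroup.subtype_injective D)
  obtain ⟨P, hP⟩ := hQ'.exists_le_sylow
  obtain ⟨T, hT⟩ := hR'.exists_le_sylow
  have hTR : (T : Subgroup D).map D.subtype ≤ R := by
    apply hmax
    · rintro _ ⟨x, -, rfl⟩; exact x.2
    · exact T.2.map _
    · intro r hr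
      exact ⟨⟨r, hRD hr⟩, hT (Subgroup.mem_subgroupOf.mpr hr), rfl⟩
  obtain ⟨g, hg⟩ := MulAction.exists_smul_eq D P T
  refine ⟨g, g.2, fun q hq => ?_⟩
  have h1 : (⟨q, hQD hq⟩ : D) ∈ (P : Subgroup D) := hP (Subgroup.mem_subgroupOf.mpr hq)
  have h2 : g * ⟨q, hQD hq⟩ * g⁻¹ ∈ ((g • P : Sylow 2 D) : Subgroup D) := by
    rw [Sylow.coe_subgroup_smul, ← MulAut.conj_apply]
    exact Subgroup.smul_mem_pointwise_smul _ _ _ h1
  rw [hg] at h2
  exact hTR ⟨_, h2, rfl⟩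

/-- conjugation into a Sylow subgroup -/
theorem conj_into [Finite G] (S : Sylow 2 G) {H Q : Subgroup G} (hSH : (S : Subgroup G) ≤ H)
    (hQ : IsPGroup 2 Q) (hQH : Q ≤ H) : ∃ h ∈ H, ∀ q ∈ Q, h * q * h⁻¹ ∈ (S : Subgroup G) := by
  apply conj_into_max hSH S.2 _ hQ hQH
  intro R' _ hR' hSR
  exact (S.3 hR' hSR).le

/-- the elements of `N(V)` commuting with `t` modulo `V` -/
def modCent (V : Subgroup G) (t : G) : Subgroup G where
  carrier := {d | d ∈ Subgroup.normalizer (V : Set G) ∧ d * t * d⁻¹ * t⁻¹ ∈ V}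
  one_mem' := ⟨Subgroup.one_mem _, by
    have : (1 : G) * t * 1⁻¹ * t⁻¹ = 1 := by group
    rw [this]; exact V.one_mem⟩
  mul_mem' := by
    rintro d e ⟨h1, h2⟩ ⟨h3, h4⟩
    refine ⟨Subgroup.mul_mem _ h1 h3, ?_⟩
    have : d * e * t * (d * e)⁻¹ * t⁻¹ = (d * (e * t * e⁻¹ * t⁻¹) * d⁻¹) * (d * t * d⁻¹ * t⁻¹) := by
      group
    rw [this]
    exact V.mul_mem ((Subgroup.mem_normalizer_iff.mp h1 _).mp h4) h2
  inv_mem' := by
    rintro d ⟨h1, h2⟩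
    refine ⟨Subgroup.inv_mem _ h1, ?_⟩
    have : d⁻¹ * t * d⁻¹⁻¹ * t⁻¹ = d⁻¹ * (d * t * d⁻¹ * t⁻¹)⁻¹ * d⁻¹⁻¹ := by
      group
    rw [this]
    exact (Subgroup.mem_normalizer_iff.mp (Subgroup.inv_mem _ h1) _).mp (V.inv_mem h2)

theorem mem_modCent {V : Subgroup G} {t d : G} : d ∈ modCent V t ↔
    d ∈ Subgroup.normalizer (V : Set G) ∧ d * t * d⁻¹ * t⁻¹ ∈ V := Iff.rfl

end Cfsg.Agent.StdAlt.Five.Kill
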