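import Cfsg.Agent.StdAlt.Five.KillLift
import Cfsg.Agent.StdAlt.Five.KillFactsL
import Cfsg.Agent.StdAlt.Five.KillTools
import Cfsg.Agent.S0111

/-!
# S1766, `n = 5`, kill A5: the Sylow 2-subgroup `UT₃(4) : ⟨w, s⟩` of order 256
-/

set_option autoImplicit false

namespace Cfsg.Agent.StdAlt.Five.Kill

open Cfsg.Agent.J2Sylow.Model Cfsg.Agent.J2Sylow.Model.F4 KillModel

variable {G : Type*} [Group G]

theorem card_L : Nat.card L = 256 := by
  rw [Nat.card_eq_fintype_card]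
  decide +kernel

theorem pgroup_L : IsPGroup 2 L := IsPGroup.of_card (n := 8) (by rw [card_L]; norm_num)

/-- the centralizer of an element of `L` -/
def CL (t : L) : Subgroup L := Subgroup.centralizer {t}

theorem mem_CL {t x : L} : x ∈ CL t ↔ x * t = t * x := by
  rw [CL, Subgroup.mem_centralizer_singleton_iff]

theorem card_CL (t : L) : Nat.card (CL t) = (L.cS t).card := by
  rw [Nat.card_congr (show CL t ≃ {x : L // x ∈ L.cS t} from
    Equiv.subtypeEquivRight (fun _ => mem_CL.trans L.mem_cS.symm)), Nat.card_eq_fintype_card,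
    Fintype.card_coe]

theorem card_coe' (t : Finset L) : Nat.card {x // x ∈ t} = t.card := by
  rw [Nat.card_eq_fintype_card, Fintype.card_coe]

/-- the subgroup `P₁⟨v⟩` -/
def QL : Subgroup L where
  carrier := {x | x.k.i = x.j}
  one_mem' := rfl
  mul_mem' := by
    rintro ⟨⟨a, b, c, i⟩, j⟩ ⟨⟨a', b', c', i'⟩, j'⟩ (hx : i = j) (hy : i' = j')
    subst hx hy
    cases i <;> cases i' <;> rfl
  inv_mem' := by
    rintro ⟨⟨a, b, c, i⟩, j⟩ (hx : i = j)
    subst hx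
    cases i <;> rfl

theorem card_QL : Nat.card QL = 128 := by
  rw [Nat.card_congr (show QL ≃ {x : L // x.k.i = x.j} from Equiv.subtypeEquivRight (fun _ => Iff.rfl)),
    Nat.card_eq_fintype_card, Fintype.card_subtype]
  decide +kernel

theorem isV_eq : ∀ x : L, L.IsV x = true → x = ⟨⟨0, 0, x.k.c, false⟩, false⟩ := by
  decide +kernel

/-- the hypotheses of A5 -/
structure HypA5 [Finite G] (S : Sylow 2 G) (X Y Z : F4 → G) (W s : G) : Prop where
  lin : LinS X Y Z W s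
  mem : ∀ g, g ∈ (S : Subgroup G) ↔ ∃ x, lin.hom2 x = g
  cX : ∀ a c, a ≠ 0 → IsConj (X 1) (X a * Z c)
  cZ : ∀ c, c ≠ 0 → IsConj (Z 1) (Z c)
  cent : ∀ Q : Subgroup G, IsPGroup 2 Q → (∀ q ∈ Q, q * X 1 = X 1 * q) →
    ∃ k : G, k * X 1 = X 1 * k ∧ ∀ q ∈ Q, ∃ a c, ∃ j : Bool,
      k * q * k⁻¹ = X a * Z c * (if j then s else 1)
  out : ∀ k : G, k * X 1 = X 1 * k → ∀ a c, k * s * k⁻¹ ≠ X a * Z c

namespace HypA5

variable [Finite G] {S : Sylow 2 G} {X Y Z : F4 → G} {W s : G}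

theorem S_mem (h : HypA5 S X Y Z W s) (x : L) : h.lin.hom2 x ∈ (S : Subgroup G) :=
  (h.mem _).mpr ⟨x, rfl⟩

theorem S_ex (h : HypA5 S X Y Z W s) {g : G} (hg : g ∈ (S : Subgroup G)) : ∃ x, h.lin.hom2 x = g :=
  (h.mem _).mp hg

theorem hX (h : HypA5 S X Y Z W s) (a : F4) : h.lin.hom2 ⟨⟨a, 0, 0, false⟩, false⟩ = X a := by
  rw [h.lin.hom2_k, h.lin.hom_X]

theorem hZ (h : HypA5 S X Y Z W s) (a : F4) : h.lin.hom2 ⟨⟨0, 0, a, false⟩, false⟩ = Z a := by
  rw [h.lin.hom2_k, h.lin.hom_Z]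

theorem hs (h : HypA5 S X Y Z W s) : h.lin.hom2 L.s = s := h.lin.hom2_s

theorem hXZ (h : HypA5 S X Y Z W s) (a c : F4) (j : Bool) :
    h.lin.hom2 ⟨⟨a, 0, c, false⟩, j⟩ = X a * Z c * (if j then s else 1) := by
  rw [h.lin.hom2_apply, Lin.hom_apply]
  simp [h.lin.Y0]

theorem sq_lift (h : HypA5 S X Y Z W s) {ξ : L} :
    h.lin.hom2 ξ * h.lin.hom2 ξ = 1 ↔ ξ * ξ = 1 := by
  rw [← map_mul]
  constructor
  · intro hx; apply h.lin.hom2_inj; rw [hx, map_one]
  · intro hx; rw [hx, map_one]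

/-- a 2-group commuting with `X 1` is conjugate to a subgroup of `E⟨s⟩` -/
theorem cent' (h : HypA5 S X Y Z W s) (Q : Subgroup G) (hQ : IsPGroup 2 Q)
    (hQX : ∀ q ∈ Q, q * X 1 = X 1 * q) : ∃ k : G, k * X 1 = X 1 * k ∧ ∀ q ∈ Q, ∃ x : L,
      L.IsE x = true ∧ h.lin.hom2 x = k * q * k⁻¹ := by
  obtain ⟨k, hk, hkQ⟩ := h.cent Q hQ hQX
  refine ⟨k, hk, fun q hq => ?_⟩
  obtain ⟨a, c, j, e⟩ := hkQ q hq
  exact ⟨⟨⟨a, 0, c, false⟩, j⟩, rfl, by rw [h.hXZ, e]⟩

/-- `s` is not conjugate to `X 1` -/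
theorem s_nX (h : HypA5 S X Y Z W s) : ¬ IsConj (X 1) s := by
  intro hc
  have hc' := hc.symm
  rw [isConj_iff] at hc'
  obtain ⟨g, hg⟩ := hc'
  set y := h.lin.hom2 L.y8 with hy
  have hys : y * s = s * y := by
    have h1 := congrArg h.lin.hom2 L.y8_s
    rwa [map_mul, map_mul, h.hs] at h1
  have hgy : IsPGroup 2 (Subgroup.zpowers (g * y * g⁻¹)) := by
    obtain ⟨k, hk⟩ := pgroup_L L.y8
    have hk' : y ^ 2 ^ k = 1 := by rw [hy, ← map_pow, hk, map_one]
    have hk2 : (g * y * g⁻¹) ^ 2 ^ k = 1 := by rw [conj_pow, hk']; group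
    rintro ⟨z, hz⟩
    obtain ⟨i, rfl⟩ := Subgroup.mem_zpowers_iff.mp hz
    refine ⟨k, ?_⟩
    apply Subtype.ext
    change ((g * y * g⁻¹) ^ i) ^ 2 ^ k = 1
    rw [← zpow_natCast, ← zpow_mul, mul_comm, zpow_mul, zpow_natCast, hk2, one_zpow]
  obtain ⟨k, -, hkQ⟩ := h.cent' _ hgy (by
    intro q hq
    have hle : Subgroup.zpowers (g * y * g⁻¹) ≤ Subgroup.centralizer {X 1} := by
      rw [Subgroup.zpowers_le, Subgroup.mem_centralizer_singleton_iff, ← hg]
      calc g * y * g⁻¹ * (g * s * g⁻¹) = g * (y * s) * g⁻¹ := by group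
        _ = g * (s * y) * g⁻¹ := by rw [hys]
        _ = _ := by group
    exact Subgroup.mem_centralizer_singleton_iff.mp (hle hq))
  obtain ⟨x, hx, hx2⟩ := hkQ _ (Subgroup.mem_zpowers _)
  have h1 := congrArg h.lin.hom2 (L.E_pow x hx)
  rw [map_mul, map_mul, hx2, map_one] at h1
  apply L.y8_pow
  apply h.lin.hom2_inj
  rw [map_mul, map_mul, map_one, ← hy]
  have h2 : y * y * (y * y) = (k * g)⁻¹ * (k * (g * y * g⁻¹) * k⁻¹ * (k * (g * y * g⁻¹) * k⁻¹) *
      (k * (g * y * g⁻¹) * k⁻¹ * (k * (g * y * g⁻¹) * k⁻¹))) * (k * g) := by group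
  rw [h2, h1]; group

/-- `s` is not conjugate to an element of `Z` -/
theorem s_nZ (h : HypA5 S X Y Z W s) {c : F4} : ¬ IsConj s (Z c) := by
  intro hc
  have hs1 : s ≠ 1 := by
    intro h1
    have h2 : L.s = 1 := h.lin.hom2_inj (h.hs.trans (h1.trans (map_one _).symm))
    exact absurd h2 (by decide)
  have hc0 : c ≠ 0 := by
    rintro rfl
    rw [h.lin.Z0, isConj_one_left] at hc
    exact hs1 hc
  have hc1 : IsConj s (Z 1) := hc.trans (h.cZ c hc0).symm
  rw [isConj_iff] at hc1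
  obtain ⟨g, hg⟩ := hc1
  have hXs : X 1 * s = s * X 1 := by rw [h.lin.sX]; rfl
  have hX2 : X 1 * X 1 = 1 := by rw [h.lin.XX, F4.add_self, h.lin.X0]
  have hX1 : X 1 ≠ 1 := by
    intro h1
    rw [← h.hX] at h1
    have h2 : (⟨⟨1, 0, 0, false⟩, false⟩ : L) = 1 := h.lin.hom2_inj (h1.trans (map_one _).symm)
    exact absurd h2 (by decide)
  have hSZ : ∀ x : L, h.lin.hom2 x * Z 1 = Z 1 * h.lin.hom2 x := by
    intro x
    have h1 := congrArg h.lin.hom2 (L.z_central x)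
    rw [map_mul, map_mul] at h1
    change h.lin.hom2 x * h.lin.hom2 ⟨⟨0, 0, 1, false⟩, false⟩ =
      h.lin.hom2 ⟨⟨0, 0, 1, false⟩, false⟩ * h.lin.hom2 x at h1
    rwa [h.hZ] at h1
  -- move `g X1 g⁻¹` into `S`
  have hgp : IsPGroup 2 (Subgroup.zpowers (g * X 1 * g⁻¹)) := by
    have hk2 : (g * X 1 * g⁻¹) ^ 2 ^ 1 = 1 := by
      rw [pow_one, pow_two]
      calc g * X 1 * g⁻¹ * (g * X 1 * g⁻¹) = g * (X 1 * X 1) * g⁻¹ := by group
        _ = 1 := by rw [hX2]; group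
    rintro ⟨z, hz⟩
    obtain ⟨i, rfl⟩ := Subgroup.mem_zpowers_iff.mp hz
    refine ⟨1, ?_⟩
    apply Subtype.ext
    change ((g * X 1 * g⁻¹) ^ i) ^ 2 ^ 1 = 1
    rw [← zpow_natCast, ← zpow_mul, mul_comm, zpow_mul, zpow_natCast, hk2, one_zpow]
  obtain ⟨k, hk, hkS⟩ := conj_into S (H := Subgroup.centralizer {Z 1}) (by
      intro t ht
      obtain ⟨x, rfl⟩ := h.S_ex ht
      rw [Subgroup.mem_centralizer_singleton_iff]
      exact hSZ x) hgp (by
      rw [Subgroup.zpowers_le, Subgroup.mem_centralizer_singleton_iff, ← hg]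
      calc g * X 1 * g⁻¹ * (g * s * g⁻¹) = g * (X 1 * s) * g⁻¹ := by group
        _ = g * (s * X 1) * g⁻¹ := by rw [hXs]
        _ = _ := by group)
  rw [Subgroup.mem_centralizer_singleton_iff] at hk
  set g1 := k * g with hg1
  have hg1s : g1 * s * g1⁻¹ = Z 1 := by
    calc g1 * s * g1⁻¹ = k * (g * s * g⁻¹) * k⁻¹ := by rw [hg1]; group
      _ = Z 1 := by rw [hg, hk]; group
  obtain ⟨τ, hτ⟩ := h.S_ex (hkS _ (Subgroup.mem_zpowers _))
  have hτ' : h.lin.hom2 τ = g1 * X 1 * g1⁻¹ := by rw [hτ, hg1]; group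
  have hττ : τ * τ = 1 := by
    rw [← h.sq_lift, hτ']
    calc g1 * X 1 * g1⁻¹ * (g1 * X 1 * g1⁻¹) = g1 * (X 1 * X 1) * g1⁻¹ := by group
      _ = 1 := by rw [hX2]; group
  set Q : Subgroup G := (CL τ).map ((MulAut.conj g1⁻¹).toMonoidHom.comp h.lin.hom2) with hQ
  have hQmem : ∀ q, q ∈ Q ↔ ∃ x ∈ CL τ, g1⁻¹ * h.lin.hom2 x * g1⁻¹⁻¹ = q := fun q => Iff.rfl
  have hQp : IsPGroup 2 Q := (pgroup_L.to_subgroup _).map _
  obtain ⟨k', hk', hkQ'⟩ := h.cent' Q hQp (by
    intro q hq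
    obtain ⟨x, hx, rfl⟩ := (hQmem q).mp hq
    have h1 := congrArg h.lin.hom2 (mem_CL.mp hx)
    rw [map_mul, map_mul, hτ'] at h1
    calc g1⁻¹ * h.lin.hom2 x * g1⁻¹⁻¹ * X 1 = g1⁻¹ * (h.lin.hom2 x * (g1 * X 1 * g1⁻¹)) * g1 := by
          group
      _ = g1⁻¹ * ((g1 * X 1 * g1⁻¹) * h.lin.hom2 x) * g1 := by rw [h1]
      _ = _ := by group)
  have hsQ : s ∈ Q := by
    rw [hQmem]
    refine ⟨⟨⟨0, 0, 1, false⟩, false⟩, ?_, ?_⟩
    · rw [mem_CL]; exact (L.z_central τ).symm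
    · rw [h.hZ, ← hg1s]; group
  obtain ⟨e, he, he2⟩ := hkQ' s hsQ
  have hej : e.j = true := by
    by_contra hne
    have h1 : e.j = false := by simpa using hne
    obtain ⟨⟨a, b, c', i⟩, j⟩ := e
    change j = false at h1
    subst h1
    have h2 : decide (b = 0) && !i := he
    rw [Bool.and_eq_true, decide_eq_true_eq, Bool.not_eq_true'] at h2
    obtain ⟨rfl, rfl⟩ := h2
    rw [h.hXZ] at he2
    apply h.out k' hk' a c'
    rw [← he2]; simp
  have hQs : ∀ q ∈ Q, q * s = s * q := by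
    intro q hq
    obtain ⟨x, hx, rfl⟩ := (hQmem q).mp hq
    have h1 := hSZ x
    rw [← hg1s] at h1
    calc g1⁻¹ * h.lin.hom2 x * g1⁻¹⁻¹ * s = g1⁻¹ * (h.lin.hom2 x * (g1 * s * g1⁻¹)) * g1 := by
          group
      _ = g1⁻¹ * ((g1 * s * g1⁻¹) * h.lin.hom2 x) * g1 := by rw [h1]
      _ = _ := by group
  have hQ16 : 16 ≤ Nat.card Q := by
    rw [hQ, Subgroup.card_map_of_injective, card_CL]
    · exact L.card_ge τ hττ
    · exact (MulAut.conj g1⁻¹).injective.comp h.lin.hom2_inj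
  choose f hfE hf using fun q : Q => hkQ' q q.2
  have hfm : ∀ q, f q ∈ L.eS e := by
    intro q
    rw [L.mem_eS]
    refine ⟨hfE q, ?_⟩
    apply h.lin.hom2_inj
    rw [map_mul, map_mul, hf, he2]
    have h1 := hQs q q.2
    calc k' * q * k'⁻¹ * (k' * s * k'⁻¹) = k' * (q * s) * k'⁻¹ := by group
      _ = k' * (s * q) * k'⁻¹ := by rw [h1]
      _ = _ := by group
  have hinj : Function.Injective (fun q : Q => (⟨f q, hfm q⟩ :
      {x // x ∈ L.eS e})) := by
    intro r r' hrr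
    have h1 : f r = f r' := congrArg Subtype.val hrr
    have h2 : k' * (r : G) * k'⁻¹ = k' * (r' : G) * k'⁻¹ := by rw [← hf, ← hf, h1]
    apply Subtype.ext
    exact mul_left_cancel (mul_right_cancel h2)
  have hle := Nat.card_le_card_of_injective _ hinj
  rw [card_coe'] at hle
  have := L.card_E e he hej
  omega

theorem Y_conj (h : HypA5 S X Y Z W s) (b c : F4) (hb : b ≠ 0) : IsConj (X 1) (Y b * Z c) := by
  refine (h.cX b c hb).trans ?_
  rw [isConj_iff]
  refine ⟨W, ?_⟩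
  have h1 : W * (X b * Z c) = Y b * Z c * W := by
    rw [← mul_assoc, h.lin.WX, mul_assoc, h.lin.WZ, mul_assoc]
  rw [h1]; group

theorem S_eq (h : HypA5 S X Y Z W s) : (S : Subgroup G) = (⊤ : Subgroup L).map h.lin.hom2 := by
  ext g
  rw [h.mem]
  constructor
  · rintro ⟨x, hx⟩; exact ⟨x, trivial, hx⟩
  · rintro ⟨x, -, hx⟩; exact ⟨x, hx⟩

/-- `s` is conjugate to `v` -/
theorem s_v (h : HypA5 S X Y Z W s) (hidx : ∀ M : Subgroup G, M.Normal → M.index ≠ 2) :
    IsConj s (h.lin.hom2 L.v) := by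
  have hindex : QL.index = 2 := by
    have h1 := QL.card_mul_index
    rw [card_QL, card_L] at h1
    omega
  have hne : s ≠ 1 := by
    intro h1
    have h2 : L.s = 1 := h.lin.hom2_inj (h.hs.trans (h1.trans (map_one _).symm))
    exact absurd h2 (by decide)
  have hord : orderOf s = 2 := by
    rw [orderOf_eq_prime_iff]
    exact ⟨by rw [pow_two, h.lin.ss], hne⟩
  rcases Cfsg.Agent.S0111.result S (QL.map h.lin.hom2) (by
      rintro _ ⟨x, -, rfl⟩; exact h.S_mem x) (by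
      rw [h.S_eq, Subgroup.relIndex_map_map_of_injective _ _ h.lin.hom2_inj,
        Subgroup.relIndex_top_right, hindex]) s hord (by rw [← h.hs]; exact h.S_mem _) (by
      rintro ⟨x, hx, hx2⟩
      have h3 := h.lin.hom2_inj (hx2.trans h.hs.symm)
      rw [h3] at hx
      exact absurd (show (L.s).k.i = (L.s).j from hx) (by decide)) with
    ⟨M, hM, hM2, -⟩ | ⟨g, ξ, hξ, hξ2⟩
  · exact absurd hM2 (hidx M hM)
  · have h2 : ξ * ξ = 1 := by
      rw [← h.sq_lift, hξ2]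
      calc g * s * g⁻¹ * (g * s * g⁻¹) = g * (s * s) * g⁻¹ := by group
        _ = 1 := by rw [h.lin.ss]; group
    have hc : IsConj s (h.lin.hom2 ξ) := by
      rw [isConj_iff]; exact ⟨g, hξ2.symm⟩
    obtain ⟨⟨a, b, c, i⟩, j⟩ := ξ
    change i = j at hξ
    subst hξ
    cases i
    · exfalso
      have h3 := congrArg (fun x : L => x.k) h2
      change (⟨a, b, c, false⟩ : K) * ⟨a, b, c, false⟩ = 1 at h3
      rw [K.sq_false] at h3
      have h4 : a * b = 0 := congrArg K.c h3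
      have h5 : ∀ a b : F4, a * b = 0 → a = 0 ∨ b = 0 := by decide
      rw [h.lin.hom2_k, Lin.hom_apply] at hc
      simp only [Bool.false_eq_true, if_false, mul_one] at hc
      by_cases ha : a = 0
      · rw [ha, h.lin.X0, one_mul] at hc
        by_cases hb : b = 0
        · rw [hb, h.lin.Y0, one_mul] at hc
          exact h.s_nZ hc
        · exact h.s_nX ((h.Y_conj b c hb).trans hc.symm)
      · have hb : b = 0 := (h5 a b h4).resolve_left ha
        rw [hb, h.lin.Y0, one_mul] at hc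
        exact h.s_nX ((h.cX a c ha).trans hc.symm)
    · obtain ⟨a', b', c', e⟩ := L.conj_v _ h2 rfl rfl
      refine hc.trans ?_
      rw [isConj_iff]
      refine ⟨h.lin.hom2 ⟨⟨a', b', c', false⟩, false⟩, ?_⟩
      rw [← map_inv, ← map_mul, ← map_mul, e]

/-- **Kill A5** -/
theorem kill (h : HypA5 S X Y Z W s) (hidx : ∀ M : Subgroup G, M.Normal → M.index ≠ 2) : False := by
  have hc := h.s_v hidx
  have hv := hc
  rw [isConj_iff] at hv
  obtain ⟨g, hg⟩ := hv
  set R : Subgroup G := (CL L.v).map h.lin.hom2 with hR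
  set D : Subgroup G := Subgroup.centralizer {h.lin.hom2 L.v} with hD
  have hRD : R ≤ D := by
    rintro _ ⟨x, hx, rfl⟩
    rw [hD, Subgroup.mem_centralizer_singleton_iff, ← map_mul, mem_CL.mp hx, map_mul]
  have hRc : Nat.card R = 32 := by
    rw [hR, Subgroup.card_map_of_injective h.lin.hom2_inj, card_CL, L.card_v']
  obtain ⟨d, hd, hdR⟩ := conj_into_max (Q := (CL L.s).map ((MulAut.conj g).toMonoidHom.comp h.lin.hom2))
    hRD ((pgroup_L.to_subgroup _).map _) (by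
      intro R' hR'D hR'p hRR'
      obtain ⟨n, -, hn⟩ := conj_into S (H := ⊤) le_top hR'p le_top
      have hvR : h.lin.hom2 L.v ∈ R' := hRR' ⟨L.v, by rw [SetLike.mem_coe, mem_CL], rfl⟩
      obtain ⟨τ, hτ⟩ := h.S_ex (hn _ hvR)
      have hττ : τ * τ = 1 := by
        rw [← h.sq_lift, hτ]
        calc n * h.lin.hom2 L.v * n⁻¹ * (n * h.lin.hom2 L.v * n⁻¹) =
            n * (h.lin.hom2 L.v * h.lin.hom2 L.v) * n⁻¹ := by group
          _ = 1 := by rw [h.sq_lift.mpr (show L.v * L.v = 1 by decide)]; group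
      have hτV : L.IsV τ = false := by
        rw [Bool.eq_false_iff]
        intro hV
        have h1 : h.lin.hom2 τ = Z τ.k.c := by rw [isV_eq τ hV, h.hZ]
        apply h.s_nZ (c := τ.k.c)
        refine hc.trans ?_
        rw [isConj_iff, ← h1]
        exact ⟨n, hτ.symm⟩
      have hcard : Nat.card R' ≤ 32 := by
        choose f hf using fun r : R' => h.S_ex (hn _ r.2)
        have hfm : ∀ r, f r ∈ L.cS τ := by
          intro r
          rw [L.mem_cS]
          apply h.lin.hom2_inj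
          rw [map_mul, map_mul, hf, hτ]
          have h1 := Subgroup.mem_centralizer_singleton_iff.mp (hR'D r.2)
          calc n * (r : G) * n⁻¹ * (n * h.lin.hom2 L.v * n⁻¹) =
              n * ((r : G) * h.lin.hom2 L.v) * n⁻¹ := by group
            _ = n * (h.lin.hom2 L.v * r) * n⁻¹ := by rw [h1]
            _ = _ := by group
        have hinj : Function.Injective (fun r : R' => (⟨f r, hfm r⟩ :
            {x // x ∈ L.cS τ})) := by
          intro r r' hrr
          have h1 : f r = f r' := congrArg Subtype.val hrr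
          have h2 : n * (r : G) * n⁻¹ = n * (r' : G) * n⁻¹ := by rw [← hf, ← hf, h1]
          apply Subtype.ext
          exact mul_left_cancel (mul_right_cancel h2)
        have hle := Nat.card_le_card_of_injective _ hinj
        rw [card_coe'] at hle
        exact hle.trans (L.card_le τ hττ hτV)
      exact (Subgroup.eq_of_le_of_card_ge hRR' (by rw [hRc]; exact hcard)).ge)
    ((pgroup_L.to_subgroup _).map _) (by
      rintro _ ⟨x, hx, rfl⟩
      rw [hD, Subgroup.mem_centralizer_singleton_iff, ← hg]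
      change g * h.lin.hom2 x * g⁻¹ * (g * s * g⁻¹) = g * s * g⁻¹ * (g * h.lin.hom2 x * g⁻¹)
      have h1 := congrArg h.lin.hom2 (mem_CL.mp hx)
      rw [map_mul, map_mul, h.hs] at h1
      calc g * h.lin.hom2 x * g⁻¹ * (g * s * g⁻¹) = g * (h.lin.hom2 x * s) * g⁻¹ := by group
        _ = g * (s * h.lin.hom2 x) * g⁻¹ := by rw [h1]
        _ = _ := by group)
  -- the involutions
  have hex : ∀ x : L, x * L.s = L.s * x → ∃ y ∈ CL L.v, h.lin.hom2 y =
      d * (g * h.lin.hom2 x * g⁻¹) * d⁻¹ := fun x hx =>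
    hdR (g * h.lin.hom2 x * g⁻¹) ⟨x, mem_CL.mpr hx, rfl⟩
  have hle : (L.iS L.s).card ≤
      (L.iS L.v).card := by
    classical
    have hex' : ∀ x : L, ∃ y : L, x * L.s = L.s * x → (y ∈ CL L.v ∧ h.lin.hom2 y =
        d * (g * h.lin.hom2 x * g⁻¹) * d⁻¹) := by
      intro x
      by_cases hx : x * L.s = L.s * x
      · obtain ⟨y, hy, hy2⟩ := hex x hx
        exact ⟨y, fun _ => ⟨hy, hy2⟩⟩
      · exact ⟨1, fun h1 => absurd h1 hx⟩
    choose f hf using hex'
    apply Finset.card_le_card_of_injOn f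
    · intro x hx
      rw [Finset.mem_coe, L.mem_iS] at hx
      obtain ⟨hx1, hx2⟩ := hx
      obtain ⟨h1, h2⟩ := hf x hx1
      rw [Finset.mem_coe, L.mem_iS]
      refine ⟨mem_CL.mp h1, ?_⟩
      rw [← h.sq_lift, h2]
      calc d * (g * h.lin.hom2 x * g⁻¹) * d⁻¹ * (d * (g * h.lin.hom2 x * g⁻¹) * d⁻¹) =
          d * g * (h.lin.hom2 x * h.lin.hom2 x) * (d * g)⁻¹ := by group
        _ = 1 := by rw [h.sq_lift.mpr hx2]; group
    · intro x hx y hy hxy
      rw [Finset.mem_coe, L.mem_iS] at hx hy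
      have h1 := (hf x hx.1).2
      have h2 := (hf y hy.1).2
      rw [hxy, h2] at h1
      have h3 := mul_left_cancel (mul_right_cancel h1)
      have h4 := mul_left_cancel (mul_right_cancel h3)
      exact (h.lin.hom2_inj h4).symm
  rw [L.card_s, L.card_v] at hle
  omega

end HypA5

end Cfsg.Agent.StdAlt.Five.Kill
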