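import Cfsg.Agent.StdAlt.Five.Defs
import Cfsg.Agent.StdAlt.Five.Coord

/-!
# S1766, n = 5, case (I): the common structures for the kills (definitions only)

`Base A R V P ρ ε X Y Z`: the configuration with coordinates (`F4` = J2Sylow.Model.F4, elements `o e w u`):
`P = {Y b * X a * Z c}` of order 64, `R = {X a}`, `V = {Z c}`, `E = R ⊔ V`.
* `ε = 0` is case (L): `Y` is additive, `E2 = {Y b * Z c} = 2^4`;
* `ε = e` is case (Q): `Y b * Y b' = Y (b+b') * Z (fr (b*b'))`, `(Y b)^2 = Z b`, `E2 = 4 × 4` inverted by `X e`.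
-/

set_option autoImplicit false

namespace Cfsg.Agent.StdAlt.Five.Sec4

open Subgroup Cfsg.Agent.StdAlt.Conj Cfsg.Agent.J2Sylow.Model Cfsg.Agent.StdAlt.Five

variable {G : Type*} [Group G]

/-- `x` is an involution of K-type: `x ∈ 𝒯` -/
def KT (A : Subgroup G) (x : G) : Prop := x ≠ 1 ∧ x * x = 1 ∧ ∃ g : G, g * x * g⁻¹ ∈ C A

/-- the configuration with coordinates -/
structure Base (A R V P : Subgroup G) (ρ : G) (ε : F4) (X Y Z : F4 → G) : Prop where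
  odd : ∃ g, OddE A R V ρ g
  eps : ε = 0 ∨ ε = F4.e
  data : Coord.Data R V P ρ
  frame : Coord.Frame R V P ρ ε X Y Z
  /-- `P` and `V` are normal in `N(E)`, `P ≤ N(E)` -/
  le : P ≤ N (R ⊔ V)
  norm : ∀ x ∈ N (R ⊔ V), ∀ p ∈ P, x * p * x⁻¹ ∈ P
  normV : ∀ x ∈ N (R ⊔ V), ∀ v ∈ V, x * v * x⁻¹ ∈ V
  /-- `N(E) = P * (N(A) ∩ N(R))` -/
  fact : ∀ x ∈ N (R ⊔ V), ∃ p ∈ P, ∃ m ∈ N A, m ∈ N R ∧ m ∈ N V ∧ x = p * m
  /-- the elements of `E` of K-type are exactly the elements outside `V` -/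
  kt : ∀ a c, KT A (X a * Z c) ↔ a ≠ 0

/-- `κ = 1` -/
def Kap1 (A R : Subgroup G) : Prop := ∀ x ∈ C A, x ∈ N R → ∀ r ∈ R, x * r = r * x

/-- `κ = 3` in normal form (then `ε = 0`) -/
structure Kap3 (A : Subgroup G) (X Y : F4 → G) (ρ₀ : G) : Prop where
  mem : ρ₀ ∈ C A
  conjX : ∀ a, ρ₀ * X a * ρ₀⁻¹ = X (F4.w * a)
  conjY : ∀ b, ρ₀ * Y b * ρ₀⁻¹ = Y (F4.u * b)

/-- `μ = 1` -/
def Mu1 (A : Subgroup G) : Prop := ∀ s ∈ N A, ∃ a ∈ A, ∃ k ∈ C A, s = a * k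

/-- `μ = 2` in normal form: the field automorphism `s` -/
structure Mu2 (A : Subgroup G) (ρ : G) (X Y Z : F4 → G) (s : G) : Prop where
  mem : s ∈ N A
  out : ∀ a ∈ A, ∀ k ∈ C A, s ≠ a * k
  sq : s * s = 1
  conjρ : s * ρ * s = ρ⁻¹
  conjX : ∀ a, s * X a * s = X (F4.fr a)
  conjY : ∀ b, s * Y b * s = Y (F4.fr b)
  conjZ : ∀ c, s * Z c * s = Z (F4.fr c)

/-- the "weakly closed" situation: `E` is weakly closed in the Sylow 2-subgroup `S` of `G`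
(`S = P` for `μ = 1`, `S = P ∪ P s` for `μ = 2`), and in case (L) no element of `E2 - V` has K-type -/
structure WC (A R V P : Subgroup G) (Y Z : F4 → G) (S : Sylow 2 G) : Prop where
  le : P ≤ (S : Subgroup G)
  wc : ∀ g : G, (∀ x ∈ R ⊔ V, g * x * g⁻¹ ∈ (S : Subgroup G)) → g ∈ N (R ⊔ V)
  nkt : ∀ b c, b ≠ 0 → ¬ KT A (Y b * Z c)

/-- `μ = 1`, weakly closed: `S = P` -/
structure WC1 (A R V P : Subgroup G) (Y Z : F4 → G) (S : Sylow 2 G) : Prop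
    extends WC A R V P Y Z S where
  mu1 : Mu1 A
  eq : (S : Subgroup G) = P

/-- `μ = 2`, weakly closed: `S = P ∪ P s` -/
structure WC2 (A R V P : Subgroup G) (ρ : G) (X Y Z : F4 → G) (s : G) (S : Sylow 2 G) : Prop
    extends WC A R V P Y Z S where
  mu2 : Mu2 A ρ X Y Z s
  mem : ∀ x, x ∈ (S : Subgroup G) ↔ x ∈ P ∨ x * s ∈ P

/-- `κ = 3`, (L), `E2` K-type, `μ = 1`, linear swap (case A3): `S = P ∪ P w` -/
structure SwapLin (A P : Subgroup G) (X Y Z : F4 → G) (w : G) (S : Sylow 2 G) : Prop where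
  mu1 : Mu1 A
  sq : w * w = 1
  conjX : ∀ a, w * X a * w = Y a
  conjY : ∀ b, w * Y b * w = X b
  conjZ : ∀ c, w * Z c * w = Z c
  mem : ∀ x, x ∈ (S : Subgroup G) ↔ x ∈ P ∨ x * w ∈ P

/-- `κ = 3`, (L), `E2` K-type, `μ = 1`, semilinear swap (case A4): `S` = Sylow of `J₂`
(see Five/Swap.lean for the homomorphism from the model) -/
structure SwapSemi (A P : Subgroup G) (X Y Z : F4 → G) (w : G) (S : Sylow 2 G) : Prop where
  mu1 : Mu1 A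
  sq : w * w = 1
  conjX : ∀ a, w * X a * w = Y (F4.fr a)
  conjY : ∀ b, w * Y b * w = X (F4.fr b)
  conjZ : ∀ c, w * Z c * w = Z (F4.fr c)
  mem : ∀ x, x ∈ (S : Subgroup G) ↔ x ∈ P ∨ x * w ∈ P

/-- `κ = 3`, (L), `E2` K-type, `μ = 2` (case A5): `S = P⟨s, w⟩` of order 256 -/
structure SwapTwo (A P : Subgroup G) (ρ : G) (X Y Z : F4 → G) (s w : G) (S : Sylow 2 G) : Prop where
  mu2 : Mu2 A ρ X Y Z s
  sq : w * w = 1
  comm : s * w = w * s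
  conjX : ∀ a, w * X a * w = Y a
  conjY : ∀ b, w * Y b * w = X b
  conjZ : ∀ c, w * Z c * w = Z c
  mem : ∀ x, x ∈ (S : Subgroup G) ↔ x ∈ P ∨ x * s ∈ P ∨ x * w ∈ P ∨ x * (s * w) ∈ P

end Cfsg.Agent.StdAlt.Five.Sec4
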