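import Cfsg.Agent.StdAlt.Five.KillA3
import Cfsg.Agent.StdAlt.Five.KillA5
import Cfsg.Agent.StdAlt.Five.Sec4

/-!
# S1766, `n = 5`: the kills A3 and A5 from the structures of `Sec4`
-/

set_option autoImplicit false

namespace Cfsg.Agent.StdAlt.Five.Kill

open Subgroup Cfsg.Agent.StdAlt.Conj Cfsg.Agent.J2Sylow.Model Cfsg.Agent.J2Sylow.Model.F4
open Cfsg.Agent.StdAlt.Five Sec4 KillModel

variable {G : Type*} [Group G]

section order

/-- a 2-group whose order is not divisible by `2^(k+1)` -/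
theorem card_le_of_not_dvd [Finite G] {Q : Subgroup G} (hQ : IsPGroup 2 Q) {k : ℕ}
    (h : ¬ 2 ^ (k + 1) ∣ Nat.card Q) : Nat.card Q ≤ 2 ^ k := by
  obtain ⟨n, hn⟩ := IsPGroup.iff_card.mp hQ
  rw [hn] at h ⊢
  apply Nat.pow_le_pow_right (by norm_num)
  by_contra hlt
  exact h (pow_dvd_pow 2 (by omega))

/-- the product map -/
def mulHom (A : Subgroup G) : A × C A →* G where
  toFun x := x.1 * x.2
  map_one' := by simp
  map_mul' := by
    rintro ⟨a, k⟩ ⟨a', k'⟩
    change (a : G) * a' * (k * k') = a * k * (a' * k')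
    have h1 := mem_C.mp k.2 _ a'.2
    calc (a : G) * a' * (k * k') = a * (a' * k) * k' := by group
      _ = a * (k * a') * k' := by rw [h1]
      _ = _ := by group

/-- the product of `A` and `C A` -/
def AC (A : Subgroup G) : Subgroup G := (mulHom A).range

theorem mem_AC {A : Subgroup G} {x : G} : x ∈ AC A ↔ ∃ a ∈ A, ∃ k ∈ C A, x = a * k := by
  constructor
  · rintro ⟨⟨a, k⟩, rfl⟩
    exact ⟨a, a.2, k, k.2, rfl⟩
  · rintro ⟨a, ha, k, hk, rfl⟩
    exact ⟨(⟨a, ha⟩, ⟨k, hk⟩), rfl⟩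

theorem not_dvd_AC [Finite G] {A : Subgroup G} (h1 : 4 ∣ Nat.card A) (h2 : 4 ∣ Nat.card (C A))
    (h3 : ¬ 8 ∣ Nat.card A) (h4 : ¬ 8 ∣ Nat.card (C A)) : ¬ 2 ^ 5 ∣ Nat.card (AC A) := by
  intro h5
  have h6 : 2 ^ 5 ∣ Nat.card A * Nat.card (C A) := by
    rw [← Nat.card_prod]
    exact h5.trans (Subgroup.card_range_dvd (mulHom A))
  rcases succ_dvd_or_succ_dvd_of_succ_sum_dvd_mul (k := 2) (l := 2) Nat.prime_two.prime
    (by simpa using h1) (by simpa using h2) (by simpa using h6) with h | h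
  · exact h3 (by simpa using h)
  · exact h4 (by simpa using h)

theorem card_le_AC [Finite G] {A : Subgroup G} (h1 : 4 ∣ Nat.card A) (h2 : 4 ∣ Nat.card (C A))
    (h3 : ¬ 8 ∣ Nat.card A) (h4 : ¬ 8 ∣ Nat.card (C A)) {Q : Subgroup G} (hQ : IsPGroup 2 Q)
    (hQA : Q ≤ AC A) : Nat.card Q ≤ 16 := by
  apply card_le_of_not_dvd (k := 4) hQ
  intro h
  exact not_dvd_AC h1 h2 h3 h4 (h.trans (Subgroup.card_dvd_of_le hQA))

/-- a subgroup in two cosets -/
theorem card_le_two [Finite G] {Q H : Subgroup G} (h : ∀ x ∈ Q, ∀ y ∈ Q, x ∉ H → y ∉ H → x * y⁻¹ ∈ H) :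
    Nat.card Q ≤ 2 * Nat.card (Q ⊓ H : Subgroup G) := by
  classical
  by_cases hle : Q ≤ H
  · rw [inf_eq_left.mpr hle]; omega
  obtain ⟨y, hy, hyH⟩ := SetLike.not_le_iff_exists.mp hle
  let f : Q → (Q ⊓ H : Subgroup G) × Bool := fun x =>
    if hx : (x : G) ∈ H then (⟨x, x.2, hx⟩, false)
    else (⟨x * y⁻¹, Q.mul_mem x.2 (Q.inv_mem hy), h x x.2 y hy hx hyH⟩, true)
  have hf : Function.Injective f := by
    intro x x' hxx
    apply Subtype.ext
    by_cases hx : (x : G) ∈ H <;> by_cases hx' : (x' : G) ∈ H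
    · simp only [f, hx, hx', dif_pos, Prod.mk.injEq, and_true] at hxx
      exact congrArg (fun z : (Q ⊓ H : Subgroup G) => (z : G)) hxx
    · simp [f, hx, hx'] at hxx
    · simp [f, hx, hx'] at hxx
    · simp only [f, hx, hx', dif_neg, not_false_eq_true, Prod.mk.injEq, and_true] at hxx
      exact mul_right_cancel (congrArg Subtype.val hxx)
  have h1 := Nat.card_le_card_of_injective f hf
  rw [Nat.card_prod] at h1
  have h2 : Nat.card Bool = 2 := by simp
  rw [h2] at h1
  omega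

end order

variable [Finite G] {A R V P : Subgroup G} {ρ ρ₀ w s : G} {X Y Z : F4 → G} {S : Sylow 2 G}

omit [Finite G] in
theorem Z_zero (B : Base A R V P ρ 0 X Y Z) : Z 0 = 1 := by
  have := B.frame.Z_add 0 0
  rw [add_zero] at this
  exact left_eq_mul.mp this

omit [Finite G] in
theorem X_zero (B : Base A R V P ρ 0 X Y Z) : X 0 = 1 := by
  have := B.frame.X_add 0 0
  rw [add_zero] at this
  exact left_eq_mul.mp this

omit [Finite G] in
theorem YY (B : Base A R V P ρ 0 X Y Z) (a b : F4) : Y a * Y b = Y (a + b) := by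
  rw [B.frame.Y_mul, zero_mul, Z_zero B, mul_one]

omit [Finite G] in
theorem Y_zero (B : Base A R V P ρ 0 X Y Z) : Y 0 = 1 := by
  have := YY B 0 0
  rw [add_zero] at this
  exact mul_eq_left.mp this

omit [Finite G] in
theorem four_A (B : Base A R V P ρ 0 X Y Z) : 4 ∣ Nat.card A := by
  obtain ⟨g, h⟩ := B.odd
  rw [← h.cardV]
  exact Subgroup.card_dvd_of_le h.V_le

omit [Finite G] in
theorem four_C (B : Base A R V P ρ 0 X Y Z) : 4 ∣ Nat.card (C A) := by
  obtain ⟨g, h⟩ := B.odd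
  rw [← h.cardR]
  exact Subgroup.card_dvd_of_le h.R_le

omit [Finite G] in
/-- the linear structure -/
theorem lin_of (B : Base A R V P ρ 0 X Y Z) (sq : w * w = 1) (cX : ∀ a, w * X a * w = Y a)
    (cY : ∀ b, w * Y b * w = X b) (cZ : ∀ c, w * Z c * w = Z c) : Lin X Y Z w := by
  have F := B.frame
  have D := B.data
  have hc : ∀ x ∈ P, ∀ c, Z c * x = x * Z c := fun x hx c => (D.cent x hx _ (F.Z_mem c)).symm
  have hinv : w⁻¹ = w := by rw [inv_eq_iff_mul_eq_one]; exact sq
  refine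
    { XX := fun a b => (F.X_add a b).symm
      YY := YY B
      ZZ := fun a b => (F.Z_add a b).symm
      XY := fun a b => by rw [F.X_Y, mul_assoc]
      ZX := fun a b => hc _ (D.R_le (F.X_mem b)) a
      ZY := fun a b => hc _ (F.Y_mem b) a
      WX := fun a => by rw [← cX, mul_assoc, sq, mul_one]
      WY := fun a => by rw [← cY, mul_assoc, sq, mul_one]
      WZ := fun a => by
        calc w * Z a = w * Z a * w * w := by rw [mul_assoc _ w w, sq, mul_one]
          _ = Z a * w := by rw [cZ]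
      WW := sq
      inj := ?_
      out := ?_ }
  · intro a b c h
    have h1 : Y b * X a * Z c = Y 0 * X 0 * Z 0 := by
      rw [Y_zero B, X_zero B, Z_zero B, mul_assoc, h]; group
    obtain ⟨h2, h3, h4⟩ := F.inj _ _ _ _ _ _ h1
    exact ⟨h3, h2, h4⟩
  · intro a b c h
    have hwP : w ∈ P := by
      rw [← h]
      exact P.mul_mem (F.Y_mem b) (P.mul_mem (D.R_le (F.X_mem a)) (D.B_le (F.Z_mem c)))
    have h1 := D.comm_mem w hwP _ (F.X_mem 1)
    obtain ⟨c', hc'⟩ := F.Z_surj _ h1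
    have h2 : Y 1 = Z c' * X 1 := by
      rw [hc', ← cX 1, hinv]; group
    have h3 : Y 1 * X 0 * Z 0 = Y 0 * X 1 * Z c' := by
      rw [X_zero B, Z_zero B, Y_zero B, h2, hc _ (D.R_le (F.X_mem 1))]; group
    obtain ⟨h4, -, -⟩ := F.inj _ _ _ _ _ _ h3
    exact absurd h4 (by decide)

/-- elements of K-type are conjugate -/
theorem conj_of_KT (B : Base A R V P ρ 0 X Y Z) (κ : Kap3 A X Y ρ₀) {x : G} (hx : KT A x) :
    IsConj (X 1) x := by
  obtain ⟨g0, od⟩ := B.odd
  have F := B.frame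
  obtain ⟨hx1, hx2, g, hg⟩ := hx
  set k := g * x * g⁻¹ with hk
  have hk2 : k * k = 1 := by
    calc g * x * g⁻¹ * (g * x * g⁻¹) = g * (x * x) * g⁻¹ := by group
      _ = 1 := by rw [hx2]; group
  have hk1 : k ≠ 1 := by
    intro h1
    apply hx1
    have : x = g⁻¹ * k * g := by rw [hk]; group
    rw [this, h1]; group
  have hQ : IsPGroup 2 (zpowers k) := by
    rintro ⟨z, hz⟩
    obtain ⟨i, rfl⟩ := mem_zpowers_iff.mp hz
    refine ⟨1, ?_⟩
    apply Subtype.ext
    change (k ^ i) ^ 2 ^ 1 = 1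
    rw [← zpow_natCast, ← zpow_mul, mul_comm, zpow_mul, zpow_natCast, pow_one, pow_two, hk2,
      one_zpow]
  have hRp : IsPGroup 2 R := IsPGroup.of_card (n := 2) (by rw [od.cardR]; norm_num)
  obtain ⟨d, hd, hdR⟩ := conj_into_max od.R_le hRp (by
    intro R' h1 h2 h3
    have h4 : Nat.card R' ≤ 2 ^ 2 := card_le_of_not_dvd h2 (by
      intro h5
      exact od.card8 (by simpa using h5.trans (Subgroup.card_dvd_of_le h1)))
    exact (Subgroup.eq_of_le_of_card_ge h3 (by rw [od.cardR]; simpa using h4)).ge) hQ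
    (by rw [zpowers_le]; exact hg)
  obtain ⟨a, ha⟩ := F.X_surj _ (hdR k (mem_zpowers k))
  have hc : IsConj (X a) x := by
    rw [isConj_iff]
    exact ⟨(d * g)⁻¹, by rw [ha, hk]; group⟩
  refine IsConj.trans ?_ hc
  have h1 : IsConj (X 1) (X F4.w) := by
    rw [isConj_iff]
    exact ⟨ρ₀, by rw [κ.conjX]; rfl⟩
  have h2 : IsConj (X F4.w) (X F4.u) := by
    rw [isConj_iff]
    exact ⟨ρ₀, by rw [κ.conjX]; rfl⟩
  have ha0 : a ≠ 0 := by
    rintro rfl
    rw [X_zero B] at ha
    apply hk1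
    have : k = d⁻¹ * (d * k * d⁻¹) * d := by group
    rw [this, ← ha]; group
  have h3 : ∀ a : F4, a ≠ 0 → a = 1 ∨ a = F4.w ∨ a = F4.u := by decide
  rcases h3 a ha0 with rfl | rfl | rfl
  · exact IsConj.refl _
  · exact h1
  · exact h1.trans h2

omit [Finite G] in
theorem kt_conj {A : Subgroup G} {x y : G} (h : KT A x) (hc : IsConj x y) : KT A y := by
  rw [isConj_iff] at hc
  obtain ⟨g, rfl⟩ := hc
  obtain ⟨h1, h2, k, hk⟩ := h
  refine ⟨?_, ?_, k * g⁻¹, ?_⟩
  · intro h3
    apply h1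
    have : x = g⁻¹ * (g * x * g⁻¹) * g := by group
    rw [this, h3]; group
  · calc g * x * g⁻¹ * (g * x * g⁻¹) = g * (x * x) * g⁻¹ := by group
      _ = 1 := by rw [h2]; group
  · have : k * g⁻¹ * (g * x * g⁻¹) * (k * g⁻¹)⁻¹ = k * x * k⁻¹ := by group
    rw [this]; exact hk

omit [Finite G] in
theorem nZ_of (B : Base A R V P ρ 0 X Y Z) (c : F4) : ¬ IsConj (X 1) (Z c) := by
  intro hc
  have h1 : KT A (X 1 * Z 0) := (B.kt 1 0).mpr (by decide)
  rw [Z_zero B, mul_one] at h1
  have h2 := kt_conj h1 hc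
  have h3 := (B.kt 0 c).mp (by rw [X_zero B, one_mul]; exact h2)
  exact h3 rfl

omit [Finite G] in
theorem cent_le (B : Base A R V P ρ 0 X Y Z) : centralizer {X 1} ≤ N A := by
  obtain ⟨g0, od⟩ := B.odd
  intro g hg
  rw [mem_centralizer_singleton_iff] at hg
  have h2 : X 1 * X 1 = 1 := od.sqR _ (B.frame.X_mem 1)
  apply od.te.nrm (od.R_le (B.frame.X_mem 1)) _ h2 hg
  intro h1
  have h3 : Y 0 * X 1 * Z 0 = Y 0 * X 0 * Z 0 := by rw [h1, X_zero B]
  obtain ⟨-, h4, -⟩ := B.frame.inj _ _ _ _ _ _ h3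
  exact absurd h4 (by decide)

/-- the hypotheses of A3 -/
theorem hypA3 (B : Base A R V P ρ 0 X Y Z) (κ : Kap3 A X Y ρ₀) (sw : SwapLin A P X Y Z w S)
    (hA : ¬ 8 ∣ Nat.card A) : HypA3 S X Y Z w := by
  obtain ⟨g0, od⟩ := B.odd
  have F := B.frame
  have D := B.data
  have hl := lin_of B sw.sq sw.conjX sw.conjY sw.conjZ
  refine
    { lin := hl
      mem := ?_
      cX := fun a c ha => conj_of_KT B κ ((B.kt a c).mpr ha)
      nZ := fun c _ => nZ_of B c
      cent := ?_ }
  · intro g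
    rw [sw.mem]
    constructor
    · rintro (hg | hg)
      · obtain ⟨b, a, c, rfl⟩ := F.P_surj _ hg
        exact ⟨⟨a, b, c, false⟩, by simp [kFun, mul_assoc]⟩
      · obtain ⟨b, a, c, h1⟩ := F.P_surj _ hg
        refine ⟨⟨a, b, c, true⟩, ?_⟩
        have h2 : g = Y b * X a * Z c * w := by rw [← h1, mul_assoc, sw.sq, mul_one]
        rw [h2]; simp [kFun, mul_assoc]
    · rintro ⟨⟨a, b, c, i⟩, rfl⟩
      cases i
      · left
        simp only [kFun, Bool.false_eq_true, if_false, mul_one]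
        exact P.mul_mem (F.Y_mem b) (P.mul_mem (D.R_le (F.X_mem a)) (D.B_le (F.Z_mem c)))
      · right
        have : kFun X Y Z w ⟨a, b, c, true⟩ * w = Y b * (X a * Z c) := by
          simp only [kFun, if_true, mul_assoc, sw.sq, mul_one]
        rw [this]
        exact P.mul_mem (F.Y_mem b) (P.mul_mem (D.R_le (F.X_mem a)) (D.B_le (F.Z_mem c)))
  · intro Q hQ hQX
    -- `E`
    let EK : Subgroup K :=
      { carrier := {x | x.b = 0 ∧ x.i = false}
        one_mem' := ⟨rfl, rfl⟩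
        mul_mem' := by
          rintro ⟨a, b, c, i⟩ ⟨a', b', c', i'⟩ ⟨h1, h2⟩ ⟨h3, h4⟩
          simp only at h1 h2 h3 h4
          subst h1 h2 h3 h4
          exact ⟨rfl, rfl⟩
        inv_mem' := by
          rintro ⟨a, b, c, i⟩ ⟨h1, h2⟩
          simp only at h1 h2
          subst h1 h2
          exact ⟨rfl, rfl⟩ }
    have hEK : Nat.card EK = 16 := by
      rw [Nat.card_congr (show EK ≃ {x : K // x.b = 0 ∧ x.i = false} from
        Equiv.subtypeEquivRight (fun _ => Iff.rfl)), Nat.card_eq_fintype_card, Fintype.card_subtype]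
      decide +kernel
    have hE : Nat.card (EK.map hl.hom) = 16 := by
      rw [Subgroup.card_map_of_injective hl.hom_inj, hEK]
    obtain ⟨d, hd, hdE⟩ := conj_into_max (D := centralizer {X 1}) (R := EK.map hl.hom) (Q := Q) (by
        rintro _ ⟨x, hx, rfl⟩
        rw [mem_centralizer_singleton_iff, ← hl.hom_X 1, ← map_mul, ← map_mul]
        congr 1
        have h1 : ∀ x : K, x.b = 0 ∧ x.i = false → x * ⟨1, 0, 0, false⟩ = ⟨1, 0, 0, false⟩ * x := by
          decide +kernel
        exact h1 x hx) ((pgroup_K.to_subgroup _).map _) (by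
        intro R' h1 h2 h3
        have h4 : Nat.card R' ≤ 16 := card_le_AC (four_A B) (four_C B) hA od.card8 h2 (by
          intro r hr
          rw [mem_AC]
          exact sw.mu1 r (cent_le B (h1 hr)))
        exact (Subgroup.eq_of_le_of_card_ge h3 (by rw [hE]; exact h4)).ge) hQ
        (fun q hq => mem_centralizer_singleton_iff.mpr (hQX q hq))
    refine ⟨d, mem_centralizer_singleton_iff.mp hd, fun q hq => ?_⟩
    obtain ⟨⟨a, b, c, i⟩, ⟨hb, hi⟩, h2⟩ := hdE q hq
    simp only at hb hi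
    subst hb hi
    refine ⟨a, c, ?_⟩
    rw [← h2, Lin.hom_apply]
    simp [hl.Y0]

/-- **A3** -/
theorem a3 (B : Base A R V P ρ 0 X Y Z) (κ : Kap3 A X Y ρ₀) (sw : SwapLin A P X Y Z w S)
    (hA : ¬ 8 ∣ Nat.card A) (hidx : ∀ M : Subgroup G, M.Normal → M.index ≠ 2) : False :=
  (hypA3 B κ sw hA).kill hidx

omit [Finite G] in
theorem linS_of (B : Base A R V P ρ 0 X Y Z) (sw : SwapTwo A P ρ X Y Z s w S) :
    LinS X Y Z w s := by
  have F := B.frame
  have D := B.data
  have hl := lin_of B sw.sq sw.conjX sw.conjY sw.conjZ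
  have hs := sw.mu2.sq
  refine
    { hl with
      sX := fun a => by rw [← sw.mu2.conjX, mul_assoc, hs, mul_one]
      sY := fun a => by rw [← sw.mu2.conjY, mul_assoc, hs, mul_one]
      sZ := fun a => by rw [← sw.mu2.conjZ, mul_assoc, hs, mul_one]
      sW := sw.comm
      ss := hs
      out2 := ?_ }
  intro x hx
  have h1 : kFun X Y Z w x * Z F4.w = Z F4.w * kFun X Y Z w x := by
    change hl.hom x * _ = _ * hl.hom x
    have h8 := K.conj_V x F4.w
    rw [mul_inv_eq_iff_eq_mul] at h8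
    have h9 := congrArg hl.hom h8
    rwa [map_mul, map_mul, hl.hom_Z] at h9
  rw [hx] at h1
  have h2 : Z F4.w = Z F4.u := by
    have h3 := sw.mu2.conjZ F4.w
    rw [h1, mul_assoc, hs, mul_one] at h3
    exact h3
  have h3 : Y 0 * X 0 * Z F4.w = Y 0 * X 0 * Z F4.u := by rw [h2]
  obtain ⟨-, -, h4⟩ := F.inj _ _ _ _ _ _ h3
  exact absurd h4 (by decide)

/-- the hypotheses of A5 -/
theorem hypA5 (B : Base A R V P ρ 0 X Y Z) (κ : Kap3 A X Y ρ₀) (sw : SwapTwo A P ρ X Y Z s w S)
    (hA : ¬ 8 ∣ Nat.card A) (hM : ∀ m ∈ N A, m ∈ AC A ∨ m * s ∈ AC A) : HypA5 S X Y Z w s := by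
  obtain ⟨g0, od⟩ := B.odd
  have F := B.frame
  have D := B.data
  have hl := linS_of B sw
  have hPk : ∀ p ∈ P, ∃ a b c, p = hl.hom ⟨a, b, c, false⟩ := by
    intro p hp
    obtain ⟨b, a, c, h1⟩ := F.P_surj _ hp
    exact ⟨a, b, c, by rw [h1, Lin.hom_apply]; simp [mul_assoc]⟩
  have hkP : ∀ a b c, hl.hom ⟨a, b, c, false⟩ ∈ P := by
    intro a b c
    rw [Lin.hom_apply]
    simp only [Bool.false_eq_true, if_false, mul_one]
    exact P.mul_mem (F.Y_mem b) (P.mul_mem (D.R_le (F.X_mem a)) (D.B_le (F.Z_mem c)))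
  have hw : ∀ a b c, hl.hom ⟨a, b, c, true⟩ = hl.hom ⟨a, b, c, false⟩ * w := by
    intro a b c
    rw [Lin.hom_apply, Lin.hom_apply]
    simp [mul_assoc]
  have hs := sw.mu2.sq
  refine
    { lin := hl
      mem := ?_
      cX := fun a c ha => conj_of_KT B κ ((B.kt a c).mpr ha)
      cZ := ?_
      cent := ?_
      out := ?_ }
  · intro g
    rw [sw.mem]
    constructor
    · rintro (hg | hg | hg | hg)
      · obtain ⟨a, b, c, h1⟩ := hPk _ hg
        exact ⟨⟨⟨a, b, c, false⟩, false⟩, by rw [hl.hom2_k, h1]⟩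
      · obtain ⟨a, b, c, h1⟩ := hPk _ hg
        refine ⟨⟨⟨a, b, c, false⟩, true⟩, ?_⟩
        rw [hl.hom2_apply, ← h1]
        simp [mul_assoc, hs]
      · obtain ⟨a, b, c, h1⟩ := hPk _ hg
        refine ⟨⟨⟨a, b, c, true⟩, false⟩, ?_⟩
        rw [hl.hom2_k, hw, ← h1, mul_assoc, sw.sq, mul_one]
      · obtain ⟨a, b, c, h1⟩ := hPk _ hg
        refine ⟨⟨⟨a, b, c, true⟩, true⟩, ?_⟩
        rw [hl.hom2_apply]
        simp only [if_true]
        rw [hw, ← h1]
        calc g * (s * w) * w * s = g * s * (w * w) * s := by group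
          _ = g * (s * s) := by rw [sw.sq]; group
          _ = g := by rw [hs, mul_one]
    · rintro ⟨⟨⟨a, b, c, i⟩, j⟩, rfl⟩
      rw [hl.hom2_apply]
      cases i <;> cases j
      · left; simpa using hkP a b c
      · right; left
        simp only [if_true, mul_assoc, hs, mul_one]
        exact hkP a b c
      · right; right; left
        simp only [Bool.false_eq_true, if_false, mul_one]
        rw [hw, mul_assoc, sw.sq, mul_one]
        exact hkP a b c
      · right; right; right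
        simp only [if_true]
        have : hl.hom ⟨a, b, c, true⟩ * s * (s * w) = hl.hom ⟨a, b, c, false⟩ := by
          rw [hw]
          calc hl.hom ⟨a, b, c, false⟩ * w * s * (s * w) =
              hl.hom ⟨a, b, c, false⟩ * w * (s * s) * w := by group
            _ = hl.hom ⟨a, b, c, false⟩ * (w * w) := by rw [hs]; group
            _ = _ := by rw [sw.sq, mul_one]
        rw [this]
        exact hkP a b c
  · intro c hc
    have h1 : IsConj (Z 1) (Z F4.w) := by
      rw [isConj_iff]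
      exact ⟨ρ, by rw [F.ρZ]; rfl⟩
    have h2 : IsConj (Z F4.w) (Z F4.u) := by
      rw [isConj_iff]
      exact ⟨ρ, by rw [F.ρZ]; rfl⟩
    have h3 : ∀ a : F4, a ≠ 0 → a = 1 ∨ a = F4.w ∨ a = F4.u := by decide
    rcases h3 c hc with rfl | rfl | rfl
    · exact IsConj.refl _
    · exact h1
    · exact h1.trans h2
  · intro Q hQ hQX
    let EL : Subgroup L :=
      { carrier := {x | L.IsE x = true}
        one_mem' := by decide
        mul_mem' := by
          intro x y hx hy
          have h1 : ∀ x : L, L.IsE x = true → x = ⟨⟨x.k.a, 0, x.k.c, false⟩, x.j⟩ := by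
            decide +kernel
          change L.IsE (x * y) = true
          rw [h1 x hx, h1 y hy]
          generalize x.k.a = a
          generalize x.k.c = c
          generalize x.j = j
          generalize y.k.a = a'
          generalize y.k.c = c'
          generalize y.j = j'
          revert a c a' c' j j'
          decide +kernel
        inv_mem' := by
          intro x hx
          have h1 : ∀ x : L, L.IsE x = true → L.IsE x⁻¹ = true := by decide +kernel
          exact h1 x hx }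
    have hEL : Nat.card EL = 32 := by
      rw [Nat.card_congr (show EL ≃ {x : L // L.IsE x = true} from
        Equiv.subtypeEquivRight (fun _ => Iff.rfl)), Nat.card_eq_fintype_card, Fintype.card_subtype]
      decide +kernel
    have hE : Nat.card (EL.map hl.hom2) = 32 := by
      rw [Subgroup.card_map_of_injective hl.hom2_inj, hEL]
    obtain ⟨d, hd, hdE⟩ := conj_into_max (D := centralizer {X 1}) (R := EL.map hl.hom2) (Q := Q) (by
        rintro _ ⟨x, hx, rfl⟩
        have h0 : hl.hom2 ⟨⟨1, 0, 0, false⟩, false⟩ = X 1 := by rw [hl.hom2_k, hl.hom_X]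
        rw [mem_centralizer_singleton_iff, ← h0, ← map_mul, ← map_mul]
        congr 1
        have h1 : ∀ x : L, L.IsE x = true → x * ⟨⟨1, 0, 0, false⟩, false⟩ =
            ⟨⟨1, 0, 0, false⟩, false⟩ * x := by
          decide +kernel
        exact h1 x hx) ((pgroup_L.to_subgroup _).map _) (by
        intro R' h1 h2 h3
        have h4 : Nat.card (R' ⊓ AC A : Subgroup G) ≤ 16 :=
          card_le_AC (four_A B) (four_C B) hA od.card8 (h2.to_le inf_le_left) inf_le_right
        have h5 : Nat.card R' ≤ 2 * Nat.card (R' ⊓ AC A : Subgroup G) := by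
          apply card_le_two
          intro x hx y hy hx' hy'
          have e1 := (hM x (cent_le B (h1 hx))).resolve_left hx'
          have e2 := (hM y (cent_le B (h1 hy))).resolve_left hy'
          have e3 : x * y⁻¹ = (x * s) * (y * s)⁻¹ := by group
          rw [e3]
          exact mul_mem e1 (inv_mem e2)
        exact (Subgroup.eq_of_le_of_card_ge h3 (by rw [hE]; omega)).ge) hQ
        (fun q hq => mem_centralizer_singleton_iff.mpr (hQX q hq))
    refine ⟨d, mem_centralizer_singleton_iff.mp hd, fun q hq => ?_⟩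
    obtain ⟨x, hx, h2⟩ := hdE q hq
    have h1 : ∀ x : L, L.IsE x = true → x = ⟨⟨x.k.a, 0, x.k.c, false⟩, x.j⟩ := by
      decide +kernel
    refine ⟨x.k.a, x.k.c, x.j, ?_⟩
    rw [← h2, h1 x hx, hl.hom2_apply, Lin.hom_apply]
    simp [hl.Y0]
  · intro k hk a c h1
    have hkN : k ∈ N A := cent_le B (mem_centralizer_singleton_iff.mpr hk)
    have h2 : k⁻¹ * Z c * k ∈ A := conj_mem' hkN (od.V_le (F.Z_mem c))
    have h3 : k⁻¹ * X a * k ∈ C A := conj_mem_C' hkN (od.R_le (F.X_mem a))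
    have h4 : X a * Z c = Z c * X a := D.cent _ (D.R_le (F.X_mem a)) _ (F.Z_mem c)
    apply sw.mu2.out _ h2 _ h3
    calc s = k⁻¹ * (k * s * k⁻¹) * k := by group
      _ = k⁻¹ * (Z c * X a) * k := by rw [h1, h4]
      _ = _ := by group

/-- **A5** -/
theorem a5 (B : Base A R V P ρ 0 X Y Z) (κ : Kap3 A X Y ρ₀) (sw : SwapTwo A P ρ X Y Z s w S)
    (hA : ¬ 8 ∣ Nat.card A) (hM : ∀ m ∈ N A, m ∈ AC A ∨ m * s ∈ AC A)
    (hidx : ∀ M : Subgroup G, M.Normal → M.index ≠ 2) : False :=
  (hypA5 B κ sw hA hM).kill hidx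

end Cfsg.Agent.StdAlt.Five.Kill
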