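import Cfsg.Agent.StdAlt.Five.Base
import Cfsg.Agent.StdAlt.Pairs

/-!
# S1766, n = 5, case (I): elements of `N A` outside `A * C A`
-/

set_option autoImplicit false

namespace Cfsg.Agent.StdAlt.Five.Mu

open Subgroup Cfsg.Agent.StdAlt.Conj Cfsg.Agent.J2Sylow.Model Cfsg.Agent.StdAlt.Five
open Cfsg.Agent.StdAlt.Five.Sec4 Cfsg.Agent.StdAlt.Five.PGroup Cfsg.Agent.StdAlt.Five.PExists
open Cfsg.Agent.StdAlt.Five.PData Cfsg.Agent.StdAlt.Five.Coord Cfsg.Agent.StdAlt.Five.Moves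

variable {G : Type*} [Group G] {A R V P : Subgroup G} {ρ g : G} {ε : F4} {X Y Z : F4 → G}

/-- `A * C A` -/
def AC (A : Subgroup G) : Subgroup G where
  carrier := {x | ∃ a ∈ A, ∃ k ∈ C A, x = a * k}
  mul_mem' := by
    rintro _ _ ⟨a, ha, k, hk, rfl⟩ ⟨b, hb, l, hl, rfl⟩
    refine ⟨a * b, mul_mem ha hb, k * l, mul_mem hk hl, ?_⟩
    calc a * k * (b * l) = a * (k * b) * l := by group
      _ = a * b * (k * l) := by rw [comm_of_C hk hb]; group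
  one_mem' := ⟨1, one_mem _, 1, one_mem _, by rw [one_mul]⟩
  inv_mem' := by
    rintro _ ⟨a, ha, k, hk, rfl⟩
    refine ⟨a⁻¹, inv_mem ha, k⁻¹, inv_mem hk, ?_⟩
    rw [mul_inv_rev, comm_of_C (inv_mem hk) (inv_mem ha)]

theorem mem_AC {x : G} : x ∈ AC A ↔ ∃ a ∈ A, ∃ k ∈ C A, x = a * k := Iff.rfl

theorem A_le_AC {x : G} (hx : x ∈ A) : x ∈ AC A := ⟨x, hx, 1, one_mem _, by rw [mul_one]⟩

theorem C_le_AC {x : G} (hx : x ∈ C A) : x ∈ AC A := ⟨1, one_mem _, x, hx, by rw [one_mul]⟩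

theorem AC_le_N {x : G} (hx : x ∈ AC A) : x ∈ N A := by
  obtain ⟨a, ha, k, hk, rfl⟩ := hx
  exact mul_mem (le_N ha) (C_le_N hk)

theorem not_mu1 (h : ¬ Mu1 A) : ∃ s ∈ N A, s ∉ AC A := by
  unfold Mu1 at h
  push_neg at h
  obtain ⟨s, hs, h⟩ := h
  exact ⟨s, hs, fun ⟨a, ha, k, hk, e⟩ => h a ha k hk e⟩

theorem mu1_iff : Mu1 A ↔ ∀ s ∈ N A, s ∈ AC A := Iff.rfl

/-! ### the action on `V` -/

section
variable (F : Frame R V P ρ ε X Y Z)
include F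

/-- an element normalizing `V` acts as `c ↦ h c` or `c ↦ h c̄` -/
theorem act_V {x : G} (hx : ∀ v ∈ V, x * v * x⁻¹ ∈ V) : ∃ h : F4, h ≠ 0 ∧
    ((∀ c, x * Z c * x⁻¹ = Z (h * c)) ∨ (∀ c, x * Z c * x⁻¹ = Z (h * F4.fr c))) := by
  have hθ : ∀ c, ∃ d, x * Z c * x⁻¹ = Z d := by
    intro c
    obtain ⟨d, hd⟩ := F.Z_surj _ (hx _ (F.Z_mem c))
    exact ⟨d, hd.symm⟩
  choose θ hθ using hθ
  have hadd : ∀ c c', θ (c + c') = θ c + θ c' := by
    intro c c'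
    apply F.Z_inj
    rw [← hθ, F.Z_add, F.Z_add, conj_mul', hθ, hθ]
  have h0 : θ 0 = 0 := by
    apply F.Z_inj
    rw [← hθ, F.Z_zero]; group
  have hinj : ∀ c, c ≠ 0 → θ c ≠ 0 := by
    intro c hc e
    apply hc
    apply F.Z_inj
    rw [F.Z_zero]
    have h1 := hθ c
    rw [e, F.Z_zero] at h1
    calc Z c = x⁻¹ * (x * Z c * x⁻¹) * x := by group
      _ = 1 := by rw [h1]; group
  have hp := hinj F4.e (by decide)
  have hq := hinj F4.w (by decide)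
  have hr := hinj F4.u (by decide)
  have hu : θ F4.u = θ F4.e + θ F4.w := by
    rw [← hadd]; rfl
  rw [hu] at hr
  have key : ∀ p q : F4, p ≠ 0 → q ≠ 0 → p + q ≠ 0 →
      ((q = p * F4.w ∧ p + q = p * F4.u) ∨ (q = p * F4.fr F4.w ∧ p + q = p * F4.fr F4.u)) := by decide
  refine ⟨θ F4.e, hp, ?_⟩
  rcases key _ _ hp hq hr with ⟨e1, e2⟩ | ⟨e1, e2⟩
  · left
    intro c
    rw [hθ]
    congr 1
    cases c
    · change θ 0 = _ * 0
      rw [h0, mul_zero]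
    · exact (mul_one _).symm
    · exact e1
    · rw [hu]; exact e2
  · right
    intro c
    rw [hθ]
    congr 1
    cases c
    · change θ 0 = _ * 0
      rw [h0, mul_zero]
    · exact (mul_one _).symm
    · exact e1
    · rw [hu]; exact e2

omit F in
theorem pow_lin {x : G} {Z : F4 → G} {h : F4} (hx : ∀ c, x * Z c * x⁻¹ = Z (h * c)) (n : ℕ) (c : F4) :
    x ^ n * Z c * (x ^ n)⁻¹ = Z (h ^ n * c) := by
  induction n generalizing c with
  | zero => rw [pow_zero, pow_zero, one_mul]; group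
  | succ n ih =>
    rw [pow_succ', show x * x ^ n * Z c * (x * x ^ n)⁻¹ = x * (x ^ n * Z c * (x ^ n)⁻¹) * x⁻¹ by group,
      ih, hx, pow_succ', mul_assoc]

omit [Group G] F in
theorem F4_pow {h : F4} (h0 : h ≠ 0) (h1 : h ≠ F4.e) (n : ℕ) : h ^ (2 ^ n) ≠ F4.e ∧ h ^ (2 ^ n) ≠ 0 := by
  induction n with
  | zero => rw [pow_zero, pow_one]; exact ⟨h1, h0⟩
  | succ n ih =>
    rw [pow_succ, pow_mul, pow_two]
    have : ∀ y : F4, y ≠ F4.e ∧ y ≠ 0 → y * y ≠ F4.e ∧ y * y ≠ 0 := by decide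
    exact this _ ih

/-- a 2-element acting linearly on `V` centralizes `V` -/
theorem lin_two {x : G} {h : F4} (h0 : h ≠ 0) (hx : ∀ c, x * Z c * x⁻¹ = Z (h * c))
    (h2 : ∃ k : ℕ, x ^ (2 ^ k) = 1) : ∀ v ∈ V, x * v = v * x := by
  obtain ⟨k, hk⟩ := h2
  have h1 : h = F4.e := by
    by_contra hne
    have h3 := pow_lin hx (2 ^ k) F4.e
    rw [hk] at h3
    have h4 : Z F4.e = Z (h ^ (2 ^ k) * F4.e) := by rw [← h3]; group
    have h5 := F.Z_inj h4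
    apply (F4_pow h0 hne k).1
    rw [show h ^ (2 ^ k) * F4.e = h ^ (2 ^ k) from mul_one _] at h5
    exact h5.symm
  intro v hv
  obtain ⟨c, rfl⟩ := F.Z_surj v hv
  have h6 := hx c
  rw [h1, show F4.e * c = c from one_mul c] at h6
  calc x * Z c = (x * Z c * x⁻¹) * x := by group
    _ = Z c * x := by rw [h6]

end

/-! ### the element `s` -/

/-- `V` is a Sylow 2-subgroup of `A` -/
theorem V_max [Finite G] (h : OddE A R V ρ g) (h8 : ¬ 8 ∣ Nat.card A) (Q : Subgroup G)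
    (hQ : IsPGroup 2 Q) (hVQ : V ≤ Q) (hQA : Q ≤ A) : Q = V := by
  obtain ⟨n, hn⟩ := hQ.exists_card_eq
  have h1 : Nat.card Q ∣ Nat.card A := card_dvd_of_le hQA
  have hn2 : n ≤ 2 := by
    by_contra hcon
    push_neg at hcon
    apply h8
    rw [hn] at h1
    exact (show (8 : ℕ) ∣ 2 ^ n by rw [show (8 : ℕ) = 2 ^ 3 by norm_num]; exact pow_dvd_pow 2 hcon).trans h1
  symm
  apply eq_of_le_of_card_ge hVQ
  rw [hn, h.cardV]
  calc 2 ^ n ≤ 2 ^ 2 := Nat.pow_le_pow_right (by norm_num) hn2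
    _ = 4 := by norm_num

/-- `R` is a Sylow 2-subgroup of `C A` -/
theorem R_max [Finite G] (h : OddE A R V ρ g) (Q : Subgroup G)
    (hQ : IsPGroup 2 Q) (hVQ : R ≤ Q) (hQA : Q ≤ C A) : Q = R := by
  obtain ⟨n, hn⟩ := hQ.exists_card_eq
  have h1 : Nat.card Q ∣ Nat.card (C A) := card_dvd_of_le hQA
  have hn2 : n ≤ 2 := by
    by_contra hcon
    push_neg at hcon
    apply h.card8
    rw [hn] at h1
    exact (show (8 : ℕ) ∣ 2 ^ n by rw [show (8 : ℕ) = 2 ^ 3 by norm_num]; exact pow_dvd_pow 2 hcon).trans h1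
  symm
  apply eq_of_le_of_card_ge hVQ
  rw [hn, h.cardR]
  calc 2 ^ n ≤ 2 ^ 2 := Nat.pow_le_pow_right (by norm_num) hn2
    _ = 4 := by norm_num

theorem pgroup_cj [Finite G] {Q : Subgroup G} (hQ : IsPGroup 2 Q) (x : G) : IsPGroup 2 (cj x Q) := hQ.map _

theorem pgroup_V [Finite G] (h : OddE A R V ρ g) : IsPGroup 2 V :=
  IsPGroup.of_card (n := 2) (by rw [h.cardV]; norm_num)

theorem pgroup_R [Finite G] (h : OddE A R V ρ g) : IsPGroup 2 R :=
  IsPGroup.of_card (n := 2) (by rw [h.cardR]; norm_num)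

/-- `C_A(V) = V` -/
theorem CA_eq (h : OddE A R V ρ g) {x : G} (hx : x ∈ A) (hc : ∀ v ∈ V, x * v = v * x) : x ∈ V := by
  obtain ⟨v, hv, hxv⟩ := h.CV x (le_N hx) hc
  have h1 := h.te.disj (x * v) (mul_mem hx (h.V_le hv)) hxv
  rw [mul_eq_one_iff_eq_inv] at h1
  rw [h1]
  exact inv_mem hv

theorem AC_of_CV (h : OddE A R V ρ g) {x : G} (hx : x ∈ N A) (hc : ∀ v ∈ V, x * v = v * x) : x ∈ AC A := by
  obtain ⟨v, hv, hxv⟩ := h.CV x hx hc
  have : x = (x * v) * v⁻¹ := by group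
  rw [this]
  exact mul_mem (C_le_AC hxv) (A_le_AC (inv_mem (h.V_le hv)))

/-- adjusting an outer element by `A` -/
theorem exists_inv [Finite G] (h : OddE A R V ρ g) (F : Frame R V P ρ ε X Y Z)
    (h8 : ¬ 8 ∣ Nat.card A) {s : G} (hs : s ∈ N A) (hsA : s ∉ AC A) :
    ∃ a ∈ A, (∀ v ∈ V, (a * s) * v * (a * s)⁻¹ ∈ V) ∧ (a * s) * ρ * (a * s)⁻¹ = ρ⁻¹ := by
  obtain ⟨a, ha, hav⟩ := Pairs.exists_conj_le A V (cj s V) (pgroup_V h) (pgroup_cj (pgroup_V h) s)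
    h.V_le (by
      intro x hx
      rw [mem_cj] at hx
      have h1 := conj_mem hs (h.V_le hx)
      rwa [show s * (s⁻¹ * x * s) * s⁻¹ = x by group] at h1) (V_max h h8)
  have hV : ∀ v ∈ V, (a * s) * v * (a * s)⁻¹ ∈ V := by
    intro v hv
    have h1 := hav _ (conj_mem_cj.2 hv)
    rwa [show a * (s * v * s⁻¹) * a⁻¹ = (a * s) * v * (a * s)⁻¹ by group] at h1
  have htN : a * s ∈ N A := mul_mem (le_N ha) hs
  have htA : a * s ∉ AC A := by
    intro h1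
    apply hsA
    rw [show s = a⁻¹ * (a * s) by group]
    exact mul_mem (A_le_AC (inv_mem ha)) h1
  obtain ⟨t, ht⟩ : ∃ t, t = a * s := ⟨_, rfl⟩
  rw [← ht] at hV htN htA
  obtain ⟨hh, hh0, hc | hc⟩ := act_V F hV
  · exfalso
    apply htA
    -- find `σ`, a power of `ρ`, such that `σ t` centralizes `V`
    obtain ⟨σ, hσA, hσ⟩ : ∃ σ ∈ A, ∀ c, σ * Z (hh * c) * σ⁻¹ = Z c := by
      have hρ := F.ρZ
      have : hh = F4.e ∨ hh = F4.w ∨ hh = F4.u := by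
        revert hh0
        cases hh
        · intro h; exact absurd rfl h
        · intro _; exact Or.inl rfl
        · intro _; exact Or.inr (Or.inl rfl)
        · intro _; exact Or.inr (Or.inr rfl)
      rcases this with rfl | rfl | rfl
      · exact ⟨1, one_mem _, fun c => by rw [show F4.e * c = c from one_mul c]; group⟩
      · refine ⟨ρ * ρ, mul_mem h.ρ_mem h.ρ_mem, fun c => ?_⟩
        rw [show ρ * ρ * Z (F4.w * c) * (ρ * ρ)⁻¹ = ρ * (ρ * Z (F4.w * c) * ρ⁻¹) * ρ⁻¹ by group, hρ, hρ]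
        congr 1
        have : ∀ c : F4, F4.w * (F4.w * (F4.w * c)) = c := by decide
        exact this c
      · refine ⟨ρ, h.ρ_mem, fun c => ?_⟩
        rw [hρ]
        congr 1
        have : ∀ c : F4, F4.w * (F4.u * c) = c := by decide
        exact this c
    have hc2 : ∀ v ∈ V, (σ * t) * v = v * (σ * t) := by
      intro v hv
      obtain ⟨c, rfl⟩ := F.Z_surj v hv
      have : (σ * t) * Z c * (σ * t)⁻¹ = Z c := by
        rw [show (σ * t) * Z c * (σ * t)⁻¹ = σ * (t * Z c * t⁻¹) * σ⁻¹ by group, hc, hσ]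
      calc (σ * t) * Z c = ((σ * t) * Z c * (σ * t)⁻¹) * (σ * t) := by group
        _ = Z c * (σ * t) := by rw [this]
    have h1 := AC_of_CV h (mul_mem (le_N hσA) htN) hc2
    rw [show t = σ⁻¹ * (σ * t) by group]
    exact mul_mem (A_le_AC (inv_mem hσA)) h1
  · -- the semilinear case
    have h1 : ∀ d, (t * ρ * t⁻¹) * Z d * (t * ρ * t⁻¹)⁻¹ = Z (F4.u * d) := by
      intro d
      obtain ⟨c, hcd⟩ : ∃ c, hh * F4.fr c = d := by
        have : ∀ hh d : F4, hh ≠ 0 → ∃ c, hh * F4.fr c = d := by decide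
        exact this hh d hh0
      rw [← hcd, ← hc, show (t * ρ * t⁻¹) * (t * Z c * t⁻¹) * (t * ρ * t⁻¹)⁻¹ =
        t * (ρ * Z c * ρ⁻¹) * t⁻¹ by group, F.ρZ, hc]
      congr 1
      have : ∀ hh c : F4, hh * F4.fr (F4.w * c) = F4.u * (hh * F4.fr c) := by decide
      exact this hh c
    have h2 : t * ρ * t⁻¹ * ρ ∈ A := mul_mem (conj_mem htN h.ρ_mem) h.ρ_mem
    have h3 : ∀ v ∈ V, (t * ρ * t⁻¹ * ρ) * v = v * (t * ρ * t⁻¹ * ρ) := by
      intro v hv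
      obtain ⟨c, rfl⟩ := F.Z_surj v hv
      have : (t * ρ * t⁻¹ * ρ) * Z c * (t * ρ * t⁻¹ * ρ)⁻¹ = Z c := by
        rw [show (t * ρ * t⁻¹ * ρ) * Z c * (t * ρ * t⁻¹ * ρ)⁻¹ =
          (t * ρ * t⁻¹) * (ρ * Z c * ρ⁻¹) * (t * ρ * t⁻¹)⁻¹ by group, F.ρZ, h1]
        congr 1
        have : ∀ c : F4, F4.u * (F4.w * c) = c := by decide
        exact this c
      calc (t * ρ * t⁻¹ * ρ) * Z c = ((t * ρ * t⁻¹ * ρ) * Z c * (t * ρ * t⁻¹ * ρ)⁻¹) * (t * ρ * t⁻¹ * ρ) := by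
            group
        _ = _ := by rw [this]
    have h4 := CA_eq h h2 h3
    obtain ⟨c, hc4⟩ := F.Z_surj _ h4
    have h5 : t * ρ * t⁻¹ = Z c * ρ⁻¹ := by rw [hc4]; group
    refine ⟨Z (F4.u * c) * a, mul_mem (h.V_le (F.Z_mem _)) ha, ?_, ?_⟩
    · intro v hv
      rw [mul_assoc (Z _) a s, ← ht, show Z (F4.u * c) * t * v * (Z (F4.u * c) * t)⁻¹ =
        Z (F4.u * c) * (t * v * t⁻¹) * (Z (F4.u * c))⁻¹ by group]
      exact mul_mem (mul_mem (F.Z_mem _) (hV v hv)) (inv_mem (F.Z_mem _))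
    · have h6 : (Z (F4.u * c))⁻¹ = Z (F4.u * c) := invV h (F.Z_mem _)
      have h7 : ρ⁻¹ * Z (F4.u * c) * ρ = Z (F4.u * (F4.u * c)) := by
        have h8 := F.ρZ (F4.u * (F4.u * c))
        have e : ∀ c : F4, F4.w * (F4.u * (F4.u * c)) = F4.u * c := by decide
        rw [e] at h8
        rw [← h8]; group
      rw [mul_assoc (Z _) a s, ← ht, show Z (F4.u * c) * t * ρ * (Z (F4.u * c) * t)⁻¹ =
        Z (F4.u * c) * (t * ρ * t⁻¹) * (Z (F4.u * c))⁻¹ by group, h5, h6]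
      calc Z (F4.u * c) * (Z c * ρ⁻¹) * Z (F4.u * c) =
          Z (F4.u * c) * Z c * (ρ⁻¹ * Z (F4.u * c) * ρ) * ρ⁻¹ := by group
        _ = Z (F4.u * c + c + F4.u * (F4.u * c)) * ρ⁻¹ := by rw [h7, F.Z_add, F.Z_add]
        _ = ρ⁻¹ := by
          have e : ∀ c : F4, F4.u * c + c + F4.u * (F4.u * c) = 0 := by decide
          rw [e, F.Z_zero, one_mul]

/-- the properties of the outer element `s` -/
structure IsS (A R V : Subgroup G) (ρ s : G) : Prop where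
  mem : s ∈ N A
  out : s ∉ AC A
  conjρ : s * ρ * s⁻¹ = ρ⁻¹
  memR : ∀ r ∈ R, s * r * s⁻¹ ∈ R
  memV : ∀ v ∈ V, s * v * s⁻¹ ∈ V
  sq : s * s ∈ R

theorem exists_isS [Finite G] (h : OddE A R V ρ g) (F : Frame R V P ρ ε X Y Z)
    (h8 : ¬ 8 ∣ Nat.card A) (hmu : ¬ Mu1 A) : ∃ s, IsS A R V ρ s := by
  obtain ⟨s₀, hs₀, hs₀A⟩ := not_mu1 hmu
  obtain ⟨a, ha, hV, hρ⟩ := exists_inv h F h8 hs₀ hs₀A
  have htN : a * s₀ ∈ N A := mul_mem (le_N ha) hs₀
  have htA : a * s₀ ∉ AC A := by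
    intro h1
    apply hs₀A
    rw [show s₀ = a⁻¹ * (a * s₀) by group]
    exact mul_mem (A_le_AC (inv_mem ha)) h1
  obtain ⟨t, ht⟩ : ∃ t, t = a * s₀ := ⟨_, rfl⟩
  rw [← ht] at hV htN htA hρ
  -- normalize `R`
  obtain ⟨k, hk, hkR⟩ := Pairs.exists_conj_le (C A) R (cj t R) (pgroup_R h) (pgroup_cj (pgroup_R h) t)
    h.R_le (by
      intro x hx
      rw [mem_cj] at hx
      have h1 := conj_mem_C htN (h.R_le hx)
      rwa [show t * (t⁻¹ * x * t) * t⁻¹ = x by group] at h1) (R_max h)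
  obtain ⟨x, hx⟩ : ∃ x, x = k * t := ⟨_, rfl⟩
  have hxR : ∀ r ∈ R, x * r * x⁻¹ ∈ R := by
    intro v hv
    have h1 := hkR _ (conj_mem_cj.2 hv)
    rwa [show k * (t * v * t⁻¹) * k⁻¹ = x * v * x⁻¹ by rw [hx]; group] at h1
  have hxV : ∀ v ∈ V, x * v * x⁻¹ ∈ V := by
    intro v hv
    rw [hx, show k * t * v * (k * t)⁻¹ = k * (t * v * t⁻¹) * k⁻¹ by group, Base.CA_V h hk (hV v hv)]
    exact hV v hv
  have hxρ : x * ρ * x⁻¹ = ρ⁻¹ := by
    rw [hx, show k * t * ρ * (k * t)⁻¹ = k * (t * ρ * t⁻¹) * k⁻¹ by group, hρ,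
      comm_of_C hk (inv_mem h.ρ_mem)]; group
  have hxN : x ∈ N A := by rw [hx]; exact mul_mem (C_le_N hk) htN
  have hxA : x ∉ AC A := by
    intro h1
    apply htA
    rw [show t = k⁻¹ * x by rw [hx]; group]
    exact mul_mem (C_le_AC (inv_mem hk)) h1
  -- the square
  have hρi : x * ρ⁻¹ * x⁻¹ = ρ := by
    calc x * ρ⁻¹ * x⁻¹ = (x * ρ * x⁻¹)⁻¹ := by group
      _ = ρ := by rw [hxρ, inv_inv]
  have hxx : x * x ∈ C A := by
    have hcomm : x * x * ρ = ρ * (x * x) := by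
      calc x * x * ρ = x * (x * ρ * x⁻¹) * x⁻¹ * (x * x) := by group
        _ = ρ * (x * x) := by rw [hxρ, hρi]
    have hcV : ∀ v ∈ V, (x * x) * v = v * (x * x) := by
      obtain ⟨hh, hh0, hc | hc⟩ := act_V F hxV
      · exfalso
        -- linear action is impossible
        have h1 : x * (ρ * Z F4.e * ρ⁻¹) * x⁻¹ = ρ⁻¹ * (x * Z F4.e * x⁻¹) * ρ := by
          calc x * (ρ * Z F4.e * ρ⁻¹) * x⁻¹ = (x * ρ * x⁻¹) * (x * Z F4.e * x⁻¹) * (x * ρ * x⁻¹)⁻¹ := by group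
            _ = _ := by rw [hxρ]; group
        rw [F.ρZ, hc, hc] at h1
        have h2 : ρ * (ρ⁻¹ * Z (hh * F4.e) * ρ) * ρ⁻¹ = Z (F4.w * (hh * (F4.w * F4.e))) := by
          rw [← h1, F.ρZ]
        have h3 : Z (hh * F4.e) = Z (F4.w * (hh * (F4.w * F4.e))) := by rw [← h2]; group
        have h4 := F.Z_inj h3
        have : ∀ hh : F4, hh ≠ 0 → hh * F4.e ≠ F4.w * (hh * (F4.w * F4.e)) := by decide
        exact this hh hh0 h4
      · intro v hv
        obtain ⟨c, rfl⟩ := F.Z_surj v hv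
        have : (x * x) * Z c * (x * x)⁻¹ = Z c := by
          rw [show (x * x) * Z c * (x * x)⁻¹ = x * (x * Z c * x⁻¹) * x⁻¹ by group, hc, hc]
          congr 1
          have : ∀ hh c : F4, hh ≠ 0 → hh * F4.fr (hh * F4.fr c) = c := by decide
          exact this hh c hh0
        calc (x * x) * Z c = ((x * x) * Z c * (x * x)⁻¹) * (x * x) := by group
          _ = _ := by rw [this]
    obtain ⟨v, hv, hxv⟩ := h.CV _ (mul_mem hxN hxN) hcV
    have h1 : ρ * v * ρ⁻¹ = v := by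
      have h2 := comm_of_C hxv h.ρ_mem
      calc ρ * v * ρ⁻¹ = ρ * (x * x)⁻¹ * ρ⁻¹ * (ρ * (x * x * v)) * ρ⁻¹ := by group
        _ = ρ * (x * x)⁻¹ * ρ⁻¹ * ((x * x * v) * ρ) * ρ⁻¹ := by rw [h2]
        _ = ρ * (ρ * (x * x))⁻¹ * (x * x) * v := by group
        _ = v := by rw [← hcomm]; group
    have h3 : v = 1 := by
      by_contra hne
      exact h.ρfix v hv hne h1
    rw [h3, mul_one] at hxv
    exact hxv
  -- the 2-part
  obtain ⟨s, b, hs, hb, hab, hs2, hbo⟩ := exists_two_odd x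
  have hbC : b ∈ C A := by
    obtain ⟨n, hn⟩ := hb
    have hn' : x ^ n = b := hn
    have h1 : b * b ∈ C A := by
      rw [← hn', ← (Commute.refl x).mul_zpow]
      exact zpow_mem hxx n
    obtain ⟨m, hm⟩ := hbo
    have h2 : b = (b * b) ^ (m + 1) := by
      have h3 := pow_orderOf_eq_one b
      rw [hm] at h3
      calc b = b * b ^ (2 * m + 1) := by rw [h3, mul_one]
        _ = b ^ (2 * (m + 1)) := by rw [← pow_succ']; congr 1
        _ = (b * b) ^ (m + 1) := by rw [pow_mul, pow_two]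
    rw [h2]
    exact pow_mem h1 _
  have hsx : s = x * b⁻¹ := by rw [hab]; group
  have hbR : ∀ r ∈ R, b⁻¹ * r * b ∈ R := by
    have h1 : zpowers x ≤ N R := by rw [zpowers_le]; exact mem_N_of hxR
    exact fun r hr => conj_mem' (h1 hb) hr
  have hsR : ∀ r ∈ R, s * r * s⁻¹ ∈ R := by
    intro r hr
    rw [hsx, show x * b⁻¹ * r * (x * b⁻¹)⁻¹ = x * (b⁻¹ * r * b) * x⁻¹ by group]
    exact hxR _ (hbR r hr)
  have hss : s * s ∈ C A := by
    obtain ⟨n, hn⟩ := hs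
    have hn' : x ^ n = s := hn
    rw [← hn', ← (Commute.refl x).mul_zpow]
    exact zpow_mem hxx n
  refine ⟨s, ⟨?_, ?_, ?_, hsR, ?_, ?_⟩⟩
  · rw [hsx]; exact mul_mem hxN (inv_mem (C_le_N hbC))
  · intro h1
    apply hxA
    rw [hab]
    exact mul_mem h1 (C_le_AC hbC)
  · rw [hsx, show x * b⁻¹ * ρ * (x * b⁻¹)⁻¹ = x * (b⁻¹ * ρ * b) * x⁻¹ by group,
      comm_of_C (inv_mem hbC) h.ρ_mem]
    calc x * (ρ * b⁻¹ * b) * x⁻¹ = x * ρ * x⁻¹ := by group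
      _ = ρ⁻¹ := hxρ
  · intro v hv
    rw [hsx, show x * b⁻¹ * v * (x * b⁻¹)⁻¹ = x * (b⁻¹ * v * b⁻¹⁻¹) * x⁻¹ by group,
      Base.CA_V h (inv_mem hbC) hv]
    exact hxV v hv
  · apply mem_R_of_two h hss
    · intro r hr
      rw [show s * s * r * (s * s)⁻¹ = s * (s * r * s⁻¹) * s⁻¹ by group]
      exact hsR _ (hsR r hr)
    · obtain ⟨k, hk⟩ := hs2
      exact ⟨k, by rw [(show Commute s s from rfl).mul_pow, hk, one_mul]⟩

namespace IsS

variable {s : G}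

theorem mul_R (h : OddE A R V ρ g) (hs : IsS A R V ρ s) {r : G} (hr : r ∈ R) : IsS A R V ρ (r * s) where
  mem := mul_mem (C_le_N (h.R_le hr)) hs.mem
  out := by
    intro h1
    apply hs.out
    rw [show s = r⁻¹ * (r * s) by group]
    exact mul_mem (C_le_AC (inv_mem (h.R_le hr))) h1
  conjρ := by
    rw [show r * s * ρ * (r * s)⁻¹ = r * (s * ρ * s⁻¹) * r⁻¹ by group, hs.conjρ,
      comm_of_C (h.R_le hr) (inv_mem h.ρ_mem)]; group
  memR := by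
    intro x hx
    rw [show r * s * x * (r * s)⁻¹ = r * (s * x * s⁻¹) * r⁻¹ by group]
    exact mul_mem (mul_mem hr (hs.memR x hx)) (inv_mem hr)
  memV := by
    intro x hx
    rw [show r * s * x * (r * s)⁻¹ = r * (s * x * s⁻¹) * r⁻¹ by group, Base.CA_V h (h.R_le hr) (hs.memV x hx)]
    exact hs.memV x hx
  sq := by
    rw [show r * s * (r * s) = r * (s * r * s⁻¹) * (s * s) by group]
    exact mul_mem (mul_mem hr (hs.memR r hr)) hs.sq

theorem NE [Finite G] (h : OddE A R V ρ g) (hs : IsS A R V ρ s) : s ∈ N (R ⊔ V) := Base.mem_NE h hs.memR hs.memV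

theorem nrm [Finite G] {h : OddE A R V ρ g} (hP : IsP h P) (hs : IsS A R V ρ s) : Nrm R V P s :=
  Base.nrm hP (hs.NE h) hs.mem

end IsS

end Cfsg.Agent.StdAlt.Five.Mu
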