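import Cfsg.Agent.StdAlt.Five.Sub
import Cfsg.Agent.StdAlt.Five.MkOdd
import Cfsg.Agent.StdAlt.Five.Mu
import Cfsg.Agent.StdAlt.First

/-!
# Reduction to a group `H = X R`

`X` is the normal simple subgroup of `G` containing the standard subgroup `A`, `R₀` a 2-subgroup of `C A`
containing a four-group, `H = X ⊔ R₀`.
-/

set_option autoImplicit false
set_option linter.unusedSectionVars false

namespace Cfsg.Agent.StdAlt.Five.Reduce

open Subgroup Equiv Equiv.Perm Cfsg.Agent.StdAlt Cfsg.Agent.StdAlt.Conj Cfsg.Agent.StdAlt.Pairs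
  Cfsg.Agent.StdAlt.First Cfsg.Agent.StdAlt.Five Cfsg.Agent.StdAlt.Five.Sub
open Cfsg.Agent.StdAlt.Two (HasFour)

variable {G : Type*} [Group G] {A X H : Subgroup G}

/-- `X` is a normal simple subgroup with trivial centralizer, containing `A`, which is not normal. -/
structure Lay (A X : Subgroup G) : Prop where
  te : TE A
  simpleA : IsSimpleGroup A
  nor : X.Normal
  simple : IsSimpleGroup X
  le : A ≤ X
  cent : ∀ g : G, (∀ x ∈ X, g * x = x * g) → g = 1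
  nn : ¬ A.Normal

/-- an involution of `A` -/
theorem exists_s (L : Lab A (Fin 5)) (hA : TE A) : ∃ s ∈ A, s ≠ 1 ∧ s * s = 1 := by
  obtain ⟨s, hs', hsφ⟩ := L.lift _ (PermTypes.swap_mul_mem
    (a := (0 : Fin 5)) (b := 1) (c := 2) (d := 3) (by decide) (by decide))
  have h1 : swap (0 : Fin 5) 1 * swap 2 3 ≠ 1 := by decide
  have h2 : swap (0 : Fin 5) 1 * swap 2 3 * (swap (0 : Fin 5) 1 * swap 2 3) = 1 := by decide
  refine ⟨s, hs', ?_, ?_⟩
  · rintro rfl
    rw [L.one] at hsφ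
    exact h1 hsφ.symm
  · apply L.eq_one hA (mul_mem hs' hs')
    rw [L.mul _ _ (le_N hs') (le_N hs'), hsφ, h2]

variable [Finite G]

/-- `A` is not normal in a subgroup containing `X` -/
theorem not_normal (D : Lay A X) (hXH : X ≤ H) : ¬ (A.subgroupOf H).Normal := by
  intro hn
  have hAH := D.le.trans hXH
  have h1 : (A.subgroupOf X).Normal := by
    refine ⟨fun a ha x => ?_⟩
    have h2 := hn.conj_mem ⟨(a : G), hXH a.2⟩ ha ⟨(x : G), hXH x.2⟩
    exact h2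
  have := D.simple
  rcases h1.eq_bot_or_eq_top with h | h
  · have h2 : A = ⊥ := by
      rw [eq_bot_iff]
      intro a ha
      have h3 : (⟨a, D.le ha⟩ : X) ∈ A.subgroupOf X := ha
      rw [h, mem_bot] at h3
      exact congrArg Subtype.val h3
    have := D.simpleA
    obtain ⟨x, hx⟩ := exists_ne (1 : A)
    apply hx
    have h3 : (x : G) ∈ (⊥ : Subgroup G) := h2 ▸ x.2
    rw [mem_bot] at h3
    exact Subtype.ext h3
  · have h2 : A = X := by
      apply le_antisymm D.le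
      rwa [subgroupOf_eq_top] at h
    exact D.nn (h2 ▸ D.nor)

/-- the odd core of a subgroup containing `X` is trivial -/
theorem core_bot (D : Lay A X) (hXH : X ≤ H) {s : G} (hs : s ∈ A) (hs1 : s ≠ 1) (hss : s * s = 1) :
    Cfsg.oddCore H = ⊥ := by
  rw [core_eq_bot_iff]
  intro O hO hodd
  have hX := D.nor
  have hXs := D.simple
  -- the intersection with `X`
  have h1 : ((O.map H.subtype).subgroupOf X).Normal := by
    refine ⟨fun a ha x => ?_⟩
    rw [mem_subgroupOf] at ha ⊢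
    obtain ⟨o, ho, hoa⟩ := ha
    refine ⟨⟨x, hXH x.2⟩ * o * ⟨x, hXH x.2⟩⁻¹, hO.conj_mem o ho _, ?_⟩
    simp only [coe_subtype] at hoa
    simp [← hoa]
  have hdis : ∀ x : G, ∀ hx : x ∈ X, (⟨x, hXH hx⟩ : H) ∈ O → x = 1 := by
    rcases h1.eq_bot_or_eq_top with h | h
    · intro x hx hxO
      have h2 : (⟨x, hx⟩ : X) ∈ (O.map H.subtype).subgroupOf X := ⟨_, hxO, rfl⟩
      rw [h, mem_bot] at h2
      exact congrArg Subtype.val h2
    · exfalso
      rw [subgroupOf_eq_top] at h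
      obtain ⟨o, ho, hos⟩ := h (D.le hs)
      have h2 : o * o = 1 := by
        apply Subtype.ext
        simp only [coe_subtype] at hos
        rw [Subgroup.coe_mul, hos, hss, Subgroup.coe_one]
      have h3 : o ≠ 1 := by
        rintro rfl
        apply hs1
        rw [← hos]
        rfl
      have h4 : orderOf o = 2 := orderOf_eq_prime (by rw [pow_two]; exact h2) h3
      have h5 : orderOf o ∣ Nat.card O := by
        have := orderOf_dvd_natCard (⟨o, ho⟩ : O)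
        rwa [← orderOf_coe] at this
      rw [h4] at h5
      exact (Nat.not_even_iff_odd.2 hodd) (even_iff_two_dvd.2 h5)
  rw [eq_bot_iff]
  intro o ho
  rw [mem_bot]
  apply Subtype.ext
  apply D.cent
  intro x hx
  have h2 : (o : G) * x * (o : G)⁻¹ * x⁻¹ ∈ X := mul_mem (D.nor.conj_mem x hx _) (inv_mem hx)
  have h3 : (⟨(o : G) * x * (o : G)⁻¹ * x⁻¹, hXH h2⟩ : H) ∈ O := by
    have h4 : o * ((⟨x, hXH hx⟩ : H) * o⁻¹ * (⟨x, hXH hx⟩ : H)⁻¹) ∈ O :=
      mul_mem ho (hO.conj_mem _ (inv_mem ho) _)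
    have h5 : (⟨(o : G) * x * (o : G)⁻¹ * x⁻¹, hXH h2⟩ : H) = o * ((⟨x, hXH hx⟩ : H) * o⁻¹ * (⟨x, hXH hx⟩ : H)⁻¹) := by
      apply Subtype.ext
      simp [mul_assoc]
    rw [h5]
    exact h4
  have h4 := hdis _ h2 h3
  have h5 : (o : G) * x * (o : G)⁻¹ = x := by
    rwa [mul_inv_eq_one] at h4
  calc (o : G) * x = ((o : G) * x * (o : G)⁻¹) * o := by group
    _ = x * o := by rw [h5]

/-- `H = X R₀`, `R₀` a 2-subgroup of `C A` -/
structure Sup (A X R₀ H : Subgroup G) : Prop where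
  X_le : X ≤ H
  R_le : R₀ ≤ H
  two : IsPGroup 2 R₀
  cent : R₀ ≤ C A
  gen : ∀ h ∈ H, ∃ x ∈ X, ∃ r ∈ R₀, h = x * r
  four : ∃ v ∈ R₀, ∃ v' ∈ R₀, v ≠ 1 ∧ v' ≠ 1 ∧ v ≠ v' ∧ v * v = 1 ∧ v' * v' = 1 ∧ v * v' = v' * v

theorem sup_of {R₀ : Subgroup G} (D : Lay A X) (h2 : IsPGroup 2 R₀) (hC : R₀ ≤ C A)
    (h4 : ∃ v ∈ R₀, ∃ v' ∈ R₀, v ≠ 1 ∧ v' ≠ 1 ∧ v ≠ v' ∧ v * v = 1 ∧ v' * v' = 1 ∧ v * v' = v' * v) :
    Sup A X R₀ (X ⊔ R₀) where
  X_le := le_sup_left
  R_le := le_sup_right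
  two := h2
  cent := hC
  gen := by
    intro h hh
    have := D.nor
    obtain ⟨x, hx, r, hr, e⟩ := mem_sup_of_normal_left.1 hh
    exact ⟨x, hx, r, hr, e.symm⟩
  four := h4

theorem Sup.hasFour {R₀ : Subgroup G} (D : Lay A X) (S : Sup A X R₀ H) : HasFour (A.subgroupOf H) := by
  have hAH := D.le.trans S.X_le
  obtain ⟨v, hv, v', hv', h1, h2, h3, h4, h5, h6⟩ := S.four
  refine ⟨⟨v, S.R_le hv⟩, (mem_C_sub hAH).2 (S.cent hv), ⟨v', S.R_le hv'⟩, (mem_C_sub hAH).2 (S.cent hv'),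
    ?_, ?_, ?_, ?_, ?_, ?_⟩
  · exact fun e => h1 (congrArg Subtype.val e)
  · exact fun e => h2 (congrArg Subtype.val e)
  · exact fun e => h3 (congrArg Subtype.val e).symm
  · exact Subtype.ext h4
  · exact Subtype.ext h5
  · exact Subtype.ext h6.symm

/-- **the odd configuration in `H`** -/
theorem Sup.exists_oddE {R₀ : Subgroup G} (D : Lay A X) (S : Sup A X R₀ H) (L : Lab A (Fin 5))
    (nK : ∀ x : G, ∀ a ∈ A, a ≠ 1 → a * a = 1 → x * a * x⁻¹ ∉ C A)
    (hcomm : Cfsg.oddCore H = ⊥ → CommHalf H) :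
    ∃ (R V : Subgroup H) (ρ g : H), OddE (A.subgroupOf H) R V ρ g ∧ (X.subgroupOf H).Normal ∧
      IsSimpleGroup ↥(X.subgroupOf H) ∧ A.subgroupOf H ≤ X.subgroupOf H ∧
      ∀ h : H, ∃ l ∈ X.subgroupOf H, ∃ r ∈ R, h = l * r := by
  have hAH := D.le.trans S.X_le
  obtain ⟨s, hs, hs1, hss⟩ := exists_s L D.te
  have hte := te D.te hAH
  have hF := S.hasFour D
  have hcore := core_bot D S.X_le hs hs1 hss
  obtain ⟨s', hs', hs1', hss'⟩ := exists_s (lab L hAH) hte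
  have h4 : 4 ∣ Nat.card (C (A.subgroupOf H)) := by
    obtain ⟨v, hv, v', hv', h1, h2, h3, h4, h5, h6⟩ := hF
    have h7 : Pairs.four v v' h4 h5 h6.symm ≤ C (A.subgroupOf H) := by
      intro z hz
      rcases mem_four.1 hz with rfl | rfl | rfl | rfl
      · exact one_mem _
      · exact hv
      · exact hv'
      · exact mul_mem hv hv'
    have h8 := card_dvd_of_le h7
    rwa [card_four h1 h2 (Ne.symm h3)] at h8
  have hgood : Good (A.subgroupOf H) := by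
    rcases normal_or_good hte (simple D.simpleA hAH) (hcomm hcore)
      ((lab L hAH).outer hte (by simp)) h4 hs' hs1' hss' with h | h
    · exact absurd h (not_normal D S.X_le)
    · exact h
  have nK' : ∀ x : H, ∀ a ∈ A.subgroupOf H, a ≠ 1 → a * a = 1 → x * a * x⁻¹ ∉ C (A.subgroupOf H) := by
    intro x a ha ha1 haa hx
    rw [mem_C_sub hAH] at hx
    exact nK x a ha (fun e => ha1 (Subtype.ext e)) (congrArg Subtype.val haa) hx
  obtain ⟨i, R, ρ, g, O⟩ := Five.exists_oddE (lab L hAH) hte hgood nK'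
  have hXn : (X.subgroupOf H).Normal := D.nor.subgroupOf H
  have := D.simple
  refine ⟨R, _, ρ, g, O, hXn, (subgroupOfEquivOfLe S.X_le).isSimpleGroup, fun a ha => D.le ha, ?_⟩
  -- `R₀` is conjugate into `R`
  obtain ⟨c, hc, hcR⟩ := Pairs.exists_conj_le (C (A.subgroupOf H)) R (R₀.subgroupOf H)
    (Mu.pgroup_R O) (S.two.comap_of_injective H.subtype H.subtype_injective) O.R_le (by
      intro r hr
      exact (mem_C_sub hAH).2 (S.cent hr)) (Mu.R_max O)
  intro h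
  obtain ⟨x, hx, r, hr, e⟩ := S.gen ((c⁻¹ * h * c : H) : G) (c⁻¹ * h * c).2
  refine ⟨c * ⟨x, S.X_le hx⟩ * c⁻¹, hXn.conj_mem _ hx c, c * ⟨r, S.R_le hr⟩ * c⁻¹, hcR _ hr, ?_⟩
  have h1 : c⁻¹ * h * c = ⟨x, S.X_le hx⟩ * ⟨r, S.R_le hr⟩ := Subtype.ext e
  calc h = c * (c⁻¹ * h * c) * c⁻¹ := by group
    _ = c * (⟨x, S.X_le hx⟩ * ⟨r, S.R_le hr⟩) * c⁻¹ := by rw [h1]
    _ = _ := by group

end Cfsg.Agent.StdAlt.Five.Reduce
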