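import Cfsg.Agent.StdAlt.Five.Outcome
import Cfsg.Agent.StdAlt.Five.Reduce
import Cfsg.Agent.StdAlt.Five.KillLink
import Cfsg.Agent.StdAlt.Five.KillA1
import Cfsg.Agent.StdAlt.Five.KillA2
import Cfsg.Agent.StdAlt.Five.KillA4
import Cfsg.Prelude.Def_Spor_Mathieu

/-!
# S1766, n = 5, case (I): the combination
-/

set_option autoImplicit false

namespace Cfsg.Agent.StdAlt.Five.Combine

open Subgroup Equiv Cfsg.Agent.StdAlt Cfsg.Agent.StdAlt.Conj Cfsg.Agent.J2Sylow.Model Cfsg.Agent.StdAlt.Five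
open Cfsg.Agent.StdAlt.Five.Sec4 Cfsg.Agent.StdAlt.Five.Outcome
open Cfsg.Agent.StdAlt.Five.Kill

universe u

/-- the results of the kills B1 - B4 -/
structure Kills {G : Type u} [Group G] [Finite G] (A R L : Subgroup G) : Prop where
  b1 : ∀ {V P : Subgroup G} {ρ : G} {ε : F4} {X Y Z : F4 → G} {S : Sylow 2 G},
    Base A R V P ρ ε X Y Z → Kap1 A R → WC1 A R V P Y Z S → False
  b2 : ∀ {V P : Subgroup G} {ρ : G} {ε : F4} {X Y Z : F4 → G} {s : G} {S : Sylow 2 G},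
    Base A R V P ρ ε X Y Z → Kap1 A R → WC2 A R V P ρ X Y Z s S → Cfsg.Spor.IsoM12 L

theorem mu2_not {G : Type u} [Group G] {A : Subgroup G} {ρ s : G} {X Y Z : F4 → G}
    (m : Mu2 A ρ X Y Z s) : s ∉ Mu.AC A := by
  rintro ⟨a, ha, k, hk, e⟩
  exact m.out a ha k hk e

/-- **Case (I)**: `L` is the Mathieu group of degree 12, or `L = G` is the second Janko group. -/
theorem final {G : Type u} [Group G] [Finite G] {A R V L : Subgroup G} {ρ : G} (O : Out A R V ρ)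
    (lab : Lab A (Fin 5)) (hA : ¬ 8 ∣ Nat.card A) (hL : L.Normal) (hs : IsSimpleGroup L)
    (_hAL : A ≤ L) (hgen : ∀ g : G, ∃ l ∈ L, ∃ r ∈ R, g = l * r) (K : Kills A R L)
    (gold : IsSimpleGroup G → Gold G)
    (j2 : IsSimpleGroup G → Cfsg.Agent.J2Sylow.Setup G →
      (¬ ∀ x y : G, orderOf x = 2 → orderOf y = 2 → IsConj x y) → Cfsg.Spor.IsoJ2 G) :
    (Cfsg.Spor.IsoM12 L ∧ ¬ Mu1 A) ∨ (Cfsg.Spor.IsoJ2 G ∧ L = ⊤) := by
  have hM : ∀ s ∈ N A, s ∉ Mu.AC A → ∀ m ∈ N A, m ∈ Kill.AC A ∨ m * s ∈ Kill.AC A := by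
    intro s h1 h2 m hm
    rw [Kill.mem_AC, Kill.mem_AC]
    exact index_AC lab h1 h2 m hm
  have htop : ∀ {P : Subgroup G} {X Y Z : F4 → G} {ρ₀ : G}, Base A R V P ρ 0 X Y Z →
      Kap3 A X Y ρ₀ → L = ⊤ ∧ IsSimpleGroup G ∧ ∀ M : Subgroup G, M.Normal → M.index ≠ 2 := by
    intro P X Y Z ρ₀ B κ
    have h1 := top_of_kap3 hL hgen κ B.frame.X_surj B.frame.X_add
    have h2 : IsSimpleGroup G := by
      rw [h1] at hs
      exact (topEquiv (G := G)).symm.isSimpleGroup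
    refine ⟨h1, h2, fun M hM hi => ?_⟩
    rcases hM.eq_bot_or_eq_top with h | h
    · rw [h, index_bot] at hi
      have h3 : Nat.card V ∣ Nat.card G := card_subgroup_dvd_card V
      obtain ⟨g, od⟩ := B.odd
      rw [od.cardV, hi] at h3
      norm_num at h3
    · rw [h, index_top] at hi
      norm_num at hi
  cases O with
  | one1 P ε X Y Z S B κ W => exact (K.b1 B κ W).elim
  | one2 P ε X Y Z s S B κ W =>
    exact Or.inl ⟨K.b2 B κ W, fun h => mu2_not W.mu2 (h s W.mu2.mem)⟩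
  | three1 P X Y Z ρ₀ S B κ W =>
    obtain ⟨h1, h2, h3⟩ := htop B κ
    exact (a1 B W (gold h2)).elim
  | three2 P X Y Z ρ₀ s S B κ W =>
    obtain ⟨h1, h2, h3⟩ := htop B κ
    exact (a2 B W hA (hM s W.mu2.mem (mu2_not W.mu2)) (gold h2)).elim
  | lin P X Y Z ρ₀ w S B κ sw =>
    obtain ⟨h1, h2, h3⟩ := htop B κ
    exact (a3 B κ sw hA h3).elim
  | semi P X Y Z ρ₀ w S B κ sw =>
    obtain ⟨h1, h2, h3⟩ := htop B κ
    exact Or.inr ⟨a4 B sw (j2 h2), h1⟩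
  | two P X Y Z ρ₀ s w S B κ sw =>
    obtain ⟨h1, h2, h3⟩ := htop B κ
    exact (a5 B κ sw hA (hM s sw.mu2.mem (mu2_not sw.mu2)) h3).elim

end Cfsg.Agent.StdAlt.Five.Combine
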