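import Mathlib
import Cfsg.Agent.StdAlt.Conj

/-!
# Standard subgroups isomorphic to the alternating group of degree five: the configurations

Definitions only.  `Act A φ`: `N A` acts on five points through `φ` with kernel `C A`, `A` inducing the
alternating group.  `Std A φ`: in addition the consequences of "`A` is standard".

`TypeTwo A φ β`: the configuration in which some involution of `A` lies in a conjugate of `C A`
(in `A_9`: `A = Alt{5,..,9}`, `β i` = the embedding of `Alt{1,2,3,4,i}`).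

`OddE A R V ρ g`: the configuration in which no involution of `A` lies in a conjugate of `C A`
(as in `J_2` and `Aut M_12`).
-/

set_option autoImplicit false

namespace Cfsg.Agent.StdAlt.Five

open Subgroup Equiv Cfsg.Agent.StdAlt.Conj

variable {G : Type*} [Group G]

/-- `N A` acts on five points through `φ`, with kernel `C A`; `A` acts as the alternating group. -/
structure Act (A : Subgroup G) (φ : G → Perm (Fin 5)) : Prop where
  mul : ∀ g ∈ N A, ∀ h ∈ N A, φ (g * h) = φ g * φ h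
  mem_C : ∀ g ∈ N A, φ g = 1 → g ∈ C A
  one_of_C : ∀ g ∈ C A, φ g = 1
  even : ∀ a ∈ A, φ a ∈ alternatingGroup (Fin 5)
  surj : ∀ σ ∈ alternatingGroup (Fin 5), ∃ a ∈ A, φ a = σ

/-- The standing hypothesis: `A` is a standard subgroup isomorphic to `A_5`. -/
structure Std (A : Subgroup G) (φ : G → Perm (Fin 5)) : Prop where
  te : TE A
  act : Act A φ
  /-- distinct conjugates of `A` do not commute -/
  nc : ∀ g : G, ¬ ∀ a ∈ A, ∀ b ∈ A, a * (g * b * g⁻¹) = g * b * g⁻¹ * a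

/-- `d` centralizes `A` and all `β i σ` -/
def CD (A : Subgroup G) (β : Fin 5 → alternatingGroup (Fin 5) → G) (d : G) : Prop :=
  d ∈ C A ∧ ∀ i σ, d * β i σ = β i σ * d

/-- The type II configuration: `B_i = {β i σ}` (`i = 0, …, 4`) are conjugates of `A`; the elements `β i σ` with
`σ` fixing the last point do not depend on `i`, they form the group `K₀` (isomorphic to `A_4`), and
`C A = K₀ × D`, `A ∩ C (B_i)` = stabilizer of the point `i` in `A`. -/
structure TypeTwo (A : Subgroup G) (φ : G → Perm (Fin 5)) (β : Fin 5 → alternatingGroup (Fin 5) → G) :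
    Prop where
  std : Std A φ
  mulβ : ∀ i σ τ, β i (σ * τ) = β i σ * β i τ
  injβ : ∀ i σ, β i σ = 1 → σ = 1
  /-- the range of `β i` is a conjugate of `A` -/
  conjβ : ∀ i, ∃ g : G, ∀ x, x ∈ A ↔ ∃ σ, g * x * g⁻¹ = β i σ
  agree : ∀ i j (σ : alternatingGroup (Fin 5)), σ.1 4 = 4 → β i σ = β j σ
  act : ∀ a ∈ A, ∀ i σ, a * β i σ * a⁻¹ = β (φ a i) σ
  K0 : ∀ i (σ : alternatingGroup (Fin 5)), β i σ ∈ C A ↔ σ.1 4 = 4
  CA : ∀ k ∈ C A, ∃ σ : alternatingGroup (Fin 5), σ.1 4 = 4 ∧ ∃ d, CD A β d ∧ k = β 0 σ * d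
  odd : ∀ d, CD A β d → d * d = 1 → d = 1
  fix : ∀ a ∈ A, ∀ i, (∀ σ, a * β i σ = β i σ * a) ↔ φ a i = i

/-- The odd configuration. -/
structure OddE (A R V : Subgroup G) (ρ g : G) : Prop where
  te : TE A
  /-- no involution of `A` is conjugate to an element of `C A` -/
  nK : ∀ x : G, ∀ a ∈ A, a ≠ 1 → a * a = 1 → x * a * x⁻¹ ∉ C A
  R_le : R ≤ C A
  V_le : V ≤ A
  cardR : Nat.card R = 4
  cardV : Nat.card V = 4
  sqR : ∀ r ∈ R, r * r = 1
  sqV : ∀ v ∈ V, v * v = 1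
  /-- `R` is a Sylow 2-subgroup of `C A` -/
  card8 : ¬ 8 ∣ Nat.card (C A)
  ρ_mem : ρ ∈ A
  ρ3 : ρ ^ 3 = 1
  ρV : ∀ v ∈ V, ρ * v * ρ⁻¹ ∈ V
  ρfix : ∀ v ∈ V, v ≠ 1 → ρ * v * ρ⁻¹ ≠ v
  /-- `C_{N A}(V) = C A * V` -/
  CV : ∀ x ∈ N A, (∀ v ∈ V, x * v = v * x) → ∃ v ∈ V, x * v ∈ C A
  /-- `g` normalizes `E = R ⊔ V` but not `A` -/
  gE : g ∈ N (R ⊔ V)
  gA : g ∉ N A

end Cfsg.Agent.StdAlt.Five
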