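import Cfsg.Agent.S1347
import Cfsg.Agent.StdAlt.CaseB

/-!
# The simple layer
-/

set_option autoImplicit false

namespace Cfsg.Agent.StdAlt.Five.Layer

open Subgroup Cfsg.Agent.StdAlt Cfsg.Agent.StdAlt.Conj

/-- **`E(G)` is simple, self-centralizing and contains `A`.** -/
theorem exists_simple {G : Type*} [Group G] [Finite G] (hO : Cfsg.oddCore G = ⊥) {A : Subgroup G}
    (hA : Cfsg.IsStandardSubgroup A) (hF : Two.HasFour A) (hn : ¬ A.Normal) :
    ∃ X : Subgroup G, X.Normal ∧ IsSimpleGroup ↥X ∧ A ≤ X ∧ (¬ IsMulCommutative ↥X) ∧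
      ∀ g : G, (∀ x ∈ X, g * x = x * g) → g = 1 := by
  obtain ⟨v, hv, v', hv', h1, h2, h3, h4, h5, h6⟩ := hF
  have ho : orderOf v = 2 := orderOf_eq_prime (by rw [sq]; exact h4) h1
  have hpc : pCore 2 G = ⊥ := by
    by_contra h
    exact hn (Cfsg.Agent.SignalizersComponents.StandardTrichotomy.normal_of_pCore_ne_bot hA ho hv h)
  have hC := Cfsg.Agent.SignalizersComponents.StandardTrichotomy.centralizer_layer_eq_bot hO hpc
  rcases Cfsg.Agent.S1347.result A hA hO v ho hv with h | ⟨X, -, -, -, -, -, -, hz⟩ | ⟨h7, h8, h9⟩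
  · exact absurd h hn
  · exfalso
    have h7 : v' ∈ zpowers v := by rw [← hz]; exact hv'
    obtain ⟨k, hk⟩ := mem_zpowers_iff.1 h7
    have h8 : v ^ (2 : ℤ) = 1 := by
      have : v ^ (2 : ℕ) = 1 := by rw [sq]; exact h4
      exact_mod_cast this
    rcases Int.even_or_odd' k with ⟨m, rfl | rfl⟩
    · rw [zpow_mul, h8, one_zpow] at hk
      exact h2 hk.symm
    · rw [zpow_add, zpow_mul, h8, one_zpow, one_mul, zpow_one] at hk
      exact h3 hk.symm
  · refine ⟨Cfsg.layer G, Cfsg.Agent.SignalizersComponents.Components.layer_normal G, h8, h7, h9,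
      fun g hg => ?_⟩
    have h10 : g ∈ centralizer (Cfsg.layer G : Set G) := by
      rw [mem_centralizer_iff]
      intro x hx
      exact (hg x hx).symm
    rw [hC, mem_bot] at h10
    exact h10

/-- the normal closure of a nontrivial subgroup of a normal simple subgroup -/
theorem normalClosure_eq {G : Type*} [Group G] {X A : Subgroup G} (hX : X.Normal)
    [hs : IsSimpleGroup ↥X] (h : A ≤ X) (hA : A ≠ ⊥) : normalClosure (A : Set G) = X := by
  have hle : normalClosure (A : Set G) ≤ X := normalClosure_le_normal h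
  have hn : ((normalClosure (A : Set G)).subgroupOf X).Normal :=
    (inferInstance : (normalClosure (A : Set G)).Normal).subgroupOf X
  rcases hs.eq_bot_or_eq_top_of_normal _ hn with h' | h'
  · exfalso
    apply hA
    rw [subgroupOf_eq_bot] at h'
    have h1 : A ≤ normalClosure (A : Set G) := le_normalClosure
    rw [eq_bot_iff]
    intro a ha
    exact h'.le_bot (⟨h1 ha, h ha⟩ : a ∈ normalClosure (A : Set G) ⊓ X)
  · rw [subgroupOf_eq_top] at h'
    exact le_antisymm hle h'

end Cfsg.Agent.StdAlt.Five.Layer
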