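import Cfsg.Agent.StdAlt.Five.TwoNine

/-!
# The type two configuration: `N A` induces the symmetric group on `A`
-/

set_option autoImplicit false
set_option linter.unusedSectionVars false

namespace Cfsg.Agent.StdAlt.Five

open Subgroup Equiv Equiv.Perm Cfsg.Agent.StdAlt.Conj
open Cfsg.Agent.StdAlt.PermTypes (cyc)

namespace TypeTwo

variable {G : Type*} [Group G] {A : Subgroup G} {φ : G → Perm (Fin 5)} {β : Fin 5 → A5 → G}

/-- a permutation acting oddly on the first five points -/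
def w9 : alternatingGroup Ω9 := ⟨swap (Sum.inl 0) (Sum.inl 1) * swap (Sum.inr 0) (Sum.inr 1),
  PermTypes.swap_mul_mem (fun h => by simp at h) (fun h => by simp at h)⟩

theorem fact_w9 : ∀ σ : A5, w9.1 * (NineEmb.ι σ).1 * w9.1⁻¹ =
    Perm.sumCongr (swap 0 1 * σ.1 * (swap 0 1)⁻¹) 1 := by decide +kernel

/-- **`N A` contains elements acting oddly on `A`**. -/
theorem exists_odd [Finite G] (h : TypeTwo A φ β) : ∃ x ∈ N A, Perm.sign (φ x) = -1 := by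
  obtain ⟨E⟩ := h.exists_emb
  have hx : E.f w9 ∈ N A := by
    apply mem_N_of
    intro a ha
    have h1 : a ∈ (E.f.comp NineEmb.ι).range := by rw [E.range_eq]; exact ha
    obtain ⟨σ, rfl⟩ := h1
    have h2 : w9 * NineEmb.ι σ * w9⁻¹ = NineEmb.ι ⟨swap 0 1 * σ.1 * (swap 0 1)⁻¹,
      (inferInstance : (alternatingGroup (Fin 5)).Normal).conj_mem _ σ.2 _⟩ :=
      Subtype.ext (fact_w9 σ)
    have h3 : E.f w9 * (E.f.comp NineEmb.ι) σ * (E.f w9)⁻¹ ∈ (E.f.comp NineEmb.ι).range := by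
      show E.f w9 * E.f (NineEmb.ι σ) * (E.f w9)⁻¹ ∈ _
      rw [← map_inv, ← map_mul, ← map_mul, h2]
      exact ⟨_, rfl⟩
    rwa [E.range_eq] at h3
  refine ⟨E.f w9, hx, ?_⟩
  rcases Int.units_eq_one_or (Perm.sign (φ (E.f w9))) with hs | hs
  swap
  · exact hs
  exfalso
  obtain ⟨a, ha, hax⟩ := h.lab.lift (φ (E.f w9)) (mem_alt_iff.2 hs)
  have h2 : a⁻¹ * E.f w9 ∈ C A := by
    have e1 := h.lab.mul_inv_mem_C (le_N ha) hx hax
    have e2 := inv_mem e1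
    rw [mul_inv_rev, inv_inv] at e2
    have e3 := conj_mem_C' (le_N ha) e2
    rwa [show a⁻¹ * (E.f w9 * a⁻¹) * a = a⁻¹ * E.f w9 by group] at e3
  obtain ⟨κ, hκ, d, hd, e⟩ := h.CA _ h2
  have h0 := E.hf ⟨cyc (Sum.inr 0) (Sum.inr 2) (Sum.inr 3),
    PermTypes.cyc_mem_alt (fun h => by simp at h) cd⟩ (Sum.inr 0) (fun h => by simp at h)
    (fun h => by simp at h) rfl
  have h1 := E.hf ⟨cyc (Sum.inr 1) (Sum.inr 2) (Sum.inr 3),
    PermTypes.cyc_mem_alt (fun h => by simp at h) cd⟩ (Sum.inr 1) (fun h => by simp at h)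
    (fun h => by simp at h) rfl
  rw [h.y_inr0] at h0
  rw [h.y_inr1] at h1
  have c0 : E.f w9 * β 0 κ0 * (E.f w9)⁻¹ = β 0 κ1 := by
    rw [← h0, ← h1, ← map_inv, ← map_mul, ← map_mul]
    congr 1
    apply Subtype.ext
    show w9.1 * cyc (Sum.inr 0) (Sum.inr 2) (Sum.inr 3) * w9.1⁻¹ = cyc (Sum.inr 1) (Sum.inr 2) (Sum.inr 3)
    decide +kernel
  have c1 : E.f w9 * β 0 κ1 * (E.f w9)⁻¹ = β 0 κ0 := by
    rw [← h0, ← h1, ← map_inv, ← map_mul, ← map_mul]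
    congr 1
    apply Subtype.ext
    show w9.1 * cyc (Sum.inr 1) (Sum.inr 2) (Sum.inr 3) * w9.1⁻¹ = cyc (Sum.inr 0) (Sum.inr 2) (Sum.inr 3)
    decide +kernel
  -- conjugation by `κ`
  have key : ∀ {σ τ : A5}, τ.1 4 = 4 → E.f w9 * β 0 σ * (E.f w9)⁻¹ = β 0 τ →
      κ * σ * κ⁻¹ = τ := by
    intro σ τ hτ hc
    apply h.inj (i := 0)
    have g1 : (a⁻¹ * E.f w9) * β 0 σ * (a⁻¹ * E.f w9)⁻¹ = β 0 τ := by
      rw [show a⁻¹ * E.f w9 * β 0 σ * (a⁻¹ * E.f w9)⁻¹ = a⁻¹ * (E.f w9 * β 0 σ * (E.f w9)⁻¹) * a by group,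
        hc, mul_assoc, comm_of_C ((h.K0 0 τ).2 hτ) ha, inv_mul_cancel_left]
    rw [h.mulβ, h.mulβ, h.inv, ← g1, e,
      show β 0 κ * d * β 0 σ * (β 0 κ * d)⁻¹ = β 0 κ * (d * β 0 σ) * d⁻¹ * (β 0 κ)⁻¹ by group, hd.2]
    group
  exact fact_noswap κ hκ (key κ1_fix c0) (key κ0_fix c1)

/-- `N A = A × C A` is impossible -/
theorem false_of_even [Finite G] (h : TypeTwo A φ β) (hev : ∀ x ∈ N A, ∃ a ∈ A, x * a ∈ C A) :
    False := by
  obtain ⟨x, hx, hs⟩ := h.exists_odd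
  obtain ⟨a, ha, hxa⟩ := hev x hx
  have e1 : φ (x * a) = φ x * φ a := h.lab.mul _ _ hx (le_N ha)
  have e2 : φ (x * a) = 1 := h.lab.of_C hxa
  rw [e1] at e2
  have e3 := congrArg Perm.sign e2
  rw [Perm.sign_mul, hs, mem_alt_iff.1 (h.std.act.even a ha), Perm.sign_one] at e3
  exact absurd e3 (by decide)

end TypeTwo

end Cfsg.Agent.StdAlt.Five
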