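import Cfsg.Agent.StdAlt.Five.Combine
import Cfsg.Agent.StdAlt.Five.Layer
import Cfsg.Agent.StdAlt.Five.TwoOdd
import Cfsg.Agent.StdAlt.Five.MkTwo
import Cfsg.Agent.StdAlt.Main

/-!
# S1766, n = 5: the theorem from the external results
-/

set_option autoImplicit false

namespace Cfsg.Agent.StdAlt.Five.End

open Subgroup Equiv Cfsg.Agent.StdAlt Cfsg.Agent.StdAlt.Conj Cfsg.Agent.J2Sylow.Model Cfsg.Agent.StdAlt.Five
open Cfsg.Agent.StdAlt.Five.Sec4 Cfsg.Agent.StdAlt.Five.Outcome Cfsg.Agent.StdAlt.Five.Reduce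
open Cfsg.Agent.StdAlt.Five.Combine
open Cfsg.Agent.StdAlt.Two (HasFour)

universe u

/-- the external results -/
structure Ext : Prop where
  comm : ∀ (T : Type u) [Group T] [Finite T], Cfsg.oddCore T = ⊥ → First.CommHalf T
  gold : ∀ (T : Type u) [Group T] [Finite T], IsSimpleGroup T → Kill.Gold T
  j2 : ∀ (T : Type u) [Group T] [Finite T], IsSimpleGroup T → Cfsg.Agent.J2Sylow.Setup T →
    (¬ ∀ x y : T, orderOf x = 2 → orderOf y = 2 → IsConj x y) → Cfsg.Spor.IsoJ2 T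
  kills : ∀ (T : Type u) [Group T] [Finite T] (A R L : Subgroup T), L.Normal → IsSimpleGroup L →
    A ≤ L → (∀ g : T, ∃ l ∈ L, ∃ r ∈ R, g = l * r) → ¬ 8 ∣ Nat.card A → Kills A R L

theorem card_A {G : Type u} [Group G] {A : Subgroup G} (e : A ≃* alternatingGroup (Fin 5)) :
    Nat.card A = 60 := by
  rw [Nat.card_congr e.toEquiv, Nat.card_eq_fintype_card]
  decide +kernel

/-- **case (I)** for the group `H = X R₀` -/
theorem caseOne (E : Ext.{u}) {G : Type u} [Group G] [Finite G] {A X R₀ H : Subgroup G} (D : Lay A X)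
    (L : Lab A (Fin 5)) (h8 : ¬ 8 ∣ Nat.card A) (S : Sup A X R₀ H)
    (nK : ∀ x : G, ∀ a ∈ A, a ≠ 1 → a * a = 1 → x * a * x⁻¹ ∉ C A) :
    (Cfsg.Spor.IsoM12 X ∧ ¬ Mu1 (A.subgroupOf H)) ∨ (Cfsg.Spor.IsoJ2 X ∧ H = X) := by
  have hAH := D.le.trans S.X_le
  obtain ⟨R, V, ρ, g, O, hn, hs, hAL, hgen⟩ := S.exists_oddE D L nK (E.comm H)
  have h8' : ¬ 8 ∣ Nat.card (A.subgroupOf H) := by
    rwa [Nat.card_congr (subgroupOfEquivOfLe hAH).toEquiv]
  rcases final (out_of O h8') (Sub.lab L hAH) h8' hn hs hAL hgen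
    (E.kills H _ _ _ hn hs hAL hgen h8') (E.gold H) (E.j2 H) with ⟨⟨e⟩, h⟩ | ⟨⟨e⟩, h⟩
  · left
    exact ⟨⟨(subgroupOfEquivOfLe S.X_le).symm.trans e⟩, h⟩
  · right
    rw [subgroupOf_eq_top] at h
    have hHX : H = X := le_antisymm h S.X_le
    subst hHX
    exact ⟨⟨e⟩, rfl⟩

theorem lay_of {G : Type u} [Group G] [Finite G] (hO : Cfsg.oddCore G = ⊥) {A : Subgroup G}
    (hA : Cfsg.IsStandardSubgroup A) (hs : IsSimpleGroup A) (hF : HasFour A) (hn : ¬ A.Normal) :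
    ∃ X, Lay A X ∧ normalClosure (A : Set G) = X := by
  obtain ⟨X, h1, h2, h3, h4, h5⟩ := Layer.exists_simple hO hA hF hn
  refine ⟨X, ⟨TE.of_standard hA hs, hs, h1, h2, h3, h5, hn⟩, Layer.normalClosure_eq h1 h3 ?_⟩
  rintro rfl
  obtain ⟨x, hx⟩ := exists_ne (1 : (⊥ : Subgroup G))
  exact hx (Subsingleton.elim _ _)

/-- **the theorem for `n = 5`** -/
theorem main (E : Ext.{u}) {G : Type u} [Group G] [Finite G] (hO : Cfsg.oddCore G = ⊥) {A : Subgroup G}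
    (hA : Cfsg.IsStandardSubgroup A) (e : A ≃* alternatingGroup (Fin 5))
    (hR : ¬ Cfsg.PRankLE 2 1 ↥(centralizer (A : Set G))) :
    A.Normal ∨ Nonempty (↥(normalClosure (A : Set G)) ≃* ↥(alternatingGroup (Fin 9))) ∨
      Cfsg.Spor.IsoM12 ↥(normalClosure (A : Set G)) ∨ Cfsg.Spor.IsoJ2 ↥(normalClosure (A : Set G)) := by
  by_cases hn : A.Normal
  · exact Or.inl hn
  right
  have hs := Main.simple_of_equiv (le_refl 5) e
  have hF := Main.hasFour_of_rank hR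
  have hte := TE.of_standard hA hs
  obtain ⟨L, -⟩ := exists_lab e
  by_cases hK : ∃ x : G, ∃ a ∈ A, a ≠ 1 ∧ a * a = 1 ∧ x * a * x⁻¹ ∈ C A
  · obtain ⟨β, T⟩ := typeTwo_of_inv L hte hF hK
    exact Or.inl T.normalClosure_equiv
  · right
    push Not at hK
    obtain ⟨X, D, hX⟩ := lay_of hO hA hs hF hn
    rw [hX]
    obtain ⟨v, hv, v', hv', h1, h2, h3, h4, h5, h6⟩ := hF
    have hle : Pairs.four v v' h4 h5 h6.symm ≤ C A := by
      intro z hz
      rcases Pairs.mem_four.1 hz with rfl | rfl | rfl | rfl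
      · exact one_mem _
      · exact hv
      · exact hv'
      · exact mul_mem hv hv'
    have S := sup_of D (R₀ := Pairs.four v v' h4 h5 h6.symm)
      (IsPGroup.of_card (n := 2) (by rw [Pairs.card_four h1 h2 (Ne.symm h3)]; norm_num)) hle
      ⟨v, Or.inr (Or.inl rfl), v', Or.inr (Or.inr (Or.inl rfl)), h1, h2, Ne.symm h3, h4, h5, h6.symm⟩
    rcases caseOne E D L (by rw [card_A e]; norm_num) S
      (fun x a ha ha1 haa => hK x a ha ha1 haa) with h | h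
    · exact Or.inl h.1
    · exact Or.inr h.1

/-- every 2-element of `C A` lies in a 2-subgroup of `C A` containing a four-group -/
theorem exists_big {G : Type u} [Group G] [Finite G] {A : Subgroup G} (hF : HasFour A) {x : G}
    (hx : x ∈ C A) (h2 : ∃ k : ℕ, x ^ (2 ^ k) = 1) : ∃ R₀ : Subgroup G, IsPGroup 2 R₀ ∧ R₀ ≤ C A ∧ x ∈ R₀ ∧
      ∃ v ∈ R₀, ∃ v' ∈ R₀, v ≠ 1 ∧ v' ≠ 1 ∧ v ≠ v' ∧ v * v = 1 ∧ v' * v' = 1 ∧ v * v' = v' * v := by
  have hz : IsPGroup 2 (zpowers (⟨x, hx⟩ : C A)) := by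
    intro y
    obtain ⟨y, hy⟩ := y
    obtain ⟨n, rfl⟩ := mem_zpowers_iff.1 hy
    obtain ⟨k, hk⟩ := h2
    refine ⟨k, ?_⟩
    apply Subtype.ext
    apply Subtype.ext
    simp only [SubgroupClass.coe_pow, SubgroupClass.coe_zpow, OneMemClass.coe_one]
    rw [← zpow_natCast, ← zpow_mul, mul_comm, zpow_mul, zpow_natCast, hk, one_zpow]
  obtain ⟨Q, hQ⟩ := hz.exists_le_sylow
  obtain ⟨v, hv, v', hv', h1, h2, h3, h4, h5, h6⟩ := hF
  have hle : Pairs.four v v' h4 h5 h6.symm ≤ C A := by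
    intro z hz
    rcases Pairs.mem_four.1 hz with rfl | rfl | rfl | rfl
    · exact one_mem _
    · exact hv
    · exact hv'
    · exact mul_mem hv hv'
  have hmap : (Q : Subgroup (C A)).map (C A).subtype ≤ C A := by
    rintro _ ⟨y, -, rfl⟩
    exact y.2
  obtain ⟨g, hg, hgle⟩ := Pairs.exists_conj_le (C A) ((Q : Subgroup (C A)).map (C A).subtype)
    (Pairs.four v v' h4 h5 h6.symm) (Q.2.map _)
    (IsPGroup.of_card (n := 2) (by rw [Pairs.card_four h1 h2 (Ne.symm h3)]; norm_num)) hmap hle (by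
      intro P hP hQP hPC
      apply le_antisymm _ hQP
      have h7 : (Q : Subgroup (C A)) ≤ P.subgroupOf (C A) := by
        intro y hy
        exact hQP ⟨y, hy, rfl⟩
      have h8 := Q.3 (hP.comap_of_injective (C A).subtype (C A).subtype_injective) h7
      intro y hy
      have h9 : (⟨y, hPC hy⟩ : C A) ∈ P.subgroupOf (C A) := hy
      have h10 : (⟨y, hPC hy⟩ : C A) ∈ (Q : Subgroup (C A)) := h8 ▸ h9
      exact ⟨_, h10, rfl⟩)
  have conj_ne : ∀ y z : G, y ≠ z → g * y * g⁻¹ ≠ g * z * g⁻¹ := fun y z h e =>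
    h (mul_left_cancel (mul_right_cancel e))
  refine ⟨_, Q.2.map _, hmap, ⟨⟨x, hx⟩, hQ (mem_zpowers _), rfl⟩, g * v * g⁻¹,
    hgle _ (Or.inr (Or.inl rfl)), g * v' * g⁻¹, hgle _ (Or.inr (Or.inr (Or.inl rfl))), ?_, ?_,
    conj_ne _ _ (Ne.symm h3), ?_, ?_, ?_⟩
  · intro e
    apply conj_ne _ _ h1
    rw [e]; group
  · intro e
    apply conj_ne _ _ h2
    rw [e]; group
  · rw [show g * v * g⁻¹ * (g * v * g⁻¹) = g * (v * v) * g⁻¹ by group, h4]; group
  · rw [show g * v' * g⁻¹ * (g * v' * g⁻¹) = g * (v' * v') * g⁻¹ by group, h5]; group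
  · rw [show g * v * g⁻¹ * (g * v' * g⁻¹) = g * (v * v') * g⁻¹ by group, ← h6]; group

/-- **`n = 5`, `μ = 1`**: the normal closure of `A` is the second Janko group and contains the 2-elements of
`C A` (used for S1767) -/
theorem mu_one (E : Ext.{u}) {G : Type u} [Group G] [Finite G] (hO : Cfsg.oddCore G = ⊥) {A : Subgroup G}
    (hA : Cfsg.IsStandardSubgroup A) (e : A ≃* alternatingGroup (Fin 5))
    (hR : ¬ Cfsg.PRankLE 2 1 ↥(centralizer (A : Set G))) (hn : ¬ A.Normal)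
    (hmu : ∀ g ∈ normalizer (A : Set G), ∃ a ∈ A, ∃ k ∈ centralizer (A : Set G), g = a * k) :
    Cfsg.Spor.IsoJ2 ↥(normalClosure (A : Set G)) ∧
      ∀ x ∈ centralizer (A : Set G), (∃ k : ℕ, x ^ (2 ^ k) = 1) → x ∈ normalClosure (A : Set G) := by
  have hs := Main.simple_of_equiv (le_refl 5) e
  have hF := Main.hasFour_of_rank hR
  have hte := TE.of_standard hA hs
  obtain ⟨L, -⟩ := exists_lab e
  by_cases hK : ∃ x : G, ∃ a ∈ A, a ≠ 1 ∧ a * a = 1 ∧ x * a * x⁻¹ ∈ C A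
  · exfalso
    obtain ⟨β, T⟩ := typeTwo_of_inv L hte hF hK
    apply T.false_of_even
    intro x hx
    obtain ⟨a, ha, k, hk, rfl⟩ := hmu x hx
    refine ⟨a⁻¹, inv_mem ha, ?_⟩
    rw [← comm_of_C hk ha, mul_inv_cancel_right]
    exact hk
  · push Not at hK
    obtain ⟨X, D, hX⟩ := lay_of hO hA hs hF hn
    rw [hX]
    have key : ∀ x ∈ C A, (∃ k : ℕ, x ^ (2 ^ k) = 1) → Cfsg.Spor.IsoJ2 X ∧ x ∈ X := by
      intro x hx h2
      obtain ⟨R₀, hR2, hRC, hxR, h4⟩ := exists_big hF hx h2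
      have S := sup_of D hR2 hRC h4
      have hAH := D.le.trans S.X_le
      rcases caseOne E D L (by rw [card_A e]; norm_num) S
        (fun x a ha ha1 haa => hK x a ha ha1 haa) with ⟨-, h⟩ | ⟨h1, h2⟩
      · exfalso
        apply h
        intro s hs
        rw [Sub.mem_N_sub hAH] at hs
        obtain ⟨a, ha, k, hk, e⟩ := hmu s hs
        have h3 : (⟨a, hAH ha⟩ : ↥(X ⊔ R₀))⁻¹ * s ∈ C (A.subgroupOf (X ⊔ R₀)) := by
          rw [Sub.mem_C_sub hAH]
          have h4 : (((⟨a, hAH ha⟩ : ↥(X ⊔ R₀))⁻¹ * s : ↥(X ⊔ R₀)) : G) = k := by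
            change a⁻¹ * (s : G) = k
            rw [e, inv_mul_cancel_left]
          rw [h4]
          exact hk
        exact ⟨⟨a, hAH ha⟩, ha, _, h3, by group⟩
      · refine ⟨h1, ?_⟩
        rw [← h2]
        exact S.R_le hxR
    exact ⟨(key 1 (one_mem _) ⟨0, by simp⟩).1, fun x hx h2 => (key x hx h2).2⟩

end Cfsg.Agent.StdAlt.Five.End
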