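import Mathlib
import Cfsg.Agent.StdAlt.Conj
import Cfsg.Agent.StdAlt.Five.Swap

/-!
# S1766, n = 5, odd configuration with `N_K(R) = C_K(R)` (`κ = 1`): definitions

`K = C A`, `M = N A`.  `L` is a normal simple subgroup of `G = L R` containing `A`.
-/

set_option autoImplicit false

namespace Cfsg.Agent.StdAlt.Five

open Subgroup Cfsg.Agent.StdAlt.Conj Cfsg.Agent.J2Sylow.Model

/-- The common hypotheses of the kills B1 - B4. -/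
structure KOne {G : Type*} [Group G] (A R B P L : Subgroup G) (ρ : G) (ε : F4) (X Y Z : F4 → G) :
    Prop where
  dat : Coord.Data R B P ρ
  fr : Coord.Frame R B P ρ ε X Y Z
  te : TE A
  /-- no involution of `A` is conjugate to an element of `C A` -/
  nK : ∀ x : G, ∀ a ∈ A, a ≠ 1 → a * a = 1 → x * a * x⁻¹ ∉ C A
  R_le : R ≤ C A
  B_le : B ≤ A
  ρA : ρ ∈ A
  cardA : ¬ 8 ∣ Nat.card A
  cardK : ¬ 8 ∣ Nat.card (C A)
  /-- `C_{N A}(B) = C A * B` -/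
  CV : ∀ x ∈ N A, (∀ v ∈ B, x * v = v * x) → ∃ v ∈ B, x * v ∈ C A
  /-- `N_K(R) = C_K(R)` -/
  κ : ∀ k ∈ C A, (∀ r ∈ R, k * r * k⁻¹ ∈ R) → ∀ r ∈ R, k * r = r * k
  nor : L.Normal
  simple : IsSimpleGroup L
  A_le : A ≤ L
  gen : ∀ g : G, ∃ l ∈ L, ∃ r ∈ R, g = l * r

/-- `|M / K A| = 1`; `P` is a Sylow 2-subgroup. -/
structure MuOne {G : Type*} [Group G] (A R B P L : Subgroup G) (ρ : G) (ε : F4) (X Y Z : F4 → G)
    (S : Sylow 2 G) : Prop extends KOne A R B P L ρ ε X Y Z where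
  hM : ∀ m ∈ N A, ∃ k ∈ C A, ∃ a ∈ A, m = k * a
  hS : (S : Subgroup G) = P

/-- `|M / K A| = 2`; `P ⟨s⟩` is a Sylow 2-subgroup. -/
structure MuTwo {G : Type*} [Group G] (A R B P L : Subgroup G) (ρ : G) (ε : F4) (X Y Z : F4 → G)
    (s : G) (S : Sylow 2 G) : Prop extends KOne A R B P L ρ ε X Y Z where
  sN : s ∈ N A
  ss : s * s = 1
  s_not : s ∉ P
  hM : ∀ m ∈ N A, ∃ k ∈ C A, ∃ a ∈ A, m = k * a ∨ m = k * a * s
  sX : ∀ a, s * X a * s⁻¹ = X (F4.fr a)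
  sY : ∀ b, s * Y b * s⁻¹ = Y (F4.fr b)
  sZ : ∀ c, s * Z c * s⁻¹ = Z (F4.fr c)
  hS : ∀ x, x ∈ (S : Subgroup G) ↔ x ∈ P ∨ x * s ∈ P

end Cfsg.Agent.StdAlt.Five
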