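import Mathlib
import Cfsg.Agent.StdAlt.Five.KOneDefs

/-!
# S1766, n = 5, `κ = 1`: basic facts
-/

set_option autoImplicit false

namespace Cfsg.Agent.StdAlt.Five

open Subgroup Cfsg.Agent.StdAlt.Conj Cfsg.Agent.J2Sylow.Model

namespace KOne

variable {G : Type*} [Group G] {A R B P L : Subgroup G} {ρ : G} {ε : F4} {X Y Z : F4 → G}
variable (h : KOne A R B P L ρ ε X Y Z)
include h

theorem ZX (c a : F4) : Z c * X a = X a * Z c :=
  (h.dat.cent _ (h.dat.R_le (h.fr.X_mem a)) _ (h.fr.Z_mem c)).symm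

theorem ZY (c b : F4) : Z c * Y b = Y b * Z c :=
  (h.dat.cent _ (h.fr.Y_mem b) _ (h.fr.Z_mem c)).symm

theorem XX (a : F4) : X a * X a = 1 := by
  rw [← h.fr.X_add, F4.add_self, h.fr.X_zero]

theorem ZZ (a : F4) : Z a * Z a = 1 := by
  rw [← h.fr.Z_add, F4.add_self, h.fr.Z_zero]

theorem X_inv (a : F4) : (X a)⁻¹ = X a := inv_eq_of_mul_eq_one_right (h.XX a)

theorem Z_inv (a : F4) : (Z a)⁻¹ = Z a := inv_eq_of_mul_eq_one_right (h.ZZ a)

theorem X_ne {a : F4} (ha : a ≠ 0) : X a ≠ 1 := fun h1 => ha (h.fr.X_inj (h1.trans h.fr.X_zero.symm))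

theorem Z_ne {a : F4} (ha : a ≠ 0) : Z a ≠ 1 := fun h1 => ha (h.fr.Z_inj (h1.trans h.fr.Z_zero.symm))

theorem mul3 (b a c b' a' c' : F4) : (Y b * X a * Z c) * (Y b' * X a' * Z c') =
    Y (b + b') * X (a + a') * Z (c + c' + a * b' + ε * F4.fr (b * b')) := by
  have e1 : (Y b * X a * Z c) * (Y b' * X a' * Z c') = Y b * (X a * Y b') * X a' * (Z c * Z c') := by
    calc (Y b * X a * Z c) * (Y b' * X a' * Z c') = Y b * X a * (Z c * Y b') * X a' * Z c' := by group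
      _ = Y b * X a * Y b' * (Z c * X a') * Z c' := by rw [h.ZY]; group
      _ = _ := by rw [h.ZX]; group
  have e2 : (Y b * X a * Z c) * (Y b' * X a' * Z c') =
      (Y b * Y b') * (X a * X a') * (Z (a * b') * (Z c * Z c')) := by
    rw [e1, h.fr.X_Y]
    calc Y b * (Y b' * X a * Z (a * b')) * X a' * (Z c * Z c')
        = Y b * Y b' * X a * (Z (a * b') * X a') * (Z c * Z c') := by group
      _ = _ := by rw [h.ZX]; group
  rw [e2, h.fr.Y_mul, ← h.fr.X_add, ← h.fr.Z_add, ← h.fr.Z_add]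
  calc Y (b + b') * Z (ε * F4.fr (b * b')) * X (a + a') * Z (a * b' + (c + c'))
      = Y (b + b') * (Z (ε * F4.fr (b * b')) * X (a + a')) * Z (a * b' + (c + c')) := by group
    _ = Y (b + b') * X (a + a') * (Z (ε * F4.fr (b * b')) * Z (a * b' + (c + c'))) := by
        rw [h.ZX]; group
    _ = _ := by
        rw [← h.fr.Z_add]
        congr 2
        ring

theorem one3 : (1 : G) = Y 0 * X 0 * Z 0 := by rw [h.fr.X_zero, h.fr.Y_zero, h.fr.Z_zero]; group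

theorem inv3 (b a c : F4) : (Y b * X a * Z c)⁻¹ = Y b * X a * Z (c + a * b + ε * F4.fr (b * b)) := by
  refine inv_eq_of_mul_eq_one_right ?_
  rw [h.mul3, h.one3, F4.add_self, F4.add_self]
  have : ∀ c x y : F4, c + (c + x + y) + x + y = 0 := by decide
  rw [this]

theorem Xmem (a : F4) : X a ∈ P := h.dat.R_le (h.fr.X_mem a)
theorem Zmem (a : F4) : Z a ∈ P := h.dat.B_le (h.fr.Z_mem a)

/-- the abelian group `E = R B` -/
theorem mem_E {x : G} : x ∈ R ⊔ B ↔ ∃ a c, x = X a * Z c := by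
  constructor
  · intro hx
    have : R ⊔ B ≤ (⟨⟨⟨{x | ∃ a c, x = X a * Z c}, by
        rintro x y ⟨a, c, rfl⟩ ⟨a', c', rfl⟩
        refine ⟨a + a', c + c', ?_⟩
        rw [h.fr.X_add, h.fr.Z_add]
        calc X a * Z c * (X a' * Z c') = X a * (Z c * X a') * Z c' := by group
          _ = _ := by rw [h.ZX]; group⟩, ⟨0, 0, by rw [h.fr.X_zero, h.fr.Z_zero, mul_one]⟩⟩, by
        rintro x ⟨a, c, rfl⟩
        refine ⟨a, c, ?_⟩
        rw [mul_inv_rev, h.X_inv, h.Z_inv, h.ZX]⟩ : Subgroup G) := by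
      rw [sup_le_iff]
      constructor
      · intro x hx
        obtain ⟨a, rfl⟩ := h.fr.X_surj x hx
        exact ⟨a, 0, by rw [h.fr.Z_zero, mul_one]⟩
      · intro x hx
        obtain ⟨a, rfl⟩ := h.fr.Z_surj x hx
        exact ⟨0, a, by rw [h.fr.X_zero, one_mul]⟩
    exact this hx
  · rintro ⟨a, c, rfl⟩
    exact mul_mem (mem_sup_left (h.fr.X_mem a)) (mem_sup_right (h.fr.Z_mem c))

theorem XC (a : F4) : X a ∈ C A := h.R_le (h.fr.X_mem a)
theorem ZA (a : F4) : Z a ∈ A := h.B_le (h.fr.Z_mem a)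

/-- conjugates of elements of `B#` are not in `C A` -/
theorem Z_nK {c : F4} (hc : c ≠ 0) (g : G) : g * Z c * g⁻¹ ∉ C A :=
  h.nK g _ (h.ZA c) (h.Z_ne hc) (h.ZZ c)

/-- conjugation of `X a` by `Y b` -/
theorem Y_conj_X (b a : F4) : (Y b)⁻¹ * X a * Y b = X a * Z (a * b) := by
  have := h.fr.X_Y a b
  calc (Y b)⁻¹ * X a * Y b = (Y b)⁻¹ * (X a * Y b) := by group
    _ = _ := by rw [this]; group

/-- elements of `N A` normalise `C A`; `E ∩ C A = R` -/
theorem mem_R_of {x : G} (hx : x ∈ R ⊔ B) (hxC : x ∈ C A) : x ∈ R := by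
  obtain ⟨a, c, rfl⟩ := h.mem_E.1 hx
  have h1 : Z c ∈ C A := by
    have : (X a)⁻¹ * (X a * Z c) ∈ C A := mul_mem (inv_mem (h.XC a)) hxC
    rwa [inv_mul_cancel_left] at this
  rw [h.te.disj _ (h.ZA c) h1, mul_one]
  exact h.fr.X_mem a

/-- `x` with `x * X a * x⁻¹ ∈ C A` lies in `N A` -/
theorem mem_N_of_X {a : F4} (ha : a ≠ 0) {g : G} (hg : g * X a * g⁻¹ ∈ C A) : g ∈ N A :=
  h.te.key _ g (h.XC a) (h.X_ne ha) (h.XX a) hg

theorem cent_le {a : F4} (ha : a ≠ 0) {g : G} (hg : g * X a = X a * g) : g ∈ N A := by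
  apply h.mem_N_of_X ha
  rw [hg, mul_inv_cancel_right]
  exact h.XC a

theorem card_E : Nat.card ↥(R ⊔ B) = 16 := by
  classical
  have : Function.Bijective (fun p : F4 × F4 => (⟨X p.1 * Z p.2, h.mem_E.2 ⟨_, _, rfl⟩⟩ : ↥(R ⊔ B))) := by
    constructor
    · rintro ⟨a, c⟩ ⟨a', c'⟩ he
      have h1 : X a * Z c = X a' * Z c' := congrArg Subtype.val he
      have h2 := h.fr.inj a 0 c a' 0 c' (by rw [h.fr.Y_zero, one_mul, one_mul]; exact h1)
      exact Prod.ext h2.2.1 h2.2.2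
    · rintro ⟨x, hx⟩
      obtain ⟨a, c, rfl⟩ := h.mem_E.1 hx
      exact ⟨(a, c), rfl⟩
  rw [← Nat.card_congr (Equiv.ofBijective _ this), Nat.card_prod, Nat.card_eq_fintype_card]
  decide

end KOne

end Cfsg.Agent.StdAlt.Five
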