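import Mathlib
import Cfsg.Agent.StdAlt.Five.KOneBasic

/-!
# S1766, n = 5, `κ = 1`: the centralisers of the involutions of `R`
-/

set_option autoImplicit false

namespace Cfsg.Agent.StdAlt.Five

open Subgroup Cfsg.Agent.StdAlt.Conj Cfsg.Agent.J2Sylow.Model

theorem not_dvd_mul {m n : ℕ} (hm0 : m ≠ 0) (hn0 : n ≠ 0) (hm : ¬ 8 ∣ m) (hn : ¬ 8 ∣ n) :
    ¬ 32 ∣ m * n := by
  intro h32
  have h1 : 2 ^ 5 ∣ m * n := h32
  rw [Nat.Prime.pow_dvd_iff_le_factorization Nat.prime_two (Nat.mul_ne_zero hm0 hn0),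
    Nat.factorization_mul hm0 hn0, Finsupp.add_apply] at h1
  have h2 : ¬ 3 ≤ m.factorization 2 := by
    rw [← Nat.Prime.pow_dvd_iff_le_factorization Nat.prime_two hm0]; exact hm
  have h3 : ¬ 3 ≤ n.factorization 2 := by
    rw [← Nat.Prime.pow_dvd_iff_le_factorization Nat.prime_two hn0]; exact hn
  omega

/-- a 2-subgroup `E` of order 16 of `H`, `32 ∤ |H|`: every 2-subgroup of `H` is conjugate into `E` -/
theorem conj_into {G : Type*} [Group G] [Finite G] {H E T : Subgroup G} (hE : E ≤ H)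
    (hcE : Nat.card E = 16) (hH : ¬ 32 ∣ Nat.card H) (hT : T ≤ H) (hTp : IsPGroup 2 T) :
    ∃ g ∈ H, ∀ x ∈ T, g * x * g⁻¹ ∈ E := by
  classical
  haveI : Fact (Nat.Prime 2) := ⟨Nat.prime_two⟩
  have hEp : IsPGroup 2 (E.subgroupOf H) := by
    apply IsPGroup.of_card (n := 4)
    rw [Nat.card_congr (subgroupOfEquivOfLe hE).toEquiv, hcE]; norm_num
  have hTp' : IsPGroup 2 (T.subgroupOf H) := hTp.of_equiv (subgroupOfEquivOfLe hT).symm
  obtain ⟨S1, hS1⟩ := hEp.exists_le_sylow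
  obtain ⟨S2, hS2⟩ := hTp'.exists_le_sylow
  have hS1c : Nat.card (S1 : Subgroup H) ≤ 16 := by
    obtain ⟨n, hn⟩ := IsPGroup.iff_card.1 S1.isPGroup'
    have h1 : n ≤ 4 := by
      by_contra hlt
      apply hH
      have : 2 ^ 5 ∣ 2 ^ n := pow_dvd_pow 2 (by omega)
      rw [← hn] at this
      exact (show (32 : ℕ) ∣ Nat.card (S1 : Subgroup H) from this).trans (card_subgroup_dvd_card _)
    rw [hn]
    calc 2 ^ n ≤ 2 ^ 4 := Nat.pow_le_pow_right (by norm_num) h1
      _ = 16 := by norm_num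
  have hEq : E.subgroupOf H = (S1 : Subgroup H) := by
    apply eq_of_le_of_card_ge hS1
    rw [Nat.card_congr (subgroupOfEquivOfLe hE).toEquiv, hcE]
    exact hS1c
  obtain ⟨g, hg⟩ := MulAction.exists_smul_eq H S2 S1
  refine ⟨g, g.2, fun x hx => ?_⟩
  have h1 : (⟨x, hT hx⟩ : H) ∈ (S2 : Subgroup H) := hS2 (mem_subgroupOf.2 hx)
  have h2 : g * ⟨x, hT hx⟩ * g⁻¹ ∈ ((g • S2 : Sylow 2 H) : Subgroup H) := by
    rw [Sylow.coe_subgroup_smul]
    have := smul_mem_pointwise_smul (⟨x, hT hx⟩ : H) (MulAut.conj g) (S2 : Subgroup H) h1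
    simpa using this
  rw [hg, ← hEq, mem_subgroupOf] at h2
  exact h2

namespace KOne

variable {G : Type*} [Group G] {A R B P L : Subgroup G} {ρ : G} {ε : F4} {X Y Z : F4 → G}
variable (h : KOne A R B P L ρ ε X Y Z)
include h

theorem card_cent [Finite G] {a : F4} (hKA : ∀ g, g * X a = X a * g → ∃ k ∈ C A, ∃ a1 ∈ A, g = k * a1) :
    ¬ 32 ∣ Nat.card (centralizer ({X a} : Set G)) := by
  classical
  have hA : A ≤ centralizer ({X a} : Set G) := by
    intro y hy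
    rw [mem_centralizer_singleton_iff]
    exact (comm_of_C (h.XC a) hy).symm
  have hbij : Function.Bijective (fun p : ↥(C A ⊓ centralizer ({X a} : Set G)) × A =>
      (⟨(p.1 : G) * p.2, mul_mem p.1.2.2 (hA p.2.2)⟩ : ↥(centralizer ({X a} : Set G)))) := by
    constructor
    · rintro ⟨⟨k, hk⟩, ⟨y, hy⟩⟩ ⟨⟨k', hk'⟩, ⟨y', hy'⟩⟩ he
      have h1 : k * y = k' * y' := congrArg Subtype.val he
      have h2 : k'⁻¹ * k = y' * y⁻¹ := by
        rw [eq_mul_inv_iff_mul_eq, mul_assoc, h1]; group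
      have h3 : y' * y⁻¹ = 1 := by
        apply h.te.disj _ (mul_mem hy' (inv_mem hy))
        rw [← h2]
        exact mul_mem (inv_mem hk'.1) hk.1
      have h4 : y = y' := by rw [mul_inv_eq_one] at h3; exact h3.symm
      have h5 : k = k' := by rw [h4] at h1; exact mul_right_cancel h1
      subst h4; subst h5; rfl
    · rintro ⟨g, hg⟩
      rw [mem_centralizer_singleton_iff] at hg
      obtain ⟨k, hk, y, hy, rfl⟩ := hKA g hg
      refine ⟨(⟨k, hk, ?_⟩, ⟨y, hy⟩), rfl⟩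
      have h1 : (k * y) * y⁻¹ ∈ centralizer ({X a} : Set G) :=
        mul_mem (mem_centralizer_singleton_iff.2 hg) (inv_mem (hA hy))
      rwa [mul_inv_cancel_right] at h1
  rw [← Nat.card_congr (Equiv.ofBijective _ hbij), Nat.card_prod]
  apply not_dvd_mul Nat.card_pos.ne' Nat.card_pos.ne' _ h.cardA
  intro h8
  exact h.cardK (h8.trans (card_dvd_of_le inf_le_left))

theorem E_le_cent (a : F4) : R ⊔ B ≤ centralizer ({X a} : Set G) := by
  intro x hx
  obtain ⟨a', c', rfl⟩ := h.mem_E.1 hx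
  rw [mem_centralizer_singleton_iff]
  calc X a' * Z c' * X a = X a' * (Z c' * X a) := by group
    _ = X a' * X a * Z c' := by rw [h.ZX]; group
    _ = X a * X a' * Z c' := by rw [← h.fr.X_add, ← h.fr.X_add, add_comm]
    _ = _ := by group

/-- every 2-subgroup centralising `X a` is conjugate into `E` under `C(X a)` -/
theorem conj_E [Finite G] {a : F4} (hKA : ∀ g, g * X a = X a * g → ∃ k ∈ C A, ∃ a1 ∈ A, g = k * a1)
    {T : Subgroup G} (hT : T ≤ centralizer ({X a} : Set G)) (hTp : IsPGroup 2 T) :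
    ∃ g ∈ centralizer ({X a} : Set G), ∀ x ∈ T, g * x * g⁻¹ ∈ R ⊔ B :=
  conj_into (h.E_le_cent a) h.card_E (h.card_cent hKA) hT hTp

/-- elements of `E` commute -/
theorem E_comm {x y : G} (hx : x ∈ R ⊔ B) (hy : y ∈ R ⊔ B) : x * y = y * x := by
  obtain ⟨a, c, rfl⟩ := h.mem_E.1 hx
  obtain ⟨a', c', rfl⟩ := h.mem_E.1 hy
  calc X a * Z c * (X a' * Z c') = X a * (Z c * X a') * Z c' := by group
    _ = (X a * X a') * (Z c * Z c') := by rw [h.ZX]; group
    _ = (X a' * X a) * (Z c' * Z c) := by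
        rw [← h.fr.X_add, ← h.fr.Z_add, add_comm a, add_comm c, h.fr.X_add, h.fr.Z_add]
    _ = X a' * (X a * Z c') * Z c := by group
    _ = _ := by rw [← h.ZX]; group

/-- elements of `E` have order dividing two -/
theorem E_sq {x : G} (hx : x ∈ R ⊔ B) : x * x = 1 := by
  obtain ⟨a, c, rfl⟩ := h.mem_E.1 hx
  calc X a * Z c * (X a * Z c) = X a * (Z c * X a) * Z c := by group
    _ = (X a * X a) * (Z c * Z c) := by rw [h.ZX]; group
    _ = 1 := by rw [h.XX, h.ZZ, one_mul]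

/-- Suppose `C(X a) ≤ K A`.  If a 2-group `T` centralises a conjugate `g⁻¹ X a g`, then `T` is elementary abelian -/
theorem elem_of_conj [Finite G] {a : F4}
    (hKA : ∀ g, g * X a = X a * g → ∃ k ∈ C A, ∃ a1 ∈ A, g = k * a1) {g x : G}
    (hx : g * X a * g⁻¹ = x) {T : Subgroup G} (hT : ∀ y ∈ T, y * x = x * y) (hTp : IsPGroup 2 T) :
    (∀ y ∈ T, y * y = 1) ∧ Nat.card T ≤ 16 := by
  classical
  have hT' : cj g⁻¹ T ≤ centralizer ({X a} : Set G) := by
    intro y hy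
    rw [mem_cj, inv_inv] at hy
    have h1 := hT _ hy
    rw [mem_centralizer_singleton_iff]
    rw [← hx] at h1
    calc y * X a = g⁻¹ * (g * y * g⁻¹ * (g * X a * g⁻¹)) * g := by group
      _ = X a * y := by rw [h1]; group
  have hTp' : IsPGroup 2 (cj g⁻¹ T) := hTp.map _
  obtain ⟨c, -, hc⟩ := h.conj_E hKA hT' hTp'
  have hc' : ∀ y ∈ T, (c * g⁻¹) * y * (c * g⁻¹)⁻¹ ∈ R ⊔ B := by
    intro y hy
    have := hc (g⁻¹ * y * g) (by rw [mem_cj, inv_inv]; convert hy using 1; group)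
    convert this using 1; group
  constructor
  · intro y hy
    have h1 := h.E_sq (hc' y hy)
    have h2 : (c * g⁻¹) * (y * y) * (c * g⁻¹)⁻¹ = 1 := by rw [← h1]; group
    have h3 : y * y = (c * g⁻¹)⁻¹ * 1 * (c * g⁻¹) := by rw [← h2]; group
    rw [h3]; group
  · rw [← h.card_E]
    exact Nat.card_le_card_of_injective
      (fun y : T => (⟨(c * g⁻¹) * y * (c * g⁻¹)⁻¹, hc' y y.2⟩ : ↥(R ⊔ B))) (by
        intro y y' he
        have h1 : (c * g⁻¹) * (y : G) * (c * g⁻¹)⁻¹ = (c * g⁻¹) * (y' : G) * (c * g⁻¹)⁻¹ :=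
          congrArg Subtype.val he
        exact Subtype.ext (mul_left_cancel (mul_right_cancel h1)))

end KOne

end Cfsg.Agent.StdAlt.Five
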