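import Mathlib
import Cfsg.Agent.StdAlt.Five.KOneCent

/-!
# S1766, n = 5, `κ = 1`: fusion of the involutions of `R`, subgroups of `P`
-/

set_option autoImplicit false

namespace Cfsg.Agent.StdAlt.Five

open Subgroup Cfsg.Agent.StdAlt.Conj Cfsg.Agent.J2Sylow.Model

namespace KOne

variable {G : Type*} [Group G] {A R B P L : Subgroup G} {ρ : G} {ε : F4} {X Y Z : F4 → G}
variable (h : KOne A R B P L ρ ε X Y Z)
include h

/-- `X a Z c` is conjugate to `X a` by some `Y b` (`a ≠ 0`) -/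
theorem exists_Y {a : F4} (ha : a ≠ 0) (c : F4) : ∃ b, (Y b)⁻¹ * X a * Y b = X a * Z c := by
  obtain ⟨b, hb⟩ : ∃ b, a * b = c := by revert a c; decide
  exact ⟨b, by rw [h.Y_conj_X, hb]⟩

theorem Y_E (b : F4) {x : G} (hx : x ∈ R ⊔ B) : (Y b)⁻¹ * x * Y b ∈ R ⊔ B := by
  obtain ⟨a, c, rfl⟩ := h.mem_E.1 hx
  rw [h.mem_E]
  refine ⟨a, a * b + c, ?_⟩
  calc (Y b)⁻¹ * (X a * Z c) * Y b = ((Y b)⁻¹ * X a * Y b) * ((Y b)⁻¹ * (Z c * Y b)) := by group
    _ = X a * Z (a * b) * Z c := by rw [h.Y_conj_X, h.ZY]; group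
    _ = _ := by rw [mul_assoc, ← h.fr.Z_add]

/-- an element `n` normalising `E` maps `X a` to some `X x Z c`; there is `m ∈ N A`, normalising `R`, with
`m X a m⁻¹ = X x` -/
theorem norm_aux {n : G} (hn : ∀ x ∈ R ⊔ B, n * x * n⁻¹ ∈ R ⊔ B) {a : F4} (ha : a ≠ 0) :
    ∃ x c b, x ≠ 0 ∧ n * X a * n⁻¹ = X x * Z c ∧ Y b * n ∈ N A ∧
      (Y b * n) * X a * (Y b * n)⁻¹ = X x ∧ ∀ r ∈ R, (Y b * n) * r * (Y b * n)⁻¹ ∈ R := by
  obtain ⟨x, c, hxc⟩ := h.mem_E.1 (hn _ (mem_sup_left (h.fr.X_mem a)))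
  have hx0 : x ≠ 0 := by
    rintro rfl
    rw [h.fr.X_zero, one_mul] at hxc
    have hc0 : c ≠ 0 := by
      rintro rfl
      rw [h.fr.Z_zero] at hxc
      apply h.X_ne ha
      calc X a = n⁻¹ * (n * X a * n⁻¹) * n := by group
        _ = 1 := by rw [hxc]; group
    apply h.Z_nK hc0 n⁻¹
    rw [← hxc]
    have : n⁻¹ * (n * X a * n⁻¹) * n⁻¹⁻¹ = X a := by group
    rw [this]
    exact h.XC a
  obtain ⟨b, hb⟩ := h.exists_Y hx0 c
  have hm : (Y b * n) * X a * (Y b * n)⁻¹ = X x := by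
    calc (Y b * n) * X a * (Y b * n)⁻¹ = Y b * (n * X a * n⁻¹) * (Y b)⁻¹ := by group
      _ = Y b * ((Y b)⁻¹ * X x * Y b) * (Y b)⁻¹ := by rw [hxc, hb]
      _ = X x := by group
  have hN : Y b * n ∈ N A := h.mem_N_of_X ha (by rw [hm]; exact h.XC x)
  refine ⟨x, c, b, hx0, hxc, hN, hm, fun r hr => ?_⟩
  apply h.mem_R_of
  · have h1 := hn r (mem_sup_left hr)
    obtain ⟨b', hb'⟩ : ∃ b', Y b * (n * r * n⁻¹) * (Y b)⁻¹ = (Y b')⁻¹ * (n * r * n⁻¹) * Y b' := by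
      refine ⟨b, ?_⟩
      obtain ⟨a1, c1, h2⟩ := h.mem_E.1 h1
      rw [h2]
      have h3 := h.fr.X_Y a1 b
      have h4 : Y b * X a1 = X a1 * Y b * Z (a1 * b) := by
        calc Y b * X a1 = Y b * X a1 * (Z (a1 * b) * Z (a1 * b)) := by rw [h.ZZ, mul_one]
          _ = (Y b * X a1 * Z (a1 * b)) * Z (a1 * b) := by group
          _ = _ := by rw [← h3]
      calc Y b * (X a1 * Z c1) * (Y b)⁻¹ = (Y b * X a1) * (Z c1 * (Y b)⁻¹) := by group
        _ = X a1 * Y b * Z (a1 * b) * ((Y b)⁻¹ * (Y b * Z c1) * (Y b)⁻¹) := by rw [h4]; group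
        _ = X a1 * Y b * (Z (a1 * b) * ((Y b)⁻¹ * (Z c1 * Y b) * (Y b)⁻¹)) := by
            rw [h.ZY]; group
        _ = X a1 * (Y b * Z (a1 * b)) * (Y b)⁻¹ * Z c1 := by group
        _ = X a1 * (Z (a1 * b) * Y b) * (Y b)⁻¹ * Z c1 := by rw [h.ZY]
        _ = (X a1 * Z (a1 * b)) * Z c1 := by group
        _ = ((Y b)⁻¹ * X a1 * Y b) * Z c1 := by rw [h.Y_conj_X]
        _ = (Y b)⁻¹ * X a1 * (Y b * Z c1) := by group
        _ = _ := by rw [← h.ZY]; group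
    have h5 : (Y b * n) * r * (Y b * n)⁻¹ = (Y b')⁻¹ * (n * r * n⁻¹) * Y b' := by
      rw [← hb']; group
    rw [h5]
    exact h.Y_E b' h1
  · exact conj_mem_C hN (h.R_le hr)

/-- `L` is contained in every normal subgroup of index two -/
theorem L_le_of_index_two [Finite G] {M : Subgroup G} (hM : M.Normal) (hi : M.index = 2) : L ≤ M := by
  haveI := h.simple
  haveI := hM
  have hn : (M.subgroupOf L).Normal := inferInstance
  rcases hn.eq_bot_or_eq_top with h1 | h1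
  · exfalso
    have h2 : M.relIndex L ∣ M.index := relIndex_dvd_index_of_normal M L
    rw [hi] at h2
    have h3 : M.relIndex L = Nat.card L := by
      rw [relIndex, h1, index_bot]
    rw [h3] at h2
    have h4 : Nat.card B ∣ Nat.card L := card_dvd_of_le (h.B_le.trans h.A_le)
    rw [h.dat.cardB] at h4
    have := h4.trans h2
    omega
  · rwa [subgroupOf_eq_top] at h1

theorem ρY' (b : F4) : ρ * Y b * ρ⁻¹ = Y (F4.w * b) := h.fr.ρY b

theorem ZL (c : F4) : Z c ∈ L := h.A_le (h.ZA c)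

theorem YL (b : F4) : Y b ∈ L := by
  haveI := h.nor
  have key : ∀ b, Y (F4.w * b) * (Y b)⁻¹ ∈ L := by
    intro b
    rw [← h.fr.ρY]
    have h1 : Y b * ρ⁻¹ * (Y b)⁻¹ ∈ L := h.nor.conj_mem _ (inv_mem (h.A_le h.ρA)) (Y b)
    have h2 := mul_mem (h.A_le h.ρA) h1
    convert h2 using 1
    group
  -- `Y b = Y (w b') (Y b')⁻¹ Z *`
  obtain ⟨b', hb'⟩ : ∃ b', F4.w * b' + b' = b := by revert b; decide
  have h1 : Y (F4.w * b') = Y b * Y b' * Z (ε * F4.fr (b * b')) := by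
    rw [h.fr.Y_mul, mul_assoc, h.ZZ, mul_one]
    congr 1
    rw [← hb', add_assoc, F4.add_self, add_zero]
  have h2 := key b'
  rw [h1] at h2
  have h3 : Y b * Y b' * Z (ε * F4.fr (b * b')) * (Y b')⁻¹ = Y b * Z (ε * F4.fr (b * b')) := by
    calc Y b * Y b' * Z (ε * F4.fr (b * b')) * (Y b')⁻¹
        = Y b * (Y b' * Z (ε * F4.fr (b * b'))) * (Y b')⁻¹ := by group
      _ = _ := by rw [← h.ZY]; group
  rw [h3] at h2
  have h4 := mul_mem h2 (inv_mem (h.ZL (ε * F4.fr (b * b'))))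
  rwa [mul_inv_cancel_right] at h4

/-- the squares -/
theorem sq3 (b a c : F4) : (Y b * X a * Z c) * (Y b * X a * Z c) = Z (a * b + ε * F4.fr (b * b)) := by
  rw [h.mul3, F4.add_self, F4.add_self, F4.add_self, h.fr.Y_zero, h.fr.X_zero, zero_add, one_mul, one_mul]

theorem sq3_iff {b a c : F4} : (Y b * X a * Z c) * (Y b * X a * Z c) = 1 ↔
    a * b + ε * F4.fr (b * b) = 0 := by
  rw [h.sq3]
  constructor
  · intro h1
    by_contra h2
    exact h.Z_ne h2 h1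
  · intro h1
    rw [h1, h.fr.Z_zero]

theorem mem_L3 (b a c : F4) : Y b * X a * Z c ∈ L ↔ X a ∈ L := by
  constructor
  · intro h1
    have h2 := mul_mem (mul_mem (inv_mem (h.YL b)) h1) (inv_mem (h.ZL c))
    convert h2 using 1
    group
  · intro h1
    exact mul_mem (mul_mem (h.YL b) h1) (h.ZL c)

theorem orderOf_X {a : F4} (ha : a ≠ 0) : orderOf (X a) = 2 :=
  orderOf_eq_prime (by rw [pow_two]; exact h.XX a) (h.X_ne ha)

end KOne

/-- the subgroup `{Y b X x Z c : x ∈ {0, a}}` -/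
def KOne.Q {G : Type*} [Group G] {A R B P L : Subgroup G} {ρ : G} {ε : F4} {X Y Z : F4 → G}
    (h : KOne A R B P L ρ ε X Y Z) (a : F4) : Subgroup G where
  carrier := {g | ∃ b x c, (x = 0 ∨ x = a) ∧ g = Y b * X x * Z c}
  mul_mem' := by
    rintro g g' ⟨b, x, c, hx, rfl⟩ ⟨b', x', c', hx', rfl⟩
    refine ⟨_, _, _, ?_, h.mul3 b x c b' x' c'⟩
    rcases hx with rfl | rfl <;> rcases hx' with rfl | rfl
    · left; exact add_zero 0
    · right; exact zero_add _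
    · right; exact add_zero _
    · left; exact F4.add_self _
  one_mem' := ⟨0, 0, 0, Or.inl rfl, h.one3⟩
  inv_mem' := by
    rintro g ⟨b, x, c, hx, rfl⟩
    exact ⟨_, _, _, hx, h.inv3 b x c⟩

namespace KOne

variable {G : Type*} [Group G] {A R B P L : Subgroup G} {ρ : G} {ε : F4} {X Y Z : F4 → G}
variable (h : KOne A R B P L ρ ε X Y Z)
include h

theorem mem_Q {a : F4} {g : G} : g ∈ h.Q a ↔ ∃ b x c, (x = 0 ∨ x = a) ∧ g = Y b * X x * Z c := Iff.rfl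

theorem mem3 (b a c : F4) : Y b * X a * Z c ∈ P := mul_mem (mul_mem (h.fr.Y_mem b) (h.Xmem a)) (h.Zmem c)

theorem Q_le (a : F4) : h.Q a ≤ P := by
  rintro g ⟨b, x, c, -, rfl⟩
  exact h.mem3 b x c

theorem inj3 {b a c b' a' c' : F4} (he : Y b * X a * Z c = Y b' * X a' * Z c') :
    b = b' ∧ a = a' ∧ c = c' := by
  obtain ⟨h1, h2, h3⟩ := h.fr.inj a b c a' b' c' he
  exact ⟨h1, h2, h3⟩

theorem card_Q {a : F4} (ha : a ≠ 0) : Nat.card (h.Q a) = 32 := by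
  have hb : Function.Bijective (fun p : F4 × {x : F4 // x = 0 ∨ x = a} × F4 =>
      (⟨Y p.1 * X p.2.1 * Z p.2.2, ⟨_, _, _, p.2.1.2, rfl⟩⟩ : h.Q a)) := by
    constructor
    · rintro ⟨b, ⟨x, hx⟩, c⟩ ⟨b', ⟨x', hx'⟩, c'⟩ he
      obtain ⟨h1, h2, h3⟩ := h.inj3 (congrArg Subtype.val he)
      simp only at h1 h2 h3
      subst h1; subst h2; subst h3; rfl
    · rintro ⟨g, b, x, c, hx, rfl⟩
      exact ⟨(b, ⟨x, hx⟩, c), rfl⟩
  rw [← Nat.card_congr (Equiv.ofBijective _ hb), Nat.card_prod, Nat.card_prod,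
    Nat.card_eq_fintype_card, Nat.card_eq_fintype_card]
  have key : ∀ a : F4, a ≠ 0 →
      Fintype.card F4 * (Fintype.card {x : F4 // x = 0 ∨ x = a} * Fintype.card F4) = 32 := by decide
  rw [← key a ha]

end KOne

end Cfsg.Agent.StdAlt.Five
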