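import Mathlib
import Cfsg.Agent.StdAlt.Five.KOneFuse
import Cfsg.Agent.S0111

/-!
# S1766, n = 5, `κ = 1`, `μ = 1`: the involutions of `R` are not in `L`
-/

set_option autoImplicit false

namespace Cfsg.Agent.StdAlt.Five

open Subgroup Cfsg.Agent.StdAlt.Conj Cfsg.Agent.J2Sylow.Model

/-- `E2` contains no involutions of type `K` outside `B` (only needed if `ε = 0`) -/
def NE2 {G : Type*} [Group G] (A : Subgroup G) (ε : F4) (Y Z : F4 → G) : Prop :=
  ε = 0 → ∀ (b c : F4) (g : G), b ≠ 0 → g * (Y b * Z c) * g⁻¹ ∉ C A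

/-- a complete description of the conjugates of `X a` in a subgroup of the form `Q a'`, `a'` suitable -/
theorem KOne.conj_mem_Q {G : Type*} [Group G] {A R B P L : Subgroup G} {ρ : G} {ε : F4}
    {X Y Z : F4 → G} (h : KOne A R B P L ρ ε X Y Z) (hε : ε = 0 ∨ ε = F4.e) (hE2 : NE2 A ε Y Z)
    {a a' : F4} (ha : a ≠ 0) (ha' : a' ≠ 0) {g : G}
    (hg : g * X a * g⁻¹ ∈ h.Q a') :
    (∃ n, n * X a * n⁻¹ = X a') ∨ (ε = F4.e ∧ a' = F4.e ∧ ∃ b c, b ≠ 0 ∧ g * X a * g⁻¹ = Y b * X a' * Z c) := by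
  obtain ⟨b, x, c, hx, he⟩ := hg
  have hsq : (Y b * X x * Z c) * (Y b * X x * Z c) = 1 := by
    rw [← he]
    calc g * X a * g⁻¹ * (g * X a * g⁻¹) = g * (X a * X a) * g⁻¹ := by group
      _ = 1 := by rw [h.XX]; group
  rw [h.sq3_iff] at hsq
  have hback : g⁻¹ * (Y b * X x * Z c) * g⁻¹⁻¹ = X a := by rw [← he]; group
  have hZ0 : x = 0 → b = 0 → False := by
    rintro rfl rfl
    rw [h.fr.X_zero, h.fr.Y_zero, one_mul, one_mul] at hback
    by_cases hc : c = 0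
    · rw [hc, h.fr.Z_zero] at hback
      apply h.X_ne ha
      rw [← hback]; group
    · apply h.Z_nK hc g⁻¹
      rw [hback]
      exact h.XC a
  rcases hx with rfl | rfl
  · exfalso
    rw [zero_mul, zero_add] at hsq
    rcases hε with rfl | rfl
    · by_cases hb : b = 0
      · exact hZ0 rfl hb
      · apply hE2 rfl b c g⁻¹ hb
        rw [h.fr.X_zero, mul_one] at hback
        rw [hback]
        exact h.XC a
    · have : ∀ b : F4, F4.e * F4.fr (b * b) = 0 → b = 0 := by decide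
      exact hZ0 rfl (this b hsq)
  · by_cases hb : b = 0
    · subst hb
      left
      obtain ⟨d, hd⟩ := h.exists_Y ha' c
      refine ⟨Y d * g, ?_⟩
      calc Y d * g * X a * (Y d * g)⁻¹ = Y d * (g * X a * g⁻¹) * (Y d)⁻¹ := by group
        _ = Y d * ((Y d)⁻¹ * X x * Y d) * (Y d)⁻¹ := by
            rw [he, h.fr.Y_zero, one_mul, hd]
        _ = X x := by group
    · right
      rcases hε with rfl | rfl
      · exfalso
        have : ∀ x b : F4, x ≠ 0 → x * b + 0 * F4.fr (b * b) = 0 → b = 0 := by decide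
        exact hb (this x b ha' hsq)
      · have : ∀ x b : F4, b ≠ 0 → x * b + F4.e * F4.fr (b * b) = 0 → x = F4.e := by decide
        exact ⟨rfl, this x b hb hsq, b, c, hb, he⟩

/-- subgroups `Q ≤ S` of index two not containing `X a` (`a ≠ 0`) contain a conjugate of `X a`, if `X a ∈ L` -/
theorem KOne.exists_conj {G : Type*} [Group G] [Finite G] {A R B P L : Subgroup G} {ρ : G} {ε : F4}
    {X Y Z : F4 → G} (h : KOne A R B P L ρ ε X Y Z) (S : Sylow 2 G) (hP : P ≤ (S : Subgroup G))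
    (Q : Subgroup G) (hQ : Q ≤ (S : Subgroup G)) (hi : Q.relIndex (S : Subgroup G) = 2) {a : F4}
    (ha : a ≠ 0) (hXL : X a ∈ L) (hXQ : X a ∉ Q) : ∃ g : G, g * X a * g⁻¹ ∈ Q := by
  rcases Cfsg.Agent.S0111.result S Q hQ hi (X a) (h.orderOf_X ha) (hP (h.Xmem a)) hXQ with
    ⟨M, hM, hMi, hMX⟩ | hg
  · exact absurd (h.L_le_of_index_two hM hMi hXL) hMX
  · exact hg

namespace MuOne

variable {G : Type*} [Group G] {A R B P L : Subgroup G} {ρ : G} {ε : F4} {X Y Z : F4 → G} {S : Sylow 2 G}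
variable (h : MuOne A R B P L ρ ε X Y Z S)
include h

theorem hKA {a : F4} (ha : a ≠ 0) : ∀ g, g * X a = X a * g → ∃ k ∈ C A, ∃ a1 ∈ A, g = k * a1 :=
  fun g hg => h.hM g (h.cent_le ha hg)

theorem norm {n : G} (hn : ∀ x ∈ R ⊔ B, n * x * n⁻¹ ∈ R ⊔ B) {a : F4} (ha : a ≠ 0) :
    ∃ c, n * X a * n⁻¹ = X a * Z c := by
  obtain ⟨x, c, b, hx0, hxc, hN, hm, hR⟩ := h.norm_aux hn ha
  obtain ⟨k, hk, a1, ha1, hka⟩ := h.hM _ hN
  have e : ∀ r ∈ R, (Y b * n) * r * (Y b * n)⁻¹ = k * r * k⁻¹ := by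
    intro r hr
    rw [hka]
    have := comm_of_C (h.R_le hr) ha1
    calc k * a1 * r * (k * a1)⁻¹ = k * (a1 * r) * a1⁻¹ * k⁻¹ := by group
      _ = _ := by rw [← this]; group
  have h1 := h.κ k hk (fun r hr => by rw [← e r hr]; exact hR r hr)
  have h2 := e _ (h.fr.X_mem a)
  rw [hm, h1 _ (h.fr.X_mem a), mul_inv_cancel_right] at h2
  have h3 : x = a := h.fr.X_inj h2
  subst h3
  exact ⟨c, hxc⟩

theorem fuse [Finite G] {g : G} {a a' : F4} (ha : a ≠ 0) (ha' : a' ≠ 0) (hg : g * X a * g⁻¹ = X a') :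
    a = a' := by
  classical
  have hEp : IsPGroup 2 ↥(R ⊔ B) := IsPGroup.of_card (n := 4) (by rw [h.card_E]; norm_num)
  have hT : cj g (R ⊔ B) ≤ centralizer ({X a'} : Set G) := by
    intro x hx
    rw [mem_cj] at hx
    have h1 := mem_centralizer_singleton_iff.1 (h.E_le_cent a hx)
    rw [mem_centralizer_singleton_iff, ← hg]
    calc x * (g * X a * g⁻¹) = g * (g⁻¹ * x * g * X a) * g⁻¹ := by group
      _ = _ := by rw [h1]; group
  obtain ⟨c, hc, hc'⟩ := h.conj_E (h.hKA ha') hT (hEp.map _)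
  have hn : ∀ x ∈ R ⊔ B, (c * g) * x * (c * g)⁻¹ ∈ R ⊔ B := by
    intro x hx
    have := hc' (g * x * g⁻¹) (conj_mem_cj.2 hx)
    convert this using 1
    group
  obtain ⟨c', hc''⟩ := h.norm hn ha
  have h1 : (c * g) * X a * (c * g)⁻¹ = X a' := by
    calc (c * g) * X a * (c * g)⁻¹ = c * (g * X a * g⁻¹) * c⁻¹ := by group
      _ = c * X a' * c⁻¹ := by rw [hg]
      _ = X a' := by rw [mem_centralizer_singleton_iff.1 hc]; group
  rw [h1] at hc''
  have h2 := h.inj3 (b := 0) (a := a') (c := 0) (b' := 0) (a' := a) (c' := c')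
    (by rw [h.fr.Y_zero, h.fr.Z_zero, one_mul, mul_one, one_mul, hc''])
  exact h2.2.1.symm

theorem X_not_mem [Finite G] (hε : ε = 0 ∨ ε = F4.e) (hE2 : NE2 A ε Y Z) {a : F4} (ha : a ≠ 0) : X a ∉ L := by
  intro hXL
  obtain ⟨a', h1, h2, h3⟩ : ∃ a' : F4, a' ≠ 0 ∧ a' ≠ a ∧ a' ≠ F4.e := by
    revert a
    intro a ha _
    have : ∀ a : F4, a ≠ 0 → ∃ a' : F4, a' ≠ 0 ∧ a' ≠ a ∧ a' ≠ F4.e := by decide
    exact this a ha
  have hP : P ≤ (S : Subgroup G) := h.hS.ge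
  have hi : (h.Q a').relIndex (S : Subgroup G) = 2 := by
    have e1 := relIndex_mul_relIndex ⊥ (h.Q a') (S : Subgroup G) bot_le ((h.Q_le a').trans hP)
    rw [relIndex_bot_left, relIndex_bot_left, h.card_Q h1, h.hS, h.dat.cardP] at e1
    rw [h.hS]
    omega
  obtain ⟨g, hg⟩ := h.exists_conj S hP (h.Q a') ((h.Q_le a').trans hP) hi ha hXL (by
    rintro ⟨b, x, c, hx, he⟩
    have := h.inj3 (b := 0) (a := a) (c := 0) (b' := b) (a' := x) (c' := c)
      (by rw [h.fr.Y_zero, h.fr.Z_zero, one_mul, mul_one, he])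
    rcases hx with rfl | rfl
    · exact ha this.2.1
    · exact h2 this.2.1.symm)
  rcases h.conj_mem_Q hε hE2 ha h1 hg with ⟨n, hn⟩ | ⟨-, h4, -⟩
  · exact h2 (h.fuse ha h1 hn).symm
  · exact h3 h4

end MuOne

end Cfsg.Agent.StdAlt.Five
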