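import Mathlib
import Cfsg.Agent.StdAlt.Five.KOneMuOne
import Cfsg.Agent.S0949

/-!
# S1766, n = 5, `κ = 1`, `μ = 1`: the Sylow 2-subgroup of `L`; the case `E2 = 4 × 4` (B3)
-/

set_option autoImplicit false

namespace Cfsg.Agent.StdAlt.Five

open Subgroup Cfsg.Agent.StdAlt.Conj Cfsg.Agent.J2Sylow.Model

namespace KOne

variable {G : Type*} [Group G] {A R B P L : Subgroup G} {ρ : G} {ε : F4} {X Y Z : F4 → G}
variable (h : KOne A R B P L ρ ε X Y Z)
include h

theorem mem_E2 {g : G} : g ∈ h.Q 0 ↔ ∃ b c, g = Y b * Z c := by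
  constructor
  · rintro ⟨b, x, c, hx, rfl⟩
    have : x = 0 := by tauto
    subst this
    exact ⟨b, c, by rw [h.fr.X_zero, mul_one]⟩
  · rintro ⟨b, c, rfl⟩
    exact ⟨b, 0, c, Or.inl rfl, by rw [h.fr.X_zero, mul_one]⟩

theorem mul2 (b c b' c' : F4) : (Y b * Z c) * (Y b' * Z c') =
    Y (b + b') * Z (c + c' + ε * F4.fr (b * b')) := by
  have := h.mul3 b 0 c b' 0 c'
  rw [h.fr.X_zero, mul_one, mul_one, zero_mul, add_zero, add_zero, h.fr.X_zero, mul_one] at this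
  exact this

theorem inj2 {b c b' c' : F4} (he : Y b * Z c = Y b' * Z c') : b = b' ∧ c = c' := by
  have := h.inj3 (b := b) (a := 0) (c := c) (b' := b') (a' := 0) (c' := c')
    (by rw [h.fr.X_zero, mul_one, mul_one, he])
  exact ⟨this.1, this.2.2⟩

theorem card_E2 : Nat.card (h.Q 0) = 16 := by
  have hb : Function.Bijective (fun p : F4 × F4 =>
      (⟨Y p.1 * Z p.2, h.mem_E2.2 ⟨_, _, rfl⟩⟩ : h.Q 0)) := by
    constructor
    · rintro ⟨b, c⟩ ⟨b', c'⟩ he
      obtain ⟨h1, h3⟩ := h.inj2 (congrArg Subtype.val he)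
      simp only at h1 h3
      subst h1; subst h3; rfl
    · rintro ⟨g, hg⟩
      obtain ⟨b, c, rfl⟩ := h.mem_E2.1 hg
      exact ⟨(b, c), rfl⟩
  rw [← Nat.card_congr (Equiv.ofBijective _ hb), Nat.card_prod, Nat.card_eq_fintype_card]
  decide

theorem E2_le_L : h.Q 0 ≤ L := by
  intro g hg
  obtain ⟨b, c, rfl⟩ := h.mem_E2.1 hg
  exact mul_mem (h.YL b) (h.ZL c)

theorem E2_comm {x y : G} (hx : x ∈ h.Q 0) (hy : y ∈ h.Q 0) : x * y = y * x := by
  obtain ⟨b, c, rfl⟩ := h.mem_E2.1 hx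
  obtain ⟨b', c', rfl⟩ := h.mem_E2.1 hy
  rw [h.mul2, h.mul2]
  rw [add_comm b b', add_comm c c', mul_comm b b']

end KOne

namespace MuOne

variable {G : Type*} [Group G] {A R B P L : Subgroup G} {ρ : G} {ε : F4} {X Y Z : F4 → G} {S : Sylow 2 G}
variable (h : MuOne A R B P L ρ ε X Y Z S)
include h

theorem card_G [Finite G] (hε : ε = 0 ∨ ε = F4.e) (hE2 : NE2 A ε Y Z) : Nat.card G = Nat.card L * 4 := by
  have hbij : Function.Bijective (fun p : L × R => (p.1 : G) * p.2) := by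
    constructor
    · rintro ⟨⟨l, hl⟩, ⟨r, hr⟩⟩ ⟨⟨l', hl'⟩, ⟨r', hr'⟩⟩ he
      have h1 : l * r = l' * r' := he
      have h2 : l'⁻¹ * l = r' * r⁻¹ := by rw [eq_mul_inv_iff_mul_eq, mul_assoc, h1]; group
      have h3 : r' * r⁻¹ ∈ L := by rw [← h2]; exact mul_mem (inv_mem hl') hl
      obtain ⟨a, ha⟩ := h.fr.X_surj _ (mul_mem hr' (inv_mem hr))
      have h4 : a = 0 := by
        by_contra hne
        apply h.X_not_mem hε hE2 hne
        rw [ha]; exact h3
      rw [h4, h.fr.X_zero] at ha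
      have h5 : r = r' := (mul_inv_eq_one.1 ha.symm).symm
      subst h5
      have h6 : l = l' := mul_right_cancel h1
      subst h6
      rfl
    · intro g
      obtain ⟨l, hl, r, hr, rfl⟩ := h.gen g
      exact ⟨(⟨l, hl⟩, ⟨r, hr⟩), rfl⟩
  rw [← Nat.card_congr (Equiv.ofBijective _ hbij), Nat.card_prod, h.dat.cardR]

theorem not_dvd_L [Finite G] (hε : ε = 0 ∨ ε = F4.e) (hE2 : NE2 A ε Y Z) : ¬ 32 ∣ Nat.card L := by
  haveI : Fact (Nat.Prime 2) := ⟨Nat.prime_two⟩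
  intro h32
  have h1 : 128 ∣ Nat.card G := by
    rw [h.card_G hε hE2]
    exact Nat.mul_dvd_mul h32 (dvd_refl 4)
  have h2 : Nat.card (S : Subgroup G) * (S : Subgroup G).index = Nat.card G :=
    card_mul_index _
  rw [h.hS, h.dat.cardP] at h2
  have h3 : 2 ∣ P.index := by
    rw [← h2] at h1
    obtain ⟨m, hm⟩ := h1
    exact ⟨m, by omega⟩
  rw [← h.hS] at h3
  exact S.not_dvd_index h3

/-- `E2` is a Sylow 2-subgroup of `L` -/
theorem exists_sylow [Finite G] (hε : ε = 0 ∨ ε = F4.e) (hE2 : NE2 A ε Y Z) :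
    ∃ T : Sylow 2 L, (T : Subgroup L) = (h.Q 0).subgroupOf L := by
  classical
  haveI : Fact (Nat.Prime 2) := ⟨Nat.prime_two⟩
  have hc : Nat.card ((h.Q 0).subgroupOf L) = 16 := by
    rw [Nat.card_congr (subgroupOfEquivOfLe h.E2_le_L).toEquiv, h.card_E2]
  have hp : IsPGroup 2 ((h.Q 0).subgroupOf L) := IsPGroup.of_card (n := 4) (by rw [hc]; norm_num)
  obtain ⟨T, hT⟩ := hp.exists_le_sylow
  refine ⟨T, (eq_of_le_of_card_ge hT ?_).symm⟩
  rw [hc]
  obtain ⟨n, hn⟩ := IsPGroup.iff_card.1 T.isPGroup'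
  have h1 : n ≤ 4 := by
    by_contra hlt
    apply h.not_dvd_L hε hE2
    have : 2 ^ 5 ∣ 2 ^ n := pow_dvd_pow 2 (by omega)
    rw [← hn] at this
    exact (show (32 : ℕ) ∣ Nat.card (T : Subgroup L) from this).trans (card_subgroup_dvd_card _)
  rw [hn]
  calc 2 ^ n ≤ 2 ^ 4 := Nat.pow_le_pow_right (by norm_num) h1
    _ = 16 := by norm_num

end MuOne

/-! ### `E2 = 4 × 4` -/

section four

variable {G : Type*} [Group G] {A R B P L : Subgroup G} {ρ : G} {X Y Z : F4 → G}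

/-- first coordinates -/
def pb (x : F4) (i : ZMod 4) : F4 := match i with
  | 0 => 0 | 1 => x | 2 => 0 | 3 => x

/-- second coordinates -/
def pc (x : F4) (i : ZMod 4) : F4 := match i with
  | 0 => 0 | 1 => 0 | 2 => x | 3 => x

theorem KOne.pow_Y (h : KOne A R B P L ρ F4.e X Y Z) (x : F4) (i : ZMod 4) :
    Y x ^ i.val = Y (pb x i) * Z (pc x i) := by
  have h2 : Y x * Y x = Z x := by
    rw [h.fr.Y_mul, F4.add_self, h.fr.Y_zero, one_mul]
    congr 1
    revert x; decide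
  have e2 : Y x ^ 2 = Z x := by rw [pow_two, h2]
  fin_cases i
  · change Y x ^ 0 = Y 0 * Z 0
    rw [h.fr.Y_zero, h.fr.Z_zero, pow_zero, one_mul]
  · change Y x ^ 1 = Y x * Z 0
    rw [h.fr.Z_zero, pow_one, mul_one]
  · change Y x ^ 2 = Y 0 * Z x
    rw [h.fr.Y_zero, one_mul, e2]
  · change Y x ^ 3 = Y x * Z x
    rw [pow_succ, e2, h.ZY]

theorem KOne.pow_four (h : KOne A R B P L ρ F4.e X Y Z) (x : F4) : Y x ^ 4 = 1 := by
  have h2 : Y x * Y x = Z x := by
    rw [h.fr.Y_mul, F4.add_self, h.fr.Y_zero, one_mul]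
    congr 1
    revert x; decide
  rw [show (4 : ℕ) = 2 * 2 from rfl, pow_mul, pow_two, pow_two, h2, h.ZZ]

theorem pow_val_add {G : Type*} [Group G] {g : G} (hg : g ^ 4 = 1) (x y : ZMod 4) :
    g ^ (x + y).val = g ^ x.val * g ^ y.val := by
  rw [ZMod.val_add, ← pow_eq_pow_mod _ hg, pow_add]

/-- the isomorphism `4 × 4 → E2` -/
noncomputable def KOne.hom44 (h : KOne A R B P L ρ F4.e X Y Z) :
    Multiplicative (ZMod 4 × ZMod 4) →* G :=
  MonoidHom.mk' (fun x => Y F4.w ^ x.toAdd.1.val * Y F4.u ^ x.toAdd.2.val) (by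
    intro x y
    have hc : Commute (Y F4.w) (Y F4.u) :=
      h.E2_comm (h.mem_E2.2 ⟨_, 0, by rw [h.fr.Z_zero, mul_one]⟩)
        (h.mem_E2.2 ⟨_, 0, by rw [h.fr.Z_zero, mul_one]⟩)
    change Y F4.w ^ (x.toAdd.1 + y.toAdd.1).val * Y F4.u ^ (x.toAdd.2 + y.toAdd.2).val = _
    rw [pow_val_add (h.pow_four _), pow_val_add (h.pow_four _)]
    have := (hc.pow_pow y.toAdd.1.val x.toAdd.2.val).eq
    calc Y F4.w ^ x.toAdd.1.val * Y F4.w ^ y.toAdd.1.val * (Y F4.u ^ x.toAdd.2.val * Y F4.u ^ y.toAdd.2.val)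
        = Y F4.w ^ x.toAdd.1.val * (Y F4.w ^ y.toAdd.1.val * Y F4.u ^ x.toAdd.2.val) *
            Y F4.u ^ y.toAdd.2.val := by group
      _ = _ := by rw [this]; group)

theorem KOne.hom44_apply (h : KOne A R B P L ρ F4.e X Y Z) (i j : ZMod 4) :
    h.hom44 (Multiplicative.ofAdd (i, j)) =
      Y (pb F4.w i + pb F4.u j) * Z (pc F4.w i + pc F4.u j + F4.e * F4.fr (pb F4.w i * pb F4.u j)) := by
  change Y F4.w ^ i.val * Y F4.u ^ j.val = _
  rw [h.pow_Y, h.pow_Y, h.mul2]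

theorem KOne.hom44_injective (h : KOne A R B P L ρ F4.e X Y Z) : Function.Injective h.hom44 := by
  rw [injective_iff_map_eq_one]
  intro x hx
  obtain ⟨i, j⟩ := x
  have h1 := h.hom44_apply i j
  rw [show h.hom44 (Multiplicative.ofAdd (i, j)) = 1 from hx] at h1
  have h1' : Y 0 * Z 0 = Y (pb F4.w i + pb F4.u j) *
      Z (pc F4.w i + pc F4.u j + F4.e * F4.fr (pb F4.w i * pb F4.u j)) := by
    rw [← h1, h.fr.Y_zero, h.fr.Z_zero, mul_one]
  have h2 := h.inj2 h1'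
  have key : ∀ i j : ZMod 4, 0 = pb F4.w i + pb F4.u j →
      0 = pc F4.w i + pc F4.u j + F4.e * F4.fr (pb F4.w i * pb F4.u j) → i = 0 ∧ j = 0 := by
    decide
  obtain ⟨rfl, rfl⟩ := key i j h2.1 h2.2
  rfl

theorem KOne.hom44_mem (h : KOne A R B P L ρ F4.e X Y Z) (x : Multiplicative (ZMod 4 × ZMod 4)) :
    h.hom44 x ∈ h.Q 0 := by
  obtain ⟨i, j⟩ := x
  exact h.mem_E2.2 ⟨_, _, h.hom44_apply i j⟩

end four

/-- **B3** -/
theorem MuOne.false_of_four {G : Type*} [Group G] [Finite G] {A R B P L : Subgroup G} {ρ : G}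
    {X Y Z : F4 → G} {S : Sylow 2 G} (h : MuOne A R B P L ρ F4.e X Y Z S) : False := by
  classical
  haveI : Fact (Nat.Prime 2) := ⟨Nat.prime_two⟩
  haveI := h.simple
  have hE2 : NE2 A F4.e Y Z := fun h0 => absurd h0 (by decide)
  obtain ⟨T, hT⟩ := h.exists_sylow (Or.inr rfl) hE2
  have hcT : Nat.card (T : Subgroup L) = 16 := by
    rw [hT, Nat.card_congr (subgroupOfEquivOfLe h.E2_le_L).toEquiv, h.card_E2]
  -- the isomorphism
  have hmem : ∀ x, (⟨h.hom44 x, h.E2_le_L (h.hom44_mem x)⟩ : L) ∈ (T : Subgroup L) := by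
    intro x
    rw [hT, mem_subgroupOf]
    exact h.hom44_mem x
  let f : Multiplicative (ZMod 4 × ZMod 4) →* (T : Subgroup L) :=
    { toFun := fun x => ⟨⟨h.hom44 x, h.E2_le_L (h.hom44_mem x)⟩, hmem x⟩
      map_one' := by ext; simp
      map_mul' := by intro x y; ext; simp }
  have hf : Function.Injective f := by
    intro x y hxy
    apply h.hom44_injective
    exact congrArg (fun t : (T : Subgroup L) => ((t : L) : G)) hxy
  have hcM : Nat.card (Multiplicative (ZMod 4 × ZMod 4)) = 16 := by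
    rw [Nat.card_congr Multiplicative.toAdd, Nat.card_prod, Nat.card_zmod]
  have hfb : Function.Bijective f := by
    apply hf.bijective_of_nat_card_le
    rw [hcM]; exact hcT.le
  have e : (T : Subgroup L) ≃* Multiplicative (ZMod (2 ^ 2) × ZMod (2 ^ 2)) :=
    (MulEquiv.ofBijective f hfb).symm
  obtain ⟨h1, -, -⟩ := Cfsg.Agent.S0949.result T 2 le_rfl e (by
    intro N hN hodd
    rcases hN.eq_bot_or_eq_top with hb | ht
    · exact hb
    · exfalso
      rw [ht, card_top] at hodd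
      have h2 : 4 ∣ Nat.card L := by
        rw [← h.dat.cardB]
        exact card_dvd_of_le (h.B_le.trans h.A_le)
      rw [← Nat.not_even_iff_odd] at hodd
      exact hodd (even_iff_two_dvd.2 ((by norm_num : (2 : ℕ) ∣ 4).trans h2)))
  rcases h1.eq_bot_or_eq_top with hb | ht
  · rw [hb, card_bot] at hcT; omega
  · have hρ : (⟨ρ, h.A_le h.ρA⟩ : L) ∈ (T : Subgroup L) := by rw [ht]; trivial
    rw [hT, mem_subgroupOf] at hρ
    have hZ : Z F4.e ∈ h.Q 0 := h.mem_E2.2 ⟨0, F4.e, by rw [h.fr.Y_zero, one_mul]⟩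
    have h2 := h.E2_comm hρ hZ
    have h3 := h.fr.ρZ F4.e
    have h4 : ρ * Z F4.e = Z F4.e * ρ := h2
    rw [h4, mul_inv_cancel_right] at h3
    have := h.fr.Z_inj h3
    exact absurd this (by decide)

end Cfsg.Agent.StdAlt.Five
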