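import Mathlib
import Cfsg.Agent.StdAlt.Five.KillB3
import Cfsg.Agent.PermutationGroups.OddKlein

/-!
# S1766, n = 5, `κ = 1`, `μ = 1`, `E2 = 2^4`: the action of `N_L(E2)` on `E2`
-/

set_option autoImplicit false

namespace Cfsg.Agent.StdAlt.Five

open Subgroup Cfsg.Agent.StdAlt.Conj Cfsg.Agent.J2Sylow.Model

/-- additive function with prescribed values at `e`, `w` -/
def aF (p q : F4) : F4 → F4
  | .o => 0
  | .e => p
  | .w => q
  | .u => p + q

theorem aF_of {f : F4 → F4} (hf : ∀ a b, f (a + b) = f a + f b) (c : F4) :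
    f c = aF (f .e) (f .w) c := by
  have h0 : f 0 = 0 := by
    have h := hf 0 0
    rw [add_zero] at h
    exact left_eq_add.mp h
  cases c
  · exact h0
  · rfl
  · rfl
  · change f (F4.e + F4.w) = f F4.e + f F4.w
    exact hf _ _

/-- additive injections of `F4` of odd order are multiplications -/
theorem additive_odd {f : F4 → F4} (hf : ∀ a b, f (a + b) = f a + f b) (hinj : ∀ a, f a = 0 → a = 0)
    {m : ℕ} (hm : Odd m) (hfm : ∀ c, f^[m] c = c) : ∃ i : ℕ, ∀ c, f c = F4.w ^ i * c := by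
  have a1 := fun c => aF_of hf c
  set p := f .e with hp
  set q := f .w with hq
  have key : ∀ p q : F4, (∀ a, aF p q a = 0 → a = 0) →
      (∃ i : Fin 3, ∀ c, aF p q c = F4.w ^ i.val * c) ∨
        (∀ c, aF p q (aF p q c) = c) := by decide
  rcases key p q (fun a ha => hinj a (by rw [a1 a]; exact ha)) with ⟨i, hi⟩ | h2
  · exact ⟨i.val, fun c => by rw [a1 c, hi]⟩
  · refine ⟨0, fun c => ?_⟩
    have h3 : ∀ c, f (f c) = c := fun c => by rw [a1 (f c), a1 c, h2]
    obtain ⟨k, rfl⟩ := hm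
    have h4 : ∀ k : ℕ, ∀ c, f^[2 * k] c = c := by
      intro k
      induction k with
      | zero => intro c; rfl
      | succ k ih =>
        intro c
        rw [show 2 * (k + 1) = 2 * k + 1 + 1 by ring, Function.iterate_succ_apply,
          Function.iterate_succ_apply, h3, ih]
    have h5 : f^[2 * k] (f c) = c := by rw [← Function.iterate_succ_apply]; exact hfm c
    rw [h4] at h5
    rw [h5, pow_zero, one_mul]

/-- a 2-subgroup `E` of order `2 ^ k` of `H`, `2 ^ (k+1) ∤ |H|`: every 2-subgroup of `H` is conjugate into `E` -/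
theorem conj_into' {G : Type*} [Group G] [Finite G] {H E T : Subgroup G} (hE : E ≤ H) {k : ℕ}
    (hcE : Nat.card E = 2 ^ k) (hH : ¬ 2 ^ (k + 1) ∣ Nat.card H) (hT : T ≤ H) (hTp : IsPGroup 2 T) :
    ∃ g ∈ H, ∀ x ∈ T, g * x * g⁻¹ ∈ E := by
  classical
  haveI : Fact (Nat.Prime 2) := ⟨Nat.prime_two⟩
  have hEp : IsPGroup 2 (E.subgroupOf H) := by
    apply IsPGroup.of_card (n := k)
    rw [Nat.card_congr (subgroupOfEquivOfLe hE).toEquiv, hcE]
  have hTp' : IsPGroup 2 (T.subgroupOf H) := hTp.of_equiv (subgroupOfEquivOfLe hT).symm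
  obtain ⟨S1, hS1⟩ := hEp.exists_le_sylow
  obtain ⟨S2, hS2⟩ := hTp'.exists_le_sylow
  have hS1c : Nat.card (S1 : Subgroup H) ≤ 2 ^ k := by
    obtain ⟨n, hn⟩ := IsPGroup.iff_card.1 S1.isPGroup'
    have h1 : n ≤ k := by
      by_contra hlt
      apply hH
      have : 2 ^ (k + 1) ∣ 2 ^ n := pow_dvd_pow 2 (by omega)
      rw [← hn] at this
      exact this.trans (card_subgroup_dvd_card _)
    rw [hn]
    exact Nat.pow_le_pow_right (by norm_num) h1
  have hEq : E.subgroupOf H = (S1 : Subgroup H) := by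
    apply eq_of_le_of_card_ge hS1
    rw [Nat.card_congr (subgroupOfEquivOfLe hE).toEquiv, hcE]
    exact hS1c
  obtain ⟨g, hg⟩ := MulAction.exists_smul_eq H S2 S1
  refine ⟨g, g.2, fun x hx => ?_⟩
  have h1 : (⟨x, hT hx⟩ : H) ∈ (S2 : Subgroup H) := hS2 (mem_subgroupOf.2 hx)
  have h2 : g * ⟨x, hT hx⟩ * g⁻¹ ∈ ((g • S2 : Sylow 2 H) : Subgroup H) := by
    rw [Sylow.coe_subgroup_smul]
    have := smul_mem_pointwise_smul (⟨x, hT hx⟩ : H) (MulAut.conj g) (S2 : Subgroup H) h1
    simpa using this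
  rw [hg, ← hEq, mem_subgroupOf] at h2
  exact h2

namespace KOne

variable {G : Type*} [Group G] {A R B P L : Subgroup G} {ρ : G} {ε : F4} {X Y Z : F4 → G}

theorem Xa_conj_E2 (h : KOne A R B P L ρ ε X Y Z) (a : F4) {x : G} (hx : x ∈ h.Q 0) :
    X a * x * (X a)⁻¹ ∈ h.Q 0 := by
  obtain ⟨b, c, rfl⟩ := h.mem_E2.1 hx
  rw [h.mem_E2]
  refine ⟨b, a * b + c, ?_⟩
  calc X a * (Y b * Z c) * (X a)⁻¹ = (X a * Y b) * (Z c * (X a)⁻¹) := by group
    _ = (Y b * X a * Z (a * b)) * (Z c * X a) := by rw [h.fr.X_Y, h.X_inv]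
    _ = Y b * (X a * X a) * (Z (a * b) * Z c) := by
        rw [h.ZX]
        calc Y b * X a * Z (a * b) * (X a * Z c) = Y b * X a * (Z (a * b) * X a) * Z c := by group
          _ = _ := by rw [h.ZX]; group
    _ = _ := by rw [h.XX, mul_one, ← h.fr.Z_add]

/-- Lemma A -/
theorem exists_commuting [Finite G] (h : KOne A R B P L ρ 0 X Y Z) (h32 : ¬ 32 ∣ Nat.card L) {a : F4}
    (ha : a ≠ 0) (haL : X a ∉ L) {n : G} (hn : n ∈ L)
    (hcn : ∀ x ∈ h.Q 0, ((X a)⁻¹ * n⁻¹ * X a * n) * x = x * ((X a)⁻¹ * n⁻¹ * X a * n)) :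
    ∃ n1 ∈ L, n1 * X a = X a * n1 ∧ ∀ x ∈ h.Q 0, n1 * x * n1⁻¹ = n * x * n⁻¹ := by
  classical
  haveI := h.nor
  set Cc : Subgroup G := L ⊓ centralizer ((h.Q 0 : Subgroup G) : Set G) with hCc
  have mC : ∀ {x : G}, x ∈ Cc ↔ x ∈ L ∧ ∀ y ∈ h.Q 0, x * y = y * x := by
    intro x
    rw [hCc, mem_inf, mem_centralizer_iff]
    exact ⟨fun h1 => ⟨h1.1, fun y hy => (h1.2 y hy).symm⟩, fun h1 => ⟨h1.1, fun y hy => (h1.2 y hy).symm⟩⟩
  have hXC : ∀ x ∈ Cc, X a * x * (X a)⁻¹ ∈ Cc := by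
    intro x hx
    obtain ⟨h1, h2⟩ := mC.1 hx
    refine mC.2 ⟨h.nor.conj_mem _ h1 _, fun y hy => ?_⟩
    have h3 : X a * y * (X a)⁻¹ ∈ h.Q 0 := h.Xa_conj_E2 a hy
    have h4 := h2 _ h3
    have h5 : X a * (X a * y * (X a)⁻¹) * (X a)⁻¹ = y := by
      rw [h.X_inv]
      calc X a * (X a * y * X a) * X a = (X a * X a) * y * (X a * X a) := by group
        _ = y := by rw [h.XX]; group
    calc X a * x * (X a)⁻¹ * y = X a * x * (X a)⁻¹ * (X a * (X a * y * (X a)⁻¹) * (X a)⁻¹) := by rw [h5]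
      _ = X a * (x * (X a * y * (X a)⁻¹)) * (X a)⁻¹ := by group
      _ = X a * ((X a * y * (X a)⁻¹) * x) * (X a)⁻¹ := by rw [h4]
      _ = (X a * (X a * y * (X a)⁻¹) * (X a)⁻¹) * (X a * x * (X a)⁻¹) := by group
      _ = _ := by rw [h5]
  have hXX := h.XX a
  have hXi := h.X_inv a
  have hXC' : ∀ x ∈ Cc, X a * x * X a ∈ Cc := fun x hx => by
    have := hXC x hx
    rwa [hXi] at this
  let H1 : Subgroup G :=
    { carrier := {x | x ∈ Cc ∨ X a * x ∈ Cc}
      one_mem' := Or.inl (one_mem _)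
      mul_mem' := by
        rintro x y (hx | hx) (hy | hy)
        · exact Or.inl (mul_mem hx hy)
        · right
          have := mul_mem (hXC' x hx) hy
          convert this using 1
          calc X a * (x * y) = X a * x * (1 * y) := by group
            _ = _ := by rw [← hXX]; group
        · right
          have := mul_mem hx hy
          convert this using 1
          group
        · left
          have := mul_mem (hXC' _ hx) hy
          convert this using 1
          calc x * y = 1 * x * (1 * y) := by group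
            _ = _ := by rw [← hXX]; group
      inv_mem' := by
        rintro x (hx | hx)
        · exact Or.inl (inv_mem hx)
        · right
          have := hXC' _ (inv_mem hx)
          convert this using 1
          rw [mul_inv_rev, hXi]
          calc X a * x⁻¹ = X a * x⁻¹ * 1 := by group
            _ = _ := by rw [← hXX]; group }
  have mH : ∀ {x : G}, x ∈ H1 ↔ x ∈ Cc ∨ X a * x ∈ Cc := Iff.rfl
  have hcard : Nat.card H1 = Nat.card Cc * 2 := by
    have hb : Function.Bijective (fun p : Cc × Bool =>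
        (⟨bif p.2 then X a * p.1 else p.1, by
          rcases p with ⟨⟨c, hc⟩, b⟩
          cases b
          · exact Or.inl hc
          · right
            change X a * (X a * c) ∈ Cc
            rw [← mul_assoc, hXX, one_mul]
            exact hc⟩ : H1)) := by
      constructor
      · rintro ⟨⟨c, hc⟩, b⟩ ⟨⟨c', hc'⟩, b'⟩ he
        have he' := congrArg Subtype.val he
        cases b <;> cases b'
        · have h1 : c = c' := he'
          subst h1; rfl
        · exfalso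
          have h1 : c = X a * c' := he'
          apply haL
          have : X a = c * c'⁻¹ := by rw [h1]; group
          rw [this]
          exact mul_mem (mC.1 hc).1 (inv_mem (mC.1 hc').1)
        · exfalso
          have h1 : X a * c = c' := he'
          apply haL
          have : X a = c' * c⁻¹ := by rw [← h1]; group
          rw [this]
          exact mul_mem (mC.1 hc').1 (inv_mem (mC.1 hc).1)
        · have h1 : X a * c = X a * c' := he'
          have h2 := mul_left_cancel h1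
          subst h2; rfl
      · rintro ⟨x, hx⟩
        rcases mH.1 hx with h1 | h1
        · exact ⟨(⟨x, h1⟩, false), rfl⟩
        · refine ⟨(⟨X a * x, h1⟩, true), ?_⟩
          apply Subtype.ext
          change X a * (X a * x) = x
          rw [← mul_assoc, hXX, one_mul]
    rw [← Nat.card_congr (Equiv.ofBijective _ hb), Nat.card_prod, Nat.card_eq_fintype_card (α := Bool)]
    rfl
  have hE2C : h.Q 0 ≤ Cc := fun x hx => mC.2 ⟨h.E2_le_L hx, fun y hy => h.E2_comm hx hy⟩
  have hQH : h.Q a ≤ H1 := by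
    rintro x ⟨b, y, c, hy, rfl⟩
    rcases hy with rfl | rfl
    · left
      apply hE2C
      exact ⟨b, 0, c, Or.inl rfl, rfl⟩
    · right
      rw [show X y * (Y b * X y * Z c) = (X y * Y b) * X y * Z c by group, h.fr.X_Y]
      have : Y b * X y * Z (y * b) * X y * Z c = Y b * Z (y * b + c) := by
        calc Y b * X y * Z (y * b) * X y * Z c = Y b * X y * (Z (y * b) * X y) * Z c := by group
          _ = Y b * (X y * X y) * (Z (y * b) * Z c) := by rw [h.ZX]; group
          _ = _ := by rw [h.XX, mul_one, ← h.fr.Z_add]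
      rw [this]
      exact hE2C (h.mem_E2.2 ⟨_, _, rfl⟩)
  have h64 : ¬ 2 ^ (5 + 1) ∣ Nat.card H1 := by
    intro hd
    apply h32
    rw [hcard] at hd
    have h1 : 32 ∣ Nat.card Cc := by
      obtain ⟨m, hm⟩ := hd
      exact ⟨m, by omega⟩
    exact h1.trans (card_dvd_of_le inf_le_left)
  -- the conjugate `n⁻¹ X a n`
  set t := n⁻¹ * X a * n with ht
  have htt : t * t = 1 := by
    rw [ht]
    calc n⁻¹ * X a * n * (n⁻¹ * X a * n) = n⁻¹ * (X a * X a) * n := by group
      _ = 1 := by rw [hXX]; group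
  have hc0 : X a * t ∈ Cc := by
    refine mC.2 ⟨?_, fun y hy => ?_⟩
    · have : X a * t = (X a * n⁻¹ * (X a)⁻¹) * n := by rw [ht, hXi]; group
      rw [this]
      exact mul_mem (h.nor.conj_mem _ (inv_mem hn) _) hn
    · have := hcn y hy
      rw [hXi] at this
      rw [ht]
      convert this using 1 <;> group
  have htH : zpowers t ≤ H1 := by
    rw [zpowers_le]
    exact Or.inr hc0
  have htp : IsPGroup 2 (zpowers t) := by
    intro y
    obtain ⟨y, k, rfl⟩ := y
    refine ⟨1, Subtype.ext ?_⟩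
    change (t ^ k) ^ (2 ^ 1) = 1
    rw [pow_one, ← zpow_natCast, ← zpow_mul, mul_comm, zpow_mul, zpow_natCast, pow_two, htt, one_zpow]
  obtain ⟨g0, hg0, hg0'⟩ := conj_into' hQH (k := 5) (by rw [h.card_Q ha]; norm_num) h64 htH htp
  obtain ⟨g, hg, hgt⟩ : ∃ g ∈ Cc, g * t * g⁻¹ ∈ h.Q a := by
    have h1 := hg0' t (mem_zpowers t)
    rcases mH.1 hg0 with h2 | h2
    · exact ⟨g0, h2, h1⟩
    · refine ⟨X a * g0, h2, ?_⟩
      have hXQ : X a ∈ h.Q a := ⟨0, a, 0, Or.inr rfl, by rw [h.fr.Y_zero, h.fr.Z_zero]; group⟩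
      have := mul_mem (mul_mem hXQ h1) (inv_mem hXQ)
      convert this using 1
      group
  obtain ⟨b, x, c, hx, he⟩ := hgt
  have hsq : (Y b * X x * Z c) * (Y b * X x * Z c) = 1 := by
    rw [← he]
    calc g * t * g⁻¹ * (g * t * g⁻¹) = g * (t * t) * g⁻¹ := by group
      _ = 1 := by rw [htt]; group
  rw [h.sq3_iff] at hsq
  have hx0 : x ≠ 0 := by
    rintro rfl
    have h1 : Y b * X 0 * Z c ∈ L := by
      rw [h.fr.X_zero, mul_one]; exact mul_mem (h.YL b) (h.ZL c)
    rw [← he] at h1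
    have h2 : X a = n * g⁻¹ * (g * t * g⁻¹) * (n * g⁻¹)⁻¹ := by rw [ht]; group
    apply haL
    rw [h2]
    exact h.nor.conj_mem _ h1 _
  have hxa : x = a := by tauto
  subst hxa
  have hb0 : b = 0 := by
    have : ∀ x b : F4, x ≠ 0 → x * b + 0 * F4.fr (b * b) = 0 → b = 0 := by decide
    exact this x b ha hsq
  subst hb0
  obtain ⟨d, hd⟩ := h.exists_Y ha c
  rw [h.fr.Y_zero, one_mul, ← hd] at he
  refine ⟨n * g⁻¹ * (Y d)⁻¹, mul_mem (mul_mem hn (inv_mem (mC.1 hg).1)) (inv_mem (h.YL d)), ?_, ?_⟩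
  · calc n * g⁻¹ * (Y d)⁻¹ * X x = n * g⁻¹ * ((Y d)⁻¹ * X x * Y d) * (Y d)⁻¹ := by group
      _ = n * g⁻¹ * (g * t * g⁻¹) * (Y d)⁻¹ := by rw [he]
      _ = X x * (n * g⁻¹ * (Y d)⁻¹) := by rw [ht]; group
  · intro y hy
    have h1 : (Y d)⁻¹ * y = y * (Y d)⁻¹ :=
      h.E2_comm (inv_mem (h.mem_E2.2 ⟨d, 0, by rw [h.fr.Z_zero, mul_one]⟩)) hy
    have h2 : g⁻¹ * y = y * g⁻¹ := (mC.1 (inv_mem hg)).2 y hy
    calc n * g⁻¹ * (Y d)⁻¹ * y * (n * g⁻¹ * (Y d)⁻¹)⁻¹
        = n * g⁻¹ * ((Y d)⁻¹ * y) * Y d * g * n⁻¹ := by group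
      _ = n * (g⁻¹ * y) * g * n⁻¹ := by rw [h1]; group
      _ = _ := by rw [h2]; group

end KOne

end Cfsg.Agent.StdAlt.Five
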