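import Mathlib
import Cfsg.Agent.StdAlt.Five.KillB1Act

/-!
# S1766, n = 5, `κ = 1`, `μ = 1`, `E2 = 2^4`: `N_L(E2)` acts on `E2` as `⟨ρ⟩`
-/

set_option autoImplicit false

namespace Cfsg.Agent.StdAlt.Five

open Subgroup Cfsg.Agent.StdAlt.Conj Cfsg.Agent.J2Sylow.Model

/-- `x = κ r^i`, `κ` and `r` commute, `κ² = r³ = 1`, `x` of odd order: `κ = 1` -/
theorem eq_one_of_odd {M : Type*} [Group M] {x κ r : M} {i m : ℕ} (hx : x = κ * r ^ i) (hc : κ * r = r * κ)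
    (hk : κ * κ = 1) (hr : r ^ 3 = 1) (hm : Odd m) (hxm : x ^ m = 1) : κ = 1 := by
  have hc' : Commute κ (r ^ i) := (show Commute κ r from hc).pow_right i
  have h1 : x ^ (3 * m) = 1 := by rw [mul_comm, pow_mul, hxm, one_pow]
  rw [hx, hc'.mul_pow] at h1
  have h2 : (r ^ i) ^ (3 * m) = 1 := by
    rw [← pow_mul, show i * (3 * m) = 3 * (i * m) by ring, pow_mul, hr, one_pow]
  rw [h2, mul_one] at h1
  obtain ⟨k, rfl⟩ := hm
  have h3 : κ ^ (3 * (2 * k + 1)) = κ := by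
    rw [show 3 * (2 * k + 1) = 2 * (3 * k + 1) + 1 by ring, pow_succ, pow_mul, pow_two, hk, one_pow, one_mul]
  rw [h3] at h1
  exact h1

namespace KOne

variable {G : Type*} [Group G] {A R B P L : Subgroup G} {ρ : G} {ε : F4} {X Y Z : F4 → G}

/-- the action of `N(E2)` on `E2` -/
noncomputable def pi (h : KOne A R B P L ρ ε X Y Z) :
    normalizer ((h.Q 0 : Subgroup G) : Set G) →* MulAut (h.Q 0) := (h.Q 0).normalizerMonoidHom

theorem pi_apply (h : KOne A R B P L ρ ε X Y Z) (g : normalizer ((h.Q 0 : Subgroup G) : Set G))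
    (x : h.Q 0) : ((h.pi g x : h.Q 0) : G) = g * x * (g : G)⁻¹ := rfl

theorem ρ_E2 (h : KOne A R B P L ρ ε X Y Z) {x : G} (hx : x ∈ h.Q 0) : ρ * x * ρ⁻¹ ∈ h.Q 0 := by
  obtain ⟨b, c, rfl⟩ := h.mem_E2.1 hx
  rw [h.mem_E2]
  refine ⟨F4.w * b, F4.w * c, ?_⟩
  rw [← h.fr.ρY, ← h.fr.ρZ]; group

theorem mem_nor [Finite G] (h : KOne A R B P L ρ ε X Y Z) {g : G}
    (hg : ∀ x ∈ h.Q 0, g * x * g⁻¹ ∈ h.Q 0) : g ∈ normalizer ((h.Q 0 : Subgroup G) : Set G) :=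
  mem_N_of hg

theorem ρ_pow_Z (h : KOne A R B P L ρ ε X Y Z) (i : ℕ) (c : F4) : ρ ^ i * Z c * (ρ ^ i)⁻¹ = Z (F4.w ^ i * c) := by
  induction i generalizing c with
  | zero => simp
  | succ i ih =>
    have e : ρ ^ (i + 1) * Z c * (ρ ^ (i + 1))⁻¹ = ρ ^ i * (ρ * Z c * ρ⁻¹) * (ρ ^ i)⁻¹ := by
      rw [pow_succ]; group
    rw [e, h.fr.ρZ, ih, pow_succ, mul_assoc]

/-- `k` commuting with `X a`, `B` and normalising `E2` (`ε` arbitrary) -/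
theorem k_act (h : KOne A R B P L ρ ε X Y Z) {a : F4} (ha : a ≠ 0) {k : G} (hkX : k * X a = X a * k)
    (hkZ : ∀ c, k * Z c = Z c * k) (hkE : ∀ x ∈ h.Q 0, k * x * k⁻¹ ∈ h.Q 0) (b : F4) :
    ∃ d, k * Y b * k⁻¹ = Y b * Z d := by
  obtain ⟨b', d', he⟩ := h.mem_E2.1 (hkE (Y b) (h.mem_E2.2 ⟨b, 0, by rw [h.fr.Z_zero, mul_one]⟩))
  have h1 : X a * (k * Y b * k⁻¹) = (k * Y b * k⁻¹) * X a * Z (a * b) := by
    have e1 : k⁻¹ * X a = X a * k⁻¹ := by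
      rw [inv_mul_eq_iff_eq_mul, ← mul_assoc, hkX]; group
    have e2 : k⁻¹ * Z (a * b) = Z (a * b) * k⁻¹ := by
      rw [inv_mul_eq_iff_eq_mul, ← mul_assoc, hkZ]; group
    calc X a * (k * Y b * k⁻¹) = (X a * k) * Y b * k⁻¹ := by group
      _ = k * (X a * Y b) * k⁻¹ := by rw [← hkX]; group
      _ = k * (Y b * X a * Z (a * b)) * k⁻¹ := by rw [h.fr.X_Y]
      _ = k * Y b * (X a * (Z (a * b) * k⁻¹)) := by group
      _ = k * Y b * (X a * k⁻¹) * Z (a * b) := by rw [← e2]; group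
      _ = _ := by rw [← e1]; group
  rw [he] at h1
  have h2 : X a * (Y b' * Z d') = Y b' * X a * Z (a * b' + d') := by
    rw [← mul_assoc, h.fr.X_Y, mul_assoc, ← h.fr.Z_add]
  have h3 : Y b' * Z d' * X a * Z (a * b) = Y b' * X a * Z (d' + a * b) := by
    calc Y b' * Z d' * X a * Z (a * b) = Y b' * (Z d' * X a) * Z (a * b) := by group
      _ = Y b' * X a * (Z d' * Z (a * b)) := by rw [h.ZX]; group
      _ = _ := by rw [← h.fr.Z_add]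
  rw [h2, h3] at h1
  have h4 := (h.inj3 h1).2.2
  have h5 : b' = b := by
    have key : ∀ a b b' d' : F4, a ≠ 0 → a * b' + d' = d' + a * b → b' = b := by decide
    exact key a b b' d' ha h4
  subst h5
  exact ⟨d', he⟩

end KOne

namespace MuOne

variable {G : Type*} [Group G] {A R B P L : Subgroup G} {ρ : G} {ε : F4} {X Y Z : F4 → G} {S : Sylow 2 G}

/-- Lemma B -/
theorem act_pow [Finite G] (h : MuOne A R B P L ρ ε X Y Z S) {a : F4} (ha : a ≠ 0) {n : G}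
    (hnX : n * X a = X a * n) (hnE : n ∈ normalizer ((h.Q 0 : Subgroup G) : Set G)) {m : ℕ} (hm : Odd m)
    (hnm : h.pi ⟨n, hnE⟩ ^ m = 1) : ∃ i : ℕ, ∀ x ∈ h.Q 0, n * x * n⁻¹ = ρ ^ i * x * (ρ ^ i)⁻¹ := by
  obtain ⟨k, hk, a1, ha1, hna⟩ := h.hKA ha n hnX
  have ha1X : a1 * X a = X a * a1 := (comm_of_C (h.XC a) ha1).symm
  have hkX : k * X a = X a * k := by
    have e : k = n * a1⁻¹ := by rw [hna]; group
    have e1 : a1⁻¹ * X a = X a * a1⁻¹ := by rw [inv_mul_eq_iff_eq_mul, ← mul_assoc, ha1X]; group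
    rw [e]
    calc n * a1⁻¹ * X a = n * (a1⁻¹ * X a) := by group
      _ = (n * X a) * a1⁻¹ := by rw [e1]; group
      _ = _ := by rw [hnX]; group
  have hkA : ∀ y ∈ A, k * y = y * k := fun y hy => comm_of_C hk hy
  have hconjE : ∀ x ∈ h.Q 0, n * x * n⁻¹ ∈ h.Q 0 := fun x hx => (mem_normalizer_iff.1 hnE x).1 hx
  -- `n` normalises `B`
  have hnZ : ∀ c, ∃ c', n * Z c * n⁻¹ = Z c' := by
    intro c
    obtain ⟨b', c', he⟩ := h.mem_E2.1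
      (hconjE (Z c) (h.mem_E2.2 ⟨0, c, by rw [h.fr.Y_zero, one_mul]⟩))
    have e1 : X a * (n * Z c * n⁻¹) = (n * Z c * n⁻¹) * X a := by
      have e2 : n⁻¹ * X a = X a * n⁻¹ := by rw [inv_mul_eq_iff_eq_mul, ← mul_assoc, hnX]; group
      calc X a * (n * Z c * n⁻¹) = (X a * n) * Z c * n⁻¹ := by group
        _ = n * (X a * Z c) * n⁻¹ := by rw [← hnX]; group
        _ = n * Z c * (X a * n⁻¹) := by rw [← h.ZX]; group
        _ = _ := by rw [← e2]; group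
    rw [he] at e1
    have h2 : X a * (Y b' * Z c') = Y b' * X a * Z (a * b' + c') := by
      rw [← mul_assoc, h.fr.X_Y, mul_assoc, ← h.fr.Z_add]
    have h3 : Y b' * Z c' * X a = Y b' * X a * Z c' := by rw [mul_assoc, h.ZX]; group
    rw [h2, h3] at e1
    have h4 := (h.inj3 e1).2.2
    have h5 : b' = 0 := by
      have key : ∀ a b' c' : F4, a ≠ 0 → a * b' + c' = c' → b' = 0 := by decide
      exact key a b' c' ha h4
    subst h5
    exact ⟨c', by rw [he, h.fr.Y_zero, one_mul]⟩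
  choose f hf using hnZ
  have hfadd : ∀ c d, f (c + d) = f c + f d := by
    intro c d
    apply h.fr.Z_inj
    rw [h.fr.Z_add, ← hf, ← hf, ← hf, h.fr.Z_add]; group
  have hfinj : ∀ c, f c = 0 → c = 0 := by
    intro c hc
    by_contra hne
    apply h.Z_ne hne
    have := hf c
    rw [hc, h.fr.Z_zero] at this
    calc Z c = n⁻¹ * (n * Z c * n⁻¹) * n := by group
      _ = 1 := by rw [this]; group
  have hfit : ∀ j c, n ^ j * Z c * (n ^ j)⁻¹ = Z (f^[j] c) := by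
    intro j
    induction j with
    | zero => intro c; simp
    | succ j ih =>
      intro c
      have e : n ^ (j + 1) * Z c * (n ^ (j + 1))⁻¹ = n ^ j * (n * Z c * n⁻¹) * (n ^ j)⁻¹ := by
        rw [pow_succ]; group
      rw [e, hf, ih, Function.iterate_succ_apply]
  have hfm : ∀ c, f^[m] c = c := by
    intro c
    apply h.fr.Z_inj
    rw [← hfit]
    have hZm : Z c ∈ h.Q 0 := h.mem_E2.2 ⟨0, c, by rw [h.fr.Y_zero, one_mul]⟩
    have e := congrArg (fun φ : MulAut (h.Q 0) => ((φ ⟨Z c, hZm⟩ : h.Q 0) : G)) hnm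
    simp only [← map_pow] at e
    rw [h.pi_apply] at e
    exact e
  obtain ⟨i, hi⟩ := additive_odd hfadd hfinj hm hfm
  have hi' : ∀ c, n * Z c * n⁻¹ = ρ ^ i * Z c * (ρ ^ i)⁻¹ := fun c => by rw [hf, hi, h.ρ_pow_Z]
  have ha1' : ∀ c, a1 * Z c * a1⁻¹ = ρ ^ i * Z c * (ρ ^ i)⁻¹ := by
    intro c
    rw [← hi', hna]
    have e := hkA _ (mul_mem (mul_mem ha1 (h.ZA c)) (inv_mem ha1))
    calc a1 * Z c * a1⁻¹ = (a1 * Z c * a1⁻¹) * k * k⁻¹ := by group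
      _ = _ := by rw [← e]; group
  -- `v = ρ^-i a1` is in `B`
  obtain ⟨v, hv, hv1⟩ : ∃ v ∈ B, a1 = ρ ^ i * v := by
    have hA1 : (ρ ^ i)⁻¹ * a1 ∈ A := mul_mem (inv_mem (pow_mem h.ρA i)) ha1
    obtain ⟨v, hv, hvC⟩ := h.CV ((ρ ^ i)⁻¹ * a1) (le_N hA1) (by
      intro y hy
      obtain ⟨c, rfl⟩ := h.fr.Z_surj y hy
      have e := ha1' c
      calc (ρ ^ i)⁻¹ * a1 * Z c = (ρ ^ i)⁻¹ * (a1 * Z c * a1⁻¹) * a1 := by group
        _ = _ := by rw [e]; group)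
    refine ⟨v⁻¹, inv_mem hv, ?_⟩
    have e := h.te.disj _ (mul_mem hA1 (h.B_le hv)) hvC
    have e2 : (ρ ^ i)⁻¹ * a1 = v⁻¹ := by rw [eq_inv_iff_mul_eq_one]; exact e
    rw [← e2]; group
  obtain ⟨c0, rfl⟩ := h.fr.Z_surj v hv
  have hZ0 : Z c0 ∈ h.Q 0 := h.mem_E2.2 ⟨0, c0, by rw [h.fr.Y_zero, one_mul]⟩
  -- `k` normalises `E2`
  have hρN : ρ ∈ normalizer ((h.Q 0 : Subgroup G) : Set G) := h.mem_nor fun x hx => h.ρ_E2 hx
  have hZN : Z c0 ∈ normalizer ((h.Q 0 : Subgroup G) : Set G) := le_normalizer hZ0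
  have hkn : k = n * (Z c0)⁻¹ * (ρ ^ i)⁻¹ := by rw [hna, hv1]; group
  have hkN : k ∈ normalizer ((h.Q 0 : Subgroup G) : Set G) := by
    rw [hkn]
    exact mul_mem (mul_mem hnE (inv_mem hZN)) (inv_mem (pow_mem hρN i))
  have hkE : ∀ x ∈ h.Q 0, k * x * k⁻¹ ∈ h.Q 0 := fun x hx => (mem_normalizer_iff.1 hkN x).1 hx
  have hkZ : ∀ c, k * Z c = Z c * k := fun c => hkA _ (h.ZA c)
  have hkact := fun b => h.k_act ha hkX hkZ hkE b
  have hkk : h.pi ⟨k, hkN⟩ * h.pi ⟨k, hkN⟩ = 1 := by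
    ext x
    obtain ⟨x, hx⟩ := x
    obtain ⟨b, c, rfl⟩ := h.mem_E2.1 hx
    obtain ⟨d, hd⟩ := hkact b
    rw [MulAut.mul_apply, h.pi_apply, h.pi_apply]
    change k * (k * (Y b * Z c) * k⁻¹) * k⁻¹ = Y b * Z c
    have e1 : ∀ c, k * Z c * k⁻¹ = Z c := fun c => by rw [hkZ]; group
    have e2 : k * (Y b * Z c) * k⁻¹ = Y b * Z d * Z c := by
      calc k * (Y b * Z c) * k⁻¹ = (k * Y b * k⁻¹) * (k * Z c * k⁻¹) := by group
        _ = _ := by rw [hd, e1]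
    rw [e2]
    calc k * (Y b * Z d * Z c) * k⁻¹ = (k * Y b * k⁻¹) * (k * Z d * k⁻¹) * (k * Z c * k⁻¹) := by group
      _ = Y b * (Z d * Z d) * Z c := by rw [hd, e1, e1]; group
      _ = _ := by rw [h.ZZ, mul_one]
  have hπn : h.pi ⟨n, hnE⟩ = h.pi ⟨k, hkN⟩ * h.pi ⟨ρ, hρN⟩ ^ i := by
    rw [← map_pow, ← map_mul]
    ext x
    rw [h.pi_apply, h.pi_apply]
    change n * (x : G) * n⁻¹ = (k * ρ ^ i) * x * (k * ρ ^ i)⁻¹
    have e := h.E2_comm hZ0 x.2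
    rw [hna, hv1]
    calc k * (ρ ^ i * Z c0) * (x : G) * (k * (ρ ^ i * Z c0))⁻¹
        = k * ρ ^ i * (Z c0 * x) * (Z c0)⁻¹ * (k * ρ ^ i)⁻¹ := by group
      _ = _ := by rw [e]; group
  have hcomm : h.pi ⟨k, hkN⟩ * h.pi ⟨ρ, hρN⟩ = h.pi ⟨ρ, hρN⟩ * h.pi ⟨k, hkN⟩ := by
    rw [← map_mul, ← map_mul]
    congr 1
    exact Subtype.ext (hkA ρ h.ρA)
  have hρ3 : h.pi ⟨ρ, hρN⟩ ^ 3 = 1 := by
    rw [← map_pow]
    ext x
    rw [h.pi_apply]
    change ρ ^ 3 * (x : G) * (ρ ^ 3)⁻¹ = x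
    have := h.dat.ρ3 x (h.Q_le 0 x.2)
    calc ρ ^ 3 * (x : G) * (ρ ^ 3)⁻¹ = ρ * (ρ * (ρ * x * ρ⁻¹) * ρ⁻¹) * ρ⁻¹ := by
          simp only [pow_succ, pow_zero, one_mul, mul_inv_rev, mul_assoc]
      _ = x := this
  have hk1 := eq_one_of_odd hπn hcomm hkk hρ3 hm hnm
  rw [hk1, one_mul, ← map_pow] at hπn
  refine ⟨i, fun x hx => ?_⟩
  have e := congrArg (fun φ : MulAut (h.Q 0) => ((φ ⟨x, hx⟩ : h.Q 0) : G)) hπn
  simp only [h.pi_apply] at e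
  exact e

end MuOne

end Cfsg.Agent.StdAlt.Five
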