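import Mathlib
import Cfsg.Agent.StdAlt.Five.KillB1Odd

/-!
# S1766, n = 5, `κ = 1`, `μ = 1`, `E2 = 2^4`: every element of `N_L(E2)` acts on `E2` as a power of `ρ`
-/

set_option autoImplicit false

namespace Cfsg.Agent.StdAlt.Five

open Subgroup Cfsg.Agent.StdAlt.Conj Cfsg.Agent.J2Sylow.Model

/-- conjugation by `u` on a subgroup normalised by `u` -/
def conjOn {M : Type*} [Group M] (K : Subgroup M) (u : M) (hu : ∀ x ∈ K, u * x * u⁻¹ ∈ K) : K →* K where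
  toFun x := ⟨u * x * u⁻¹, hu x x.2⟩
  map_one' := by ext; simp
  map_mul' := by
    intro x y
    ext
    change u * (x * y) * u⁻¹ = u * x * u⁻¹ * (u * y * u⁻¹)
    group

namespace MuOne

variable {G : Type*} [Group G] {A R B P L : Subgroup G} {ρ : G} {X Y Z : F4 → G} {S : Sylow 2 G}

theorem act [Finite G] (h : MuOne A R B P L ρ 0 X Y Z S) (hE2 : NE2 A 0 Y Z) {n : G} (hnL : n ∈ L)
    (hnN : n ∈ normalizer ((h.Q 0 : Subgroup G) : Set G)) :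
    ∃ i : ℕ, ∀ x ∈ h.Q 0, n * x * n⁻¹ = ρ ^ i * x * (ρ ^ i)⁻¹ := by
  classical
  haveI := h.nor
  haveI : Fact (Nat.Prime 2) := ⟨Nat.prime_two⟩
  have h32 := h.not_dvd_L (Or.inl rfl) hE2
  set N2 := normalizer ((h.Q 0 : Subgroup G) : Set G) with hN2
  set K : Subgroup (MulAut (h.Q 0)) := (L.subgroupOf N2).map h.pi with hK
  have mK : ∀ {x}, x ∈ K ↔ ∃ n : G, ∃ hn : n ∈ N2, n ∈ L ∧ h.pi ⟨n, hn⟩ = x := by
    intro x
    constructor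
    · rintro ⟨⟨n, hn⟩, hnL, rfl⟩
      exact ⟨n, hn, hnL, rfl⟩
    · rintro ⟨n, hn, hnL, rfl⟩
      exact ⟨⟨n, hn⟩, hnL, rfl⟩
  have hρN : ρ ∈ N2 := h.mem_nor fun x hx => h.ρ_E2 hx
  have hXN : ∀ a, X a ∈ N2 := fun a => h.mem_nor fun x hx => h.Xa_conj_E2 a hx
  -- the order of `K` is odd
  have hodd : Odd (Nat.card K) := by
    rw [← Nat.not_even_iff_odd, even_iff_two_dvd]
    intro h2
    set φ : ↥(L.subgroupOf N2) →* MulAut (h.Q 0) := h.pi.comp (L.subgroupOf N2).subtype with hφ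
    have hr : φ.range = K := by
      rw [hφ, MonoidHom.range_comp, range_subtype]
    have h1 : Nat.card φ.ker * Nat.card φ.range = Nat.card ↥(L.subgroupOf N2) := by
      rw [← card_mul_index φ.ker, index_ker]
    have h3 : 16 ∣ Nat.card φ.ker := by
      rw [← h.card_E2]
      have hE : ∀ x ∈ h.Q 0, x ∈ N2 := fun x hx => le_normalizer hx
      let ψ : h.Q 0 →* φ.ker :=
        { toFun := fun x => ⟨⟨⟨x, hE x x.2⟩, h.E2_le_L x.2⟩, by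
            rw [MonoidHom.mem_ker]
            ext y
            change ((h.pi ⟨x, hE x x.2⟩ y : h.Q 0) : G) = y
            rw [h.pi_apply]
            change (x : G) * y * (x : G)⁻¹ = y
            rw [h.E2_comm x.2 y.2]; group⟩
          map_one' := rfl
          map_mul' := fun _ _ => rfl }
      have hψ : Function.Injective ψ := by
        intro x y hxy
        have := congrArg (fun t : φ.ker => (((t : ↥(L.subgroupOf N2)) : N2) : G)) hxy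
        exact Subtype.ext this
      rw [Nat.card_congr (MonoidHom.ofInjective hψ).toEquiv]
      exact card_subgroup_dvd_card _
    have h4 : Nat.card ↥(L.subgroupOf N2) ∣ Nat.card L := by
      have e : Nat.card ↥(L.subgroupOf N2) = Nat.card ↥(L ⊓ N2) := by
        rw [← subgroupOf_map_subtype, card_map_of_injective N2.subtype_injective]
      rw [e]
      exact card_dvd_of_le inf_le_left
    apply h32
    refine dvd_trans ?_ h4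
    rw [← h1, hr]
    exact Nat.mul_dvd_mul h3 h2
  -- conjugation by `X a`
  have hXK : ∀ a, ∀ x ∈ K, h.pi ⟨X a, hXN a⟩ * x * (h.pi ⟨X a, hXN a⟩)⁻¹ ∈ K := by
    intro a x hx
    obtain ⟨n, hn, hnL, rfl⟩ := mK.1 hx
    refine mK.2 ⟨X a * n * (X a)⁻¹, mul_mem (mul_mem (hXN a) hn) (inv_mem (hXN a)),
      h.nor.conj_mem _ hnL _, ?_⟩
    rw [← map_inv, ← map_mul, ← map_mul]
    rfl
  have hXX : ∀ a, h.pi ⟨X a, hXN a⟩ * h.pi ⟨X a, hXN a⟩ = 1 := by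
    intro a
    rw [← map_mul]
    have : (⟨X a, hXN a⟩ : N2) * ⟨X a, hXN a⟩ = 1 := Subtype.ext (h.XX a)
    rw [this, map_one]
  have hXadd : ∀ a a', h.pi ⟨X a, hXN a⟩ * h.pi ⟨X a', hXN a'⟩ = h.pi ⟨X (a + a'), hXN (a + a')⟩ := by
    intro a a'
    rw [← map_mul]
    congr 1
    exact Subtype.ext (h.fr.X_add a a').symm
  -- the fixed points
  have hfix : ∀ a, a ≠ 0 → ∀ x ∈ K, h.pi ⟨X a, hXN a⟩ * x * (h.pi ⟨X a, hXN a⟩)⁻¹ = x →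
      x ∈ zpowers (h.pi ⟨ρ, hρN⟩) := by
    intro a ha x hx hxf
    obtain ⟨n, hn, hnL, rfl⟩ := mK.1 hx
    have hc : h.pi (⟨X a, hXN a⟩⁻¹ * ⟨n, hn⟩⁻¹ * ⟨X a, hXN a⟩ * ⟨n, hn⟩) = 1 := by
      rw [map_mul, map_mul, map_mul, map_inv, map_inv]
      have e : h.pi ⟨X a, hXN a⟩ * h.pi ⟨n, hn⟩ = h.pi ⟨n, hn⟩ * h.pi ⟨X a, hXN a⟩ := by
        rw [← mul_inv_eq_iff_eq_mul]; exact hxf
      rw [mul_assoc _ (h.pi ⟨X a, hXN a⟩), e]
      group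
    obtain ⟨n1, hn1L, hn1X, hn1⟩ := h.exists_commuting h32 ha (h.X_not_mem (Or.inl rfl) hE2 ha) hnL (by
      intro y hy
      have e := congrArg (fun φ : MulAut (h.Q 0) => ((φ ⟨y, hy⟩ : h.Q 0) : G)) hc
      simp only [h.pi_apply] at e
      have e' : ((X a)⁻¹ * n⁻¹ * X a * n) * y * ((X a)⁻¹ * n⁻¹ * X a * n)⁻¹ = y := e
      rw [mul_inv_eq_iff_eq_mul] at e'
      exact e')
    have hn1N : n1 ∈ N2 := h.mem_nor fun x hx => by
      rw [hn1 x hx]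
      exact (mem_normalizer_iff.1 hn x).1 hx
    have hπ : h.pi ⟨n1, hn1N⟩ = h.pi ⟨n, hn⟩ := by
      ext x
      rw [h.pi_apply, h.pi_apply]
      exact hn1 x x.2
    have hpow : h.pi ⟨n1, hn1N⟩ ^ Nat.card K = 1 := by
      have hm : h.pi ⟨n1, hn1N⟩ ∈ K := by rw [hπ]; exact hx
      have := pow_card_eq_one' (x := (⟨_, hm⟩ : K))
      exact congrArg Subtype.val this
    obtain ⟨i, hi⟩ := h.act_pow ha hn1X hn1N hodd hpow
    rw [← hπ]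
    refine ⟨i, ?_⟩
    change h.pi ⟨ρ, hρN⟩ ^ (i : ℤ) = _
    rw [zpow_natCast, ← map_pow]
    ext x
    rw [h.pi_apply, h.pi_apply]
    exact (hi x x.2).symm
  -- generation
  have htop := Cfsg.Agent.PermutationGroups.OddKlein.eq_top_of_fixed_le hodd
    (conjOn K _ (hXK F4.e)) (conjOn K _ (hXK F4.w))
    (by
      rintro ⟨x, hx⟩
      apply Subtype.ext
      change h.pi ⟨X F4.e, hXN F4.e⟩ * (h.pi ⟨X F4.e, hXN F4.e⟩ * x * (h.pi ⟨X F4.e, hXN F4.e⟩)⁻¹) *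
        (h.pi ⟨X F4.e, hXN F4.e⟩)⁻¹ = x
      have e := hXX F4.e
      have e' : (h.pi ⟨X F4.e, hXN F4.e⟩)⁻¹ = h.pi ⟨X F4.e, hXN F4.e⟩ := inv_eq_of_mul_eq_one_right e
      rw [e']
      calc _ = (h.pi ⟨X F4.e, hXN F4.e⟩ * h.pi ⟨X F4.e, hXN F4.e⟩) * x *
            (h.pi ⟨X F4.e, hXN F4.e⟩ * h.pi ⟨X F4.e, hXN F4.e⟩) := by group
        _ = x := by rw [e]; group)
    (by
      rintro ⟨x, hx⟩
      apply Subtype.ext
      change h.pi ⟨X F4.w, hXN F4.w⟩ * (h.pi ⟨X F4.w, hXN F4.w⟩ * x * (h.pi ⟨X F4.w, hXN F4.w⟩)⁻¹) *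
        (h.pi ⟨X F4.w, hXN F4.w⟩)⁻¹ = x
      have e := hXX F4.w
      have e' : (h.pi ⟨X F4.w, hXN F4.w⟩)⁻¹ = h.pi ⟨X F4.w, hXN F4.w⟩ := inv_eq_of_mul_eq_one_right e
      rw [e']
      calc _ = (h.pi ⟨X F4.w, hXN F4.w⟩ * h.pi ⟨X F4.w, hXN F4.w⟩) * x *
            (h.pi ⟨X F4.w, hXN F4.w⟩ * h.pi ⟨X F4.w, hXN F4.w⟩) := by group
        _ = x := by rw [e]; group)
    (by
      rintro ⟨x, hx⟩
      apply Subtype.ext
      change h.pi ⟨X F4.e, hXN F4.e⟩ * (h.pi ⟨X F4.w, hXN F4.w⟩ * x * (h.pi ⟨X F4.w, hXN F4.w⟩)⁻¹) *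
        (h.pi ⟨X F4.e, hXN F4.e⟩)⁻¹ =
        h.pi ⟨X F4.w, hXN F4.w⟩ * (h.pi ⟨X F4.e, hXN F4.e⟩ * x * (h.pi ⟨X F4.e, hXN F4.e⟩)⁻¹) *
        (h.pi ⟨X F4.w, hXN F4.w⟩)⁻¹
      have e1 := hXadd F4.e F4.w
      have e2 := hXadd F4.w F4.e
      have e3 : h.pi ⟨X F4.e, hXN F4.e⟩ * h.pi ⟨X F4.w, hXN F4.w⟩ =
          h.pi ⟨X F4.w, hXN F4.w⟩ * h.pi ⟨X F4.e, hXN F4.e⟩ := by
        rw [e1, e2]; rfl
      calc _ = (h.pi ⟨X F4.e, hXN F4.e⟩ * h.pi ⟨X F4.w, hXN F4.w⟩) * x *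
            (h.pi ⟨X F4.e, hXN F4.e⟩ * h.pi ⟨X F4.w, hXN F4.w⟩)⁻¹ := by group
        _ = _ := by rw [e3]; group)
    ((zpowers (h.pi ⟨ρ, hρN⟩)).subgroupOf K)
    (by
      rintro ⟨x, hx⟩ hf
      exact hfix F4.e (by decide) x hx (congrArg Subtype.val hf))
    (by
      rintro ⟨x, hx⟩ hf
      exact hfix F4.w (by decide) x hx (congrArg Subtype.val hf))
    (by
      rintro ⟨x, hx⟩ hf
      refine hfix F4.u (by decide) x hx ?_
      have hf' := congrArg Subtype.val hf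
      change h.pi ⟨X F4.e, hXN F4.e⟩ * (h.pi ⟨X F4.w, hXN F4.w⟩ * x * (h.pi ⟨X F4.w, hXN F4.w⟩)⁻¹) *
        (h.pi ⟨X F4.e, hXN F4.e⟩)⁻¹ = x at hf'
      have e1 := hXadd F4.e F4.w
      have e2 : h.pi ⟨X (F4.e + F4.w), hXN (F4.e + F4.w)⟩ = h.pi ⟨X F4.u, hXN F4.u⟩ := rfl
      rw [← e2, ← e1]
      calc _ = h.pi ⟨X F4.e, hXN F4.e⟩ * (h.pi ⟨X F4.w, hXN F4.w⟩ * x * (h.pi ⟨X F4.w, hXN F4.w⟩)⁻¹) *
            (h.pi ⟨X F4.e, hXN F4.e⟩)⁻¹ := by group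
        _ = x := hf')
  have hx : h.pi ⟨n, hnN⟩ ∈ K := mK.2 ⟨n, hnN, hnL, rfl⟩
  have hz : (⟨_, hx⟩ : K) ∈ (zpowers (h.pi ⟨ρ, hρN⟩)).subgroupOf K := by rw [htop]; trivial
  rw [mem_subgroupOf, ← mem_powers_iff_mem_zpowers] at hz
  obtain ⟨i, hi⟩ := hz
  refine ⟨i, fun x hx => ?_⟩
  change h.pi ⟨ρ, hρN⟩ ^ i = h.pi ⟨n, hnN⟩ at hi
  rw [← map_pow] at hi
  have e := congrArg (fun φ : MulAut (h.Q 0) => ((φ ⟨x, hx⟩ : h.Q 0) : G)) hi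
  simp only [h.pi_apply] at e
  exact e.symm

end MuOne

end Cfsg.Agent.StdAlt.Five
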