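import Mathlib
import Cfsg.Agent.StdAlt.Five.KillB1Gen
import Cfsg.Agent.TwoFusion.ClosedCommutator

/-!
# S1766, n = 5, `κ = 1`, `μ = 1`, `E2 = 2^4` is impossible (B1)
-/

set_option autoImplicit false

namespace Cfsg.Agent.StdAlt.Five

open Subgroup Cfsg.Agent.StdAlt.Conj Cfsg.Agent.J2Sylow.Model

theorem KOne.ρ_pow_Y {G : Type*} [Group G] {A R B P L : Subgroup G} {ρ : G} {ε : F4} {X Y Z : F4 → G}
    (h : KOne A R B P L ρ ε X Y Z) (i : ℕ) (b : F4) :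
    ρ ^ i * Y b * (ρ ^ i)⁻¹ = Y (F4.w ^ i * b) := by
  induction i generalizing b with
  | zero => simp
  | succ i ih =>
    have e : ρ ^ (i + 1) * Y b * (ρ ^ (i + 1))⁻¹ = ρ ^ i * (ρ * Y b * ρ⁻¹) * (ρ ^ i)⁻¹ := by
      rw [pow_succ]; group
    rw [e, h.fr.ρY, ih, pow_succ, mul_assoc]

/-- the complement `{Y b}` of `B` in `E2` (`ε = 0`) -/
def KOne.YY {G : Type*} [Group G] {A R B P L : Subgroup G} {ρ : G} {X Y Z : F4 → G}
    (h : KOne A R B P L ρ 0 X Y Z) : Subgroup G where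
  carrier := {g | ∃ b, g = Y b}
  mul_mem' := by
    rintro g g' ⟨b, rfl⟩ ⟨b', rfl⟩
    refine ⟨b + b', ?_⟩
    rw [h.fr.Y_mul, zero_mul, h.fr.Z_zero, mul_one]
  one_mem' := ⟨0, h.fr.Y_zero.symm⟩
  inv_mem' := by
    rintro g ⟨b, rfl⟩
    refine ⟨b, ?_⟩
    refine inv_eq_of_mul_eq_one_right ?_
    rw [h.fr.Y_mul, zero_mul, h.fr.Z_zero, mul_one, F4.add_self, h.fr.Y_zero]

theorem oddCore_simple {G : Type*} [Group G] [Finite G] [IsSimpleGroup G]
    (h2 : 2 ∣ Nat.card G) : Cfsg.oddCore G = ⊥ := by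
  refine (sSup_eq_bot).2 ?_
  rintro N ⟨hN, hc⟩
  rcases hN.eq_bot_or_eq_top with h | h
  · exact h
  · exfalso
    subst h
    rw [Subgroup.card_top] at hc
    have := Nat.Coprime.eq_one_of_dvd (Nat.Coprime.symm hc) h2
    omega

/-- **B1** -/
theorem MuOne.false_of_elem {G : Type*} [Group G] [Finite G] {A R B P L : Subgroup G} {ρ : G}
    {X Y Z : F4 → G} {S : Sylow 2 G} (h : MuOne A R B P L ρ 0 X Y Z S) (hE2 : NE2 A 0 Y Z) : False := by
  classical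
  haveI : Fact (Nat.Prime 2) := ⟨Nat.prime_two⟩
  haveI := h.simple
  obtain ⟨T, hT⟩ := h.exists_sylow (Or.inl rfl) hE2
  have mT : ∀ {x : L}, x ∈ (T : Subgroup L) ↔ (x : G) ∈ h.Q 0 := by
    intro x; rw [hT, mem_subgroupOf]
  haveI : IsMulCommutative (T : Subgroup L) := ⟨⟨fun x y => by
    apply Subtype.ext; apply Subtype.ext
    exact h.E2_comm (mT.1 x.2) (mT.1 y.2)⟩⟩
  -- fusion
  have fus : ∀ x ∈ (T : Subgroup L), ∀ g : L, g * x * g⁻¹ ∈ (T : Subgroup L) →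
      ∃ i : ℕ, ((g * x * g⁻¹ : L) : G) = ρ ^ i * x * (ρ ^ i)⁻¹ := by
    intro x hx g hg
    obtain ⟨n, hn, he⟩ := Sylow.conj_eq_normalizer_conj_of_mem T x g⁻¹ hx (by rwa [inv_inv])
    rw [inv_inv] at he
    have hn' : (n⁻¹ : L) ∈ normalizer ((T : Subgroup L) : Set L) := inv_mem hn
    have hnN : ((n⁻¹ : L) : G) ∈ normalizer ((h.Q 0 : Subgroup G) : Set G) := by
      refine h.mem_nor fun y hy => ?_
      have hyT : (⟨y, h.E2_le_L hy⟩ : L) ∈ (T : Subgroup L) := mT.2 hy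
      exact mT.1 ((mem_normalizer_iff.1 hn' _).1 hyT)
    obtain ⟨i, hi⟩ := h.act hE2 (n⁻¹ : L).2 hnN
    refine ⟨i, ?_⟩
    rw [he, ← hi x (mT.1 hx)]
    change (n : G)⁻¹ * x * n = (n : G)⁻¹ * x * ((n : G)⁻¹)⁻¹
    rw [inv_inv]
  have hYe : ∀ b, Y b ∈ h.Q 0 := fun b => h.mem_E2.2 ⟨b, 0, by rw [h.fr.Z_zero, mul_one]⟩
  have hZe : ∀ c, Z c ∈ h.Q 0 := fun c => h.mem_E2.2 ⟨0, c, by rw [h.fr.Y_zero, one_mul]⟩
  have hcB : Cfsg.IsStronglyClosed (B.subgroupOf L) (T : Subgroup L) := by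
    constructor
    · intro x hx
      obtain ⟨c, hc⟩ := h.fr.Z_surj _ (mem_subgroupOf.1 hx)
      rw [mT, ← hc]
      exact hZe c
    · intro x hx g hg
      obtain ⟨c, hc⟩ := h.fr.Z_surj _ (mem_subgroupOf.1 hx)
      have hxT : x ∈ (T : Subgroup L) := by rw [mT, ← hc]; exact hZe c
      obtain ⟨i, hi⟩ := fus x hxT g hg
      rw [mem_subgroupOf, hi, ← hc, h.ρ_pow_Z]
      exact h.fr.Z_mem _
  have hcY : Cfsg.IsStronglyClosed (h.YY.subgroupOf L) (T : Subgroup L) := by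
    constructor
    · intro x hx
      obtain ⟨b, hb⟩ := mem_subgroupOf.1 hx
      rw [mT, hb]
      exact hYe b
    · intro x hx g hg
      obtain ⟨b, hb⟩ := mem_subgroupOf.1 hx
      have hxT : x ∈ (T : Subgroup L) := by rw [mT, hb]; exact hYe b
      obtain ⟨i, hi⟩ := fus x hxT g hg
      rw [mem_subgroupOf, hi, hb, h.ρ_pow_Y]
      exact ⟨_, rfl⟩
  have hinf : B.subgroupOf L ⊓ h.YY.subgroupOf L = ⊥ := by
    rw [eq_bot_iff]
    rintro x ⟨hx1, hx2⟩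
    obtain ⟨c, hc⟩ := h.fr.Z_surj _ (mem_subgroupOf.1 hx1)
    obtain ⟨b, hb⟩ := mem_subgroupOf.1 hx2
    have h1 : Y 0 * Z c = Y b * Z 0 := by rw [h.fr.Y_zero, h.fr.Z_zero, one_mul, mul_one, hc, hb]
    have h2 := h.inj2 h1
    rw [mem_bot]
    apply Subtype.ext
    change (x : G) = 1
    rw [← hc, h2.2, h.fr.Z_zero]
  have hmain := Cfsg.Agent.TwoFusion.ClosedCommutator.commutator_le T _ _ hinf hcB hcY
  have h2 : 2 ∣ Nat.card L := by
    have : 4 ∣ Nat.card L := by rw [← h.dat.cardB]; exact card_dvd_of_le (h.B_le.trans h.A_le)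
    exact ((by norm_num : (2 : ℕ) ∣ 4).trans this)
  rw [oddCore_simple h2] at hmain
  have hB1 : normalClosure ((B.subgroupOf L : Subgroup L) : Set L) = ⊤ := by
    rcases (normalClosure_normal (s := ((B.subgroupOf L : Subgroup L) : Set L))).eq_bot_or_eq_top with hb | ht
    · exfalso
      have h3 : (⟨Z F4.e, h.ZL _⟩ : L) ∈ normalClosure ((B.subgroupOf L : Subgroup L) : Set L) :=
        subset_normalClosure (mem_subgroupOf.2 (h.fr.Z_mem _))
      rw [hb, mem_bot] at h3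
      exact h.Z_ne (by decide) (congrArg Subtype.val h3)
    · exact ht
  have hY1 : normalClosure ((h.YY.subgroupOf L : Subgroup L) : Set L) = ⊤ := by
    rcases (normalClosure_normal (s := ((h.YY.subgroupOf L : Subgroup L) : Set L))).eq_bot_or_eq_top with hb | ht
    · exfalso
      have h3 : (⟨Y F4.e, h.YL _⟩ : L) ∈ normalClosure ((h.YY.subgroupOf L : Subgroup L) : Set L) :=
        subset_normalClosure (mem_subgroupOf.2 ⟨_, rfl⟩)
      rw [hb, mem_bot] at h3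
      have h4 : Y F4.e * Z 0 = Y 0 * Z 0 := by
        rw [h.fr.Y_zero, h.fr.Z_zero, mul_one, one_mul]; exact congrArg Subtype.val h3
      exact absurd (h.inj2 h4).1 (by decide)
    · exact ht
  rw [hB1, hY1, le_bot_iff, commutator_eq_bot_iff_le_centralizer] at hmain
  have h5 : (⟨ρ, h.A_le h.ρA⟩ : L) * ⟨Z F4.e, h.ZL _⟩ = ⟨Z F4.e, h.ZL _⟩ * ⟨ρ, h.A_le h.ρA⟩ :=
    ((mem_centralizer_iff.1 (hmain (mem_top (⟨ρ, h.A_le h.ρA⟩ : L)))) _ (mem_top _)).symm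
  have h6 : ρ * Z F4.e = Z F4.e * ρ := congrArg Subtype.val h5
  have h7 := h.fr.ρZ F4.e
  rw [h6, mul_inv_cancel_right] at h7
  exact absurd (h.fr.Z_inj h7) (by decide)

end Cfsg.Agent.StdAlt.Five
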