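import Mathlib
import Cfsg.Agent.StdAlt.Five.KOneMuOne
import Cfsg.Agent.StdAlt.Five.KillB3

/-!
# S1766, n = 5, `κ = 1`, `μ = 2`: centralisers, the subgroup `L ∩ S`
-/

set_option autoImplicit false

namespace Cfsg.Agent.StdAlt.Five

open Subgroup Cfsg.Agent.StdAlt.Conj Cfsg.Agent.J2Sylow.Model

/-- `Q ∪ Q s` -/
def ext {G : Type*} [Group G] (Q : Subgroup G) (s : G) (ss : s * s = 1) (hn : ∀ x ∈ Q, s * x * s⁻¹ ∈ Q) :
    Subgroup G where
  carrier := {x | x ∈ Q ∨ x * s ∈ Q}
  one_mem' := Or.inl (one_mem Q)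
  mul_mem' := by
    have hs : s⁻¹ = s := inv_eq_of_mul_eq_one_right ss
    have hn' : ∀ x ∈ Q, s * x * s ∈ Q := fun x hx => by
      have := hn x hx
      rwa [hs] at this
    rintro x y (hx | hx) (hy | hy)
    · exact Or.inl (mul_mem hx hy)
    · right
      rw [mul_assoc]
      exact mul_mem hx hy
    · right
      have := mul_mem hx (hn' y hy)
      convert this using 1
      calc x * y * s = x * 1 * y * s := by group
        _ = _ := by rw [← ss]; group
    · left
      have := mul_mem hx (hn' _ hy)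
      convert this using 1
      calc x * y = x * 1 * y * 1 := by group
        _ = _ := by rw [← ss]; group
  inv_mem' := by
    have hs : s⁻¹ = s := inv_eq_of_mul_eq_one_right ss
    have hn' : ∀ x ∈ Q, s * x * s ∈ Q := fun x hx => by
      have := hn x hx
      rwa [hs] at this
    rintro x (hx | hx)
    · exact Or.inl (inv_mem hx)
    · right
      have := hn' _ (inv_mem hx)
      convert this using 1
      rw [mul_inv_rev, hs]
      calc x⁻¹ * s = 1 * x⁻¹ * s := by group
        _ = _ := by rw [← ss]; group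

theorem mem_ext {G : Type*} [Group G] {Q : Subgroup G} {s : G} {ss : s * s = 1}
    {hn : ∀ x ∈ Q, s * x * s⁻¹ ∈ Q} {x : G} : x ∈ ext Q s ss hn ↔ x ∈ Q ∨ x * s ∈ Q := Iff.rfl

theorem card_ext {G : Type*} [Group G] [Finite G] {Q : Subgroup G} {s : G} (ss : s * s = 1)
    (hn : ∀ x ∈ Q, s * x * s⁻¹ ∈ Q) (hs : s ∉ Q) : Nat.card (ext Q s ss hn) = Nat.card Q * 2 := by
  have hb : Function.Bijective (fun p : Q × Bool =>
      (⟨bif p.2 then p.1 * s else p.1, by
        rcases p with ⟨⟨c, hc⟩, b⟩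
        cases b
        · exact Or.inl hc
        · right
          change c * s * s ∈ Q
          rw [mul_assoc, ss, mul_one]
          exact hc⟩ : ext Q s ss hn)) := by
    constructor
    · rintro ⟨⟨c, hc⟩, b⟩ ⟨⟨c', hc'⟩, b'⟩ he
      have he' := congrArg Subtype.val he
      cases b <;> cases b'
      · have h1 : c = c' := he'
        subst h1; rfl
      · exfalso
        have h1 : c = c' * s := he'
        apply hs
        have : s = c'⁻¹ * c := by rw [h1]; group
        rw [this]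
        exact mul_mem (inv_mem hc') hc
      · exfalso
        have h1 : c * s = c' := he'
        apply hs
        have : s = c⁻¹ * c' := by rw [← h1]; group
        rw [this]
        exact mul_mem (inv_mem hc) hc'
      · have h1 : c * s = c' * s := he'
        have h2 := mul_right_cancel h1
        subst h2; rfl
    · rintro ⟨x, hx⟩
      rcases mem_ext.1 hx with h1 | h1
      · exact ⟨(⟨x, h1⟩, false), rfl⟩
      · refine ⟨(⟨x * s, h1⟩, true), ?_⟩
        apply Subtype.ext
        change x * s * s = x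
        rw [mul_assoc, ss, mul_one]
  rw [← Nat.card_congr (Equiv.ofBijective _ hb), Nat.card_prod, Nat.card_eq_fintype_card (α := Bool)]
  rfl

namespace MuTwo

variable {G : Type*} [Group G] {A R B P L : Subgroup G} {ρ : G} {ε : F4} {X Y Z : F4 → G} {s : G}
  {S : Sylow 2 G}
variable (h : MuTwo A R B P L ρ ε X Y Z s S)
include h

theorem s_inv : s⁻¹ = s := inv_eq_of_mul_eq_one_right h.ss

theorem hSP : P ≤ (S : Subgroup G) := fun x hx => (h.hS x).2 (Or.inl hx)

theorem s_mem : s ∈ (S : Subgroup G) := (h.hS s).2 (Or.inr (by rw [h.ss]; exact one_mem P))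

theorem s3 (b a c : F4) : s * (Y b * X a * Z c) * s⁻¹ = Y (F4.fr b) * X (F4.fr a) * Z (F4.fr c) := by
  rw [← h.sX, ← h.sY, ← h.sZ]; group

/-- elements of `R` conjugate in `C A` are equal -/
theorem eq_of_conj_C [Finite G] {a a' : F4} {k : G} (hk : k ∈ C A) (he : k * X a * k⁻¹ = X a') : a = a' := by
  classical
  haveI : Fact (Nat.Prime 2) := ⟨Nat.prime_two⟩
  have hRp : IsPGroup 2 (R.subgroupOf (C A)) := by
    apply IsPGroup.of_card (n := 2)
    rw [Nat.card_congr (subgroupOfEquivOfLe h.R_le).toEquiv, h.dat.cardR]; norm_num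
  obtain ⟨T, hT⟩ := hRp.exists_le_sylow
  have hTR : R.subgroupOf (C A) = (T : Subgroup (C A)) := by
    apply eq_of_le_of_card_ge hT
    rw [Nat.card_congr (subgroupOfEquivOfLe h.R_le).toEquiv, h.dat.cardR]
    obtain ⟨n, hn⟩ := IsPGroup.iff_card.1 T.isPGroup'
    have h1 : n ≤ 2 := by
      by_contra hlt
      apply h.cardK
      have : 2 ^ 3 ∣ 2 ^ n := pow_dvd_pow 2 (by omega)
      rw [← hn] at this
      exact (show (8 : ℕ) ∣ Nat.card (T : Subgroup (C A)) from this).trans (card_subgroup_dvd_card _)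
    rw [hn]
    calc 2 ^ n ≤ 2 ^ 2 := Nat.pow_le_pow_right (by norm_num) h1
      _ = 4 := by norm_num
  have mT : ∀ {x : C A}, x ∈ (T : Subgroup (C A)) ↔ (x : G) ∈ R := by
    intro x; rw [← hTR, mem_subgroupOf]
  haveI : IsMulCommutative (T : Subgroup (C A)) := ⟨⟨fun x y => by
    apply Subtype.ext; apply Subtype.ext
    exact h.dat.commR (mT.1 x.2) (mT.1 y.2)⟩⟩
  obtain ⟨n, hn, hne⟩ := Sylow.conj_eq_normalizer_conj_of_mem T (⟨X a, h.XC a⟩ : C A) ⟨k, hk⟩⁻¹
    (mT.2 (h.fr.X_mem a)) (by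
      rw [inv_inv]
      refine mT.2 ?_
      change k * X a * k⁻¹ ∈ R
      rw [he]; exact h.fr.X_mem a')
  rw [inv_inv] at hne
  have h1 : k * X a * k⁻¹ = (n : G)⁻¹ * X a * n := congrArg Subtype.val hne
  have h2 : ∀ r ∈ R, (n⁻¹ : G) * r * (n⁻¹ : G)⁻¹ ∈ R := by
    intro r hr
    have hn' : (n⁻¹ : C A) ∈ normalizer ((T : Subgroup (C A)) : Set (C A)) := inv_mem hn
    have := (mem_normalizer_iff.1 hn' (⟨r, h.R_le hr⟩ : C A)).1 (mT.2 hr)
    exact mT.1 this
  have h3 := h.κ _ (inv_mem n.2) h2 _ (h.fr.X_mem a)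
  rw [he] at h1
  have h4 : (n : G)⁻¹ * X a * n = X a := by rw [h3]; group
  rw [h4] at h1
  exact (h.fr.X_inj h1).symm

/-- `C(X a) ≤ K A` for `a ∈ {w, u}` -/
theorem hKA [Finite G] {a : F4} (ha : a ≠ 0) (ha' : a ≠ F4.e) :
    ∀ g, g * X a = X a * g → ∃ k ∈ C A, ∃ a1 ∈ A, g = k * a1 := by
  intro g hg
  obtain ⟨k, hk, a1, ha1, he⟩ := h.hM g (h.cent_le ha hg)
  rcases he with he | he
  · exact ⟨k, hk, a1, ha1, he⟩
  · exfalso
    have h1 : g * X a * g⁻¹ = X a := by rw [hg, mul_inv_cancel_right]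
    have h2 : g * X a * g⁻¹ = k * X (F4.fr a) * k⁻¹ := by
      rw [he, ← h.sX]
      have e := comm_of_C (show s * X a * s⁻¹ ∈ C A by rw [h.sX]; exact h.XC _) ha1
      calc k * a1 * s * X a * (k * a1 * s)⁻¹ = k * (a1 * (s * X a * s⁻¹)) * a1⁻¹ * k⁻¹ := by group
        _ = _ := by rw [← e]; group
    rw [h2] at h1
    have h3 := h.eq_of_conj_C hk h1
    have : ∀ a : F4, a ≠ 0 → a ≠ F4.e → F4.fr a ≠ a := by decide
    exact this a ha ha' h3

/-- an element commuting with a conjugate of `X a` (`a ∈ {w, u}`) whose order is a power of 2 is an involution or 1 -/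
theorem sq_of_conj [Finite G] {a : F4} (ha : a ≠ 0) (ha' : a ≠ F4.e) {g x y : G}
    (hx : g * X a * g⁻¹ = x) (hy : y * x = x * y) (hy4 : (y * y) * (y * y) = 1) : y * y = 1 := by
  have hp : IsPGroup 2 (zpowers y) := by
    intro z
    obtain ⟨z, k, rfl⟩ := z
    refine ⟨2, Subtype.ext ?_⟩
    change (y ^ k) ^ (2 ^ 2) = 1
    have h4 : y ^ 4 = 1 := by
      calc y ^ 4 = (y * y) * (y * y) := by simp only [pow_succ, pow_zero, one_mul, mul_assoc]
        _ = 1 := hy4
    rw [← zpow_natCast, ← zpow_mul, mul_comm, zpow_mul, zpow_natCast]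
    change (y ^ 4) ^ k = 1
    rw [h4, one_zpow]
  have hT : ∀ z ∈ zpowers y, z * x = x * z := by
    rintro z ⟨k, rfl⟩
    exact ((show Commute y x from hy).zpow_left k).eq
  exact (h.elem_of_conj (h.hKA ha ha') hx hT hp).1 y (mem_zpowers y)

end MuTwo

end Cfsg.Agent.StdAlt.Five
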