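import Mathlib
import Cfsg.Agent.StdAlt.Five.KOneMuTwo
import Cfsg.Agent.Lib.SylowNormalInf
import Cfsg.Agent.S1241

/-!
# S1766, n = 5, `κ = 1`, `μ = 2`: `R ∩ L = ⟨X e⟩`, `s ∈ L`
-/

set_option autoImplicit false

namespace Cfsg.Agent.StdAlt.Five

open Subgroup Cfsg.Agent.StdAlt.Conj Cfsg.Agent.J2Sylow.Model

/-- auxiliary predicate -/
def Q3 (ε b a c b' a' c' : F4) : Prop := b' + F4.fr b' = b ∧ a' + F4.fr a' = a ∧
      (c' + a' * b' + ε * F4.fr (b' * b')) + F4.fr c' + a' * F4.fr b' + ε * F4.fr (b' * F4.fr b') = c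

instance (ε b a c b' a' c' : F4) : Decidable (Q3 ε b a c b' a' c') := by unfold Q3; infer_instance

/-- auxiliary predicate -/
def Q2 (ε b a c : F4) : Prop := (b + F4.fr b = 0 ∧ a + F4.fr a = 0 ∧
        c + F4.fr c + a * F4.fr b + ε * F4.fr (b * F4.fr b) = 0) → ∃ b' a' c', Q3 ε b a c b' a' c'

instance (ε b a c : F4) : Decidable (Q2 ε b a c) := by unfold Q2; infer_instance

theorem q2 (ε : F4) (hε : ε = 0 ∨ ε = F4.e) (b a c : F4) : Q2 ε b a c := by
  rcases hε with rfl | rfl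
  · revert b a c; decide +kernel
  · revert b a c; decide +kernel

namespace MuTwo

variable {G : Type*} [Group G] {A R B P L : Subgroup G} {ρ : G} {ε : F4} {X Y Z : F4 → G} {s : G}
  {S : Sylow 2 G}
variable (h : MuTwo A R B P L ρ ε X Y Z s S)
include h

theorem sq_s (b a c : F4) : (Y b * X a * Z c * s) * (Y b * X a * Z c * s) =
    Y (b + F4.fr b) * X (a + F4.fr a) * Z (c + F4.fr c + a * F4.fr b + ε * F4.fr (b * F4.fr b)) := by
  rw [← h.mul3, ← h.s3, h.s_inv]; group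

theorem sq_s_eq_one {b a c : F4} (he : (Y b * X a * Z c * s) * (Y b * X a * Z c * s) = 1) :
    b + F4.fr b = 0 ∧ a + F4.fr a = 0 ∧ c + F4.fr c + a * F4.fr b + ε * F4.fr (b * F4.fr b) = 0 := by
  rw [h.sq_s, h.one3] at he
  exact h.inj3 he

/-- all involutions of `P s` are conjugate to `s` under `P` -/
theorem conj_s (hε : ε = 0 ∨ ε = F4.e) {p : G} (hp : p ∈ P) (hps : (p * s) * (p * s) = 1) :
    ∃ q ∈ P, q⁻¹ * s * q = p * s := by
  obtain ⟨b, a, c, rfl⟩ := h.fr.P_surj p hp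
  obtain ⟨h1, h2, h3⟩ := h.sq_s_eq_one hps
  obtain ⟨b', a', c', e1, e2, e3⟩ : ∃ b' a' c' : F4, b' + F4.fr b' = b ∧ a' + F4.fr a' = a ∧
      (c' + a' * b' + ε * F4.fr (b' * b')) + F4.fr c' + a' * F4.fr b' + ε * F4.fr (b' * F4.fr b') = c := by
    exact q2 ε hε b a c ⟨h1, h2, h3⟩
  refine ⟨Y b' * X a' * Z c', h.mem3 _ _ _, ?_⟩
  have e4 := h.s3 b' a' c'
  calc (Y b' * X a' * Z c')⁻¹ * s * (Y b' * X a' * Z c')
      = (Y b' * X a' * Z c')⁻¹ * (s * (Y b' * X a' * Z c') * s⁻¹) * s := by group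
    _ = Y b * X a * Z c * s := by
      rw [e4, h.inv3, h.mul3, e1, e2, e3]

theorem Zee : Z F4.e ≠ 1 := h.Z_ne (by decide)

/-- `s` is not conjugate to `X a`, `a ∈ {w, u}` -/
theorem not_conj_s [Finite G] (hε : ε = 0 ∨ ε = F4.e) {a : F4} (ha : a ≠ 0) (ha' : a ≠ F4.e) {g p : G}
    (hp : p ∈ P) (hg : g * X a * g⁻¹ = p * s) : False := by
  have hps : (p * s) * (p * s) = 1 := by
    rw [← hg]
    calc g * X a * g⁻¹ * (g * X a * g⁻¹) = g * (X a * X a) * g⁻¹ := by group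
      _ = 1 := by rw [h.XX]; group
  obtain ⟨q, hq, hqs⟩ := h.conj_s hε hp hps
  have hgs : (q * g) * X a * (q * g)⁻¹ = s := by
    calc (q * g) * X a * (q * g)⁻¹ = q * (g * X a * g⁻¹) * q⁻¹ := by group
      _ = q * (q⁻¹ * s * q) * q⁻¹ := by rw [hg, hqs]
      _ = s := by group
  -- the element `v = Y e X (e + ε)`
  set v := Y F4.e * X (F4.e + ε) * Z 0 with hv
  have hvs : v * s = s * v := by
    have := h.s3 F4.e (F4.e + ε) 0
    have e : F4.fr (F4.e + ε) = F4.e + ε := by rcases hε with rfl | rfl <;> decide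
    rw [e] at this
    have e2 : s * v * s⁻¹ = v := this
    rw [mul_inv_eq_iff_eq_mul] at e2
    exact e2.symm
  have hvv : v * v = Z F4.e := by
    rw [hv, h.sq3]
    congr 1
    rcases hε with rfl | rfl <;> decide
  have h4 : (v * v) * (v * v) = 1 := by rw [hvv]; exact h.ZZ _
  have := h.sq_of_conj ha ha' hgs hvs h4
  rw [hvv] at this
  exact h.Zee this

/-- `X e` is not conjugate to `X a`, `a ∈ {w, u}` -/
theorem not_conj_Xe [Finite G] {a : F4} (ha : a ≠ 0) (ha' : a ≠ F4.e) {g : G}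
    (hg : g * X a * g⁻¹ = X F4.e) : False := by
  have e1 : (X F4.w * s) * (X F4.w * s) = X F4.e := by
    have := h.sq_s 0 F4.w 0
    rw [h.fr.Y_zero, h.fr.Z_zero, one_mul, mul_one] at this
    rw [this]
    have : (0 : F4) + F4.fr 0 = 0 := by decide
    rw [this, h.fr.Y_zero, one_mul]
    have : (0 : F4) + F4.w * F4.fr 0 + ε * F4.fr (0 * F4.fr 0) = 0 := by
      have : F4.fr 0 = 0 := by decide
      rw [this]; simp [this]
    rw [this, h.fr.Z_zero, mul_one]
    rfl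
  have hcomm : (X F4.w * s) * X F4.e = X F4.e * (X F4.w * s) := by
    rw [← e1]; group
  have := h.sq_of_conj ha ha' hg hcomm (by rw [e1]; exact h.XX _)
  rw [e1] at this
  exact h.X_ne (by decide) this

theorem s_Q {a : F4} (ha : F4.fr a = a) : ∀ x ∈ h.Q a, s * x * s⁻¹ ∈ h.Q a := by
  rintro x ⟨b, y, c, hy, rfl⟩
  rw [h.s3]
  refine ⟨_, _, _, ?_, rfl⟩
  rcases hy with rfl | rfl
  · left; decide
  · right; exact ha

theorem card_S [Finite G] : Nat.card (S : Subgroup G) = 128 := by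
  have hsP : ∀ x ∈ P, s * x * s⁻¹ ∈ P := by
    intro x hx
    obtain ⟨b, a, c, rfl⟩ := h.fr.P_surj x hx
    rw [h.s3]; exact h.mem3 _ _ _
  have e : (S : Subgroup G) = ext P s h.ss hsP := by
    ext x
    rw [h.hS, mem_ext]
  rw [e, card_ext h.ss hsP h.s_not, h.dat.cardP]

/-- `X w ∉ L` -/
theorem X_not_mem [Finite G] (hε : ε = 0 ∨ ε = F4.e) (hE2 : NE2 A ε Y Z) {a : F4} (ha : a ≠ 0)
    (ha' : a ≠ F4.e) : X a ∉ L := by
  intro hXL
  have hn := h.s_Q (a := F4.e) rfl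
  have hsQ : s ∉ h.Q F4.e := fun hs => h.s_not (h.Q_le _ hs)
  have hle : ext (h.Q F4.e) s h.ss hn ≤ (S : Subgroup G) := by
    intro x hx
    rw [h.hS]
    rcases mem_ext.1 hx with h1 | h1
    · exact Or.inl (h.Q_le _ h1)
    · exact Or.inr (h.Q_le _ h1)
  have hi : (ext (h.Q F4.e) s h.ss hn).relIndex (S : Subgroup G) = 2 := by
    have e1 := relIndex_mul_relIndex ⊥ (ext (h.Q F4.e) s h.ss hn) (S : Subgroup G) bot_le hle
    rw [relIndex_bot_left, relIndex_bot_left, card_ext h.ss hn hsQ, h.card_Q (by decide), h.card_S] at e1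
    omega
  obtain ⟨g, hg⟩ := h.exists_conj S h.hSP _ hle hi ha hXL (by
    intro hx
    rcases mem_ext.1 hx with h1 | h1
    · obtain ⟨b, x, c, hx, he⟩ := h1
      have := h.inj3 (b := 0) (a := a) (c := 0) (b' := b) (a' := x) (c' := c)
        (by rw [h.fr.Y_zero, h.fr.Z_zero, one_mul, mul_one, he])
      rcases hx with rfl | rfl
      · exact ha this.2.1
      · exact ha' this.2.1
    · apply h.s_not
      have : s = (X a)⁻¹ * (X a * s) := by group
      rw [this]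
      exact mul_mem (inv_mem (h.Xmem a)) (h.Q_le _ h1))
  rcases mem_ext.1 hg with h1 | h1
  · rcases h.conj_mem_Q hε hE2 ha (by decide) h1 with ⟨n, hn⟩ | ⟨he, -, b, c, hb, hbc⟩
    · exact h.not_conj_Xe ha ha' hn
    · subst he
      -- the element `y = Y (w b) X w`
      have hcomm : (Y (F4.w * b) * X F4.w * Z 0) * (Y b * X F4.e * Z c) =
          (Y b * X F4.e * Z c) * (Y (F4.w * b) * X F4.w * Z 0) := by
        rw [h.mul3, h.mul3]
        have k1 : ∀ b : F4, F4.w * b + b = b + F4.w * b := by decide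
        have k2 : F4.w + F4.e = F4.e + F4.w := by decide
        have k3 : ∀ b c : F4, 0 + c + F4.w * b + F4.e * F4.fr (F4.w * b * b) =
            c + 0 + F4.e * (F4.w * b) + F4.e * F4.fr (b * (F4.w * b)) := by decide
        rw [k1, k2, k3]
      have hsq := h.sq3 (F4.w * b) F4.w 0
      have hsq' : (Y (F4.w * b) * X F4.w * Z 0) * (Y (F4.w * b) * X F4.w * Z 0) = Z b := by
        rw [hsq]
        congr 1
        have kk : ∀ b : F4, F4.w * (F4.w * b) + F4.e * F4.fr (F4.w * b * (F4.w * b)) = b := by decide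
        exact kk b
      have := h.sq_of_conj ha ha' hbc hcomm (by rw [hsq']; exact h.ZZ _)
      rw [hsq'] at this
      exact h.Z_ne hb this
  · have e : g * X a * g⁻¹ = (g * X a * g⁻¹ * s) * s := by rw [mul_assoc _ s s, h.ss, mul_one]
    exact h.not_conj_s hε ha ha' (h.Q_le _ h1) e

/-- commutators with elements of `R` lie in `L` -/
theorem comm_L {g r : G} (hr : r ∈ R) : g * r * g⁻¹ * r⁻¹ ∈ L := by
  obtain ⟨l, hl, r', hr', rfl⟩ := h.gen g
  have e : r' * r = r * r' := h.dat.commR hr' hr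
  have e2 : l * r' * r * (l * r')⁻¹ * r⁻¹ = l * (r * l⁻¹ * r⁻¹) := by
    calc l * r' * r * (l * r')⁻¹ * r⁻¹ = l * (r' * r) * r'⁻¹ * l⁻¹ * r⁻¹ := by group
      _ = _ := by rw [e]; group
  rw [e2]
  exact mul_mem hl (h.nor.conj_mem _ (inv_mem hl) _)

theorem Xe_mem : X F4.e ∈ L := by
  have h1 := h.comm_L (g := s) (h.fr.X_mem F4.w)
  rw [h.sX, h.X_inv, ← h.fr.X_add] at h1
  exact h1

theorem X_L_iff [Finite G] (hε : ε = 0 ∨ ε = F4.e) (hE2 : NE2 A ε Y Z) {a : F4} :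
    X a ∈ L ↔ a = 0 ∨ a = F4.e := by
  constructor
  · intro h1
    by_contra h2
    push Not at h2
    exact h.X_not_mem hε hE2 h2.1 h2.2 h1
  · rintro (rfl | rfl)
    · rw [h.fr.X_zero]; exact one_mem L
    · exact h.Xe_mem

/-- `s ∈ L` or `X w s ∈ L` -/
theorem s_cases : s ∈ L ∨ X F4.w * s ∈ L := by
  obtain ⟨l, hl, r, hr, he⟩ := h.gen s
  obtain ⟨a, rfl⟩ := h.fr.X_surj r hr
  have h1 : X a * s ∈ L := by
    have e : X a * s = X a * l * (X a)⁻¹ := by
      rw [he, h.X_inv]; group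
    rw [e]
    exact h.nor.conj_mem _ hl _
  cases a
  · left
    have e : X F4.o = 1 := h.fr.X_zero
    rwa [e, one_mul] at h1
  · left
    have e := mul_mem h.Xe_mem h1
    rwa [← mul_assoc, h.XX, one_mul] at e
  · right; exact h1
  · right
    have e := mul_mem h.Xe_mem h1
    rw [← mul_assoc, ← h.fr.X_add] at e
    exact e

theorem P_L_iff [Finite G] (hε : ε = 0 ∨ ε = F4.e) (hE2 : NE2 A ε Y Z) {x : G} (hx : x ∈ P) :
    x ∈ L ↔ x ∈ h.Q F4.e := by
  obtain ⟨b, a, c, rfl⟩ := h.fr.P_surj x hx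
  rw [h.mem_L3, h.X_L_iff hε hE2]
  constructor
  · intro h1; exact ⟨b, a, c, h1, rfl⟩
  · rintro ⟨b', a', c', h1, he⟩
    have := (h.inj3 he).2.1
    subst this
    exact h1

end MuTwo

end Cfsg.Agent.StdAlt.Five
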