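import Mathlib
import Cfsg.Agent.StdAlt.Five.KOneMuTwoL
import Cfsg.Agent.TwoFusion.StronglyEmbeddedBasic
import Cfsg.Prelude.Def_TwoFusion
import Cfsg.Prelude.Def_Involutions

/-!
# S1766, n = 5, `κ = 1`, `μ = 2`: `s ∈ L`; `E2 = 2^4` is impossible (B2)
-/

set_option autoImplicit false

namespace Cfsg.Agent.StdAlt.Five

open Subgroup Cfsg.Agent.StdAlt.Conj Cfsg.Agent.J2Sylow.Model

namespace KOne

variable {G : Type*} [Group G] {A R B P L : Subgroup G} {ρ : G} {ε : F4} {X Y Z : F4 → G}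
variable (h : KOne A R B P L ρ ε X Y Z)
include h

theorem not_comm_L : ¬ ∀ x ∈ L, ∀ y ∈ L, x * y = y * x := by
  intro hc
  have h1 := hc ρ (h.A_le h.ρA) (Z F4.e) (h.ZL _)
  have h2 := h.fr.ρZ F4.e
  rw [h1, mul_inv_cancel_right] at h2
  exact absurd (h.fr.Z_inj h2) (by decide)

theorem commutator_L : commutator L = ⊤ := by
  haveI := h.simple
  rcases (inferInstance : (commutator L).Normal).eq_bot_or_eq_top with hb | ht
  · exfalso
    rw [commutator_def, commutator_eq_bot_iff_le_centralizer] at hb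
    apply h.not_comm_L
    intro x hx y hy
    have := mem_centralizer_iff.1 (hb (mem_top (⟨x, hx⟩ : L))) ⟨y, hy⟩ (mem_top _)
    exact (congrArg Subtype.val this).symm
  · exact ht

theorem no_index_two [Finite G] (M : Subgroup L) (hM : M.Normal) : M.index ≠ 2 := by
  haveI := h.simple
  intro hi
  rcases hM.eq_bot_or_eq_top with hb | ht
  · rw [hb, index_bot] at hi
    have h4 : Nat.card B ∣ Nat.card L := card_dvd_of_le (h.B_le.trans h.A_le)
    rw [h.dat.cardB, hi] at h4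
    omega
  · rw [ht, index_top] at hi; omega

end KOne

namespace MuTwo

variable {G : Type*} [Group G] {A R B P L : Subgroup G} {ρ : G} {ε : F4} {X Y Z : F4 → G} {s : G}
  {S : Sylow 2 G}
variable (h : MuTwo A R B P L ρ ε X Y Z s S)
include h

theorem Q_normal (a : F4) (ha : F4.fr a = a) {y : G} (hy : y ∈ (S : Subgroup G)) {x : G} (hx : x ∈ h.Q a) :
    y * x * y⁻¹ ∈ h.Q a := by
  have key : ∀ p ∈ P, ∀ x ∈ h.Q a, p * x * p⁻¹ ∈ h.Q a := by
    rintro p hp x ⟨b', x', c', hx', rfl⟩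
    obtain ⟨b, d, c, rfl⟩ := h.fr.P_surj p hp
    rw [h.inv3, h.mul3, h.mul3]
    refine ⟨_, _, _, ?_, rfl⟩
    have : d + x' + d = x' := by
      have k : ∀ d x' : F4, d + x' + d = x' := by decide
      exact k d x'
    rw [this]; exact hx'
  rcases (h.hS y).1 hy with h1 | h1
  · exact key y h1 x hx
  · have e : y * x * y⁻¹ = (y * s) * (s * x * s⁻¹) * (y * s)⁻¹ := by
      have hs := h.s_inv
      calc y * x * y⁻¹ = y * 1 * x * 1 * y⁻¹ := by group
        _ = y * (s * s) * x * (s * s)⁻¹ * y⁻¹ := by rw [h.ss]; group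
        _ = _ := by group
    rw [e]
    exact key _ h1 _ (h.s_Q ha x hx)

theorem exists_form {x : G} (hx : x ∈ (S : Subgroup G)) : ∃ p ∈ P, x = p ∨ x = p * s := by
  rcases (h.hS x).1 hx with h1 | h1
  · exact ⟨x, h1, Or.inl rfl⟩
  · exact ⟨x * s, h1, Or.inr (by rw [mul_assoc, h.ss, mul_one])⟩

/-- `s ∈ L` -/
theorem s_mem_L [Finite G] (hε : ε = 0 ∨ ε = F4.e) (hE2 : NE2 A ε Y Z) : s ∈ L := by
  classical
  haveI : Fact (Nat.Prime 2) := ⟨Nat.prime_two⟩
  haveI := h.nor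
  rcases h.s_cases with hs | hg
  · exact hs
  by_contra hsL
  set g := X F4.w * s with hgd
  have hgg : g * g = X F4.e := by
    have := h.sq_s 0 F4.w 0
    rw [h.fr.Y_zero, h.fr.Z_zero, one_mul, mul_one] at this
    rw [hgd, this]
    have e1 : (0 : F4) + F4.fr 0 = 0 := by decide
    rw [e1, h.fr.Y_zero, one_mul]
    have e2 : (0 : F4) + F4.w * F4.fr 0 + ε * F4.fr (0 * F4.fr 0) = 0 := by
      have : F4.fr 0 = 0 := by decide
      rw [this]; simp [this]
    rw [e2, h.fr.Z_zero, mul_one]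
    rfl
  have hgS : g ∈ (S : Subgroup G) := mul_mem (h.hSP (h.Xmem _)) h.s_mem
  have hXeQ : X F4.e ∈ h.Q F4.e := ⟨0, F4.e, 0, Or.inr rfl, by rw [h.fr.Y_zero, h.fr.Z_zero]; group⟩
  have hQL : h.Q F4.e ≤ L := by
    rintro x ⟨b, a, c, ha, rfl⟩
    rw [h.mem_L3, h.X_L_iff hε hE2]; exact ha
  have hQS : h.Q F4.e ≤ (S : Subgroup G) := (h.Q_le _).trans h.hSP
  -- elements of `S ∩ L`
  have hform : ∀ x ∈ (S : Subgroup G), x ∈ L → x ∈ h.Q F4.e ∨ ∃ k ∈ h.Q F4.e, x = k * g := by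
    intro x hx hxL
    obtain ⟨p, hp, rfl | rfl⟩ := h.exists_form hx
    · left; rwa [← h.P_L_iff hε hE2 hp]
    · right
      refine ⟨p * (X F4.w)⁻¹ , ?_, ?_⟩
      · rw [← h.P_L_iff hε hE2 (mul_mem hp (inv_mem (h.Xmem _)))]
        have := mul_mem hxL (inv_mem hg)
        rw [hgd] at this
        convert this using 1
        group
      · rw [hgd]; group
  have hgQ : g ∉ h.Q F4.e := by
    intro h1
    apply h.s_not
    have : s = (X F4.w)⁻¹ * g := by rw [hgd]; group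
    rw [this]
    exact mul_mem (inv_mem (h.Xmem _)) (h.Q_le _ h1)
  have hnK : ∀ y ∈ (S : Subgroup G), ∀ x ∈ h.Q F4.e, y * x * y⁻¹ ∈ h.Q F4.e :=
    fun y hy x hx => h.Q_normal F4.e rfl hy hx
  have hkgsq : ∀ k ∈ h.Q F4.e, (k * g) * (k * g) ≠ 1 := by
    rintro k ⟨b, x, c, hx, rfl⟩ he
    have e1 : Y b * X x * Z c * g = Y b * X (x + F4.w) * Z c * s := by
      rw [hgd, h.fr.X_add]
      calc Y b * X x * Z c * (X F4.w * s) = Y b * X x * (Z c * X F4.w) * s := by group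
        _ = _ := by rw [h.ZX]; group
    rw [e1] at he
    have := (h.sq_s_eq_one he).2.1
    rcases hx with rfl | rfl <;> exact absurd this (by decide)
  have hres := Cfsg.Agent.S1241.result (p := 2) ((S : Subgroup G).subgroupOf L) ((h.Q F4.e).subgroupOf L)
    (fun x hx => hQS hx)
    (by
      constructor
      rintro ⟨x, hx⟩ hxQ ⟨y, hy⟩
      rw [mem_subgroupOf, mem_subgroupOf] at *
      exact hnK y (mem_subgroupOf.1 hy) x hxQ)
    (by
      rintro ⟨x, hxL⟩ hx ⟨y, hyL⟩ hy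
      rw [mem_subgroupOf] at hx hy ⊢
      change x * y * x⁻¹ * y⁻¹ ∈ h.Q F4.e
      rcases hform x hx hxL with h1 | ⟨k1, hk1, rfl⟩
      · have e : x * y * x⁻¹ * y⁻¹ = x * (y * x⁻¹ * y⁻¹) := by group
        rw [e]
        exact mul_mem h1 (hnK y hy _ (inv_mem h1))
      · rcases hform y hy hyL with h2 | ⟨k2, hk2, rfl⟩
        · exact mul_mem (hnK _ hx _ h2) (inv_mem h2)
        · have e : k1 * g * (k2 * g) * (k1 * g)⁻¹ * (k2 * g)⁻¹ = k1 * (g * (k2 * k1⁻¹) * g⁻¹) * k2⁻¹ := by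
            group
          rw [e]
          exact mul_mem (mul_mem hk1 (hnK g hgS _ (mul_mem hk2 (inv_mem hk1)))) (inv_mem hk2))
    ((Nat.Prime.coprime_iff_not_dvd Nat.prime_two).2
      (Cfsg.Agent.Lib.SylowNormalInf.not_dvd_relIndex S L))
    ⟨g, hg⟩ hgS hgQ
    (by
      have h4 : (⟨g, hg⟩ : L) ^ (2 ^ 2) = 1 := by
        apply Subtype.ext
        change g ^ 4 = 1
        calc g ^ 4 = (g * g) * (g * g) := by simp only [pow_succ, pow_zero, one_mul, mul_assoc]
          _ = 1 := by rw [hgg, h.XX]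
      obtain ⟨k, -, hk⟩ := (Nat.dvd_prime_pow Nat.prime_two).1 (orderOf_dvd_of_pow_eq_one h4)
      exact ⟨k, hk⟩)
    (by
      rintro m ⟨a, haL⟩ hm
      rw [mem_subgroupOf] at hm ⊢
      change a * g ^ m * a⁻¹ ∈ (S : Subgroup G) at hm
      change (a * g ^ m * a⁻¹) * (g ^ m)⁻¹ ∈ h.Q F4.e
      have hmL : a * g ^ m * a⁻¹ ∈ L := mul_mem (mul_mem haL (zpow_mem hg m)) (inv_mem haL)
      rcases Int.even_or_odd' m with ⟨j, hj | hj⟩
      · have e1 : g ^ m = (X F4.e) ^ j := by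
          rw [hj, zpow_mul, ← hgg]; congr 1; exact zpow_two g
        have e2 : g ^ m ∈ h.Q F4.e := by rw [e1]; exact zpow_mem hXeQ j
        have e3 : (a * g ^ m * a⁻¹) * (a * g ^ m * a⁻¹) = 1 := by
          have : (X F4.e) ^ j * (X F4.e) ^ j = 1 := by
            rw [← (Commute.refl (X F4.e)).mul_zpow, h.XX, one_zpow]
          calc (a * g ^ m * a⁻¹) * (a * g ^ m * a⁻¹) = a * (g ^ m * g ^ m) * a⁻¹ := by group
            _ = 1 := by rw [e1, this]; group
        rcases hform _ hm hmL with h1 | ⟨k, hk, he⟩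
        · exact mul_mem h1 (inv_mem e2)
        · exfalso
          rw [he] at e3
          exact hkgsq k hk e3
      · have e1 : g ^ m = (X F4.e) ^ j * g := by
          rw [hj, zpow_add, zpow_one, zpow_mul, ← hgg]; congr 2; exact zpow_two g
        have e0 : g ^ m * g ^ m = X F4.e := by
          have c : Commute ((X F4.e) ^ j) g := by
            apply Commute.zpow_left
            rw [← hgg]
            exact (Commute.refl g).mul_left (Commute.refl g)
          have : (X F4.e) ^ j * (X F4.e) ^ j = 1 := by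
            rw [← (Commute.refl (X F4.e)).mul_zpow, h.XX, one_zpow]
          calc g ^ m * g ^ m = (X F4.e) ^ j * (g * (X F4.e) ^ j) * g := by rw [e1]; group
            _ = ((X F4.e) ^ j * (X F4.e) ^ j) * (g * g) := by rw [← c.eq]; group
            _ = X F4.e := by rw [this, one_mul, hgg]
        rcases hform _ hm hmL with ⟨b, x, c, hx, he⟩ | ⟨k, hk, he⟩
        · exfalso
          have e2 : a * X F4.e * a⁻¹ = Z (x * b + ε * F4.fr (b * b)) := by
            rw [← h.sq3 b x c, ← he, ← e0]; group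
          by_cases hz : x * b + ε * F4.fr (b * b) = 0
          · rw [hz, h.fr.Z_zero] at e2
            apply h.X_ne (show F4.e ≠ 0 by decide)
            calc X F4.e = a⁻¹ * (a * X F4.e * a⁻¹) * a := by group
              _ = 1 := by rw [e2]; group
          · apply h.Z_nK hz a⁻¹
            rw [← e2]
            have : a⁻¹ * (a * X F4.e * a⁻¹) * a⁻¹⁻¹ = X F4.e := by group
            rw [this]
            exact h.XC _
        · rw [he, e1]
          have : k * g * (X F4.e ^ j * g)⁻¹ = k * (X F4.e ^ j)⁻¹ := by group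
          rw [this]
          exact mul_mem hk (inv_mem (zpow_mem hXeQ j)))
  rw [h.commutator_L] at hres
  exact hres (mem_top _)

/-- the Sylow 2-subgroup `S ∩ L` of `L` -/
theorem exists_sylow_L [Finite G] : ∃ T : Sylow 2 L, (T : Subgroup L) = (S : Subgroup G).subgroupOf L := by
  haveI : Fact (Nat.Prime 2) := ⟨Nat.prime_two⟩
  haveI := h.nor
  exact ⟨(Cfsg.Agent.Lib.SylowNormalInf.isPGroup_subgroupOf S L).toSylow
    (Cfsg.Agent.Lib.SylowNormalInf.not_dvd_relIndex S L), rfl⟩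

/-- the elements of `S ∩ L` -/
theorem mem_S_L [Finite G] (hε : ε = 0 ∨ ε = F4.e) (hE2 : NE2 A ε Y Z) {x : G} :
    (x ∈ (S : Subgroup G) ∧ x ∈ L) ↔ x ∈ h.Q F4.e ∨ x * s ∈ h.Q F4.e := by
  have hs := h.s_mem_L hε hE2
  constructor
  · rintro ⟨hx, hxL⟩
    rcases (h.hS x).1 hx with h1 | h1
    · left; rwa [← h.P_L_iff hε hE2 h1]
    · right
      rw [← h.P_L_iff hε hE2 h1]
      exact mul_mem hxL hs
  · rintro (h1 | h1)
    · exact ⟨h.hSP (h.Q_le _ h1), (h.P_L_iff hε hE2 (h.Q_le _ h1)).2 h1⟩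
    · have h2 := (h.P_L_iff hε hE2 (h.Q_le _ h1)).2 h1
      refine ⟨(h.hS x).2 (Or.inr (h.Q_le _ h1)), ?_⟩
      have := mul_mem h2 (inv_mem hs)
      rwa [mul_inv_cancel_right] at this

/-- **B2** (`hGold` is S1169 for the group `L`) -/
theorem false_of_elem [Finite G] (hε : ε = 0) (hE2 : NE2 A ε Y Z)
    (hGold : ∀ (T : Sylow 2 L) (A' : Subgroup L), A' ≠ ⊥ → IsMulCommutative A' →
      Cfsg.IsStronglyClosed A' (T : Subgroup L) →
        IsMulCommutative (T : Subgroup L) ∨ ∃ H : Subgroup L, Cfsg.IsStronglyEmbedded H) : False := by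
  classical
  haveI : Fact (Nat.Prime 2) := ⟨Nat.prime_two⟩
  haveI := h.nor
  haveI := h.simple
  subst hε
  have hε : (0 : F4) = 0 ∨ (0 : F4) = F4.e := Or.inl rfl
  obtain ⟨T, hT⟩ := h.exists_sylow_L
  have hsL := h.s_mem_L hε hE2
  have mT : ∀ {x : L}, x ∈ (T : Subgroup L) ↔ ((x : G) ∈ h.Q F4.e ∨ (x : G) * s ∈ h.Q F4.e) := by
    intro x
    rw [hT, mem_subgroupOf, ← h.mem_S_L hε hE2]
    exact ⟨fun h1 => ⟨h1, x.2⟩, fun h1 => h1.1⟩
  have hn0 := h.s_Q (a := 0) rfl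
  have hne := h.s_Q (a := F4.e) rfl
  have hQ0e : h.Q 0 ≤ h.Q F4.e := by
    rintro x ⟨b, a, c, ha, rfl⟩
    exact ⟨b, a, c, Or.inl (by tauto), rfl⟩
  have hs0 : s ∉ h.Q 0 := fun h1 => h.s_not (h.Q_le _ h1)
  have hse : s ∉ h.Q F4.e := fun h1 => h.s_not (h.Q_le _ h1)
  -- Thompson transfer in `L`
  set Q2 : Subgroup L := (ext (h.Q 0) s h.ss hn0).subgroupOf L with hQ2
  have mQ2 : ∀ {x : L}, x ∈ Q2 ↔ ((x : G) ∈ h.Q 0 ∨ (x : G) * s ∈ h.Q 0) := by
    intro x; rw [hQ2, mem_subgroupOf, mem_ext]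
  have hQ2T : Q2 ≤ (T : Subgroup L) := by
    intro x hx
    rw [mT]
    rcases mQ2.1 hx with h1 | h1
    · exact Or.inl (hQ0e h1)
    · exact Or.inr (hQ0e h1)
  have hTe : (ext (h.Q F4.e) s h.ss hne).subgroupOf L = (T : Subgroup L) := by
    ext x; rw [mT, mem_subgroupOf, mem_ext]
  have hle0 : ext (h.Q 0) s h.ss hn0 ≤ L := by
    intro x hx
    have : x ∈ h.Q F4.e ∨ x * s ∈ h.Q F4.e := by
      rcases mem_ext.1 hx with h1 | h1
      · exact Or.inl (hQ0e h1)
      · exact Or.inr (hQ0e h1)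
    exact ((h.mem_S_L hε hE2).2 this).2
  have hlee : ext (h.Q F4.e) s h.ss hne ≤ L := fun x hx => ((h.mem_S_L hε hE2).2 (mem_ext.1 hx)).2
  have hi : Q2.relIndex (T : Subgroup L) = 2 := by
    have e1 := relIndex_mul_relIndex ⊥ Q2 (T : Subgroup L) bot_le hQ2T
    rw [relIndex_bot_left, relIndex_bot_left, ← hTe, hQ2,
      Nat.card_congr (subgroupOfEquivOfLe hle0).toEquiv, Nat.card_congr (subgroupOfEquivOfLe hlee).toEquiv,
      card_ext h.ss hn0 hs0, card_ext h.ss hne hse, h.card_Q (a := F4.e) (by decide), h.card_E2] at e1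
    rw [← hTe, hQ2]
    omega
  have hXe : (⟨X F4.e, h.Xe_mem⟩ : L) ∈ (T : Subgroup L) := by
    rw [mT]
    exact Or.inl ⟨0, F4.e, 0, Or.inr rfl, by rw [h.fr.Y_zero, h.fr.Z_zero]; group⟩
  have hXeQ2 : (⟨X F4.e, h.Xe_mem⟩ : L) ∉ Q2 := by
    rw [mQ2]
    rintro (h1 | h1)
    · obtain ⟨b, c, he⟩ := h.mem_E2.1 h1
      have h2 : Y 0 * X F4.e * Z 0 = Y b * X 0 * Z c := by
        rw [h.fr.Y_zero, h.fr.Z_zero, h.fr.X_zero]
        change X F4.e = Y b * Z c at he
        rw [he]; group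
      exact absurd (h.inj3 h2).2.1 (by decide)
    · apply h.s_not
      have e : s = (X F4.e)⁻¹ * (X F4.e * s) := by group
      rw [e]
      exact mul_mem (inv_mem (h.Xmem _)) (h.Q_le _ h1)
  have hord : orderOf (⟨X F4.e, h.Xe_mem⟩ : L) = 2 := by
    rw [← Subgroup.orderOf_coe]
    exact h.orderOf_X (by decide)
  -- `E2` contains no involutions of type `K`
  have hE2K : ∀ x ∈ h.Q 0, x ≠ 1 → ∀ g : G, g * x * g⁻¹ ∉ C A := by
    intro x hx hx1 g
    obtain ⟨b, c, rfl⟩ := h.mem_E2.1 hx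
    by_cases hb : b = 0
    · subst hb
      rw [h.fr.Y_zero, one_mul] at hx1 ⊢
      apply h.Z_nK
      rintro rfl
      exact hx1 h.fr.Z_zero
    · exact hE2 rfl b c g hb
  obtain ⟨g0, p, hp, hg0⟩ : ∃ g0 : G, ∃ p ∈ P, g0 * X F4.e * g0⁻¹ = p * s := by
    rcases Cfsg.Agent.S0111.result T Q2 hQ2T hi _ hord hXe hXeQ2 with ⟨M, hM, hMi, -⟩ | ⟨g, hg⟩
    · exact absurd hMi (h.no_index_two M hM)
    · rcases mQ2.1 hg with h1 | h1
      · exfalso
        have e : (g : G)⁻¹ * ((g * ⟨X F4.e, h.Xe_mem⟩ * g⁻¹ : L) : G) * (g : G)⁻¹⁻¹ = X F4.e := by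
          change (g : G)⁻¹ * ((g : G) * X F4.e * (g : G)⁻¹) * (g : G)⁻¹⁻¹ = X F4.e
          group
        apply hE2K _ h1 _ (g : G)⁻¹
        · rw [e]; exact h.XC _
        · intro h2
          apply h.X_ne (show F4.e ≠ 0 by decide)
          rw [← e, h2]; group
      · refine ⟨g, _, h.Q_le _ h1, ?_⟩
        change (g : G) * X F4.e * (g : G)⁻¹ = _ * s * s
        rw [mul_assoc _ s s, h.ss, mul_one]
        rfl
  -- so all involutions of `P s` are of type `K`
  have hPs : ∀ p ∈ P, (p * s) * (p * s) = 1 → ∃ g : G, g * (p * s) * g⁻¹ ∈ C A := by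
    intro p' hp' hp's
    have h1 : (p * s) * (p * s) = 1 := by
      rw [← hg0]
      calc g0 * X F4.e * g0⁻¹ * (g0 * X F4.e * g0⁻¹) = g0 * (X F4.e * X F4.e) * g0⁻¹ := by group
        _ = 1 := by rw [h.XX]; group
    obtain ⟨q, hq, hqs⟩ := h.conj_s hε hp h1
    obtain ⟨q', hq', hqs'⟩ := h.conj_s hε hp' hp's
    refine ⟨g0⁻¹ * (q⁻¹ * q'), ?_⟩
    have : g0⁻¹ * (q⁻¹ * q') * (p' * s) * (g0⁻¹ * (q⁻¹ * q'))⁻¹ = X F4.e := by
      rw [← hqs']
      calc g0⁻¹ * (q⁻¹ * q') * (q'⁻¹ * s * q') * (g0⁻¹ * (q⁻¹ * q'))⁻¹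
          = g0⁻¹ * (q⁻¹ * s * q) * g0 := by group
        _ = g0⁻¹ * (g0 * X F4.e * g0⁻¹) * g0 := by rw [hqs, hg0]
        _ = X F4.e := by group
    rw [this]
    exact h.XC _
  -- `E2` is strongly closed
  have hE2c : Cfsg.IsStronglyClosed ((h.Q 0).subgroupOf L) (T : Subgroup L) := by
    constructor
    · intro x hx
      rw [mT]
      exact Or.inl (hQ0e (mem_subgroupOf.1 hx))
    · intro x hx g hg
      rw [mem_subgroupOf] at hx ⊢
      by_cases hx1 : (x : G) = 1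
      · have : ((g * x * g⁻¹ : L) : G) = 1 := by
          change (g : G) * x * (g : G)⁻¹ = 1
          rw [hx1]; group
        rw [this]; exact one_mem _
      · have hxx : (x : G) * x = 1 := by
          obtain ⟨b, c, he⟩ := h.mem_E2.1 hx
          rw [he, h.mul2, F4.add_self, F4.add_self, zero_mul, add_zero, h.fr.Y_zero, h.fr.Z_zero, one_mul]
        have hyy : ((g * x * g⁻¹ : L) : G) * ((g * x * g⁻¹ : L) : G) = 1 := by
          change (g : G) * x * (g : G)⁻¹ * ((g : G) * x * (g : G)⁻¹) = 1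
          calc (g : G) * x * (g : G)⁻¹ * ((g : G) * x * (g : G)⁻¹) = g * ((x : G) * x) * (g : G)⁻¹ := by group
            _ = 1 := by rw [hxx]; group
        have hyK : ∀ g' : G, g' * ((g * x * g⁻¹ : L) : G) * g'⁻¹ ∉ C A := by
          intro g' h1
          apply hE2K _ hx hx1 (g' * g)
          convert h1 using 1
          change g' * g * x * (g' * g)⁻¹ = g' * ((g : G) * x * (g : G)⁻¹) * g'⁻¹
          group
        rcases mT.1 hg with ⟨b, a, c, ha, he⟩ | h1
        · rcases ha with rfl | rfl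
          · rw [he]; exact ⟨b, 0, c, Or.inl rfl, rfl⟩
          · exfalso
            rw [he, h.sq3_iff] at hyy
            have hb : b = 0 := by
              have k : ∀ b : F4, F4.e * b + 0 * F4.fr (b * b) = 0 → b = 0 := by decide
              exact k b hyy
            subst hb
            obtain ⟨d, hd⟩ := h.exists_Y (show F4.e ≠ 0 by decide) c
            apply hyK (Y d)
            rw [he, h.fr.Y_zero, one_mul, ← hd]
            have : Y d * ((Y d)⁻¹ * X F4.e * Y d) * (Y d)⁻¹ = X F4.e := by group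
            rw [this]; exact h.XC _
        · exfalso
          have e : ((g * x * g⁻¹ : L) : G) = (((g * x * g⁻¹ : L) : G) * s) * s := by
            rw [mul_assoc _ s s, h.ss, mul_one]
          rw [e] at hyy
          obtain ⟨g', hg'⟩ := hPs _ (h.Q_le _ h1) hyy
          rw [← e] at hg'
          exact hyK g' hg'
  have hne1 : (h.Q 0).subgroupOf L ≠ ⊥ := by
    intro h1
    have h2 : (⟨Z F4.e, h.ZL _⟩ : L) ∈ (h.Q 0).subgroupOf L :=
      mem_subgroupOf.2 (h.mem_E2.2 ⟨0, F4.e, by rw [h.fr.Y_zero, one_mul]⟩)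
    rw [h1, mem_bot] at h2
    exact h.Zee (congrArg Subtype.val h2)
  have hcm : IsMulCommutative ((h.Q 0).subgroupOf L) := ⟨⟨fun x y => by
    apply Subtype.ext; apply Subtype.ext
    exact h.E2_comm (mem_subgroupOf.1 x.2) (mem_subgroupOf.1 y.2)⟩⟩
  rcases hGold T _ hne1 hcm hE2c with hc | ⟨H, hH⟩
  · -- `X e` and `Y e` do not commute
    have hYe : (⟨Y F4.e, h.YL _⟩ : L) ∈ (T : Subgroup L) := by
      rw [mT]
      exact Or.inl (hQ0e (h.mem_E2.2 ⟨F4.e, 0, by rw [h.fr.Z_zero, mul_one]⟩))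
    have h1 := congrArg (fun t : (T : Subgroup L) => ((t : L) : G))
      (hc.is_comm.comm (⟨_, hXe⟩ : (T : Subgroup L)) ⟨_, hYe⟩)
    have h2 : X F4.e * Y F4.e = Y F4.e * X F4.e := h1
    have h3 := h.fr.X_Y F4.e F4.e
    rw [h2] at h3
    have h4 : Z (F4.e * F4.e) = 1 := (left_eq_mul.1 h3)
    exact h.Z_ne (by decide) h4
  · have hZo : orderOf (⟨Z F4.e, h.ZL _⟩ : L) = 2 := by
      rw [← Subgroup.orderOf_coe]
      exact orderOf_eq_prime (by rw [pow_two]; exact h.ZZ _) h.Zee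
    have h1 := Cfsg.Agent.TwoFusion.StronglyEmbeddedBasic.isConj_of_involutions hH _ _ hZo hord
    obtain ⟨g, hg⟩ := isConj_iff.1 h1
    have h2 : (g : G) * Z F4.e * (g : G)⁻¹ = X F4.e := congrArg Subtype.val hg
    apply h.Z_nK (show F4.e ≠ 0 by decide) (g : G)
    rw [h2]; exact h.XC _

end MuTwo

end Cfsg.Agent.StdAlt.Five
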