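import Cfsg.Agent.StdAlt.Five.Coord
import Cfsg.Agent.MTwelveType.SylowModel

/-!
# The case `E2 = 4 × 4` with an outer involution (S1766, n = 5, type Ib, `ε = e`): the Sylow 2-subgroup of `M₁₂`
-/

set_option autoImplicit false

namespace Cfsg.Agent.StdAlt.Five.TwelveMap

open Cfsg.Agent.J2Sylow.Model Cfsg.Agent.StdAlt.Five.Coord
open Cfsg.Agent.MTwelveType.SylowModel (liftHom liftFun bp)

variable {G : Type*} [Group G] {R B P : Subgroup G} {ρ : G} {X Y Z : F4 → G}

/-- an outer involution normalising `E2 = 4 × 4`, commuting with `X e`, acting nontrivially on `B` -/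
structure Outer (X Y Z : F4 → G) (d : G) : Prop where
  sq : d * d = 1
  comm : d * X .e = X .e * d
  dY : ∀ b, ∃ b' c, d * Y b * d = Y b' * Z c
  dZ : ∃ c, d * Z c * d ≠ Z c

section

variable (D : Data R B P ρ) (F : Frame R B P ρ F4.e X Y Z)
include D F

theorem Z_comm_Y (c b : F4) : Z c * Y b = Y b * Z c :=
  (D.cent _ (F.Y_mem b) _ (F.Z_mem c)).symm

theorem Z_comm_X (c b : F4) : Z c * X b = X b * Z c :=
  (D.cent _ (D.R_le (F.X_mem b)) _ (F.Z_mem c)).symm

theorem YZ_mul (b c b' c' : F4) : (Y b * Z c) * (Y b' * Z c') =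
    Y (b + b') * Z (c + c' + F4.fr (b * b')) := by
  have h := F.Y_mul b b'
  change Y b * Y b' = Y (b + b') * Z (1 * F4.fr (b * b')) at h
  rw [one_mul] at h
  have h2 := Z_comm_Y D F c b'
  calc (Y b * Z c) * (Y b' * Z c') = Y b * (Z c * Y b') * Z c' := by group
    _ = Y b * Y b' * (Z c * Z c') := by rw [h2]; group
    _ = Y (b + b') * (Z (F4.fr (b * b')) * (Z c * Z c')) := by rw [h]; group
    _ = _ := by
      rw [← F.Z_add, ← F.Z_add]
      congr 2
      ring

theorem YZ_comm (b c b' c' : F4) : (Y b * Z c) * (Y b' * Z c') = (Y b' * Z c') * (Y b * Z c) := by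
  rw [YZ_mul D F, YZ_mul D F, add_comm b b', add_comm c c', mul_comm b b']

theorem YZ_sq (b c : F4) : (Y b * Z c) * (Y b * Z c) = Z b := by
  rw [YZ_mul D F, F4.add_self, F4.add_self, zero_add]
  have : ∀ b : F4, F4.fr (b * b) = b := by decide
  rw [this]
  change Y 0 * _ = _
  rw [F.Y_zero, one_mul]

theorem YZ_inj {b c b' c' : F4} (h : Y b * Z c = Y b' * Z c') : b = b' ∧ c = c' := by
  have := F.inj 0 b c 0 b' c' (by rw [F.X_zero, mul_one, mul_one]; exact h)
  exact ⟨this.1, this.2.2⟩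

theorem X_inv (b c : F4) : X .e * (Y b * Z c) = (Y b * Z c)⁻¹ * X .e := by
  have h := F.X_Y .e b
  have h1 : (Y b * Z c)⁻¹ = Y b * Z (c + b) := by
    rw [inv_eq_iff_mul_eq_one, YZ_mul D F, F4.add_self]
    have : ∀ b c : F4, c + (c + b) + F4.fr (b * b) = 0 := by decide
    rw [this]
    change Y 0 * Z 0 = 1
    rw [F.Y_zero, F.Z_zero, one_mul]
  have h2 : F4.e * b = b := one_mul b
  rw [h2] at h
  have h3 := Z_comm_X D F (c + b) .e
  have h4 : Z b * Z c = Z (c + b) := by rw [← F.Z_add, add_comm]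
  rw [h1]
  calc X .e * (Y b * Z c) = (X .e * Y b) * Z c := by group
    _ = Y b * X .e * (Z b * Z c) := by rw [h]; group
    _ = Y b * (X .e * Z (c + b)) := by rw [h4]; group
    _ = _ := by rw [← h3]; group

theorem exists_hom_twelve {d : G} (O : Outer X Y Z d) :
    ∃ φ : Cfsg.Agent.ClassificationK.GTwoModel.T (2 * 2) →* G, Function.Injective φ ∧
      (∀ x, x ∈ φ.range ↔ ∃ b c, ∃ s t : Bool, x = (Y b * Z c) * (bp (X .e) s * bp d t)) := by
  -- the action on `Z`
  have hdd : ∀ x, d * (d * x * d) * d = x := by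
    intro x
    calc d * (d * x * d) * d = (d * d) * x * (d * d) := by group
      _ = x := by rw [O.sq]; group
  have hmul : ∀ x y, d * (x * y) * d = (d * x * d) * (d * y * d) := by
    intro x y
    calc d * (x * y) * d = d * x * 1 * y * d := by group
      _ = _ := by rw [← O.sq]; group
  choose h g hh using O.dY
  have hZ : ∀ b, d * Z b * d = Z (h b) := by
    intro b
    have h1 : Z b = Y b * Y b := by
      have := YZ_sq D F b 0
      rw [F.Z_zero, mul_one] at this
      exact this.symm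
    rw [h1, hmul, hh, YZ_sq D F]
  obtain ⟨b0, hb0⟩ := O.dZ
  rw [hZ] at hb0
  have hb1 : h b0 ≠ b0 := fun e => hb0 (by rw [e])
  have hhh : h (h b0) = b0 := by
    apply F.Z_inj
    rw [← hZ, ← hZ, hdd]
  have hb2 : b0 ≠ 0 := by
    intro e
    apply hb0
    rw [← hZ, e, F.Z_zero, mul_one, O.sq]
  have hb3 : h b0 ≠ 0 := by
    intro e
    apply hb2
    have := hhh
    rw [e] at this
    rw [← this]
    apply F.Z_inj
    rw [← hZ, F.Z_zero, mul_one, O.sq]
  set A := Y b0 with hA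
  set A' := d * Y b0 * d with hA'
  have eA : A = Y b0 * Z 0 := by rw [F.Z_zero, mul_one]
  have eA' : A' = Y (h b0) * Z (g b0) := hh b0
  have sqA : A * A = Z b0 := by rw [eA, YZ_sq D F]
  have sqA' : A' * A' = Z (h b0) := by rw [eA', YZ_sq D F]
  have ZZ : ∀ c, Z c * Z c = 1 := fun c => by
    rw [← F.Z_add, F4.add_self]; exact F.Z_zero
  have r1 : A ^ (2 * 2) = 1 := by rw [pow_mul, pow_two A, sqA, pow_two, ZZ]
  have r2 : A' ^ (2 * 2) = 1 := by rw [pow_mul, pow_two A', sqA', pow_two, ZZ]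
  have r3 : A * A' = A' * A := by rw [eA, eA', YZ_comm D F]
  have r4 : X .e * X .e = 1 := D.sqR _ (F.X_mem _)
  have r7 : X .e * A = A⁻¹ * X .e := by rw [eA, X_inv D F]
  have r8 : X .e * A' = A'⁻¹ * X .e := by rw [eA', X_inv D F]
  have r9 : d * A = A' * d := by
    rw [hA', mul_assoc _ d d, O.sq, mul_one]
  have r10 : d * A' = A * d := by
    rw [hA']
    calc d * (d * Y b0 * d) = (d * d) * Y b0 * d := by group
      _ = _ := by rw [O.sq, one_mul]
  have hpow : ∀ n : ℕ, ∃ b c, A ^ n = Y b * Z c := by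
    intro n
    induction n with
    | zero => exact ⟨0, 0, by rw [F.Y_zero, F.Z_zero]; simp⟩
    | succ n ih =>
      obtain ⟨b, c, hbc⟩ := ih
      exact ⟨_, _, by rw [pow_succ, hbc, eA, YZ_mul D F]⟩
  have hpow' : ∀ n : ℕ, ∃ b c, A' ^ n = Y b * Z c := by
    intro n
    induction n with
    | zero => exact ⟨0, 0, by rw [F.Y_zero, F.Z_zero]; simp⟩
    | succ n ih =>
      obtain ⟨b, c, hbc⟩ := ih
      exact ⟨_, _, by rw [pow_succ, hbc, eA', YZ_mul D F]⟩
  -- the sixteen elements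
  let V : ZMod (2 * 2) → ZMod (2 * 2) → G := fun i j => A ^ i.val * A' ^ j.val
  have hV : ∀ i j, ∃ b c, V i j = Y b * Z c := by
    intro i j
    obtain ⟨b, c, h1⟩ := hpow i.val
    obtain ⟨b', c', h2⟩ := hpow' j.val
    exact ⟨_, _, by change A ^ i.val * A' ^ j.val = _; rw [h1, h2, YZ_mul D F]⟩
  have hV1 : ∀ i j, V i j = 1 → i = 0 ∧ j = 0 := by
    have c0 : A ^ (0 : ℕ) = Y 0 * Z 0 := by rw [F.Y_zero, F.Z_zero]; simp
    have c1 : A ^ (1 : ℕ) = Y b0 * Z 0 := by rw [pow_one, eA]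
    have c2 : A ^ (2 : ℕ) = Y 0 * Z b0 := by rw [sq, sqA, F.Y_zero, one_mul]
    have c3 : A ^ (3 : ℕ) = Y b0 * Z b0 := by
      rw [pow_succ, c2, eA, YZ_mul D F, zero_add, add_zero, zero_mul]
      change Y b0 * Z (b0 + 0) = _
      rw [add_zero]
    have c0' : A' ^ (0 : ℕ) = Y 0 * Z 0 := by rw [F.Y_zero, F.Z_zero]; simp
    have c1' : A' ^ (1 : ℕ) = Y (h b0) * Z (g b0) := by rw [pow_one, eA']
    have c2' : A' ^ (2 : ℕ) = Y 0 * Z (h b0) := by rw [sq, sqA', F.Y_zero, one_mul]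
    have c3' : A' ^ (3 : ℕ) = Y (h b0) * Z (h b0 + g b0) := by
      rw [pow_succ, c2', eA', YZ_mul D F, zero_add, zero_mul]
      change Y (h b0) * Z (h b0 + g b0 + 0) = _
      rw [add_zero]
    have key : ∀ p q r : F4, p ≠ 0 → q ≠ 0 → p ≠ q →
      let f : Fin 4 → F4 × F4 := ![(0, 0), (p, 0), (0, p), (p, p)]
      let f' : Fin 4 → F4 × F4 := ![(0, 0), (q, r), (0, q), (q, q + r)]
      ∀ i j : Fin 4, (f i).1 + (f' j).1 = 0 →
        (f i).2 + (f' j).2 + F4.fr ((f i).1 * (f' j).1) = 0 → i = 0 ∧ j = 0 := by decide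
    intro i j hij
    have hA4 : ∀ i : Fin 4, A ^ (i : ℕ) = Y ((![(0, 0), (b0, 0), (0, b0), (b0, b0)] : Fin 4 → F4 × F4) i).1 *
        Z ((![(0, 0), (b0, 0), (0, b0), (b0, b0)] : Fin 4 → F4 × F4) i).2 := by
      intro i
      fin_cases i
      · exact c0
      · exact c1
      · exact c2
      · exact c3
    have hA4' : ∀ i : Fin 4, A' ^ (i : ℕ) =
        Y ((![(0, 0), (h b0, g b0), (0, h b0), (h b0, h b0 + g b0)] : Fin 4 → F4 × F4) i).1 *
        Z ((![(0, 0), (h b0, g b0), (0, h b0), (h b0, h b0 + g b0)] : Fin 4 → F4 × F4) i).2 := by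
      intro i
      fin_cases i
      · exact c0'
      · exact c1'
      · exact c2'
      · exact c3'
    have h1 : V i j = 1 := hij
    change A ^ i.val * A' ^ j.val = 1 at h1
    have hi : i.val < 4 := ZMod.val_lt i
    have hj : j.val < 4 := ZMod.val_lt j
    have e1 := hA4 ⟨i.val, hi⟩
    have e2 := hA4' ⟨j.val, hj⟩
    simp only [Fin.val_mk] at e1 e2
    rw [e1, e2, YZ_mul D F] at h1
    have h2 : Y 0 * Z 0 = (1 : G) := by rw [F.Y_zero, F.Z_zero, one_mul]
    rw [← h2] at h1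
    obtain ⟨k1, k2⟩ := YZ_inj D F h1
    obtain ⟨l1, l2⟩ := key b0 (h b0) (g b0) hb2 hb3 (Ne.symm hb1) _ _ k1 k2
    have l1' : i.val = 0 := congrArg Fin.val l1
    have l2' : j.val = 0 := congrArg Fin.val l2
    exact ⟨(ZMod.val_eq_zero i).1 l1', (ZMod.val_eq_zero j).1 l2'⟩
  have hYZP : ∀ b c, Y b * Z c ∈ P := fun b c => P.mul_mem (F.Y_mem b) (D.B_le (F.Z_mem c))
  have hdP : d ∉ P := by
    intro h
    obtain ⟨c, hc⟩ := O.dZ
    apply hc
    rw [D.cent d h _ (F.Z_mem c), mul_assoc, O.sq, mul_one]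
  have hXn : ∀ b c, X .e ≠ Y b * Z c := by
    intro b c e
    have := F.inj .e 0 0 0 b c (by
      rw [F.Y_zero, F.X_zero, F.Z_zero, one_mul, mul_one, mul_one]; exact e)
    exact absurd this.2.1 (by decide)
  haveI : NeZero (2 * 2) := ⟨by decide⟩
  set φ : Cfsg.Agent.ClassificationK.GTwoModel.T (2 * 2) →* G :=
    liftHom r1 r2 r3 r4 O.sq O.comm.symm r7 r8 r9 r10 with hφ
  have hφa : ∀ i j s t, φ ⟨i, j, s, t⟩ = V i j * (bp (X .e) s * bp d t) := fun _ _ _ _ => rfl
  have hφi : Function.Injective φ := by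
    rw [injective_iff_map_eq_one]
    rintro ⟨i, j, s, t⟩ hx
    rw [hφa] at hx
    obtain ⟨b, c, hbc⟩ := hV i j
    cases t
    · cases s
      · simp only [bp, mul_one] at hx
        obtain ⟨rfl, rfl⟩ := hV1 i j hx
        rfl
      · exfalso
        simp only [bp, mul_one] at hx
        rw [hbc] at hx
        have h1 : X .e = (Y b * Z c)⁻¹ := eq_inv_of_mul_eq_one_right hx
        have h2 : (Y b * Z c)⁻¹ = X .e * (Y b * Z c) * X .e := by
          rw [X_inv D F, mul_assoc, r4, mul_one]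
        have h3 : (Y b * Z c)⁻¹ = Y b * Z (c + b) := by
          rw [inv_eq_iff_mul_eq_one, YZ_mul D F, F4.add_self]
          have : ∀ b c : F4, c + (c + b) + F4.fr (b * b) = 0 := by decide
          rw [this]
          change Y 0 * Z 0 = 1
          rw [F.Y_zero, F.Z_zero, one_mul]
        exact hXn b (c + b) (by rw [h1, h3])
    · exfalso
      have h1 : V i j * bp (X .e) s * d = 1 := by
        rw [← hx]; simp only [bp]; group
      apply hdP
      have h2 : d = (V i j * bp (X .e) s)⁻¹ := eq_inv_of_mul_eq_one_right h1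
      rw [h2]
      apply P.inv_mem
      apply P.mul_mem
      · rw [hbc]; exact hYZP b c
      · cases s
        · exact P.one_mem
        · exact D.R_le (F.X_mem _)
  refine ⟨φ, hφi, ?_⟩
  -- the sixteen elements are all of `E2`
  have hVs : ∀ b c, ∃ i j, V i j = Y b * Z c := by
    choose β γ hβγ using hV
    have hi : Function.Injective (fun p : ZMod (2 * 2) × ZMod (2 * 2) =>
        ((β p.1 p.2, γ p.1 p.2) : F4 × F4)) := by
      rintro ⟨i, j⟩ ⟨i', j'⟩ h
      have hb : β i j = β i' j' := congrArg Prod.fst h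
      have hc : γ i j = γ i' j' := congrArg Prod.snd h
      have hVV : V i j = V i' j' := by
        rw [hβγ, hβγ, hb, hc]
      have e1 : φ ⟨i, j, false, false⟩ = φ ⟨i', j', false, false⟩ := by
        rw [hφa, hφa, hVV]
      have e2 := hφi e1
      have e3 := congrArg Cfsg.Agent.ClassificationK.GTwoModel.T.i e2
      have e4 := congrArg Cfsg.Agent.ClassificationK.GTwoModel.T.j e2
      exact Prod.ext e3 e4
    have hcard : Nat.card (F4 × F4) ≤ Nat.card (ZMod (2 * 2) × ZMod (2 * 2)) := by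
      rw [Nat.card_prod, Nat.card_prod, Nat.card_zmod, Nat.card_eq_fintype_card]
      have : Fintype.card F4 = 4 := by decide
      rw [this]
    have hb := hi.bijective_of_nat_card_le hcard
    intro b c
    obtain ⟨⟨i, j⟩, hij⟩ := hb.2 (b, c)
    refine ⟨i, j, ?_⟩
    have hb : β i j = b := congrArg Prod.fst hij
    have hc : γ i j = c := congrArg Prod.snd hij
    rw [hβγ, hb, hc]
  intro x
  constructor
  · rintro ⟨⟨i, j, s, t⟩, rfl⟩
    obtain ⟨b, c, hbc⟩ := hV i j
    exact ⟨b, c, s, t, by rw [hφa, hbc]⟩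
  · rintro ⟨b, c, s, t, rfl⟩
    obtain ⟨i, j, hij⟩ := hVs b c
    exact ⟨⟨i, j, s, t⟩, by rw [hφa, hij]⟩

end

end Cfsg.Agent.StdAlt.Five.TwelveMap
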