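import Mathlib
import Cfsg.Agent.StdAlt.Five.KillB2
import Cfsg.Agent.StdAlt.Five.TwelveMap

/-!
# S1766, n = 5, `κ = 1`, `μ = 2`, `E2 = 4 × 4`: `L` is the Mathieu group of degree 12 (B4)
-/

set_option autoImplicit false

namespace Cfsg.Agent.StdAlt.Five

open Subgroup Cfsg.Agent.StdAlt.Conj Cfsg.Agent.J2Sylow.Model
open Cfsg.Agent.MTwelveType.SylowModel (bp)

/-- **B4** (`hM12` is S1741 for the group `L`) -/
theorem MuTwo.isoM12 {G : Type*} [Group G] [Finite G] {A R B P L : Subgroup G} {ρ : G} {X Y Z : F4 → G}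
    {s : G} {S : Sylow 2 G} (h : MuTwo A R B P L ρ F4.e X Y Z s S)
    (hM12 : ∀ (T : Sylow 2 L) (U : Sylow 2 ↥Cfsg.Spor.M12),
      Nonempty (↥(T : Subgroup L) ≃* ↥(U : Subgroup ↥Cfsg.Spor.M12)) →
      (∃ x y : L, orderOf x = 2 ∧ orderOf y = 2 ∧ ¬ IsConj x y) → Cfsg.Spor.IsoM12 L) :
    Cfsg.Spor.IsoM12 L := by
  classical
  haveI : Fact (Nat.Prime 2) := ⟨Nat.prime_two⟩
  haveI := h.nor
  have hε : F4.e = 0 ∨ F4.e = F4.e := Or.inr rfl
  have hE2 : NE2 A F4.e Y Z := fun h0 => absurd h0 (by decide)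
  obtain ⟨T, hT⟩ := h.exists_sylow_L
  have mT : ∀ {x : L}, x ∈ (T : Subgroup L) ↔ ((x : G) ∈ h.Q F4.e ∨ (x : G) * s ∈ h.Q F4.e) := by
    intro x
    rw [hT, mem_subgroupOf, ← h.mem_S_L hε hE2]
    exact ⟨fun h1 => ⟨h1, x.2⟩, fun h1 => h1.1⟩
  have hs := h.s_inv
  have hO : TwelveMap.Outer X Y Z s := by
    refine ⟨h.ss, ?_, ?_, ?_⟩
    · have := h.sX F4.e
      change s * X F4.e * s⁻¹ = X F4.e at this
      rw [mul_inv_eq_iff_eq_mul] at this
      exact this
    · intro b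
      refine ⟨F4.fr b, 0, ?_⟩
      have := h.sY b
      rw [hs] at this
      rw [this, h.fr.Z_zero, mul_one]
    · refine ⟨F4.w, fun he => ?_⟩
      have := h.sZ F4.w
      rw [hs, he] at this
      exact absurd (h.fr.Z_inj this) (by decide)
  obtain ⟨φ, hφ, hr⟩ := TwelveMap.exists_hom_twelve h.dat h.fr hO
  -- the range of `φ` is `S ∩ L`
  have hφr : ∀ x : G, x ∈ φ.range ↔ (x ∈ (S : Subgroup G) ∧ x ∈ L) := by
    intro x
    rw [hr, h.mem_S_L hε hE2]
    have hbp0 : ∀ g : G, bp g false = 1 := fun _ => rfl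
    have hbp1 : ∀ g : G, bp g true = g := fun _ => rfl
    constructor
    · rintro ⟨b, c, s', t', rfl⟩
      cases s' <;> cases t'
      · left
        refine ⟨b, 0, c, Or.inl rfl, ?_⟩
        rw [hbp0, hbp0, h.fr.X_zero]; group
      · right
        refine ⟨b, 0, c, Or.inl rfl, ?_⟩
        rw [hbp0, hbp1, h.fr.X_zero, one_mul, mul_assoc, h.ss]
        group
      · left
        refine ⟨b, F4.e, c, Or.inr rfl, ?_⟩
        rw [hbp0, hbp1, mul_one]
        calc Y b * Z c * X F4.e = Y b * (Z c * X F4.e) := by group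
          _ = _ := by rw [h.ZX]; group
      · right
        refine ⟨b, F4.e, c, Or.inr rfl, ?_⟩
        rw [hbp1, hbp1]
        calc Y b * Z c * (X F4.e * s) * s = Y b * (Z c * X F4.e) * (s * s) := by group
          _ = _ := by rw [h.ZX, h.ss]; group
    · rintro (⟨b, a, c, ha, he⟩ | ⟨b, a, c, ha, he⟩)
      · rcases ha with rfl | rfl
        · refine ⟨b, c, false, false, ?_⟩
          rw [hbp0, hbp0, he, h.fr.X_zero]; group
        · refine ⟨b, c, true, false, ?_⟩
          rw [hbp1, hbp0, he, mul_one]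
          calc Y b * X F4.e * Z c = Y b * (X F4.e * Z c) := by group
            _ = _ := by rw [← h.ZX]; group
      · have hx : x = Y b * X a * Z c * s := by
          rw [← he, mul_assoc x, h.ss, mul_one]
        rcases ha with rfl | rfl
        · refine ⟨b, c, false, true, ?_⟩
          rw [hbp0, hbp1, hx, h.fr.X_zero]; group
        · refine ⟨b, c, true, true, ?_⟩
          rw [hbp1, hbp1, hx]
          calc Y b * X F4.e * Z c * s = Y b * (X F4.e * Z c) * s := by group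
            _ = _ := by rw [← h.ZX]; group
  have hmem : ∀ x, φ x ∈ L := fun x => ((hφr _).1 ⟨x, rfl⟩).2
  let f : Cfsg.Agent.ClassificationK.GTwoModel.T (2 * 2) →* (T : Subgroup L) :=
    { toFun := fun x => ⟨⟨φ x, hmem x⟩, by
        rw [mT, ← h.mem_S_L hε hE2]
        exact (hφr _).1 ⟨x, rfl⟩⟩
      map_one' := by ext; simp
      map_mul' := by intro x y; ext; simp }
  have hf : Function.Bijective f := by
    constructor
    · intro x y hxy
      apply hφ
      exact congrArg (fun t : (T : Subgroup L) => ((t : L) : G)) hxy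
    · rintro ⟨⟨y, hyL⟩, hyT⟩
      have h1 := (h.mem_S_L hε hE2).2 (mT.1 hyT)
      obtain ⟨x, hx⟩ := (hφr y).2 h1
      exact ⟨x, Subtype.ext (Subtype.ext hx)⟩
  obtain ⟨U⟩ : Nonempty (Sylow 2 ↥Cfsg.Spor.M12) := inferInstance
  obtain ⟨e⟩ := Cfsg.Agent.MTwelveType.SylowModel.exists_equiv U
  refine hM12 T U ⟨(MulEquiv.ofBijective f hf).symm.trans e⟩ ?_
  refine ⟨⟨Z F4.e, h.ZL _⟩, ⟨X F4.e, h.Xe_mem⟩, ?_, ?_, ?_⟩
  · rw [← Subgroup.orderOf_coe]
    exact orderOf_eq_prime (by rw [pow_two]; exact h.ZZ _) h.Zee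
  · rw [← Subgroup.orderOf_coe]
    exact h.orderOf_X (by decide)
  · intro h1
    obtain ⟨g, hg⟩ := isConj_iff.1 h1
    have h2 : (g : G) * Z F4.e * (g : G)⁻¹ = X F4.e := congrArg Subtype.val hg
    apply h.Z_nK (show F4.e ≠ 0 by decide) (g : G)
    rw [h2]; exact h.XC _

end Cfsg.Agent.StdAlt.Five
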