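import Mathlib
import Cfsg.Agent.StdAlt.Five.Sec4
import Cfsg.Agent.StdAlt.Five.KillB1
import Cfsg.Agent.StdAlt.Five.KillB4

/-!
# S1766, n = 5, `κ = 1`: the kills B1 - B4 from the structures of `Sec4`

`LData A R L`: `L` is a normal simple subgroup of `G = L R` containing `A`.
* `b1`, `b3`: `μ = 1` is impossible;  `b2`: `μ = 2`, `ε = 0` is impossible;
* `b4`: `μ = 2`, `ε = e` leads to the Mathieu group of degree 12.
* `kap1_mu1`, `kap1_mu2`: the same without distinction of `ε`.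
-/

set_option autoImplicit false

namespace Cfsg.Agent.StdAlt.Five.Kill

open Subgroup Cfsg.Agent.StdAlt.Conj Cfsg.Agent.J2Sylow.Model Cfsg.Agent.StdAlt.Five
open Cfsg.Agent.StdAlt.Five.Sec4

/-- `L` is a normal simple subgroup of `G = L R` containing `A`. -/
structure LData {G : Type*} [Group G] (A R L : Subgroup G) : Prop where
  nor : L.Normal
  simple : IsSimpleGroup L
  A_le : A ≤ L
  gen : ∀ g : G, ∃ l ∈ L, ∃ r ∈ R, g = l * r

theorem kOne_of {G : Type*} [Group G] [Finite G] {A R V P L : Subgroup G} {ρ : G} {ε : F4}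
    {X Y Z : F4 → G} (B : Base A R V P ρ ε X Y Z) (κ : Kap1 A R) (hA : ¬ 8 ∣ Nat.card A)
    (D : LData A R L) : KOne A R V P L ρ ε X Y Z := by
  obtain ⟨g, od⟩ := B.odd
  exact
    { dat := B.data
      fr := B.frame
      te := od.te
      nK := od.nK
      R_le := od.R_le
      B_le := od.V_le
      ρA := od.ρ_mem
      cardA := hA
      cardK := od.card8
      CV := od.CV
      κ := fun k hk hkR r hr => κ k hk (mem_N_of hkR) r hr
      nor := D.nor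
      simple := D.simple
      A_le := D.A_le
      gen := D.gen }

theorem muOne_of {G : Type*} [Group G] [Finite G] {A R V P L : Subgroup G} {ρ : G} {ε : F4}
    {X Y Z : F4 → G} {S : Sylow 2 G} (B : Base A R V P ρ ε X Y Z) (κ : Kap1 A R)
    (hA : ¬ 8 ∣ Nat.card A) (D : LData A R L) (hμ : Mu1 A) (hS : (S : Subgroup G) = P) :
    MuOne A R V P L ρ ε X Y Z S where
  toKOne := kOne_of B κ hA D
  hM := by
    intro m hm
    obtain ⟨a, ha, k, hk, rfl⟩ := hμ m hm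
    exact ⟨k, hk, a, ha, (comm_of_C hk ha).symm⟩
  hS := hS

theorem muTwo_of {G : Type*} [Group G] [Finite G] {A R V P L : Subgroup G} {ρ : G} {ε : F4}
    {X Y Z : F4 → G} {s : G} {S : Sylow 2 G} (B : Base A R V P ρ ε X Y Z) (κ : Kap1 A R)
    (hA : ¬ 8 ∣ Nat.card A) (D : LData A R L) (hμ : Mu2 A ρ X Y Z s)
    (hM : ∀ m ∈ N A, (∃ a ∈ A, ∃ k ∈ C A, m = a * k) ∨ ∃ a ∈ A, ∃ k ∈ C A, m * s = a * k)
    (hS : ∀ x, x ∈ (S : Subgroup G) ↔ x ∈ P ∨ x * s ∈ P) :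
    MuTwo A R V P L ρ ε X Y Z s S := by
  have hs : s⁻¹ = s := inv_eq_iff_mul_eq_one.2 hμ.sq
  exact
    { toKOne := kOne_of B κ hA D
      sN := hμ.mem
      ss := hμ.sq
      s_not := by
        intro hsP
        have h1 := B.data.cent s hsP (Z F4.w) (B.frame.Z_mem _)
        have h2 := hμ.conjZ F4.w
        rw [h1, mul_assoc, hμ.sq, mul_one] at h2
        exact absurd (B.frame.Z_inj h2) (by decide)
      hM := by
        intro m hm
        rcases hM m hm with ⟨a, ha, k, hk, rfl⟩ | ⟨a, ha, k, hk, h1⟩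
        · exact ⟨k, hk, a, ha, Or.inl (comm_of_C hk ha).symm⟩
        · refine ⟨k, hk, a, ha, Or.inr ?_⟩
          rw [comm_of_C hk ha, ← h1, mul_assoc, hμ.sq, mul_one]
      sX := fun a => by rw [hs]; exact hμ.conjX a
      sY := fun a => by rw [hs]; exact hμ.conjY a
      sZ := fun a => by rw [hs]; exact hμ.conjZ a
      hS := hS }

theorem ne2_of {G : Type*} [Group G] {A R V P : Subgroup G} {ρ : G} {ε : F4} {X Y Z : F4 → G}
    (B : Base A R V P ρ ε X Y Z) (hn : ∀ b c, b ≠ 0 → ¬ KT A (Y b * Z c)) : NE2 A ε Y Z := by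
  rintro rfl b c g hb hg
  refine hn b c hb ⟨?_, ?_, g, hg⟩
  · intro h1
    have h2 : Y b * X 0 * Z c = Y 0 * X 0 * Z 0 := by
      rw [B.frame.X_zero, B.frame.Y_zero, B.frame.Z_zero, mul_one, mul_one, mul_one, h1]
    exact hb (B.frame.inj _ _ _ _ _ _ h2).1
  · have hc := B.data.cent _ (B.frame.Y_mem b) _ (B.frame.Z_mem c)
    have hz := B.data.sqB _ (B.frame.Z_mem c)
    have hy : Y b * Y b = 1 := by
      rw [B.frame.Y_mul, F4.add_self, zero_mul, B.frame.Y_zero, B.frame.Z_zero, mul_one]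
    calc Y b * Z c * (Y b * Z c) = Y b * (Z c * Y b) * Z c := by group
      _ = Y b * Y b * (Z c * Z c) := by rw [← hc]; group
      _ = 1 := by rw [hy, hz, mul_one]

variable {G : Type*} [Group G] [Finite G] {A R V P L : Subgroup G} {ρ : G} {ε : F4} {X Y Z : F4 → G}
  {s : G} {S : Sylow 2 G}

/-- **B1** -/
theorem b1 (B : Base A R V P ρ 0 X Y Z) (κ : Kap1 A R) (W : WC1 A R V P Y Z S)
    (hA : ¬ 8 ∣ Nat.card A) (D : LData A R L) : False :=
  (muOne_of B κ hA D W.mu1 W.eq).false_of_elem (ne2_of B W.nkt)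

/-- **B3** -/
theorem b3 (B : Base A R V P ρ F4.e X Y Z) (κ : Kap1 A R) (W : WC1 A R V P Y Z S)
    (hA : ¬ 8 ∣ Nat.card A) (D : LData A R L) : False :=
  (muOne_of B κ hA D W.mu1 W.eq).false_of_four

/-- **B1 + B3** -/
theorem kap1_mu1 (B : Base A R V P ρ ε X Y Z) (κ : Kap1 A R) (W : WC1 A R V P Y Z S)
    (hA : ¬ 8 ∣ Nat.card A) (D : LData A R L) : False := by
  rcases B.eps with rfl | rfl
  · exact b1 B κ W hA D
  · exact b3 B κ W hA D

/-- **B2** (`hGold` is S1169 for the group `L`) -/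
theorem b2 (B : Base A R V P ρ 0 X Y Z) (κ : Kap1 A R) (W : WC2 A R V P ρ X Y Z s S)
    (hA : ¬ 8 ∣ Nat.card A) (D : LData A R L)
    (hM : ∀ m ∈ N A, (∃ a ∈ A, ∃ k ∈ C A, m = a * k) ∨ ∃ a ∈ A, ∃ k ∈ C A, m * s = a * k)
    (hGold : ∀ (T : Sylow 2 L) (Q : Subgroup L), Q ≠ ⊥ → IsMulCommutative Q →
      Cfsg.IsStronglyClosed Q (T : Subgroup L) →
      IsMulCommutative (T : Subgroup L) ∨ ∃ H : Subgroup L, Cfsg.IsStronglyEmbedded H) : False :=
  (muTwo_of B κ hA D W.mu2 hM W.mem).false_of_elem rfl (ne2_of B W.nkt) hGold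

/-- **B4** (`hM12` is S1741 for the group `L`) -/
theorem b4 (B : Base A R V P ρ F4.e X Y Z) (κ : Kap1 A R) (W : WC2 A R V P ρ X Y Z s S)
    (hA : ¬ 8 ∣ Nat.card A) (D : LData A R L)
    (hM : ∀ m ∈ N A, (∃ a ∈ A, ∃ k ∈ C A, m = a * k) ∨ ∃ a ∈ A, ∃ k ∈ C A, m * s = a * k)
    (hM12 : ∀ (T : Sylow 2 L) (U : Sylow 2 ↥Cfsg.Spor.M12),
      Nonempty (↥(T : Subgroup L) ≃* ↥(U : Subgroup ↥Cfsg.Spor.M12)) →
      (∃ x y : L, orderOf x = 2 ∧ orderOf y = 2 ∧ ¬ IsConj x y) → Cfsg.Spor.IsoM12 L) :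
    Cfsg.Spor.IsoM12 L :=
  (muTwo_of B κ hA D W.mu2 hM W.mem).isoM12 hM12

/-- **B2 + B4** -/
theorem kap1_mu2 (B : Base A R V P ρ ε X Y Z) (κ : Kap1 A R) (W : WC2 A R V P ρ X Y Z s S)
    (hA : ¬ 8 ∣ Nat.card A) (D : LData A R L)
    (hM : ∀ m ∈ N A, (∃ a ∈ A, ∃ k ∈ C A, m = a * k) ∨ ∃ a ∈ A, ∃ k ∈ C A, m * s = a * k)
    (hGold : ∀ (T : Sylow 2 L) (Q : Subgroup L), Q ≠ ⊥ → IsMulCommutative Q →
      Cfsg.IsStronglyClosed Q (T : Subgroup L) →
      IsMulCommutative (T : Subgroup L) ∨ ∃ H : Subgroup L, Cfsg.IsStronglyEmbedded H)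
    (hM12 : ∀ (T : Sylow 2 L) (U : Sylow 2 ↥Cfsg.Spor.M12),
      Nonempty (↥(T : Subgroup L) ≃* ↥(U : Subgroup ↥Cfsg.Spor.M12)) →
      (∃ x y : L, orderOf x = 2 ∧ orderOf y = 2 ∧ ¬ IsConj x y) → Cfsg.Spor.IsoM12 L) :
    Cfsg.Spor.IsoM12 L := by
  rcases B.eps with rfl | rfl
  · exact (b2 B κ W hA D hM hGold).elim
  · exact b4 B κ W hA D hM hM12

end Cfsg.Agent.StdAlt.Five.Kill
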