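import Cfsg.Agent.StdAlt.Five.Sec4Main
import Cfsg.Agent.StdAlt.Five.KOneOfSec4
import Cfsg.Agent.StdAlt.Five.KillA2
import Cfsg.Agent.StdAlt.Five.KillA4

/-!
# S1766, n = 5, case (I): the end, in a group `G = L R`, `L` simple

From the odd configuration: `L` is isomorphic to `M₁₂` (`κ = 1`) or to `J₂` (`κ = 3`).
-/

set_option autoImplicit false

namespace Cfsg.Agent.StdAlt.Five.EndH

open Subgroup Cfsg.Agent.StdAlt.Conj Cfsg.Agent.J2Sylow.Model Cfsg.Agent.StdAlt.Five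
open Cfsg.Agent.StdAlt.Five.Sec4 Cfsg.Agent.StdAlt.Five.Coord
open Cfsg.Agent.StdAlt.Five.Kill (LData Gold)

variable {G : Type*} [Group G] {A R V P L : Subgroup G} {ρ g ρ₀ : G} {ε : F4} {X Y Z : F4 → G}

/-- the statement S1741 for the group `L` -/
def M12By (L : Type*) [Group L] : Prop :=
  ∀ (T : Sylow 2 L) (U : Sylow 2 ↥Cfsg.Spor.M12),
    Nonempty (↥(T : Subgroup L) ≃* ↥(U : Subgroup ↥Cfsg.Spor.M12)) →
    (∃ x y : L, orderOf x = 2 ∧ orderOf y = 2 ∧ ¬ IsConj x y) → Cfsg.Spor.IsoM12 L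

/-- recognition of `J₂` by a Sylow 2-subgroup and the number of classes of involutions -/
def J2By (G : Type*) [Group G] : Prop :=
  Cfsg.Agent.J2Sylow.Setup G → (¬ ∀ x y : G, orderOf x = 2 → orderOf y = 2 → IsConj x y) →
    Cfsg.Spor.IsoJ2 G

/-- commutators lie in `L` -/
theorem comm_mem (D : LData A R L) (hR : ∀ r ∈ R, ∀ r' ∈ R, r * r' = r' * r) (x y : G) :
    x * y * x⁻¹ * y⁻¹ ∈ L := by
  have hn := D.nor
  obtain ⟨l, hl, r, hr, rfl⟩ := D.gen x
  obtain ⟨l', hl', r', hr', rfl⟩ := D.gen y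
  rw [← QuotientGroup.eq_one_iff]
  have h1 : ((l : G) : G ⧸ L) = 1 := (QuotientGroup.eq_one_iff _).2 hl
  have h2 : ((l' : G) : G ⧸ L) = 1 := (QuotientGroup.eq_one_iff _).2 hl'
  have h3 : ((r * r' : G) : G ⧸ L) = ((r' * r : G) : G ⧸ L) := by rw [hR r hr r' hr']
  simp only [QuotientGroup.mk_mul, QuotientGroup.mk_inv] at h3 ⊢
  rw [h1, h2, one_mul, one_mul, h3]
  group

/-- `κ = 3` implies `R ≤ L`, so `L` is the whole group -/
theorem top_of_kap3 (D : LData A R L) (hR : ∀ r ∈ R, ∀ r' ∈ R, r * r' = r' * r)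
    (hX : ∀ r ∈ R, ∃ a, X a = r) (hadd : ∀ a a', X (a + a') = X a * X a')
    (hc : ∀ a, ρ₀ * X a * ρ₀⁻¹ = X (F4.w * a)) : L = ⊤ := by
  have h0 : X 0 = 1 := by
    have := hadd 0 0
    rw [F4.add_self] at this
    exact left_eq_mul.1 this
  have h1 : ∀ a, X (F4.w * a) * X a ∈ L := by
    intro a
    have h2 := comm_mem D hR ρ₀ (X a)
    rw [hc] at h2
    have h3 : (X a)⁻¹ = X a := by
      rw [inv_eq_iff_mul_eq_one, ← hadd, F4.add_self, h0]
    rwa [h3] at h2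
  have h2 : ∀ b : F4, ∃ a, F4.w * a + a = b := by decide
  have h3 : R ≤ L := by
    intro r hr
    obtain ⟨b, rfl⟩ := hX r hr
    obtain ⟨a, rfl⟩ := h2 b
    rw [hadd]
    exact h1 a
  rw [eq_top_iff]
  intro x _
  obtain ⟨l, hl, r, hr, rfl⟩ := D.gen x
  exact mul_mem hl (h3 hr)

theorem simple_of_top (D : LData A R L) (h : L = ⊤) : IsSimpleGroup G := by
  have := D.simple
  have h1 : IsSimpleGroup (⊤ : Subgroup G) := h ▸ this
  exact (topEquiv (G := G)).symm.isSimpleGroup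

/-- the odd configuration in a simple group: index two is impossible -/
theorem index_ne_two [Finite G] [IsSimpleGroup G] (h : OddE A R V ρ g) (M : Subgroup G) (hM : M.Normal) :
    M.index ≠ 2 := by
  intro h2
  rcases hM.eq_bot_or_eq_top with rfl | rfl
  · rw [index_bot] at h2
    have h4 : Nat.card R ∣ Nat.card G := card_subgroup_dvd_card R
    rw [h.cardR, h2] at h4
    revert h4
    decide
  · rw [index_top] at h2
    exact absurd h2 (by decide)

/-- **`κ = 3`** -/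
theorem kap_three [Finite G] [IsSimpleGroup G] {S : Sylow 2 G} (h : OddE A R V ρ g)
    (T : Sec4Main.Three A R V P ρ X Y Z ρ₀ S) (h8 : ¬ 8 ∣ Nat.card A) (hG : Gold G) (hJ : J2By G) :
    Cfsg.Spor.IsoJ2 G := by
  have hidx := index_ne_two h
  have hM : ∀ {s : G}, Mu2 A ρ X Y Z s → ∀ m ∈ N A, m ∈ Kill.AC A ∨ m * s ∈ Kill.AC A := by
    intro s M m hm
    rw [Kill.mem_AC, Kill.mem_AC]
    exact Sec4Main.index_le T.base h8 M m hm
  rcases T.mu with W | ⟨s, W⟩ | ⟨w, sw⟩ | ⟨w, sw⟩ | ⟨s, w, sw⟩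
  · exact (Kill.a1 T.base W hG).elim
  · exact (Kill.a2 T.base W h8 (hM W.mu2) hG).elim
  · exact (Kill.a3 T.base T.kap sw h8 hidx).elim
  · exact Kill.a4 T.base sw hJ
  · exact (Kill.a5 T.base T.kap sw h8 (hM sw.mu2) hidx).elim

/-- **the end of case (I)** -/
theorem main [Finite G] (h : OddE A R V ρ g) (h8 : ¬ 8 ∣ Nat.card A) (D : LData A R L)
    (hGL : Gold L) (hG : IsSimpleGroup G → Gold G) (hM12 : M12By L)
    (hJ : IsSimpleGroup G → J2By G) : Cfsg.Spor.IsoM12 L ∨ Cfsg.Spor.IsoJ2 L := by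
  obtain ⟨P, S, X, Y, Z, ⟨ε, O⟩ | ⟨ρ₀, T⟩⟩ := Sec4Main.main h h8
  · left
    rcases O.mu with W | ⟨s, W⟩
    · exact (Kill.kap1_mu1 O.base O.kap W h8 D).elim
    · exact Kill.kap1_mu2 O.base O.kap W h8 D (Sec4Main.index_le O.base h8 W.mu2) hGL hM12
  · right
    have hR : ∀ r ∈ R, ∀ r' ∈ R, r * r' = r' * r := fun r hr r' hr' => T.base.data.commR hr hr'
    have htop : L = ⊤ := top_of_kap3 D hR T.base.frame.X_surj T.base.frame.X_add T.kap.conjX
    have hs : IsSimpleGroup G := simple_of_top D htop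
    obtain ⟨e⟩ := kap_three h T h8 (hG hs) (hJ hs)
    subst htop
    exact ⟨topEquiv.trans e⟩

end Cfsg.Agent.StdAlt.Five.EndH
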