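import Cfsg.Agent.StdAlt.Five.End
import Cfsg.Agent.StdAlt.Five.KOneOfSec4
import Cfsg.Agent.StdAlt.CommHalf

/-!
# S1766, n = 5: the external results
-/

set_option autoImplicit false

namespace Cfsg.Agent.StdAlt.Five.ExtOf

open Subgroup Cfsg.Agent.StdAlt.Conj Cfsg.Agent.StdAlt.Five

universe u

/-- the external results from S1169, S1741 and the characterisation of the second Janko group -/
theorem ext_of (gold : ∀ (T : Type u) [Group T] [Finite T], IsSimpleGroup T → Kill.Gold T)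
    (m12 : ∀ (T : Type u) [Group T] [Finite T], IsSimpleGroup T → ∀ (S : Sylow 2 T)
      (U : Sylow 2 ↥Cfsg.Spor.M12), Nonempty (↥(S : Subgroup T) ≃* ↥(U : Subgroup ↥Cfsg.Spor.M12)) →
      (∃ x y : T, orderOf x = 2 ∧ orderOf y = 2 ∧ ¬ IsConj x y) → Cfsg.Spor.IsoM12 T)
    (j2 : ∀ (T : Type u) [Group T] [Finite T], IsSimpleGroup T → Cfsg.Agent.J2Sylow.Setup T →
      (¬ ∀ x y : T, orderOf x = 2 → orderOf y = 2 → IsConj x y) → Cfsg.Spor.IsoJ2 T) :
    End.Ext.{u} where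
  comm _ _ _ h := CommHalf.commHalf_of_oddCore h
  gold := gold
  j2 := j2
  kills T _ _ A R L hn hs hle hgen h8 :=
    { b1 := fun B κ W => Kill.kap1_mu1 B κ W h8 ⟨hn, hs, hle, hgen⟩
      b2 := fun B κ W => Kill.kap1_mu2 B κ W h8 ⟨hn, hs, hle, hgen⟩ (Sec4Main.index_le B h8 W.mu2)
        (gold L hs) (m12 L hs) }

end Cfsg.Agent.StdAlt.Five.ExtOf
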