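import Cfsg.Agent.StdAlt.Five.Act

/-!
# Facts on the symmetric group of degree five, by enumeration
-/

set_option autoImplicit false

namespace Cfsg.Agent.StdAlt.Five

open Equiv

theorem fact_mul : ∀ i : Fin 5, ∀ x : A5, x * x = 1 → x.1 i = i → ∀ y : A5, y * y = 1 → y.1 i = i →
    (x * y) * (x * y) = 1 := by decide +kernel

theorem fact_cent : ∀ x : A5, x * x = 1 → x ≠ 1 → ∀ y : A5, x * y = y * x → y * y = 1 := by
  decide +kernel

/-- `C_{S_5}(V_i) = V_i` -/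
theorem fact_centV : ∀ i : Fin 5, ∀ t : Perm (Fin 5),
    (∀ y : A5, y * y = 1 → y.1 i = i → t * y.1 = y.1 * t) →
    t * t = 1 ∧ t i = i ∧ Perm.sign t = 1 := by decide +kernel

theorem fact_card : ∀ i : Fin 5,
    Fintype.card {σ : Perm (Fin 5) // Perm.sign σ = 1 ∧ σ * σ = 1 ∧ σ i = i} = 4 := by decide +kernel

/-- auxiliary predicate -/
def CP (s t x : Perm (Fin 5)) : Prop := (x * s = s * x ∧ x * t = t * x) → (x = 1 ∨ x = s ∨ x = t ∨ x = s * t)

instance (s t x : Perm (Fin 5)) : Decidable (CP s t x) := by unfold CP; infer_instance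

/-- auxiliary predicate -/
def CQ (s t : Perm (Fin 5)) : Prop := (t * t = 1 ∧ t ≠ 1 ∧ t ≠ s ∧ s * t = t * s) → ∀ x, CP s t x

instance (s t : Perm (Fin 5)) : Decidable (CQ s t) := by unfold CQ; infer_instance

theorem fact_four_aux : ∀ s : Perm (Fin 5), (s * s = 1 ∧ s ≠ 1) → ∀ t : Perm (Fin 5), CQ s t := by
  decide +kernel

/-- a four-group of `S_5` is its own centralizer -/
theorem fact_four {s t x : Perm (Fin 5)} (hss : s * s = 1) (hs : s ≠ 1) (htt : t * t = 1) (ht : t ≠ 1)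
    (hts : t ≠ s) (hst : s * t = t * s) (hxs : x * s = s * x) (hxt : x * t = t * x) :
    x = 1 ∨ x = s ∨ x = t ∨ x = s * t :=
  fact_four_aux s ⟨hss, hs⟩ t ⟨htt, ht, hts, hst⟩ x ⟨hxs, hxt⟩

theorem fact_rho : ∀ i : Fin 5, ∀ y : A5, y * y = 1 → y ≠ 1 → y.1 i = i → ∀ v : A5, v * v = 1 →
    v ≠ 1 → v ≠ y → v.1 i = i → ∃ r : A5, r.1 i = i ∧ r * v * r⁻¹ = v * y ∧ r * y * r⁻¹ = v := by
  decide +kernel

theorem fact_stab : ∀ i : Fin 5, ∀ x : A5, x.1 i = i → x * x = 1 ∨ x * x * x = 1 := by decide +kernel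

theorem fact_trans : ∀ i j k : Fin 5, j ≠ i → k ≠ i → ∃ s : A5, s.1 i = i ∧ s.1 j = k := by
  decide +kernel

theorem fact_trans1 : ∀ i j : Fin 5, ∃ s : A5, s.1 i = j := by decide +kernel

/-- an odd permutation fixing `j` times an element of the stabilizer of `j` is a transposition which commutes with
an even permutation moving `j` -/
theorem fact_odd : ∀ j : Fin 5, ∀ t : Perm (Fin 5), t j = j → Perm.sign t = -1 →
    ∃ b : A5, b.1 j = j ∧ (b.1 * t) * (b.1 * t) = 1 ∧ b.1 * t ≠ 1 ∧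
      ∃ c : A5, c.1 * (b.1 * t) = b.1 * t * c.1 ∧ c.1 j ≠ j := by decide +kernel

/-- an element of order three of the stabilizer acts regularly on `V_i` -/
theorem fact_ord3 : ∀ i : Fin 5, ∃ r : A5, r.1 i = i ∧ r ^ 3 = 1 ∧
    ∀ v : A5, v * v = 1 → v.1 i = i → v ≠ 1 → r * v * r⁻¹ ≠ v := by decide +kernel

theorem fact_kl : ∀ i : Fin 5, ∃ x : A5, x * x = 1 ∧ x.1 i = i ∧ x ≠ 1 := by decide +kernel

theorem fact_kl2 : ∀ i : Fin 5, ∀ y : A5, y * y = 1 → y ≠ 1 → y.1 i = i →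
    ∃ v : A5, v * v = 1 ∧ v ≠ 1 ∧ v ≠ y ∧ v.1 i = i := by decide +kernel

theorem fact_conj : ∀ x : A5, x * x = 1 → x ≠ 1 → ∀ y : A5, y * y = 1 → y ≠ 1 →
    ∃ r : A5, r * x * r⁻¹ = y := by decide +kernel

end Cfsg.Agent.StdAlt.Five
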