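import Cfsg.Agent.StdAlt.Five.KillModel

/-!
# Facts about the groups `K` (order 128) and `L` (order 256), by computation
-/

set_option autoImplicit false

namespace Cfsg.Agent.StdAlt.Five.KillModel

open Cfsg.Agent.J2Sylow.Model Cfsg.Agent.J2Sylow.Model.F4

namespace K

/-- `z(c)` -/
def IsV (x : K) : Bool := decide (x.a = 0) && decide (x.b = 0) && !x.i

/-- listing -/
def equivProd : K ≃ F4 × F4 × F4 × Bool where
  toFun x := (x.a, x.b, x.c, x.i)
  invFun y := ⟨y.1, y.2.1, y.2.2.1, y.2.2.2⟩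
  left_inv _ := rfl
  right_inv _ := rfl

instance : Fintype K := Fintype.ofEquiv _ equivProd.symm

/-- the swap -/
def W : K := ⟨0, 0, 0, true⟩

theorem isV_iff (x : K) : IsV x = true ↔ x = ⟨0, 0, x.c, false⟩ := by
  revert x; decide +kernel

set_option maxRecDepth 100000 in
theorem card_comm : ∀ t : K, t * t = 1 → IsV t = false →
    (Finset.univ.filter (fun x : K => IsV (x * t * x⁻¹ * t⁻¹) = true)).card ≤ 64 := by
  decide +kernel

theorem conj_W : ∀ x : K, x * x = 1 → x.i = true → ∃ a b : F4,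
    (⟨a, b, 0, false⟩ : K) * x * (⟨a, b, 0, false⟩ : K)⁻¹ = W := by
  decide +kernel

theorem comm_W : ∀ x : K, x * W = W * x → x.a = 0 ∧ x.b = 0 := by
  decide +kernel

theorem of_comm_W : ∀ x : K, x.a = 0 → x.b = 0 → x * W = W * x := by
  decide +kernel

/-- normalizer of `F8` -/
theorem norm_F : ∀ x : K, (x * W * x⁻¹).a = 0 → (x * W * x⁻¹).b = 0 → IsV (x * x) = true := by
  decide +kernel

theorem comm_F : ∀ x : K, x.a = x.b → x.i = false → IsV (x * W * x⁻¹ * W⁻¹) = true := by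
  decide +kernel

theorem comm_F2 : ∀ x : K, x.a = x.b → IsV (x * W * x⁻¹ * W⁻¹) = true := by
  decide +kernel

theorem comm_X1 : ∀ x : K, x.i = false →
    IsV (x * ⟨1, 0, 0, false⟩ * x⁻¹ * (⟨1, 0, 0, false⟩ : K)⁻¹) = true := by
  decide +kernel

theorem conj_V : ∀ (x : K) (c : F4), x * ⟨0, 0, c, false⟩ * x⁻¹ = ⟨0, 0, c, false⟩ := by
  intro x
  revert x; decide +kernel

theorem key1 : ∀ v a b c a' b' c' : F4, a * b ≠ 0 → a' * b' ≠ 0 → (a + a') * (b + b') ≠ 0 →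
    (1 + a) * b = 0 → (1 + a') * b' = 0 → False := by
  intro v a b c a' b' c' h1 h2 h3 h4 h5
  revert a b a' b'; decide +kernel

theorem trans_W : ∀ a c : F4, (⟨a, a, 0, false⟩ : K) * ⟨0, 0, c, true⟩ * (⟨a, a, 0, false⟩ : K)⁻¹ =
    ⟨0, 0, c + a * a, true⟩ := by
  decide +kernel

theorem trans_W0 : ∀ a : F4, (⟨a, a, 0, false⟩ : K) * W * (⟨a, a, 0, false⟩ : K)⁻¹ =
    W * ⟨0, 0, a * a, false⟩ := by
  decide +kernel

theorem mul_z : ∀ b c : F4, (⟨0, 0, c + b, true⟩ : K) = ⟨0, 0, c, true⟩ * ⟨0, 0, b, false⟩ := by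
  decide +kernel

theorem wne : ∀ ε : F4, ε ≠ 0 → F4.w * ε ≠ 0 := by decide

theorem wne2 : ∀ ε : F4, ε ≠ 0 → F4.w * ε + ε ≠ 0 := by decide

theorem fr_sq : ∀ a : F4, fr a * fr a = a := by decide

theorem sq_false (a b c : F4) : (⟨a, b, c, false⟩ : K) * ⟨a, b, c, false⟩ =
    ⟨0, 0, a * b, false⟩ := by
  revert a b c; decide +kernel

end K

end Cfsg.Agent.StdAlt.Five.KillModel
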