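import Cfsg.Agent.StdAlt.Five.KillLift
import Cfsg.Agent.StdAlt.Five.KillFacts
import Cfsg.Agent.StdAlt.Five.KillTools
import Cfsg.Agent.S0111

/-!
# S1766, `n = 5`, kill A3: the Sylow 2-subgroup `UT₃(4) : ⟨w⟩`, `w` linear

`HypA3.kill`: there is no such configuration in a group without normal subgroup of index 2.
-/

set_option autoImplicit false

namespace Cfsg.Agent.StdAlt.Five.Kill

open Cfsg.Agent.J2Sylow.Model Cfsg.Agent.J2Sylow.Model.F4 KillModel

variable {G : Type*} [Group G]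

theorem mz : ∀ a b : F4, a * b = 0 → a = 0 ∨ b = 0 := by decide

theorem isV_z : ∀ c : F4, K.IsV ⟨0, 0, c, false⟩ = true := by decide

/-- conjugate of a homomorphism -/
def cjh {A : Type*} [Group A] (φ : A →* G) (g : G) : A →* G := (MulAut.conj g).toMonoidHom.comp φ

theorem cjh_apply {A : Type*} [Group A] (φ : A →* G) (g : G) (x : A) :
    cjh φ g x = g * φ x * g⁻¹ := rfl

/-- `V` in the model -/
def VK : Subgroup K where
  carrier := {x | K.IsV x = true}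
  one_mem' := by decide
  mul_mem' := by
    intro x y (hx : K.IsV x = true) (hy : K.IsV y = true)
    change K.IsV (x * y) = true
    rw [K.isV_iff] at hx hy
    rw [hx, hy]
    generalize x.c = c
    generalize y.c = d
    revert c d; decide +kernel
  inv_mem' := by
    intro x (hx : K.IsV x = true)
    change K.IsV x⁻¹ = true
    rw [K.isV_iff] at hx
    rw [hx]
    generalize x.c = c
    revert c; decide +kernel

/-- `P₁` in the model -/
def PK : Subgroup K where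
  carrier := {x | x.i = false}
  one_mem' := rfl
  mul_mem' := by
    rintro ⟨a, b, c, i⟩ ⟨a', b', c', i'⟩ (hx : i = false) (hy : i' = false)
    subst hx; subst hy; rfl
  inv_mem' := by
    rintro ⟨a, b, c, i⟩ (hx : i = false)
    subst hx; rfl

/-- `F8` in the model -/
def FK : Subgroup K where
  carrier := {x | x.a = 0 ∧ x.b = 0}
  one_mem' := ⟨rfl, rfl⟩
  mul_mem' := by
    rintro ⟨a, b, c, i⟩ ⟨a', b', c', i'⟩ ⟨h1, h2⟩ ⟨h3, h4⟩
    simp only at h1 h2 h3 h4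
    subst h1 h2 h3 h4
    revert c c' i i'; decide +kernel
  inv_mem' := by
    rintro ⟨a, b, c, i⟩ ⟨h1, h2⟩
    simp only at h1 h2
    subst h1 h2
    revert c i; decide +kernel

/-- the centralizer of `W` modulo `V` -/
def DK : Subgroup K where
  carrier := {x | x.a = x.b}
  one_mem' := rfl
  mul_mem' := by
    rintro ⟨a, b, c, i⟩ ⟨a', b', c', i'⟩ (h1 : a = b) (h2 : a' = b')
    subst h1 h2
    cases i
    · rfl
    · rfl
  inv_mem' := by
    rintro ⟨a, b, c, i⟩ (h1 : a = b)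
    subst h1
    cases i <;> rfl

theorem card_PK : Nat.card PK = 64 := by
  rw [Nat.card_congr (show PK ≃ {x : K // x.i = false} from Equiv.subtypeEquivRight (fun _ => Iff.rfl)),
    Nat.card_eq_fintype_card, Fintype.card_subtype]
  decide +kernel

theorem card_FK : Nat.card FK = 8 := by
  rw [Nat.card_congr (show FK ≃ {x : K // x.a = 0 ∧ x.b = 0} from
    Equiv.subtypeEquivRight (fun _ => Iff.rfl)), Nat.card_eq_fintype_card, Fintype.card_subtype]
  decide +kernel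

theorem card_VK : Nat.card VK = 4 := by
  rw [Nat.card_congr (show VK ≃ {x : K // K.IsV x = true} from
    Equiv.subtypeEquivRight (fun _ => Iff.rfl)), Nat.card_eq_fintype_card, Fintype.card_subtype]
  decide +kernel

theorem card_K : Nat.card K = 128 := by
  rw [Nat.card_eq_fintype_card]
  decide +kernel

theorem pgroup_K : IsPGroup 2 K := IsPGroup.of_card (n := 7) (by rw [card_K]; norm_num)

/-- the hypotheses of A3 -/
structure HypA3 [Finite G] (S : Sylow 2 G) (X Y Z : F4 → G) (W : G) : Prop where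
  lin : Lin X Y Z W
  mem : ∀ g, g ∈ (S : Subgroup G) ↔ ∃ x, kFun X Y Z W x = g
  cX : ∀ a c, a ≠ 0 → IsConj (X 1) (X a * Z c)
  nZ : ∀ c, c ≠ 0 → ¬ IsConj (X 1) (Z c)
  cent : ∀ Q : Subgroup G, IsPGroup 2 Q → (∀ q ∈ Q, q * X 1 = X 1 * q) →
    ∃ k : G, k * X 1 = X 1 * k ∧ ∀ q ∈ Q, ∃ a c, k * q * k⁻¹ = X a * Z c

namespace HypA3

variable [Finite G] {S : Sylow 2 G} {X Y Z : F4 → G} {W : G}

theorem S_mem (h : HypA3 S X Y Z W) (x : K) : h.lin.hom x ∈ (S : Subgroup G) := (h.mem _).mpr ⟨x, rfl⟩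

theorem S_ex (h : HypA3 S X Y Z W) {g : G} (hg : g ∈ (S : Subgroup G)) : ∃ x, h.lin.hom x = g :=
  (h.mem _).mp hg

theorem map_pgroup (h : HypA3 S X Y Z W) (A : Subgroup K) (g : G) :
    IsPGroup 2 (A.map (cjh h.lin.hom g)) := (pgroup_K.to_subgroup A).map _

theorem memV (h : HypA3 S X Y Z W) {y : G} : y ∈ VK.map h.lin.hom ↔ ∃ c, Z c = y := by
  constructor
  · rintro ⟨x, hx, rfl⟩
    refine ⟨x.c, ?_⟩
    rw [(K.isV_iff x).mp hx, h.lin.hom_Z]
  · rintro ⟨c, rfl⟩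
    exact ⟨⟨0, 0, c, false⟩, by change K.IsV _ = true; revert c; decide, h.lin.hom_Z c⟩

theorem norm_V (h : HypA3 S X Y Z W) {g : G} (hg : ∀ c, ∃ c', g * Z c * g⁻¹ = Z c') :
    g ∈ Subgroup.normalizer ((VK.map h.lin.hom : Subgroup G) : Set G) := by
  have : Finite ((VK.map h.lin.hom : Subgroup G) : Set G) := Set.toFinite _
  apply Subgroup.mem_normalizer_fintype
  intro n hn
  obtain ⟨c, rfl⟩ := h.memV.mp hn
  obtain ⟨c', hc'⟩ := hg c
  exact h.memV.mpr ⟨c', hc'.symm⟩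

theorem S_norm (h : HypA3 S X Y Z W) (x : K) :
    h.lin.hom x ∈ Subgroup.normalizer ((VK.map h.lin.hom : Subgroup G) : Set G) := by
  apply h.norm_V
  intro c
  refine ⟨c, ?_⟩
  rw [← h.lin.hom_Z c, ← map_inv, ← map_mul, ← map_mul, K.conj_V]

/-- `W` is not conjugate to `X 1` -/
theorem W_nX (h : HypA3 S X Y Z W) : ¬ IsConj (X 1) W := by
  intro hc
  have hc' := hc.symm
  rw [isConj_iff] at hc'
  obtain ⟨g, hg⟩ := hc'
  have hW : h.lin.hom K.W = W := h.lin.hom_W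
  have hX : h.lin.hom ⟨1, 0, 0, false⟩ = X 1 := h.lin.hom_X 1
  obtain ⟨k, hk, hkQ⟩ := h.cent (FK.map (cjh h.lin.hom g)) (h.map_pgroup _ _) (by
    rintro _ ⟨x, hx, rfl⟩
    have h1 : x * K.W = K.W * x := K.of_comm_W x hx.1 hx.2
    have h2 : h.lin.hom x * W = W * h.lin.hom x := by
      have h3 := congrArg h.lin.hom h1
      rwa [map_mul, map_mul, hW] at h3
    rw [cjh_apply, ← hg]
    calc g * h.lin.hom x * g⁻¹ * (g * W * g⁻¹) = g * (h.lin.hom x * W) * g⁻¹ := by group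
      _ = g * (W * h.lin.hom x) * g⁻¹ := by rw [h2]
      _ = _ := by group)
  set g1 := k * g with hg1d
  have hg1 : g1 * W * g1⁻¹ = X 1 := by
    calc g1 * W * g1⁻¹ = k * (g * W * g⁻¹) * k⁻¹ := by rw [hg1d]; group
      _ = k * X 1 * k⁻¹ := by rw [hg]
      _ = X 1 := by rw [hk]; group
  have hV1 : ∀ c, ∃ c', g1 * Z c * g1⁻¹ = Z c' := by
    intro c
    by_cases hc0 : c = 0
    · exact ⟨0, by rw [hc0, h.lin.Z0]; group⟩
    obtain ⟨a, c', e⟩ := hkQ (g * Z c * g⁻¹) ⟨⟨0, 0, c, false⟩, ⟨rfl, rfl⟩, by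
      rw [cjh_apply, h.lin.hom_Z]⟩
    have e' : g1 * Z c * g1⁻¹ = X a * Z c' := by rw [← e, hg1d]; group
    by_cases ha : a = 0
    · exact ⟨c', by rw [e', ha, h.lin.X0, one_mul]⟩
    · exfalso
      apply h.nZ c hc0
      refine (h.cX a c' ha).trans (IsConj.symm ?_)
      rw [isConj_iff]
      exact ⟨g1, e'⟩
  set V : Subgroup G := VK.map h.lin.hom with hVd
  have hg1N := h.norm_V hV1
  have hSN : (S : Subgroup G) ≤ Subgroup.normalizer (V : Set G) := by
    intro s hs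
    obtain ⟨x, rfl⟩ := h.S_ex hs
    exact h.S_norm x
  -- `P₁`
  set P : Subgroup G := PK.map h.lin.hom with hPd
  have hPD : P ≤ modCent V (X 1) := by
    rintro _ ⟨x, hx, rfl⟩
    refine ⟨h.S_norm x, ⟨_, K.comm_X1 x hx, ?_⟩⟩
    simp only [map_mul, map_inv, hX]
  have hmax : ∀ R' : Subgroup G, R' ≤ modCent V (X 1) → IsPGroup 2 R' → P ≤ R' → R' ≤ P := by
    intro R' hR' hpR' hPR'
    obtain ⟨n, hn, hnS⟩ := conj_into S hSN hpR' (fun r hr => (hR' hr).1)
    have hXP : X 1 ∈ P := ⟨_, show (⟨1, 0, 0, false⟩ : K) ∈ PK from rfl, hX⟩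
    obtain ⟨τ, hτ⟩ := h.S_ex (hnS _ (hPR' hXP))
    have hX2 : X 1 * X 1 = 1 := by
      rw [h.lin.XX, F4.add_self, h.lin.X0]
    have hττ : τ * τ = 1 := by
      apply h.lin.hom_inj
      rw [map_mul, hτ, map_one]
      calc n * X 1 * n⁻¹ * (n * X 1 * n⁻¹) = n * (X 1 * X 1) * n⁻¹ := by group
        _ = 1 := by rw [hX2]; group
    have hτV : K.IsV τ = false := by
      rw [Bool.eq_false_iff]
      intro hv
      have e1 : h.lin.hom τ = Z τ.c := by
        rw [(K.isV_iff τ).mp hv, h.lin.hom_Z]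
      by_cases h0 : τ.c = 0
      · rw [h0, h.lin.Z0, hτ] at e1
        have e2 : X 1 = 1 := by
          have : X 1 = n⁻¹ * (n * X 1 * n⁻¹) * n := by group
          rw [this, e1]; group
        rw [← hX] at e2
        have e3 : (⟨1, 0, 0, false⟩ : K) = 1 := h.lin.hom_inj (by rw [e2, map_one])
        revert e3; decide
      · apply h.nZ τ.c h0
        rw [← e1, hτ, isConj_iff]
        exact ⟨n, rfl⟩
    have hcard : Nat.card R' ≤ 64 := by
      have hf : ∀ r : R', ∃ x : K, h.lin.hom x = n * r * n⁻¹ := fun r => h.S_ex (hnS _ r.2)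
      choose f hf using hf
      have hfV : ∀ r, f r ∈ Finset.univ.filter (fun x : K => K.IsV (x * τ * x⁻¹ * τ⁻¹) = true) := by
        intro r
        rw [Finset.mem_filter]
        refine ⟨Finset.mem_univ _, ?_⟩
        obtain ⟨_, hr2⟩ := hR' r.2
        have h3 := (Subgroup.mem_normalizer_iff.mp hn _).mp hr2
        obtain ⟨y, hy, hy2⟩ := h3
        have : f r * τ * (f r)⁻¹ * τ⁻¹ = y := by
          apply h.lin.hom_inj
          rw [hy2]
          simp only [map_mul, map_inv, hf, hτ]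
          group
        rw [this]
        exact hy
      have hinj : Function.Injective (fun r : R' => (⟨f r, hfV r⟩ :
          {x // x ∈ Finset.univ.filter (fun x : K => K.IsV (x * τ * x⁻¹ * τ⁻¹) = true)})) := by
        intro r r' hrr
        have h1 : f r = f r' := congrArg Subtype.val hrr
        have h2 : n * (r : G) * n⁻¹ = n * (r' : G) * n⁻¹ := by rw [← hf, ← hf, h1]
        apply Subtype.ext
        have h3 := mul_right_cancel h2
        exact mul_left_cancel h3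
      have hle := Nat.card_le_card_of_injective _ hinj
      refine hle.trans ?_
      rw [Nat.card_eq_fintype_card, Fintype.card_coe]
      exact K.card_comm τ hττ hτV
    have hPc : Nat.card P = 64 := by
      rw [hPd, Subgroup.card_map_of_injective h.lin.hom_inj, card_PK]
    exact (Subgroup.eq_of_le_of_card_ge hPR' (by rw [hPc]; exact hcard)).ge
  have hDle : DK.map (cjh h.lin.hom g1) ≤ modCent V (X 1) := by
    rintro _ ⟨x, hx, rfl⟩
    rw [mem_modCent, cjh_apply]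
    refine ⟨Subgroup.mul_mem _ (Subgroup.mul_mem _ hg1N (h.S_norm x)) (Subgroup.inv_mem _ hg1N), ?_⟩
    have h1 : K.IsV (x * K.W * x⁻¹ * K.W⁻¹) = true := K.comm_F2 x hx
    have h2 : h.lin.hom (x * K.W * x⁻¹ * K.W⁻¹) ∈ V := ⟨_, h1, rfl⟩
    have h3 := (Subgroup.mem_normalizer_iff.mp hg1N _).mp h2
    simp only [map_mul, map_inv, hW] at h3
    rw [← hg1]
    have e : g1 * h.lin.hom x * g1⁻¹ * (g1 * W * g1⁻¹) * (g1 * h.lin.hom x * g1⁻¹)⁻¹ *
        (g1 * W * g1⁻¹)⁻¹ = g1 * (h.lin.hom x * W * (h.lin.hom x)⁻¹ * W⁻¹) * g1⁻¹ := by group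
    rw [e]; exact h3
  obtain ⟨d, hd, hdP⟩ := conj_into_max hPD
    ((pgroup_K.to_subgroup PK).map _) hmax (h.map_pgroup DK g1) hDle
  obtain ⟨hdN, hdX⟩ := hd
  obtain ⟨v, hv⟩ := h.memV.mp hdX
  set g2 := d * g1 with hg2d
  have hW2 : g2 * W * g2⁻¹ = h.lin.hom ⟨1, 0, v, false⟩ := by
    have e1 : g2 * W * g2⁻¹ = d * X 1 * d⁻¹ := by rw [← hg1, hg2d]; group
    have e2 : d * X 1 * d⁻¹ = Z v * X 1 := by rw [hv]; group
    have e3 : h.lin.hom ⟨1, 0, v, false⟩ = X 1 * Z v := by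
      simp [Lin.hom_apply, h.lin.Y0]
    rw [e1, e2, e3, h.lin.ZX]
  have hconj : ∀ x : K, x ∈ DK → ∃ y ∈ PK, h.lin.hom y = g2 * h.lin.hom x * g2⁻¹ := by
    intro x hx
    obtain ⟨y, hy, hy2⟩ := hdP (g1 * h.lin.hom x * g1⁻¹) ⟨x, hx, rfl⟩
    exact ⟨y, hy, by rw [hy2, hg2d]; group⟩
  have hrel : ∀ x y : K, h.lin.hom y = g2 * h.lin.hom x * g2⁻¹ → (x * x = 1 ↔ y * y = 1) := by
    intro x y hxy
    constructor
    · intro hx
      apply h.lin.hom_inj
      rw [map_mul, hxy, map_one]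
      calc g2 * h.lin.hom x * g2⁻¹ * (g2 * h.lin.hom x * g2⁻¹) =
          g2 * (h.lin.hom x * h.lin.hom x) * g2⁻¹ := by group
        _ = 1 := by rw [← map_mul, hx, map_one]; group
    · intro hy
      apply h.lin.hom_inj
      rw [map_mul, map_one]
      calc h.lin.hom x * h.lin.hom x = g2⁻¹ * ((g2 * h.lin.hom x * g2⁻¹) *
          (g2 * h.lin.hom x * g2⁻¹)) * g2 := by group
        _ = 1 := by rw [← hxy, ← map_mul, hy, map_one]; group
  obtain ⟨⟨a, b, c, i⟩, hπ, hπ2⟩ := hconj ⟨1, 1, 0, false⟩ rfl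
  obtain ⟨⟨a', b', c', i'⟩, hκ, hκ2⟩ := hconj ⟨F4.w, F4.w, 0, false⟩ rfl
  change i = false at hπ
  change i' = false at hκ
  subst hπ hκ
  have e1 : ¬ ((⟨a, b, c, false⟩ : K) * ⟨a, b, c, false⟩ = 1) := by
    rw [← hrel _ _ hπ2]; decide
  have e2 : ¬ ((⟨a', b', c', false⟩ : K) * ⟨a', b', c', false⟩ = 1) := by
    rw [← hrel _ _ hκ2]; decide
  have hπκ : h.lin.hom ((⟨a, b, c, false⟩ : K) * ⟨a', b', c', false⟩) =
      g2 * h.lin.hom ((⟨1, 1, 0, false⟩ : K) * ⟨F4.w, F4.w, 0, false⟩) * g2⁻¹ := by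
    rw [map_mul, hπ2, hκ2, map_mul]; group
  have e3 : ¬ (((⟨a, b, c, false⟩ : K) * ⟨a', b', c', false⟩) *
      ((⟨a, b, c, false⟩ : K) * ⟨a', b', c', false⟩) = 1) := by
    rw [← hrel _ _ hπκ]; decide
  have hWπ : h.lin.hom ((⟨1, 0, v, false⟩ : K) * ⟨a, b, c, false⟩) =
      g2 * h.lin.hom (K.W * ⟨1, 1, 0, false⟩) * g2⁻¹ := by
    rw [map_mul, ← hW2, hπ2, map_mul, hW]; group
  have hWκ : h.lin.hom ((⟨1, 0, v, false⟩ : K) * ⟨a', b', c', false⟩) =
      g2 * h.lin.hom (K.W * ⟨F4.w, F4.w, 0, false⟩) * g2⁻¹ := by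
    rw [map_mul, ← hW2, hκ2, map_mul, hW]; group
  have e4 := (hrel _ _ hWπ).mp (by decide)
  have e5 := (hrel _ _ hWκ).mp (by decide)
  rw [K.mul_false] at e3 e4 e5
  simp only at e3 e4 e5
  rw [K.sq_false] at e1 e2 e3 e4 e5
  have hz : ∀ t : F4, (⟨0, 0, t, false⟩ : K) = 1 ↔ t = 0 := by decide
  rw [hz] at e1 e2 e3 e4 e5
  rw [zero_add] at e4 e5
  exact K.key1 v a b c a' b' c' e1 e2 e3 e4 e5

theorem Y_conj (h : HypA3 S X Y Z W) (b c : F4) (hb : b ≠ 0) : IsConj (X 1) (Y b * Z c) := by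
  refine (h.cX b c hb).trans ?_
  rw [isConj_iff]
  refine ⟨W, ?_⟩
  have h1 : W * (X b * Z c) = Y b * Z c * W := by
    rw [← mul_assoc, h.lin.WX, mul_assoc, h.lin.WZ, mul_assoc]
  rw [h1]; group

theorem sq_lift (h : HypA3 S X Y Z W) {ξ : K} : h.lin.hom ξ * h.lin.hom ξ = 1 ↔ ξ * ξ = 1 := by
  rw [← map_mul]
  constructor
  · intro hx; apply h.lin.hom_inj; rw [hx, map_one]
  · intro hx; rw [hx, map_one]

theorem P_nonpure (h : HypA3 S X Y Z W) {ξ : K} (hi : ξ.i = false) (h2 : ξ * ξ = 1)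
    (hn : ¬ IsConj (X 1) (h.lin.hom ξ)) : K.IsV ξ = true := by
  obtain ⟨a, b, c, i⟩ := ξ
  change i = false at hi
  subst hi
  rw [K.sq_false] at h2
  have h3 : a * b = 0 := congrArg K.c h2
  have h4 : a = 0 ∨ b = 0 := mz a b h3
  by_cases ha : a = 0
  · by_cases hb : b = 0
    · subst ha hb
      exact isV_z c
    · exfalso
      apply hn
      have : h.lin.hom ⟨a, b, c, false⟩ = Y b * Z c := by
        simp [Lin.hom_apply, ha, h.lin.X0]
      rw [this]
      exact h.Y_conj b c hb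
  · exfalso
    have hb : b = 0 := h4.resolve_left ha
    apply hn
    have : h.lin.hom ⟨a, b, c, false⟩ = X a * Z c := by
      simp [Lin.hom_apply, hb, h.lin.Y0]
    rw [this]
    exact h.cX a c ha

/-- elementary abelian subgroups of order 8 without conjugates of `X 1` -/
theorem pure (h : HypA3 S X Y Z W) {A : Subgroup G} (hAS : A ≤ (S : Subgroup G))
    (h8 : Nat.card A = 8) (hel : ∀ x ∈ A, x * x = 1) (hp : ∀ x ∈ A, ¬ IsConj (X 1) x) :
    ∃ p ∈ PK, ∀ x, x ∈ A ↔ h.lin.hom p * x * (h.lin.hom p)⁻¹ ∈ FK.map h.lin.hom := by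
  have hcomm : ∀ x ∈ A, ∀ y ∈ A, x * y = y * x := by
    intro x hx y hy
    have h1 := hel _ (A.mul_mem hx hy)
    have h2 := hel _ hx
    have h3 := hel _ hy
    calc x * y = x * (x * y * (x * y)) * y := by rw [h1, mul_one]
      _ = (x * x) * y * x * (y * y) := by simp only [mul_assoc]
      _ = y * x := by rw [h2, h3, one_mul, mul_one]
  by_cases hall : ∀ x ∈ A, ∃ ξ ∈ PK, h.lin.hom ξ = x
  · exfalso
    have hle : A ≤ VK.map h.lin.hom := by
      intro x hx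
      obtain ⟨ξ, hξ, rfl⟩ := hall x hx
      exact ⟨ξ, h.P_nonpure hξ (h.sq_lift.mp (hel _ hx)) (hp _ hx), rfl⟩
    have h1 := Subgroup.card_le_of_le hle
    rw [h8, Subgroup.card_map_of_injective h.lin.hom_inj, card_VK] at h1
    omega
  · push Not at hall
    obtain ⟨x, hx, hx2⟩ := hall
    obtain ⟨ξ, rfl⟩ := h.S_ex (hAS hx)
    have hi : ξ.i = true := by
      cases hi : ξ.i
      · exact absurd rfl (hx2 ξ hi)
      · rfl
    obtain ⟨a, b, hab⟩ := K.conj_W ξ (h.sq_lift.mp (hel _ hx)) hi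
    refine ⟨⟨a, b, 0, false⟩, rfl, ?_⟩
    set p : K := ⟨a, b, 0, false⟩ with hpd
    have hle : A.map (MulAut.conj (h.lin.hom p)).toMonoidHom ≤ FK.map h.lin.hom := by
      rintro _ ⟨y, hy, rfl⟩
      obtain ⟨η, rfl⟩ := h.S_ex (hAS hy)
      refine ⟨p * η * p⁻¹, ?_, by simp⟩
      apply K.comm_W
      have h1 : η * ξ = ξ * η := by
        apply h.lin.hom_inj
        rw [map_mul, map_mul]
        exact hcomm _ hy _ hx
      rw [← hab]
      calc p * η * p⁻¹ * (p * ξ * p⁻¹) = p * (η * ξ) * p⁻¹ := by group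
        _ = p * (ξ * η) * p⁻¹ := by rw [h1]
        _ = _ := by group
    have heq : A.map (MulAut.conj (h.lin.hom p)).toMonoidHom = FK.map h.lin.hom := by
      apply Subgroup.eq_of_le_of_card_ge hle
      rw [Subgroup.card_map_of_injective h.lin.hom_inj, card_FK,
        Subgroup.card_map_of_injective (MulAut.conj (h.lin.hom p)).injective, h8]
    intro y
    rw [← heq]
    constructor
    · intro hy; exact ⟨y, hy, rfl⟩
    · rintro ⟨z, hz, hz2⟩
      have h3 : h.lin.hom p * z * (h.lin.hom p)⁻¹ = h.lin.hom p * y * (h.lin.hom p)⁻¹ := hz2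
      have h4 := mul_left_cancel (mul_right_cancel h3)
      rw [← h4]; exact hz

/-- the elements of `F8` have square one -/
theorem F_sq (h : HypA3 S X Y Z W) {x : G} (hx : x ∈ FK.map h.lin.hom) : x * x = 1 := by
  obtain ⟨ξ, ⟨h1, h2⟩, rfl⟩ := hx
  rw [h.sq_lift]
  obtain ⟨a, b, c, i⟩ := ξ
  simp only at h1 h2
  subst h1 h2
  revert c i; decide +kernel

/-- `F8` contains no conjugate of `X 1` -/
theorem F_pure (h : HypA3 S X Y Z W) {x : G} (hx : x ∈ FK.map h.lin.hom) : ¬ IsConj (X 1) x := by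
  have hx2 := h.F_sq hx
  obtain ⟨ξ, ⟨h1, h2⟩, rfl⟩ := hx
  intro hc
  cases hi : ξ.i
  · have e : h.lin.hom ξ = Z ξ.c := by
      rw [Lin.hom_apply, h1, h2, hi]
      simp [h.lin.X0, h.lin.Y0]
    by_cases h0 : ξ.c = 0
    · rw [e, h0, h.lin.Z0, isConj_one_left] at hc
      rw [← h.lin.hom_X 1] at hc
      have e3 : (⟨1, 0, 0, false⟩ : K) = 1 := h.lin.hom_inj (by rw [hc, map_one])
      revert e3; decide
    · exact h.nZ _ h0 (e ▸ hc)
  · obtain ⟨a, b, hab⟩ := K.conj_W ξ (h.sq_lift.mp hx2) hi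
    apply h.W_nX
    refine hc.trans ?_
    rw [isConj_iff]
    refine ⟨h.lin.hom ⟨a, b, 0, false⟩, ?_⟩
    rw [← map_inv, ← map_mul, ← map_mul, hab]
    exact h.lin.hom_W

/-- conjugates of `F8` in `S` -/
theorem F_conj (h : HypA3 S X Y Z W) (g : G)
    (hg : ∀ x ∈ FK.map h.lin.hom, g * x * g⁻¹ ∈ (S : Subgroup G)) :
    ∃ p ∈ PK, h.lin.hom p * g ∈ Subgroup.normalizer ((FK.map h.lin.hom : Subgroup G) : Set G) := by
  set A : Subgroup G := (FK.map h.lin.hom).map (MulAut.conj g).toMonoidHom with hA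
  obtain ⟨p, hp, hp2⟩ := h.pure (A := A) (by
      rintro _ ⟨x, hx, rfl⟩; exact hg x hx) (by
      rw [hA, Subgroup.card_map_of_injective (MulAut.conj g).injective,
        Subgroup.card_map_of_injective h.lin.hom_inj, card_FK]) (by
      rintro _ ⟨x, hx, rfl⟩
      change g * x * g⁻¹ * (g * x * g⁻¹) = 1
      calc g * x * g⁻¹ * (g * x * g⁻¹) = g * (x * x) * g⁻¹ := by group
        _ = 1 := by rw [h.F_sq hx]; group) (by
      rintro _ ⟨x, hx, rfl⟩ hc
      apply h.F_pure hx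
      refine hc.trans (IsConj.symm ?_)
      rw [isConj_iff]
      exact ⟨g, rfl⟩)
  refine ⟨p, hp, ?_⟩
  rw [Subgroup.mem_normalizer_iff]
  intro x
  have e : h.lin.hom p * g * x * (h.lin.hom p * g)⁻¹ =
      h.lin.hom p * (g * x * g⁻¹) * (h.lin.hom p)⁻¹ := by group
  rw [e, ← hp2]
  constructor
  · intro hx; exact ⟨x, hx, rfl⟩
  · rintro ⟨z, hz, hz2⟩
    have h3 : g * z * g⁻¹ = g * x * g⁻¹ := hz2
    have h4 := mul_left_cancel (mul_right_cancel h3)
    rw [← h4]; exact hz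

/-- squares of 2-elements normalizing `F8` centralize `F8` -/
theorem sq_comm (h : HypA3 S X Y Z W) {x : G}
    (hx : x ∈ Subgroup.normalizer ((FK.map h.lin.hom : Subgroup G) : Set G)) {k : ℕ}
    (h2 : x ^ 2 ^ k = 1) {y : G} (hy : y ∈ FK.map h.lin.hom) : Commute (x * x) y := by
  set F : Subgroup G := FK.map h.lin.hom with hF
  have hz : IsPGroup 2 (Subgroup.zpowers x) := by
    rintro ⟨z, hz⟩
    obtain ⟨i, rfl⟩ := Subgroup.mem_zpowers_iff.mp hz
    refine ⟨k, ?_⟩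
    apply Subtype.ext
    change (x ^ i) ^ 2 ^ k = 1
    rw [← zpow_natCast, ← zpow_mul, mul_comm, zpow_mul, zpow_natCast, h2, one_zpow]
  have hQ := hz.to_sup_of_normal_right' ((pgroup_K.to_subgroup FK).map h.lin.hom)
    (by rw [Subgroup.zpowers_le]; exact hx)
  obtain ⟨n, -, hn⟩ := conj_into S (H := ⊤) le_top hQ le_top
  obtain ⟨p, hp, hpn⟩ := h.F_conj n (fun z hz => hn z (Subgroup.mem_sup_right hz))
  set m := h.lin.hom p * n with hm
  have hxS : m * x * m⁻¹ ∈ (S : Subgroup G) := by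
    have e : m * x * m⁻¹ = h.lin.hom p * (n * x * n⁻¹) * (h.lin.hom p)⁻¹ := by rw [hm]; group
    rw [e]
    exact (S : Subgroup G).mul_mem ((S : Subgroup G).mul_mem (h.S_mem p)
      (hn x (Subgroup.mem_sup_left (Subgroup.mem_zpowers x)))) ((S : Subgroup G).inv_mem (h.S_mem p))
  obtain ⟨ξ, hξ⟩ := h.S_ex hxS
  have hξN : m * x * m⁻¹ ∈ Subgroup.normalizer (F : Set G) :=
    Subgroup.mul_mem _ (Subgroup.mul_mem _ hpn hx) (Subgroup.inv_mem _ hpn)
  have hWF : h.lin.hom K.W ∈ F := ⟨K.W, ⟨rfl, rfl⟩, rfl⟩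
  have h3 := (Subgroup.mem_normalizer_iff.mp hξN _).mp hWF
  rw [← hξ, ← map_inv, ← map_mul, ← map_mul] at h3
  obtain ⟨η, ⟨hη1, hη2⟩, hη⟩ := h3
  have h4 := h.lin.hom_inj hη
  rw [h4] at hη1 hη2
  have h5 := K.norm_F ξ hη1 hη2
  have h6 := (Subgroup.mem_normalizer_iff.mp hpn y).mp hy
  obtain ⟨ζ, -, hζ⟩ := h6
  have h7 : Commute (h.lin.hom (ξ * ξ)) (h.lin.hom ζ) := by
    change _ * _ = _ * _
    have h8 := K.conj_V ζ (ξ * ξ).c
    rw [← (K.isV_iff _).mp h5, mul_inv_eq_iff_eq_mul] at h8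
    rw [← map_mul, ← map_mul, ← h8]
  rw [map_mul, hξ, hζ] at h7
  have h9 : m * x * m⁻¹ * (m * x * m⁻¹) = m * (x * x) * m⁻¹ := by group
  rw [h9] at h7
  exact (Commute.conj_iff m).mp h7

/-- `W` is not conjugate to an element of `Z` -/
theorem W_nZ (h : HypA3 S X Y Z W) {b : F4} : ¬ IsConj W (Z b) := by
  intro hc
  rw [isConj_iff] at hc
  obtain ⟨g, hg⟩ := hc
  set F : Subgroup G := FK.map h.lin.hom with hF
  have hW : h.lin.hom K.W = W := h.lin.hom_W
  have hZc : ∀ (p : K) (c : F4), h.lin.hom p * Z c = Z c * h.lin.hom p := by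
    intro p c
    have h8 := K.conj_V p c
    rw [mul_inv_eq_iff_eq_mul] at h8
    have h9 := congrArg h.lin.hom h8
    rwa [map_mul, map_mul, h.lin.hom_Z] at h9
  obtain ⟨k, hk, hkS⟩ := conj_into S (H := Subgroup.centralizer {Z b})
    (Q := F.map (MulAut.conj g).toMonoidHom) (by
      intro s hs
      obtain ⟨x, rfl⟩ := h.S_ex hs
      rw [Subgroup.mem_centralizer_singleton_iff]
      exact hZc x b) (((pgroup_K.to_subgroup FK).map _).map _) (by
      rintro _ ⟨_, ⟨x, hx, rfl⟩, rfl⟩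
      rw [Subgroup.mem_centralizer_singleton_iff]
      change g * h.lin.hom x * g⁻¹ * Z b = Z b * (g * h.lin.hom x * g⁻¹)
      have h3 := congrArg h.lin.hom (K.of_comm_W x hx.1 hx.2)
      rw [map_mul, map_mul, hW] at h3
      rw [← hg]
      calc g * h.lin.hom x * g⁻¹ * (g * W * g⁻¹) = g * (h.lin.hom x * W) * g⁻¹ := by group
        _ = g * (W * h.lin.hom x) * g⁻¹ := by rw [h3]
        _ = _ := by group)
  rw [Subgroup.mem_centralizer_singleton_iff] at hk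
  obtain ⟨p, hp, hpn⟩ := h.F_conj (k * g) (fun x hx => by
    have := hkS (g * x * g⁻¹) ⟨x, hx, rfl⟩
    have e : k * g * x * (k * g)⁻¹ = k * (g * x * g⁻¹) * k⁻¹ := by group
    rw [e]; exact this)
  set m := h.lin.hom p * (k * g) with hm
  have hmW : m * W * m⁻¹ = Z b := by
    calc m * W * m⁻¹ = h.lin.hom p * (k * (g * W * g⁻¹) * k⁻¹) * (h.lin.hom p)⁻¹ := by
          rw [hm]; group
      _ = h.lin.hom p * Z b * (h.lin.hom p)⁻¹ := by rw [hg, hk]; group
      _ = Z b := by rw [hZc]; group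
  -- the images of the elements of `Z`
  have hf : ∀ c, ∃ x ∈ FK, h.lin.hom x = m * Z c * m⁻¹ := by
    intro c
    have h1 : Z c ∈ F := ⟨⟨0, 0, c, false⟩, ⟨rfl, rfl⟩, h.lin.hom_Z c⟩
    exact (Subgroup.mem_normalizer_iff.mp hpn _).mp h1
  choose f hfF hf using hf
  have hfadd : ∀ c d, f (c + d) = f c * f d := by
    intro c d
    apply h.lin.hom_inj
    rw [map_mul, hf, hf, hf, ← h.lin.ZZ]; group
  have hf0 : f 0 = 1 := by
    apply h.lin.hom_inj
    rw [hf, h.lin.Z0, map_one]; group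
  have hfi : ∀ c d, (f (c + d)).i = xor (f c).i (f d).i := by
    intro c d
    rw [hfadd]
    generalize f c = x
    generalize f d = y
    obtain ⟨a, b, c, i⟩ := x
    cases i
    · rw [K.mul_false]; simp
    · rw [K.mul_true]; simp
  have hfz : ∀ c, (f c).i = false → m * Z c * m⁻¹ = Z (f c).c := by
    intro c hc
    rw [← hf, Lin.hom_apply, (hfF c).1, (hfF c).2, hc]
    simp [h.lin.X0, h.lin.Y0]
  have hfw : ∀ c, (f c).i = true → h.lin.hom ⟨0, 0, (f c).c, true⟩ = m * Z c * m⁻¹ := by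
    intro c hc
    rw [← hf]
    congr 1
    ext
    · exact (hfF c).1.symm
    · exact (hfF c).2.symm
    · rfl
    · exact hc.symm
  obtain ⟨ε, hε⟩ : ∃ ε, (f ε).i = true := by
    by_contra hcon
    push Not at hcon
    have h1 : ∀ c, (f c).i = false := fun c => by simpa using hcon c
    have hinj : Function.Injective (fun c => (f c).c) := by
      intro c d hcd
      have hcd' : (f c).c = (f d).c := hcd
      have h2 : m * Z c * m⁻¹ = m * Z d * m⁻¹ := by rw [hfz c (h1 c), hfz d (h1 d), hcd']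
      have h3 := mul_left_cancel (mul_right_cancel h2)
      rw [← h.lin.hom_Z, ← h.lin.hom_Z] at h3
      exact congrArg K.c (h.lin.hom_inj h3)
    obtain ⟨c, hc⟩ := (Finite.injective_iff_surjective.mp hinj) b
    have h2 : m * Z c * m⁻¹ = m * W * m⁻¹ := by
      rw [hfz c (h1 c), hmW]; exact congrArg Z hc
    have h3 := mul_left_cancel (mul_right_cancel h2)
    rw [← h.lin.hom_Z] at h3
    have h4 : false = true := congrArg K.i (h.lin.hom_inj (h3.trans hW.symm))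
    exact Bool.false_ne_true h4
  have hε0 : ε ≠ 0 := by
    rintro rfl
    rw [hf0] at hε
    exact absurd hε (by decide)
  obtain ⟨γ, hγ0, hγ⟩ : ∃ γ, γ ≠ 0 ∧ (f γ).i = false := by
    cases h1 : (f (F4.w * ε)).i
    · exact ⟨_, K.wne ε hε0, h1⟩
    · refine ⟨F4.w * ε + ε, K.wne2 ε hε0, ?_⟩
      rw [hfi, h1, hε]; rfl
  have hc0 := hfz γ hγ
  set γ' := (f γ).c with hγ'
  have hγ'0 : Z γ' ≠ 1 := by
    intro h1
    rw [h1] at hc0
    have h2 : Z γ = 1 := by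
      have : Z γ = m⁻¹ * (m * Z γ * m⁻¹) * m := by group
      rw [this, hc0]; group
    rw [← h.lin.hom_Z] at h2
    have h3 : (⟨0, 0, γ, false⟩ : K) = 1 := h.lin.hom_inj (by rw [h2, map_one])
    exact hγ0 (congrArg K.c h3)
  set e' := m * Z ε * m⁻¹ with he'
  have hew : h.lin.hom ⟨0, 0, (f ε).c, true⟩ = e' := hfw ε hε
  -- the transvections
  set u := h.lin.hom ⟨fr b, fr b, 0, false⟩ with hu
  set u' := m * h.lin.hom ⟨fr γ, fr γ, 0, false⟩ * m⁻¹ with hu'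
  have hue : u * e' * u⁻¹ = e' * Z b := by
    rw [← hew, hu, ← map_inv, ← map_mul, ← map_mul, K.trans_W, K.fr_sq, ← h.lin.hom_Z b, ← map_mul, K.mul_z]
  have huZ : ∀ c, u * Z c * u⁻¹ = Z c := by
    intro c; rw [hu, hZc]; group
  have hu'e : u' * e' * u'⁻¹ = e' := by
    have h1 := hZc ⟨fr γ, fr γ, 0, false⟩ ε
    calc u' * e' * u'⁻¹ = m * (h.lin.hom ⟨fr γ, fr γ, 0, false⟩ * Z ε) *
          (h.lin.hom ⟨fr γ, fr γ, 0, false⟩)⁻¹ * m⁻¹ := by rw [hu', he']; group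
      _ = e' := by rw [h1, he']; group
  have hu'c : u' * Z γ' * u'⁻¹ = Z γ' := by
    rw [← hc0]
    have h1 := hZc ⟨fr γ, fr γ, 0, false⟩ γ
    calc u' * (m * Z γ * m⁻¹) * u'⁻¹ = m * (h.lin.hom ⟨fr γ, fr γ, 0, false⟩ * Z γ) *
          (h.lin.hom ⟨fr γ, fr γ, 0, false⟩)⁻¹ * m⁻¹ := by rw [hu']; group
      _ = _ := by rw [h1]; group
  have hu'b : u' * Z b * u'⁻¹ = Z b * Z γ' := by
    have h1 : h.lin.hom ⟨fr γ, fr γ, 0, false⟩ * W * (h.lin.hom ⟨fr γ, fr γ, 0, false⟩)⁻¹ =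
        W * Z γ := by
      have h2 := congrArg h.lin.hom (K.trans_W0 (fr γ))
      rwa [map_mul, map_mul, map_mul, map_inv, K.fr_sq, hW, h.lin.hom_Z] at h2
    rw [← hmW, ← hc0]
    calc u' * (m * W * m⁻¹) * u'⁻¹ = m * (h.lin.hom ⟨fr γ, fr γ, 0, false⟩ * W *
          (h.lin.hom ⟨fr γ, fr γ, 0, false⟩)⁻¹) * m⁻¹ := by rw [hu']; group
      _ = m * (W * Z γ) * m⁻¹ := by rw [h1]
      _ = _ := by group
  have hnorm : ∀ a : F4, h.lin.hom ⟨a, a, 0, false⟩ ∈ Subgroup.normalizer (F : Set G) := by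
    intro a
    have : Finite (F : Set G) := Set.toFinite _
    apply Subgroup.mem_normalizer_fintype
    rintro _ ⟨⟨x, y, c, i⟩, ⟨hx, hy⟩, rfl⟩
    simp only at hx hy
    subst hx hy
    refine ⟨(⟨a, a, 0, false⟩ : K) * ⟨0, 0, c, i⟩ * (⟨a, a, 0, false⟩ : K)⁻¹, ?_, by simp⟩
    cases i
    · rw [K.conj_V]; exact ⟨rfl, rfl⟩
    · rw [K.trans_W]; exact ⟨rfl, rfl⟩
  set y := u * u' with hy
  have hyN : y ∈ Subgroup.normalizer (F : Set G) :=
    Subgroup.mul_mem _ (hnorm _) (Subgroup.mul_mem _ (Subgroup.mul_mem _ hpn (hnorm _))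
      (Subgroup.inv_mem _ hpn))
  have cy : ∀ t, y * t * y⁻¹ = u * (u' * t * u'⁻¹) * u⁻¹ := by intro t; rw [hy]; group
  have y1 : y * e' * y⁻¹ = e' * Z b := by rw [cy, hu'e, hue]
  have y2 : y * Z γ' * y⁻¹ = Z γ' := by rw [cy, hu'c, huZ]
  have y3 : y * Z b * y⁻¹ = Z b * Z γ' := by
    rw [cy, hu'b, h.lin.ZZ, huZ]
  have hbb : ∀ c, Z c * Z c = 1 := fun c => by rw [h.lin.ZZ, F4.add_self, h.lin.Z0]
  have y4 : y ^ 2 * e' * (y ^ 2)⁻¹ = e' * Z γ' := by
    calc y ^ 2 * e' * (y ^ 2)⁻¹ = y * (y * e' * y⁻¹) * y⁻¹ := by rw [pow_two]; group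
      _ = y * (e' * Z b) * y⁻¹ := by rw [y1]
      _ = (y * e' * y⁻¹) * (y * Z b * y⁻¹) := by group
      _ = e' * Z b * (Z b * Z γ') := by rw [y1, y3]
      _ = e' * (Z b * Z b) * Z γ' := by group
      _ = _ := by rw [hbb, mul_one]
  have y5 : y ^ 4 * e' * (y ^ 4)⁻¹ = e' := by
    have e4 : y ^ 4 = y ^ 2 * y ^ 2 := by rw [← pow_add]
    calc y ^ 4 * e' * (y ^ 4)⁻¹ = y ^ 2 * (y ^ 2 * e' * (y ^ 2)⁻¹) * (y ^ 2)⁻¹ := by
          rw [e4]; group
      _ = y ^ 2 * (e' * Z γ') * (y ^ 2)⁻¹ := by rw [y4]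
      _ = (y ^ 2 * e' * (y ^ 2)⁻¹) * (y ^ 2 * Z γ' * (y ^ 2)⁻¹) := by group
      _ = (y ^ 2 * e' * (y ^ 2)⁻¹) * (y * (y * Z γ' * y⁻¹) * y⁻¹) := by rw [pow_two]; group
      _ = e' * (Z γ' * Z γ') := by rw [y4, y2, y2, mul_assoc]
      _ = e' := by rw [hbb, mul_one]
  have c4 : Commute (y ^ 4) e' := mul_inv_eq_iff_eq_mul.mp y5
  obtain ⟨K0, M0, hodd, hord⟩ := Nat.exists_eq_two_pow_mul_odd (orderOf_pos y).ne'
  have hx2 : (y ^ M0) ^ 2 ^ K0 = 1 := by
    rw [← pow_mul, mul_comm, ← hord, pow_orderOf_eq_one]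
  have heF : e' ∈ F := ⟨_, ⟨rfl, rfl⟩, hew⟩
  have hc := h.sq_comm (Subgroup.pow_mem _ hyN M0) hx2 heF
  obtain ⟨j, hj⟩ := hodd
  have e1 : y ^ M0 * y ^ M0 = (y ^ 4) ^ j * y ^ 2 := by
    rw [← pow_add, ← pow_mul, ← pow_add]; congr 1; omega
  rw [e1] at hc
  have c2 : Commute (y ^ 2) e' := by
    have h1 := ((c4.pow_left j).inv_left).mul_left hc
    rwa [inv_mul_cancel_left] at h1
  apply hγ'0
  have h1 : y ^ 2 * e' * (y ^ 2)⁻¹ = e' := by rw [c2.eq]; group
  rw [y4] at h1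
  exact mul_eq_left.mp h1

theorem S_eq (h : HypA3 S X Y Z W) : (S : Subgroup G) = (⊤ : Subgroup K).map h.lin.hom := by
  ext g
  rw [h.mem]
  constructor
  · rintro ⟨x, hx⟩; exact ⟨x, trivial, hx⟩
  · rintro ⟨x, -, hx⟩; exact ⟨x, hx⟩

/-- **Kill A3** -/
theorem kill (h : HypA3 S X Y Z W) (hidx : ∀ M : Subgroup G, M.Normal → M.index ≠ 2) : False := by
  have hW : h.lin.hom K.W = W := h.lin.hom_W
  have hindex : PK.index = 2 := by
    have h1 := PK.card_mul_index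
    rw [card_PK, card_K] at h1
    omega
  have hne : W ≠ 1 := by
    intro h1
    have h2 : K.W = 1 := h.lin.hom_inj (hW.trans (h1.trans (map_one _).symm))
    exact absurd h2 (by decide)
  have hord : orderOf W = 2 := by
    rw [orderOf_eq_prime_iff]
    exact ⟨by rw [pow_two, h.lin.WW], hne⟩
  rcases Cfsg.Agent.S0111.result S (PK.map h.lin.hom) (by
      rintro _ ⟨x, -, rfl⟩; exact h.S_mem x) (by
      rw [h.S_eq, Subgroup.relIndex_map_map_of_injective _ _ h.lin.hom_inj,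
        Subgroup.relIndex_top_right, hindex]) W hord (by rw [← hW]; exact h.S_mem _) (by
      rintro ⟨x, hx, hx2⟩
      have h3 := h.lin.hom_inj (hx2.trans hW.symm)
      rw [h3] at hx
      exact Bool.false_ne_true hx.symm) with ⟨M, hM, hM2, -⟩ | ⟨g, ξ, hξ, hξ2⟩
  · exact hidx M hM hM2
  · have h2 : ξ * ξ = 1 := by
      rw [← h.sq_lift, hξ2]
      calc g * W * g⁻¹ * (g * W * g⁻¹) = g * (W * W) * g⁻¹ := by group
        _ = 1 := by rw [h.lin.WW]; group
    have hc : IsConj W (h.lin.hom ξ) := by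
      rw [isConj_iff]; exact ⟨g, hξ2.symm⟩
    by_cases h3 : IsConj (X 1) (h.lin.hom ξ)
    · exact h.W_nX (h3.trans hc.symm)
    · have h4 := h.P_nonpure hξ h2 h3
      rw [(K.isV_iff ξ).mp h4, h.lin.hom_Z] at hc
      exact h.W_nZ hc

end HypA3

end Cfsg.Agent.StdAlt.Five.Kill
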