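import Cfsg.Agent.StdAlt.Five.KillModel

/-!
# Homomorphisms from the groups of order 128 and 256
-/

set_option autoImplicit false

namespace Cfsg.Agent.StdAlt.Five.Kill

open Cfsg.Agent.J2Sylow.Model Cfsg.Agent.J2Sylow.Model.F4 KillModel

variable {G : Type*} [Group G]

/-- `UT₃(4)` with the linear swap `W` (`X a ↔ Y a`, `Z c` fixed) -/
structure Lin (X Y Z : F4 → G) (W : G) : Prop where
  XX : ∀ a b, X a * X b = X (a + b)
  YY : ∀ a b, Y a * Y b = Y (a + b)
  ZZ : ∀ a b, Z a * Z b = Z (a + b)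
  XY : ∀ a b, X a * Y b = Y b * (X a * Z (a * b))
  ZX : ∀ a b, Z a * X b = X b * Z a
  ZY : ∀ a b, Z a * Y b = Y b * Z a
  WX : ∀ a, W * X a = Y a * W
  WY : ∀ a, W * Y a = X a * W
  WZ : ∀ a, W * Z a = Z a * W
  WW : W * W = 1
  inj : ∀ a b c, Y b * (X a * Z c) = 1 → a = 0 ∧ b = 0 ∧ c = 0
  out : ∀ a b c, Y b * (X a * Z c) ≠ W

/-- normal form -/
def kFun (X Y Z : F4 → G) (W : G) (x : K) : G :=
  Y x.b * (X x.a * (Z x.c * (if x.i then W else 1)))

theorem aux_false : ∀ a b' c c' : F4, a * b' + (c + c') = c + c' + a * b' := by decide +kernel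

theorem aux_true : ∀ a a' b' c c' : F4, a * a' + (c + (b' * a' + c')) =
    c + c' + (a + b') * a' := by decide +kernel

theorem kFun_mul {X Y Z : F4 → G} {W : G} (h : Lin X Y Z W) (x y : K) :
    kFun X Y Z W (x * y) = kFun X Y Z W x * kFun X Y Z W y := by
  have hXX : ∀ a b (r : G), X a * (X b * r) = X (a + b) * r := fun a b r => by
    rw [← mul_assoc, h.XX]
  have hYY : ∀ a b (r : G), Y a * (Y b * r) = Y (a + b) * r := fun a b r => by
    rw [← mul_assoc, h.YY]
  have hZZ : ∀ a b (r : G), Z a * (Z b * r) = Z (a + b) * r := fun a b r => by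
    rw [← mul_assoc, h.ZZ]
  have hXY : ∀ a b (r : G), X a * (Y b * r) = Y b * (X a * (Z (a * b) * r)) := fun a b r => by
    rw [← mul_assoc, h.XY]; simp only [mul_assoc]
  have hZX : ∀ a b (r : G), Z a * (X b * r) = X b * (Z a * r) := fun a b r => by
    rw [← mul_assoc, h.ZX, mul_assoc]
  have hZY : ∀ a b (r : G), Z a * (Y b * r) = Y b * (Z a * r) := fun a b r => by
    rw [← mul_assoc, h.ZY, mul_assoc]
  have hTX : ∀ a (r : G), W * (X a * r) = Y a * (W * r) := fun a r => by
    rw [← mul_assoc, h.WX, mul_assoc]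
  have hTY : ∀ a (r : G), W * (Y a * r) = X a * (W * r) := fun a r => by
    rw [← mul_assoc, h.WY, mul_assoc]
  have hTZ : ∀ a (r : G), W * (Z a * r) = Z a * (W * r) := fun a r => by
    rw [← mul_assoc, h.WZ, mul_assoc]
  obtain ⟨a, b, c, s⟩ := x
  obtain ⟨a', b', c', s'⟩ := y
  cases s
  · rw [K.mul_false]
    simp only [kFun, mul_assoc, Bool.false_eq_true, if_false, one_mul, hZY, hZX, hXY, hYY, hXX,
      hZZ, aux_false]
  · rw [K.mul_true]
    have hS : W * (if s' = true then W else 1) = if (!s') = true then W else 1 := by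
      cases s' <;> simp [h.WW]
    simp only [kFun, mul_assoc, if_true, hTX, hTY, hTZ, hS, hZY, hZX, hXY, hYY, hXX, hZZ,
      aux_true]

namespace Lin

variable {X Y Z : F4 → G} {W : G}

/-- the homomorphism given by the relations -/
def hom (h : Lin X Y Z W) : K →* G := MonoidHom.mk' (kFun X Y Z W) (kFun_mul h)

theorem hom_apply (h : Lin X Y Z W) (x : K) :
    h.hom x = Y x.b * (X x.a * (Z x.c * (if x.i then W else 1))) := rfl

theorem X0 (h : Lin X Y Z W) : X 0 = 1 := by
  have := h.XX 0 0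
  rw [add_zero] at this
  exact mul_eq_left.mp this

theorem Y0 (h : Lin X Y Z W) : Y 0 = 1 := by
  have := h.YY 0 0
  rw [add_zero] at this
  exact mul_eq_left.mp this

theorem Z0 (h : Lin X Y Z W) : Z 0 = 1 := by
  have := h.ZZ 0 0
  rw [add_zero] at this
  exact mul_eq_left.mp this

theorem hom_X (h : Lin X Y Z W) (a : F4) : h.hom ⟨a, 0, 0, false⟩ = X a := by
  simp [hom_apply, h.Y0, h.Z0]

theorem hom_Y (h : Lin X Y Z W) (a : F4) : h.hom ⟨0, a, 0, false⟩ = Y a := by
  simp [hom_apply, h.X0, h.Z0]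

theorem hom_Z (h : Lin X Y Z W) (a : F4) : h.hom ⟨0, 0, a, false⟩ = Z a := by
  simp [hom_apply, h.X0, h.Y0]

theorem hom_W (h : Lin X Y Z W) : h.hom ⟨0, 0, 0, true⟩ = W := by
  simp [hom_apply, h.X0, h.Y0, h.Z0]

theorem hom_inj (h : Lin X Y Z W) : Function.Injective h.hom := by
  rw [injective_iff_map_eq_one]
  rintro ⟨a, b, c, i⟩ hx
  rw [hom_apply] at hx
  cases i
  · simp only [Bool.false_eq_true, if_false, mul_one] at hx
    obtain ⟨rfl, rfl, rfl⟩ := h.inj a b c hx
    rfl
  · exfalso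
    simp only [if_true] at hx
    have h1 : Y b * (X a * Z c) = W := by
      have h2 : Y b * (X a * Z c) * W = 1 := by
        rw [← hx]; simp only [mul_assoc]
      calc Y b * (X a * Z c) = Y b * (X a * Z c) * (W * W) := by rw [h.WW, mul_one]
        _ = (Y b * (X a * Z c) * W) * W := by simp only [mul_assoc]
        _ = W := by rw [h2, one_mul]
    exact h.out a b c h1

end Lin

/-- `Lin` with the commuting field automorphism `s` -/
structure LinS (X Y Z : F4 → G) (W s : G) : Prop extends Lin X Y Z W where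
  sX : ∀ a, s * X a = X (fr a) * s
  sY : ∀ a, s * Y a = Y (fr a) * s
  sZ : ∀ a, s * Z a = Z (fr a) * s
  sW : s * W = W * s
  ss : s * s = 1
  out2 : ∀ x : K, kFun X Y Z W x ≠ s

namespace LinS

variable {X Y Z : F4 → G} {W s : G}

theorem s_hom (h : LinS X Y Z W s) (k : K) : s * h.hom k = h.hom (K.frK k) * s := by
  have hTX : ∀ a (r : G), s * (X a * r) = X (fr a) * (s * r) := fun a r => by
    rw [← mul_assoc, h.sX, mul_assoc]
  have hTY : ∀ a (r : G), s * (Y a * r) = Y (fr a) * (s * r) := fun a r => by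
    rw [← mul_assoc, h.sY, mul_assoc]
  have hTZ : ∀ a (r : G), s * (Z a * r) = Z (fr a) * (s * r) := fun a r => by
    rw [← mul_assoc, h.sZ, mul_assoc]
  obtain ⟨a, b, c, i⟩ := k
  simp only [Lin.hom_apply, K.frK, mul_assoc, hTX, hTY, hTZ]
  cases i
  · simp
  · simp [h.sW]

/-- the homomorphism given by the relations -/
def hom2 (h : LinS X Y Z W s) : L →* G :=
  MonoidHom.mk' (fun x => h.hom x.k * (if x.j then s else 1)) (by
    rintro ⟨k, j⟩ ⟨k', j'⟩
    cases j
    · rw [L.mul_false]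
      simp only [map_mul, Bool.false_eq_true, if_false, mul_one, mul_assoc]
    · rw [L.mul_true]
      have hS : s * (if j' = true then s else 1) = if (!j') = true then s else 1 := by
        cases j' <;> simp [h.ss]
      simp only [map_mul, if_true]
      rw [← hS, mul_assoc, mul_assoc, ← mul_assoc _ s, ← h.s_hom]
      simp only [mul_assoc])

theorem hom2_apply (h : LinS X Y Z W s) (x : L) :
    h.hom2 x = h.hom x.k * (if x.j then s else 1) := rfl

theorem hom2_k (h : LinS X Y Z W s) (k : K) : h.hom2 ⟨k, false⟩ = h.hom k := by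
  simp [hom2_apply]

theorem hom2_s (h : LinS X Y Z W s) : h.hom2 ⟨1, true⟩ = s := by
  simp [hom2_apply]

theorem hom2_inj (h : LinS X Y Z W s) : Function.Injective h.hom2 := by
  rw [injective_iff_map_eq_one]
  rintro ⟨k, j⟩ hx
  rw [hom2_apply] at hx
  cases j
  · simp only [Bool.false_eq_true, if_false, mul_one] at hx
    have h1 : k = 1 := h.hom_inj (by rw [hx, map_one])
    rw [h1]; rfl
  · exfalso
    simp only [if_true] at hx
    apply h.out2 k
    change h.hom k = s
    calc h.hom k = h.hom k * (s * s) := by rw [h.ss, mul_one]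
      _ = (h.hom k * s) * s := by rw [mul_assoc]
      _ = s := by rw [hx, one_mul]

end LinS

end Cfsg.Agent.StdAlt.Five.Kill
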