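import Mathlib
import Cfsg.Agent.J2Sylow.Model

/-!
# The groups `UT₃(4) : ⟨w⟩` (order 128) and `UT₃(4) : ⟨w, s⟩` (order 256)

`w` is the involution `x(a) ↔ y(a)`, `z(c)` fixed; `s` is the field automorphism.  Used in the case "kappa = 3,
K-type" of S1766, `n = 5` (blueprints/S1766-five.md, A3 and A5).
-/

set_option autoImplicit false

namespace Cfsg.Agent.StdAlt.Five.KillModel

open Cfsg.Agent.J2Sylow.Model Cfsg.Agent.J2Sylow.Model.F4

/-- the element `y(b) x(a) z(c) w^i` -/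
@[ext] structure K : Type where
  a : F4
  b : F4
  c : F4
  i : Bool
  deriving DecidableEq

namespace K

/-- product -/
def mul (x y : K) : K :=
  match x.i with
  | false => ⟨x.a + y.a, x.b + y.b, x.c + y.c + x.a * y.b, y.i⟩
  | true => ⟨x.a + y.b, x.b + y.a, x.c + y.c + (x.a + y.b) * y.a, !y.i⟩

/-- inverse -/
def inv (x : K) : K :=
  match x.i with
  | false => ⟨x.a, x.b, x.c + x.a * x.b, false⟩
  | true => ⟨x.b, x.a, x.c + (x.a + x.a) * x.b, true⟩

/-- identity -/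
def one : K := ⟨o, o, o, false⟩

instance : Mul K := ⟨mul⟩
instance : Inv K := ⟨inv⟩
instance : One K := ⟨one⟩

instance decForall (p : K → Prop) [DecidablePred p] : Decidable (∀ x, p x) :=
  decidable_of_iff (∀ a b c : F4, p ⟨a, b, c, false⟩ ∧ p ⟨a, b, c, true⟩)
    ⟨fun h x => by
      obtain ⟨a, b, c, s⟩ := x
      cases s
      · exact (h a b c).1
      · exact (h a b c).2, fun h a b c => ⟨h _, h _⟩⟩

instance decExists (p : K → Prop) [DecidablePred p] : Decidable (∃ x, p x) :=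
  decidable_of_iff (∃ a b c : F4, p ⟨a, b, c, false⟩ ∨ p ⟨a, b, c, true⟩)
    ⟨fun ⟨a, b, c, h⟩ => by rcases h with h | h <;> exact ⟨_, h⟩,
     fun ⟨⟨a, b, c, s⟩, h⟩ => ⟨a, b, c, by cases s <;> simp_all⟩⟩

theorem mul_false (xa xb xc : F4) (y : K) :
    (⟨xa, xb, xc, false⟩ : K) * y = ⟨xa + y.a, xb + y.b, xc + y.c + xa * y.b, y.i⟩ := rfl

theorem mul_true (xa xb xc : F4) (y : K) :
    (⟨xa, xb, xc, true⟩ : K) * y = ⟨xa + y.b, xb + y.a, xc + y.c + (xa + y.b) * y.a, !y.i⟩ := rfl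

theorem inv_mul_cancel' : ∀ x : K, x⁻¹ * x = 1 := by decide

theorem one_mul' : ∀ x : K, 1 * x = x := by decide

theorem mul_one' : ∀ x : K, x * 1 = x := by decide

protected theorem mul_assoc (x y z : K) : x * y * z = x * (y * z) := by
  obtain ⟨xa, xb, xc, xs⟩ := x
  obtain ⟨ya, yb, yc, ys⟩ := y
  obtain ⟨za, zb, zc, zs⟩ := z
  cases xs <;> cases ys <;> simp only [mul_false, mul_true, K.mk.injEq,
    Bool.not_not, and_true, Bool.not_true, Bool.not_false] <;> refine ⟨?_, ?_, ?_⟩ <;> try ring1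
  · linear_combination (-(ya * zb)) * two_eq
  · linear_combination (-(za * (ya + zb))) * two_eq

instance : Group K where
  mul_assoc := K.mul_assoc
  one_mul := one_mul'
  mul_one := mul_one'
  inv_mul_cancel := inv_mul_cancel'

/-- the field automorphism -/
def frK (x : K) : K := ⟨fr x.a, fr x.b, fr x.c, x.i⟩

theorem frK_mul (x y : K) : frK (x * y) = frK x * frK y := by
  obtain ⟨xa, xb, xc, xs⟩ := x
  obtain ⟨ya, yb, yc, ys⟩ := y
  cases xs <;> simp only [mul_false, mul_true, frK, fr_add, fr_mul]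

theorem frK_frK (x : K) : frK (frK x) = x := by
  obtain ⟨xa, xb, xc, xs⟩ := x
  simp only [frK, fr_fr]

end K

/-- the group of order 256; `⟨k, j⟩ = k s^j` -/
@[ext] structure L : Type where
  k : K
  j : Bool
  deriving DecidableEq

namespace L

/-- product -/
def mul (x y : L) : L :=
  match x.j with
  | false => ⟨x.k * y.k, y.j⟩
  | true => ⟨x.k * K.frK y.k, !y.j⟩

/-- inverse -/
def inv (x : L) : L :=
  match x.j with
  | false => ⟨x.k⁻¹, false⟩
  | true => ⟨K.frK x.k⁻¹, true⟩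

/-- identity -/
def one : L := ⟨1, false⟩

instance : Mul L := ⟨mul⟩
instance : Inv L := ⟨inv⟩
instance : One L := ⟨one⟩

instance decForall (p : L → Prop) [DecidablePred p] : Decidable (∀ x, p x) :=
  decidable_of_iff (∀ k : K, p ⟨k, false⟩ ∧ p ⟨k, true⟩)
    ⟨fun h x => by
      obtain ⟨a, s⟩ := x
      cases s
      · exact (h a).1
      · exact (h a).2, fun h a => ⟨h _, h _⟩⟩

instance decExists (p : L → Prop) [DecidablePred p] : Decidable (∃ x, p x) :=
  decidable_of_iff (∃ k : K, p ⟨k, false⟩ ∨ p ⟨k, true⟩)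
    ⟨fun ⟨a, h⟩ => by rcases h with h | h <;> exact ⟨_, h⟩,
     fun ⟨⟨a, s⟩, h⟩ => ⟨a, by cases s <;> simp_all⟩⟩

theorem mul_false (xk : K) (y : L) : (⟨xk, false⟩ : L) * y = ⟨xk * y.k, y.j⟩ := rfl

theorem mul_true (xk : K) (y : L) : (⟨xk, true⟩ : L) * y = ⟨xk * K.frK y.k, !y.j⟩ := rfl

theorem one_def : (1 : L) = ⟨1, false⟩ := rfl

theorem frK_one : K.frK 1 = 1 := rfl

instance : Group L where
  mul_assoc := by
    rintro ⟨xk, xj⟩ ⟨yk, yj⟩ ⟨zk, zj⟩
    cases xj <;> cases yj <;> simp [mul_false, mul_true, K.frK_mul, K.frK_frK, mul_assoc]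
  one_mul := by
    rintro ⟨xk, xj⟩
    rw [one_def, mul_false, one_mul]
  mul_one := by
    rintro ⟨xk, xj⟩
    cases xj
    · rw [one_def, mul_false]; simp
    · rw [one_def, mul_true, frK_one]; simp
  inv_mul_cancel := by
    rintro ⟨xk, xj⟩
    cases xj
    · change (⟨xk⁻¹ * xk, false⟩ : L) = 1
      rw [inv_mul_cancel]; rfl
    · change (⟨K.frK xk⁻¹ * K.frK xk, false⟩ : L) = 1
      rw [← K.frK_mul, inv_mul_cancel]; rfl

end L

end Cfsg.Agent.StdAlt.Five.KillModel
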