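import Cfsg.Agent.StdAlt.Five.PData

/-!
# Changing the coordinates
-/

set_option autoImplicit false

namespace Cfsg.Agent.StdAlt.Five.Moves

open Subgroup Cfsg.Agent.StdAlt.Conj Cfsg.Agent.J2Sylow.Model Cfsg.Agent.StdAlt.Five
open Cfsg.Agent.StdAlt.Five.Sec4 Cfsg.Agent.StdAlt.Five.Coord

variable {G : Type*} [Group G] {R V P : Subgroup G} {ρ : G} {ε : F4} {X Y Z : F4 → G}

section

variable (D : Data R V P ρ) (F : Frame R V P ρ ε X Y Z)
include D F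

theorem ZX (c a : F4) : Z c * X a = X a * Z c :=
  (D.cent _ (D.R_le (F.X_mem a)) _ (F.Z_mem c)).symm

theorem ZY (c b : F4) : Z c * Y b = Y b * Z c :=
  (D.cent _ (F.Y_mem b) _ (F.Z_mem c)).symm

theorem ZP (c : F4) {p : G} (hp : p ∈ P) : Z c * p = p * Z c :=
  (D.cent _ hp _ (F.Z_mem c)).symm

omit D in
theorem ZZ (c c' : F4) : Z c * Z c' = Z c' * Z c := by
  rw [← F.Z_add, ← F.Z_add, add_comm]

/-- `Y b ↦ Y b * Z (k b)` -/
theorem shift (k : F4) : Frame R V P ρ ε X (fun b => Y b * Z (k * b)) Z where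
  X_mem := F.X_mem
  Y_mem := fun b => P.mul_mem (F.Y_mem b) (D.B_le (F.Z_mem _))
  Z_mem := F.Z_mem
  X_add := F.X_add
  Z_add := F.Z_add
  Y_mul := by
    intro b b'
    have h1 := ZY D F (k * b) b'
    calc Y b * Z (k * b) * (Y b' * Z (k * b')) = Y b * (Z (k * b) * Y b') * Z (k * b') := by group
      _ = (Y b * Y b') * (Z (k * b) * Z (k * b')) := by rw [h1]; group
      _ = Y (b + b') * (Z (ε * F4.fr (b * b')) * Z (k * b + k * b')) := by
          rw [F.Y_mul, ← F.Z_add]; group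
      _ = Y (b + b') * Z (k * (b + b')) * Z (ε * F4.fr (b * b')) := by
          rw [← mul_add, ZZ F]; group
  X_surj := F.X_surj
  Z_surj := F.Z_surj
  P_surj := by
    intro x hx
    obtain ⟨b, a, c, rfl⟩ := F.P_surj x hx
    refine ⟨b, a, c + k * b, ?_⟩
    have h1 := ZX D F (k * b) a
    have h2 : Z (k * b) * Z (k * b) = 1 := by
      rw [← F.Z_add, F4.add_self]; exact F.Z_zero
    calc Y b * X a * Z c = Y b * X a * (Z (k * b) * Z (k * b)) * Z c := by rw [h2, mul_one]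
      _ = Y b * (X a * Z (k * b)) * (Z (k * b) * Z c) := by group
      _ = Y b * Z (k * b) * X a * (Z c * Z (k * b)) := by rw [← h1, ZZ F (k * b) c]; group
      _ = _ := by rw [← F.Z_add]
  inj := by
    intro a b c a' b' c' e
    have key : ∀ a b c, Y b * Z (k * b) * X a * Z c = Y b * X a * Z (k * b + c) := by
      intro a b c
      have h1 := ZX D F (k * b) a
      calc Y b * Z (k * b) * X a * Z c = Y b * (Z (k * b) * X a) * Z c := by group
        _ = Y b * X a * (Z (k * b) * Z c) := by rw [h1]; group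
        _ = _ := by rw [F.Z_add]
    rw [key, key] at e
    obtain ⟨h1, h2, h3⟩ := F.inj _ _ _ _ _ _ e
    subst h1
    exact ⟨rfl, h2, add_left_cancel h3⟩
  X_Y := by
    intro a b
    have h1 := ZX D F (k * b) a
    calc X a * (Y b * Z (k * b)) = (X a * Y b) * Z (k * b) := by group
      _ = Y b * X a * (Z (a * b) * Z (k * b)) := by rw [F.X_Y]; group
      _ = Y b * (X a * Z (k * b)) * Z (a * b) := by rw [ZZ F]; group
      _ = _ := by rw [← h1]; group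
  ρX := F.ρX
  ρY := by
    intro b
    rw [show ρ * (Y b * Z (k * b)) * ρ⁻¹ = (ρ * Y b * ρ⁻¹) * (ρ * Z (k * b) * ρ⁻¹) by group, F.ρY, F.ρZ]
    congr 2
    ring
  ρZ := F.ρZ

omit D in
/-- `Y b ↦ Y (β b)`, `Z c ↦ Z (β c)` -/
theorem scale {β β' : F4} (hβ : β * β' = 1) :
    Frame R V P ρ ε X (fun b => Y (β * b)) (fun c => Z (β * c)) where
  X_mem := F.X_mem
  Y_mem := fun b => F.Y_mem _
  Z_mem := fun b => F.Z_mem _
  X_add := F.X_add
  Z_add := fun c c' => by rw [mul_add, F.Z_add]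
  Y_mul := by
    intro b b'
    rw [F.Y_mul, mul_add]
    congr 2
    have : ∀ β β' ε b b' : F4, β * β' = 1 → ε * F4.fr (β * b * (β * b')) = β * (ε * F4.fr (b * b')) := by
      decide
    exact this β β' ε b b' hβ
  X_surj := F.X_surj
  Z_surj := by
    intro z hz
    obtain ⟨c, rfl⟩ := F.Z_surj z hz
    exact ⟨β' * c, by rw [← mul_assoc, hβ, one_mul]⟩
  P_surj := by
    intro x hx
    obtain ⟨b, a, c, rfl⟩ := F.P_surj x hx
    exact ⟨β' * b, a, β' * c, by rw [← mul_assoc, ← mul_assoc, hβ, one_mul, one_mul]⟩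
  inj := by
    intro a b c a' b' c' e
    obtain ⟨h1, h2, h3⟩ := F.inj _ _ _ _ _ _ e
    have hc : ∀ x y : F4, β * x = β * y → x = y := by
      intro x y hxy
      have := congrArg (β' * ·) hxy
      simp only [← mul_assoc, mul_comm β' β, hβ, one_mul] at this
      exact this
    exact ⟨hc _ _ h1, h2, hc _ _ h3⟩
  X_Y := by
    intro a b
    rw [F.X_Y]
    congr 2
    ring
  ρX := F.ρX
  ρY := by
    intro b
    rw [F.ρY]
    congr 1
    ring
  ρZ := by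
    intro b
    rw [F.ρZ]
    congr 1
    ring

end

/-- `X a ↦ X (α a)`, `Y b ↦ Y (α⁻¹ b)` (only for `ε = 0`) -/
theorem scaleX (F : Frame R V P ρ 0 X Y Z) {α α' : F4} (hα : α * α' = 1) :
    Frame R V P ρ 0 (fun a => X (α * a)) (fun b => Y (α' * b)) Z where
  X_mem := fun a => F.X_mem _
  Y_mem := fun b => F.Y_mem _
  Z_mem := F.Z_mem
  X_add := fun c c' => by rw [mul_add, F.X_add]
  Z_add := F.Z_add
  Y_mul := by
    intro b b'
    rw [F.Y_mul, mul_add, zero_mul, zero_mul]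
  X_surj := by
    intro z hz
    obtain ⟨c, rfl⟩ := F.X_surj z hz
    exact ⟨α' * c, by rw [← mul_assoc, hα, one_mul]⟩
  Z_surj := F.Z_surj
  P_surj := by
    intro x hx
    obtain ⟨b, a, c, rfl⟩ := F.P_surj x hx
    exact ⟨α * b, α' * a, c, by rw [← mul_assoc, ← mul_assoc, mul_comm α' α, hα, one_mul, one_mul]⟩
  inj := by
    intro a b c a' b' c' e
    obtain ⟨h1, h2, h3⟩ := F.inj _ _ _ _ _ _ e
    have hc : ∀ x y : F4, α * x = α * y → x = y := by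
      intro x y hxy
      have := congrArg (α' * ·) hxy
      simp only [← mul_assoc, mul_comm α' α, hα, one_mul] at this
      exact this
    have hc' : ∀ x y : F4, α' * x = α' * y → x = y := by
      intro x y hxy
      have := congrArg (α * ·) hxy
      simp only [← mul_assoc, hα, one_mul] at this
      exact this
    exact ⟨hc' _ _ h1, hc _ _ h2, h3⟩
  X_Y := by
    intro a b
    rw [F.X_Y]
    congr 2
    calc α * a * (α' * b) = (α * α') * (a * b) := by ring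
      _ = a * b := by rw [hα, one_mul]
  ρX := fun a => F.ρX _
  ρY := by
    intro b
    rw [F.ρY]
    congr 1
    ring
  ρZ := F.ρZ

section

variable (D : Data R V P ρ) (F : Frame R V P ρ ε X Y Z)
include D F

/-- commutator with `Y e` reads off the `X`-coordinate -/
theorem YY_comm (b b' : F4) : Y b * Y b' = Y b' * Y b := by
  rw [F.Y_mul, F.Y_mul, add_comm, mul_comm b b']

theorem comm_Y (b a c : F4) : (Y b * X a * Z c) * Y .e = Z a * (Y .e * (Y b * X a * Z c)) := by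
  have h1 := ZY D F c .e
  have h2 := F.X_Y a .e
  have h3 : a * F4.e = a := mul_one a
  rw [h3] at h2
  have h4 := YY_comm D F b .e
  have h5 := ZP D F a (P.mul_mem (P.mul_mem (F.Y_mem b) (D.R_le (F.X_mem a))) (D.B_le (F.Z_mem c)))
  have h6 := ZY D F a .e
  calc (Y b * X a * Z c) * Y .e = Y b * X a * (Z c * Y .e) := by group
    _ = Y b * (X a * Y .e) * Z c := by rw [h1]; group
    _ = (Y b * Y .e) * X a * (Z a * Z c) := by rw [h2]; group
    _ = Y .e * (Y b * X a * Z c) * Z a := by rw [h4, ZZ F]; group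
    _ = Z a * (Y .e * (Y b * X a * Z c)) := by rw [mul_assoc, ← h5, ← mul_assoc, ← h6, mul_assoc]

/-- the `X`-coordinate of a product of elements of `P` -/
theorem Xcoord_mul {p q : G} {b a c b' a' c' b'' a'' c'' : F4} (hp : p = Y b * X a * Z c)
    (hq : q = Y b' * X a' * Z c') (hpq : p * q = Y b'' * X a'' * Z c'') : a'' = a + a' := by
  apply F.Z_inj
  have h1 := comm_Y D F b a c
  have h2 := comm_Y D F b' a' c'
  have h3 := comm_Y D F b'' a'' c''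
  rw [← hp] at h1
  rw [← hq] at h2
  rw [← hpq] at h3
  have hpP : p ∈ P := by
    rw [hp]; exact P.mul_mem (P.mul_mem (F.Y_mem b) (D.R_le (F.X_mem a))) (D.B_le (F.Z_mem c))
  have h4 := ZP D F a' hpP
  have h5 : p * q * Y .e = Z (a + a') * (Y .e * (p * q)) := by
    calc p * q * Y .e = p * (q * Y .e) := by group
      _ = (p * Z a') * (Y .e * q) := by rw [h2]; group
      _ = Z a' * (p * Y .e) * q := by rw [← h4]; group
      _ = (Z a' * Z a) * (Y .e * (p * q)) := by rw [h1]; group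
      _ = _ := by rw [← F.Z_add, add_comm]
  rw [h5] at h3
  exact (mul_right_cancel h3).symm

/-- `y ρ(y) ρ²(y) = 1` implies that `y ∈ E2` -/
theorem mem_E2 {y : G} (hy : y ∈ P) (h3 : y * (ρ * y * ρ⁻¹) * (ρ * (ρ * y * ρ⁻¹) * ρ⁻¹) = 1) :
    ∃ b c, y = Y b * Z c := by
  obtain ⟨b, a, c, e⟩ := F.P_surj y hy
  have e1 : ρ * y * ρ⁻¹ = Y (F4.w * b) * X a * Z (F4.w * c) := by
    rw [e, show ρ * (Y b * X a * Z c) * ρ⁻¹ = (ρ * Y b * ρ⁻¹) * (ρ * X a * ρ⁻¹) * (ρ * Z c * ρ⁻¹) by group,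
      F.ρY, F.ρX, F.ρZ]
  have e2 : ρ * (ρ * y * ρ⁻¹) * ρ⁻¹ = Y (F4.w * (F4.w * b)) * X a * Z (F4.w * (F4.w * c)) := by
    rw [e1, show ρ * (Y (F4.w * b) * X a * Z (F4.w * c)) * ρ⁻¹ = (ρ * Y (F4.w * b) * ρ⁻¹) *
      (ρ * X a * ρ⁻¹) * (ρ * Z (F4.w * c) * ρ⁻¹) by group,
      F.ρY, F.ρX, F.ρZ]
  obtain ⟨b', a', c', e3⟩ := F.P_surj _ (P.mul_mem hy (D.ρP y hy))
  have h1 := Xcoord_mul D F e e1 e3
  have e4 : y * (ρ * y * ρ⁻¹) * (ρ * (ρ * y * ρ⁻¹) * ρ⁻¹) = Y 0 * X 0 * Z 0 := by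
    rw [h3, F.X_zero, F.Y_zero, F.Z_zero, one_mul, one_mul]
  have h2 := Xcoord_mul D F e3 e2 e4
  have ha : a = 0 := by
    rw [h1, F4.add_self, zero_add] at h2
    exact h2.symm
  refine ⟨b, c, ?_⟩
  rw [e, ha, F.X_zero, mul_one]

theorem E2_mul (b c b' c' : F4) : (Y b * Z c) * (Y b' * Z c') =
    Y (b + b') * Z (c + c' + ε * F4.fr (b * b')) := by
  have h := F.Y_mul b b'
  have h2 := ZY D F c b'
  calc (Y b * Z c) * (Y b' * Z c') = Y b * (Z c * Y b') * Z c' := by group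
    _ = Y b * Y b' * (Z c * Z c') := by rw [h2]; group
    _ = Y (b + b') * (Z (ε * F4.fr (b * b')) * (Z c * Z c')) := by rw [h]; group
    _ = _ := by
      rw [← F.Z_add, ← F.Z_add]
      congr 2
      ring

omit D in
theorem ρE2 (b c : F4) : ρ * (Y b * Z c) * ρ⁻¹ = Y (F4.w * b) * Z (F4.w * c) := by
  rw [show ρ * (Y b * Z c) * ρ⁻¹ = (ρ * Y b * ρ⁻¹) * (ρ * Z c * ρ⁻¹) by group, F.ρY, F.ρZ]

theorem E2_norm (b c : F4) : (Y b * Z c) * (ρ * (Y b * Z c) * ρ⁻¹) *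
    (ρ * (ρ * (Y b * Z c) * ρ⁻¹) * ρ⁻¹) = 1 := by
  rw [ρE2 F, ρE2 F, E2_mul D F, E2_mul D F]
  have h1 : ∀ b c ε : F4, b + F4.w * b + F4.w * (F4.w * b) = 0 ∧
      c + F4.w * c + ε * F4.fr (b * (F4.w * b)) + F4.w * (F4.w * c) +
        ε * F4.fr ((b + F4.w * b) * (F4.w * (F4.w * b))) = 0 := by decide
  obtain ⟨e1, e2⟩ := h1 b c ε
  rw [e1, e2, F.Y_zero, F.Z_zero, one_mul]

theorem E2_inj {b c b' c' : F4} (e : Y b * Z c = Y b' * Z c') : b = b' ∧ c = c' := by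
  have := F.inj 0 b c 0 b' c' (by rw [F.X_zero, mul_one, mul_one]; exact e)
  exact ⟨this.1, this.2.2⟩

end

/-! ### conjugation by an element inverting or centralizing `ρ` -/

/-- `x` normalizes `P`, `R`, `V` -/
structure Nrm (R V P : Subgroup G) (x : G) : Prop where
  P : ∀ p ∈ P, x * p * x⁻¹ ∈ P
  R : ∀ p ∈ R, x * p * x⁻¹ ∈ R
  V : ∀ p ∈ V, x * p * x⁻¹ ∈ V

theorem conj_mul' (x a b : G) : x * (a * b) * x⁻¹ = (x * a * x⁻¹) * (x * b * x⁻¹) := by group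

section

variable (D : Data R V P ρ) (F : Frame R V P ρ ε X Y Z) {x : G} (hx : Nrm R V P x)

include D F in
/-- conjugating the basic relation -/
theorem conj_rel {a b a' b' n c' : F4} (hX : x * X a * x⁻¹ = X a') (hY : x * Y b * x⁻¹ = Y b' * Z n)
    (hZ : x * Z (a * b) * x⁻¹ = Z c') : c' = a' * b' := by
  apply F.Z_inj
  have h1 : x * (X a * Y b) * x⁻¹ = x * (Y b * X a * Z (a * b)) * x⁻¹ := by rw [F.X_Y]
  rw [conj_mul', conj_mul', conj_mul', hX, hY, hZ, ← mul_assoc, F.X_Y a' b'] at h1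
  have h2 := ZX D F n a'
  have h3 : Y b' * X a' * (Z (a' * b') * Z n) = Y b' * X a' * (Z c' * Z n) := by
    calc Y b' * X a' * (Z (a' * b') * Z n) = Y b' * X a' * Z (a' * b') * Z n := by group
      _ = Y b' * Z n * X a' * Z c' := h1
      _ = Y b' * (Z n * X a') * Z c' := by group
      _ = Y b' * X a' * (Z n * Z c') := by rw [h2]; group
      _ = _ := by rw [ZZ F]
  exact (mul_right_cancel (mul_left_cancel h3)).symm

omit [Group G] in
theorem F4_lin {l : F4} (hl : l ≠ 0) (x y : F4) (e : x * l = y) : x = y * (l * l) := by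
  have : ∀ l x y : F4, l ≠ 0 → x * l = y → x = y * (l * l) := by decide
  exact this l x y hl e

include D F hx

/-- the action of an element centralizing `ρ` -/
theorem act_lin (hρ : x * ρ * x⁻¹ = ρ) : ∃ f l n h : F4, f ≠ 0 ∧ l ≠ 0 ∧ h = f * l ∧
    (∀ a, x * X a * x⁻¹ = X (f * a)) ∧ (∀ b, x * Y b * x⁻¹ = Y (l * b) * Z (n * b)) ∧
    ∀ c, x * Z c * x⁻¹ = Z (h * c) := by
  have hρ' : ∀ y, x * (ρ * y * ρ⁻¹) * x⁻¹ = ρ * (x * y * x⁻¹) * ρ⁻¹ := by
    intro y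
    calc x * (ρ * y * ρ⁻¹) * x⁻¹ = (x * ρ * x⁻¹) * (x * y * x⁻¹) * (x * ρ * x⁻¹)⁻¹ := by group
      _ = _ := by rw [hρ]
  -- `Y e`
  have h3 : (x * Y .e * x⁻¹) * (ρ * (x * Y .e * x⁻¹) * ρ⁻¹) *
      (ρ * (ρ * (x * Y .e * x⁻¹) * ρ⁻¹) * ρ⁻¹) = 1 := by
    have h0 := E2_norm D F .e 0
    rw [F.Z_zero, mul_one] at h0
    rw [← hρ', ← hρ', ← conj_mul', ← conj_mul', h0]
    group
  obtain ⟨l, n, hl⟩ := mem_E2 D F (hx.P _ (F.Y_mem .e)) h3
  obtain ⟨h, hh⟩ := F.Z_surj _ (hx.V _ (F.Z_mem .e))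
  have hY : ∀ b, x * Y b * x⁻¹ = Y (l * b) * Z (n * b) := by
    have h1 : x * Y (F4.w * .e) * x⁻¹ = Y (F4.w * l) * Z (F4.w * n) := by
      rw [← F.ρY, hρ', hl, ρE2 F]
    have h2 : x * Y (F4.w * (F4.w * .e)) * x⁻¹ = Y (F4.w * (F4.w * l)) * Z (F4.w * (F4.w * n)) := by
      rw [← F.ρY, hρ', h1, ρE2 F]
    intro b
    cases b
    · change x * Y 0 * x⁻¹ = Y (l * 0) * Z (n * 0)
      rw [mul_zero, mul_zero, F.Y_zero, F.Z_zero]; group
    · change x * Y .e * x⁻¹ = Y (l * 1) * Z (n * 1)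
      rw [mul_one, mul_one, hl]
    · change x * Y (F4.w * .e) * x⁻¹ = _
      rw [h1, mul_comm F4.w l, mul_comm F4.w n]
    · change x * Y (F4.w * (F4.w * .e)) * x⁻¹ = _
      rw [h2, ← mul_assoc, ← mul_assoc, mul_comm _ l, mul_comm _ n]
      rfl
  have hZ : ∀ b, x * Z b * x⁻¹ = Z (h * b) := by
    have h1 : x * Z (F4.w * .e) * x⁻¹ = Z (F4.w * h) := by
      rw [← F.ρZ, hρ', ← hh, F.ρZ]
    have h2 : x * Z (F4.w * (F4.w * .e)) * x⁻¹ = Z (F4.w * (F4.w * h)) := by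
      rw [← F.ρZ, hρ', h1, F.ρZ]
    intro b
    cases b
    · change x * Z 0 * x⁻¹ = Z (h * 0)
      rw [mul_zero, F.Z_zero]; group
    · change x * Z .e * x⁻¹ = Z (h * 1)
      rw [mul_one, hh]
    · change x * Z (F4.w * .e) * x⁻¹ = _
      rw [h1, mul_comm F4.w h]
    · change x * Z (F4.w * (F4.w * .e)) * x⁻¹ = _
      rw [h2, ← mul_assoc, mul_comm _ h]
      rfl
  have hh0 : h ≠ 0 := by
    intro e
    have h1 := hZ .e
    rw [e, zero_mul] at h1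
    have h2 : Z .e = Z 0 := by
      rw [F.Z_zero] at h1 ⊢
      calc Z .e = x⁻¹ * (x * Z .e * x⁻¹) * x := by group
        _ = 1 := by rw [h1]; group
    exact absurd (F.Z_inj h2) (by decide)
  have hX' : ∀ a, ∃ a', x * X a * x⁻¹ = X a' := by
    intro a
    obtain ⟨a', ha'⟩ := F.X_surj _ (hx.R _ (F.X_mem a))
    exact ⟨a', ha'.symm⟩
  have hrel : ∀ a a', x * X a * x⁻¹ = X a' → a' * l = h * a := by
    intro a a' e
    have h1 := conj_rel D F e (hY .e) (hZ _)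
    have h2 : ∀ y : F4, y * F4.e = y := fun y => mul_one y
    rw [h2, h2] at h1
    exact h1.symm
  obtain ⟨f, hf⟩ := hX' .e
  have hf1 := hrel _ _ hf
  have h2 : ∀ y : F4, y * F4.e = y := fun y => mul_one y
  rw [h2] at hf1
  have hf0 : f ≠ 0 := by
    intro e
    rw [e, zero_mul] at hf1
    exact hh0 hf1.symm
  have hl0 : l ≠ 0 := by
    intro e
    rw [e, mul_zero] at hf1
    exact hh0 hf1.symm
  refine ⟨f, l, n, h, hf0, hl0, hf1.symm, fun a => ?_, hY, hZ⟩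
  obtain ⟨a', ha'⟩ := hX' a
  have h3 := hrel _ _ ha'
  rw [ha']
  congr 1
  rw [← hf1] at h3
  have : ∀ l f a a' : F4, l ≠ 0 → a' * l = f * l * a → a' = f * a := by decide
  exact this l f a a' hl0 h3

omit hx in
theorem ρinvY (b : F4) : ρ⁻¹ * Y b * ρ = Y (F4.u * b) := by
  have h1 := F.ρY (F4.u * b)
  rw [← mul_assoc] at h1
  have h2 : F4.w * F4.u * b = b := one_mul b
  rw [h2] at h1
  rw [← h1]; group

omit hx in
theorem ρinvZ (b : F4) : ρ⁻¹ * Z b * ρ = Z (F4.u * b) := by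
  have h1 := F.ρZ (F4.u * b)
  rw [← mul_assoc] at h1
  have h2 : F4.w * F4.u * b = b := one_mul b
  rw [h2] at h1
  rw [← h1]; group

/-- the action of an element inverting `ρ` -/
theorem act_semi (hρ : x * ρ * x⁻¹ = ρ⁻¹) : ∃ f l n h : F4, f ≠ 0 ∧ l ≠ 0 ∧ h = f * l ∧
    (∀ a, x * X a * x⁻¹ = X (f * F4.fr a)) ∧
    (∀ b, x * Y b * x⁻¹ = Y (l * F4.fr b) * Z (n * F4.fr b)) ∧
    ∀ c, x * Z c * x⁻¹ = Z (h * F4.fr c) := by
  have hρ' : ∀ y, x * (ρ * y * ρ⁻¹) * x⁻¹ = ρ⁻¹ * (x * y * x⁻¹) * ρ := by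
    intro y
    calc x * (ρ * y * ρ⁻¹) * x⁻¹ = (x * ρ * x⁻¹) * (x * y * x⁻¹) * (x * ρ * x⁻¹)⁻¹ := by group
      _ = _ := by rw [hρ]; group
  have hinv : ∀ y ∈ P, ρ⁻¹ * y * ρ = ρ * (ρ * y * ρ⁻¹) * ρ⁻¹ := by
    intro y hy
    have := D.ρ3 y hy
    calc ρ⁻¹ * y * ρ = ρ⁻¹ * (ρ * (ρ * (ρ * y * ρ⁻¹) * ρ⁻¹) * ρ⁻¹) * ρ := by rw [this]
      _ = _ := by group
  -- `Y e`
  have hyP := hx.P _ (F.Y_mem .e)
  set y := x * Y .e * x⁻¹ with hyd
  have h3 : y * (ρ * y * ρ⁻¹) * (ρ * (ρ * y * ρ⁻¹) * ρ⁻¹) = 1 := by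
    have h0 := E2_norm D F .e 0
    rw [F.Z_zero, mul_one] at h0
    have h1 : Y .e * (ρ * (ρ * Y .e * ρ⁻¹) * ρ⁻¹) * (ρ * Y .e * ρ⁻¹) = 1 := by
      rw [F.ρY, F.ρY]
      rw [F.ρY, F.ρY] at h0
      rw [← h0, mul_assoc, mul_assoc, YY_comm D F (F4.w * (F4.w * .e))]
    have h2 : y * (ρ⁻¹ * (ρ⁻¹ * y * ρ) * ρ) * (ρ⁻¹ * y * ρ) = 1 := by
      rw [hyd, ← hρ', ← hρ', ← conj_mul', ← conj_mul', h1]
      group
    rw [← hinv y hyP]
    have h4 : ρ⁻¹ * (ρ⁻¹ * y * ρ) * ρ = ρ * y * ρ⁻¹ := by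
      rw [hinv y hyP]; group
    rw [h4] at h2
    exact h2
  obtain ⟨l, n, hl⟩ := mem_E2 D F hyP h3
  obtain ⟨h, hh⟩ := F.Z_surj _ (hx.V _ (F.Z_mem .e))
  have e2 : ∀ y : F4, y * F4.e = y := fun y => mul_one y
  have hY : ∀ b, x * Y b * x⁻¹ = Y (l * F4.fr b) * Z (n * F4.fr b) := by
    have h1 : x * Y (F4.w * .e) * x⁻¹ = Y (F4.u * l) * Z (F4.u * n) := by
      rw [← F.ρY, hρ', ← hyd, hl, show ρ⁻¹ * (Y l * Z n) * ρ = (ρ⁻¹ * Y l * ρ) * (ρ⁻¹ * Z n * ρ) by group,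
        ρinvY D F, ρinvZ D F]
    have h2 : x * Y (F4.w * (F4.w * .e)) * x⁻¹ = Y (F4.u * (F4.u * l)) * Z (F4.u * (F4.u * n)) := by
      rw [← F.ρY, hρ', h1, show ρ⁻¹ * (Y (F4.u * l) * Z (F4.u * n)) * ρ =
        (ρ⁻¹ * Y (F4.u * l) * ρ) * (ρ⁻¹ * Z (F4.u * n) * ρ) by group, ρinvY D F, ρinvZ D F]
    intro b
    cases b
    · change x * Y 0 * x⁻¹ = Y (l * 0) * Z (n * 0)
      rw [mul_zero, mul_zero, F.Y_zero, F.Z_zero]; group
    · change x * Y .e * x⁻¹ = Y (l * 1) * Z (n * 1)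
      rw [mul_one, mul_one, ← hl]
    · change x * Y (F4.w * .e) * x⁻¹ = _
      rw [h1, mul_comm F4.u l, mul_comm F4.u n]
      rfl
    · change x * Y (F4.w * (F4.w * .e)) * x⁻¹ = _
      rw [h2, ← mul_assoc, ← mul_assoc, mul_comm _ l, mul_comm _ n]
      rfl
  have hZ : ∀ b, x * Z b * x⁻¹ = Z (h * F4.fr b) := by
    have h1 : x * Z (F4.w * .e) * x⁻¹ = Z (F4.u * h) := by
      rw [← F.ρZ, hρ', ← hh, ρinvZ D F]
    have h2 : x * Z (F4.w * (F4.w * .e)) * x⁻¹ = Z (F4.u * (F4.u * h)) := by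
      rw [← F.ρZ, hρ', h1, ρinvZ D F]
    intro b
    cases b
    · change x * Z 0 * x⁻¹ = Z (h * 0)
      rw [mul_zero, F.Z_zero]; group
    · change x * Z .e * x⁻¹ = Z (h * 1)
      rw [mul_one, hh]
    · change x * Z (F4.w * .e) * x⁻¹ = _
      rw [h1, mul_comm F4.u h]
      rfl
    · change x * Z (F4.w * (F4.w * .e)) * x⁻¹ = _
      rw [h2, ← mul_assoc, mul_comm _ h]
      rfl
  have hh0 : h ≠ 0 := by
    intro e
    have h1 := hZ .e
    rw [e, zero_mul] at h1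
    have h2 : Z .e = Z 0 := by
      rw [F.Z_zero] at h1 ⊢
      calc Z .e = x⁻¹ * (x * Z .e * x⁻¹) * x := by group
        _ = 1 := by rw [h1]; group
    exact absurd (F.Z_inj h2) (by decide)
  have hX' : ∀ a, ∃ a', x * X a * x⁻¹ = X a' := by
    intro a
    obtain ⟨a', ha'⟩ := F.X_surj _ (hx.R _ (F.X_mem a))
    exact ⟨a', ha'.symm⟩
  have hrel : ∀ a a', x * X a * x⁻¹ = X a' → a' * l = h * F4.fr a := by
    intro a a' e
    have h1 := conj_rel D F e (hY .e) (hZ _)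
    rw [e2] at h1
    change h * F4.fr a = a' * (l * 1) at h1
    rw [mul_one] at h1
    exact h1.symm
  obtain ⟨f, hf⟩ := hX' .e
  have hf1 := hrel _ _ hf
  change f * l = h * 1 at hf1
  rw [mul_one] at hf1
  have hf0 : f ≠ 0 := by
    intro e
    rw [e, zero_mul] at hf1
    exact hh0 hf1.symm
  have hl0 : l ≠ 0 := by
    intro e
    rw [e, mul_zero] at hf1
    exact hh0 hf1.symm
  refine ⟨f, l, n, h, hf0, hl0, hf1.symm, fun a => ?_, hY, hZ⟩
  obtain ⟨a', ha'⟩ := hX' a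
  have h3 := hrel _ _ ha'
  rw [ha']
  congr 1
  rw [← hf1] at h3
  have : ∀ l f a a' : F4, l ≠ 0 → a' * l = f * l * a → a' = f * a := by decide
  exact this l f _ a' hl0 h3

end

end Cfsg.Agent.StdAlt.Five.Moves
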