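import Cfsg.Agent.StdAlt.Five.Mu

/-!
# S1766, n = 5, case (I): normal form of the field automorphism
-/

set_option autoImplicit false

namespace Cfsg.Agent.StdAlt.Five.MuNorm

open Subgroup Cfsg.Agent.StdAlt.Conj Cfsg.Agent.J2Sylow.Model Cfsg.Agent.StdAlt.Five
open Cfsg.Agent.StdAlt.Five.Sec4 Cfsg.Agent.StdAlt.Five.PGroup Cfsg.Agent.StdAlt.Five.PExists
open Cfsg.Agent.StdAlt.Five.PData Cfsg.Agent.StdAlt.Five.Coord Cfsg.Agent.StdAlt.Five.Moves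
open Cfsg.Agent.StdAlt.Five.Mu

variable {G : Type*} [Group G] {A R V P : Subgroup G} {ρ g s : G} {ε f l n h : F4} {X Y Z : F4 → G}

/-- the semilinear action of `s` -/
structure Semi (X Y Z : F4 → G) (s : G) (f l n h : F4) : Prop where
  onX : ∀ a, s * X a * s⁻¹ = X (f * F4.fr a)
  onY : ∀ b, s * Y b * s⁻¹ = Y (l * F4.fr b) * Z (n * F4.fr b)
  onZ : ∀ c, s * Z c * s⁻¹ = Z (h * F4.fr c)

theorem Semi.scale (S : Semi X Y Z s f l n h) {β β' : F4} (hβ : β * β' = 1) :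
    Semi X (fun b => Y (β * b)) (fun c => Z (β * c)) s f (β' * l * F4.fr β) (β' * n * F4.fr β)
      (β' * h * F4.fr β) where
  onX := S.onX
  onY := by
    intro b
    rw [S.onY]
    have e : ∀ x : F4, β * (β' * x * F4.fr β * F4.fr b) = x * F4.fr (β * b) := by
      intro x
      rw [F4.fr_mul]
      calc β * (β' * x * F4.fr β * F4.fr b) = (β * β') * (x * (F4.fr β * F4.fr b)) := by ring
        _ = _ := by rw [hβ, one_mul]
    rw [e, e]
  onZ := by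
    intro b
    rw [S.onZ]
    have e : ∀ x : F4, β * (β' * x * F4.fr β * F4.fr b) = x * F4.fr (β * b) := by
      intro x
      rw [F4.fr_mul]
      calc β * (β' * x * F4.fr β * F4.fr b) = (β * β') * (x * (F4.fr β * F4.fr b)) := by ring
        _ = _ := by rw [hβ, one_mul]
    rw [e]

theorem Semi.scaleX (S : Semi X Y Z s f l n h) {α α' : F4} (hα : α * α' = 1) :
    Semi (fun a => X (α * a)) (fun b => Y (α' * b)) Z s (α' * f * F4.fr α) (α * l * F4.fr α')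
      (n * F4.fr α') h where
  onX := by
    intro a
    rw [S.onX]
    congr 1
    rw [F4.fr_mul]
    calc f * (F4.fr α * F4.fr a) = 1 * (f * (F4.fr α * F4.fr a)) := by rw [one_mul]
      _ = _ := by rw [← hα]; ring
  onY := by
    intro b
    rw [S.onY]
    congr 2
    · rw [F4.fr_mul]
      calc l * (F4.fr α' * F4.fr b) = 1 * (l * (F4.fr α' * F4.fr b)) := by rw [one_mul]
        _ = _ := by rw [← hα]; ring
    · rw [F4.fr_mul]; ring
  onZ := S.onZ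

theorem Semi.shift (F : Frame R V P ρ ε X Y Z) (S : Semi X Y Z s f l n h) (k : F4) :
    Semi X (fun b => Y b * Z (k * b)) Z s f l (n + k * l + h * F4.fr k) h where
  onX := S.onX
  onY := by
    intro b
    rw [conj_mul', S.onY, S.onZ, mul_assoc, mul_assoc, ← F.Z_add, ← F.Z_add]
    congr 2
    have : ∀ n h k l b : F4, n * F4.fr b + h * F4.fr (k * b) = k * (l * F4.fr b) +
      (n + k * l + h * F4.fr k) * F4.fr b := by
      intro n h k l b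
      rw [F4.fr_mul]
      have h2 : k * l * F4.fr b + k * l * F4.fr b = 0 := F4.add_self _
      calc n * F4.fr b + h * (F4.fr k * F4.fr b) = (k * l * F4.fr b + k * l * F4.fr b) +
            (n * F4.fr b + h * (F4.fr k * F4.fr b)) := by rw [h2, zero_add]
        _ = _ := by ring
    exact this n h k l b
  onZ := S.onZ

theorem Kap3.scale {ρ₀ : G} (K : Kap3 A X Y ρ₀) (β : F4) : Kap3 A X (fun b => Y (β * b)) ρ₀ where
  mem := K.mem
  conjX := K.conjX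
  conjY := by
    intro b
    rw [K.conjY]
    congr 1
    ring

theorem Kap3.scaleX {ρ₀ : G} (K : Kap3 A X Y ρ₀) (α α' : F4) :
    Kap3 A (fun a => X (α * a)) (fun b => Y (α' * b)) ρ₀ where
  mem := K.mem
  conjX := by
    intro b
    rw [K.conjX]
    congr 1
    ring
  conjY := by
    intro b
    rw [K.conjY]
    congr 1
    ring

section

variable (D : Data R V P ρ) (F : Frame R V P ρ ε X Y Z)
include D F

/-- if `s * s = 1` -/
theorem Semi.n_rel (S : Semi X Y Z s f l n h) (hs : s * s = 1) :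
    n * F4.fr l + h * F4.fr n = 0 := by
  have h1 : s * (s * Y F4.e * s⁻¹) * s⁻¹ = Y F4.e := by
    rw [show s * (s * Y F4.e * s⁻¹) * s⁻¹ = (s * s) * Y F4.e * (s * s)⁻¹ by group, hs]; group
  rw [S.onY, conj_mul', S.onY, S.onZ, mul_assoc, ← F.Z_add] at h1
  have h2 : Y (l * F4.fr (l * F4.fr F4.e)) * Z (n * F4.fr (l * F4.fr F4.e) + h * F4.fr (n * F4.fr F4.e)) =
    Y F4.e * Z 0 := by rw [h1, F.Z_zero, mul_one]
  have h3 := (E2_inj D F h2).2
  have : ∀ n l h : F4, n * F4.fr (l * F4.fr F4.e) + h * F4.fr (n * F4.fr F4.e) = n * F4.fr l + h * F4.fr n := by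
    decide
  rw [this] at h3
  exact h3

/-- case (Q): `f = 1` -/
theorem Semi.f_one (hε : ε = F4.e) (S : Semi X Y Z s f l n h) (hl : l ≠ 0) (hfl : h = f * l) : f = 1 := by
  subst hε
  have h1 : (Y F4.e) * (Y F4.e) = Z F4.e := by
    rw [F.Y_mul]
    change Y 0 * Z F4.e = _
    rw [F.Y_zero, one_mul]
  have h2 : s * (Y F4.e * Y F4.e) * s⁻¹ = Z (h * F4.fr F4.e) := by
    rw [h1, S.onZ]
  rw [conj_mul', S.onY, E2_mul D F] at h2
  have h3 := (E2_inj D F (b' := 0) (by rw [h2, F.Y_zero, one_mul])).2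
  subst hfl
  have : ∀ l n f : F4, l ≠ 0 → n * F4.fr F4.e + n * F4.fr F4.e +
      F4.e * F4.fr (l * F4.fr F4.e * (l * F4.fr F4.e)) = f * l * F4.fr F4.e → f = 1 := by decide
  exact this l n f hl h3

/-- normal form except for `n` -/
theorem norm_aux (hε : ε = 0 ∨ ε = F4.e) (S : Semi X Y Z s f l n h) (hf : f ≠ 0) (hl : l ≠ 0)
    (hfl : h = f * l) : ∃ (X' Y' Z' : F4 → G) (n' : F4), Frame R V P ρ ε X' Y' Z' ∧
      Semi X' Y' Z' s 1 1 n' 1 ∧ (n = 0 → n' = 0) ∧ ∀ ρ₀, Kap3 A X Y ρ₀ → Kap3 A X' Y' ρ₀ := by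
  rcases hε with rfl | hε
  · have hα : F4.fr f * f = 1 := by
      have : ∀ f : F4, f ≠ 0 → F4.fr f * f = 1 := by decide
      exact this f hf
    have hh : h ≠ 0 := by
      have : ∀ f l : F4, f ≠ 0 → l ≠ 0 → f * l ≠ 0 := by decide
      rw [hfl]; exact this f l hf hl
    have hβ : F4.fr h * h = 1 := by
      have : ∀ f : F4, f ≠ 0 → F4.fr f * f = 1 := by decide
      exact this h hh
    have S1 := S.scaleX hα
    have S2 := S1.scale hβ
    have e1 : f * f * F4.fr (F4.fr f) = 1 := by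
      have : ∀ f : F4, f ≠ 0 → f * f * F4.fr (F4.fr f) = 1 := by decide
      exact this f hf
    have e2 : h * (F4.fr f * l * F4.fr f) * F4.fr (F4.fr h) = 1 := by
      have : ∀ f l : F4, f ≠ 0 → l ≠ 0 → f * l * (F4.fr f * l * F4.fr f) * F4.fr (F4.fr (f * l)) = 1 := by
        decide
      rw [hfl]
      exact this f l hf hl
    have e3 : h * h * F4.fr (F4.fr h) = 1 := by
      have : ∀ f : F4, f ≠ 0 → f * f * F4.fr (F4.fr f) = 1 := by decide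
      exact this h hh
    rw [e1, e2, e3] at S2
    refine ⟨_, _, _, _, Moves.scale (Moves.scaleX F hα) hβ, S2, ?_, ?_⟩
    · intro hn
      rw [hn]; ring
    · intro ρ₀ K
      exact Kap3.scale (Kap3.scaleX K (F4.fr f) f) (F4.fr h)
  · have hf1 := S.f_one D F hε hl hfl
    have hhl : h = l := by rw [hfl, hf1, one_mul]
    subst hhl
    have hβ : F4.fr h * h = 1 := by
      have : ∀ f : F4, f ≠ 0 → F4.fr f * f = 1 := by decide
      exact this h hl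
    have S2 := S.scale hβ
    have e3 : h * h * F4.fr (F4.fr h) = 1 := by
      have : ∀ f : F4, f ≠ 0 → f * f * F4.fr (F4.fr f) = 1 := by decide
      exact this h hl
    rw [e3, hf1] at S2
    refine ⟨_, _, _, _, Moves.scale F hβ, S2, ?_, ?_⟩
    · intro hn
      rw [hn]; ring
    · intro ρ₀ K
      exact Kap3.scale K (F4.fr h)

omit D F in
theorem Semi.mu2 (hS : IsS A R V ρ s) (hss : s * s = 1) (S : Semi X Y Z s 1 1 0 1) (F : Frame R V P ρ ε X Y Z) :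
    Mu2 A ρ X Y Z s where
  mem := hS.mem
  out := fun a ha k hk e => hS.out ⟨a, ha, k, hk, e⟩
  sq := hss
  conjρ := by
    have h1 := hS.conjρ
    rwa [inv_eq_of_mul_eq_one_left hss] at h1
  conjX := by
    intro a
    have h1 := S.onX a
    rwa [inv_eq_of_mul_eq_one_left hss, one_mul] at h1
  conjY := by
    intro a
    have h1 := S.onY a
    rwa [inv_eq_of_mul_eq_one_left hss, one_mul, zero_mul, F.Z_zero, mul_one] at h1
  conjZ := by
    intro a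
    have h1 := S.onZ a
    rwa [inv_eq_of_mul_eq_one_left hss, one_mul] at h1

end

variable {hO : OddE A R V ρ g}

/-- `s` can be chosen to be an involution -/
theorem exists_sq [Finite G] (hP : IsP hO P) (F : Frame R V P ρ ε X Y Z) (hs : IsS A R V ρ s) :
    ∃ r ∈ R, (r * s) * (r * s) = 1 := by
  have D := PData.data hP
  obtain ⟨f, l, n, h, hf, hl, hfl, hX, hY, hZ⟩ := act_semi D F (hs.nrm hP) hs.conjρ
  obtain ⟨r, hr⟩ := F.X_surj _ hs.sq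
  have h1 : f * F4.fr r = r := by
    apply F.X_inj
    rw [← hX, hr]; group
  have key : ∀ f r : F4, f ≠ 0 → f * F4.fr r = r → ∃ a, a + f * F4.fr a + r = 0 := by decide
  obtain ⟨a, ha⟩ := key f r hf h1
  refine ⟨X a, F.X_mem a, ?_⟩
  rw [show X a * s * (X a * s) = X a * (s * X a * s⁻¹) * (s * s) by group, hX, ← hr, ← F.X_add, ← F.X_add,
    ha, F.X_zero]

/-- **normal form of `μ = 2`** (without `κ`) -/
theorem norm_one [Finite G] (hP : IsP hO P) (hε : ε = 0 ∨ ε = F4.e) (F : Frame R V P ρ ε X Y Z)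
    (h8 : ¬ 8 ∣ Nat.card A) (hmu : ¬ Mu1 A) : ∃ X' Y' Z' s, Frame R V P ρ ε X' Y' Z' ∧ Mu2 A ρ X' Y' Z' s := by
  have D := PData.data hP
  obtain ⟨s₀, hs₀⟩ := exists_isS hO F h8 hmu
  obtain ⟨r, hr, hrs⟩ := exists_sq hP F hs₀
  have hs := hs₀.mul_R hO hr
  obtain ⟨s, hse⟩ : ∃ s, s = r * s₀ := ⟨_, rfl⟩
  rw [← hse] at hs hrs
  obtain ⟨f, l, n, h, hf, hl, hfl, hX, hY, hZ⟩ := act_semi D F (hs.nrm hP) hs.conjρ
  obtain ⟨X', Y', Z', n', F', S', -, -⟩ := norm_aux (A := A) D F hε ⟨hX, hY, hZ⟩ hf hl hfl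
  have h1 := S'.n_rel D F' hrs
  have key : ∀ n : F4, n * F4.fr 1 + 1 * F4.fr n = 0 → ∃ k, n + k * 1 + 1 * F4.fr k = 0 := by decide
  obtain ⟨k, hk⟩ := key n' h1
  have S'' := S'.shift F' k
  rw [hk] at S''
  have F'' := Moves.shift D F' k
  exact ⟨_, _, _, s, F'', S''.mu2 hs hrs F''⟩

/-- odd elements of `C_G(R)` in `C A` -/
theorem dec_CR [Finite G] {x : G} (hx : x ∈ C A) (hR : ∀ r ∈ R, x * r = r * x) (hO : OddE A R V ρ g) :
    ∃ y ∈ R, ∃ d ∈ Od R V, x = y * d := by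
  obtain ⟨a, b, ha, hb, hab, ha2, hbo⟩ := exists_two_odd x
  have hzA : zpowers x ≤ C A := by rw [zpowers_le]; exact hx
  have hpow : ∀ y ∈ zpowers x, ∀ r ∈ R, y * r = r * y := by
    rintro y ⟨n, rfl⟩ r hr
    exact ((show Commute x r from hR r hr).zpow_left n).eq
  refine ⟨a, ?_, b, ⟨⟨hpow b hb, fun v hv => comm_of_C (hzA hb) (hO.V_le hv)⟩, hbo⟩, hab⟩
  apply mem_R_of_two hO (hzA ha) _ ha2
  intro r hr
  rw [hpow a ha r hr]
  rw [show r * a * a⁻¹ = r by group]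
  exact hr

theorem inv_Od {d : G} (hd : d ∈ Od R V) : d⁻¹ ∈ Od R V := by
  refine ⟨⟨fun r hr => ?_, fun r hr => ?_⟩, by rw [orderOf_inv]; exact hd.2⟩
  · exact ((show Commute d r from hd.1.1 r hr).inv_left).eq
  · exact ((show Commute d r from hd.1.2 r hr).inv_left).eq

/-- **normal form of `κ = 3`, `μ = 2`** -/
theorem norm_three [Finite G] (hP : IsP hO P) (F : Frame R V P ρ 0 X Y Z) {ρ₀ : G} (K : Kap3 A X Y ρ₀)
    (h8 : ¬ 8 ∣ Nat.card A) (hmu : ¬ Mu1 A) : ∃ X' Y' Z' s, Frame R V P ρ 0 X' Y' Z' ∧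
      Kap3 A X' Y' ρ₀ ∧ Mu2 A ρ X' Y' Z' s ∧ ∃ d ∈ Od R V, s * ρ₀ * s⁻¹ = ρ₀⁻¹ * d := by
  have D := PData.data hP
  obtain ⟨s₀, hs₀⟩ := exists_isS hO F h8 hmu
  have hρ₀E : ρ₀ ∈ N (R ⊔ V) := by
    refine Base.mem_NE hO (fun r hr => ?_) (fun v hv => ?_)
    · obtain ⟨a, rfl⟩ := F.X_surj r hr
      rw [K.conjX]; exact F.X_mem _
    · rw [Base.CA_V hO K.mem hv]; exact hv
  have hρi : ∀ a, ρ₀⁻¹ * X a * ρ₀ = X (F4.u * a) := by
    intro a
    have h1 := K.conjX (F4.u * a)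
    have : ∀ a : F4, F4.w * (F4.u * a) = a := by decide
    rw [this] at h1
    rw [← h1]; group
  have hρiY : ∀ a, ρ₀⁻¹ * Y a * ρ₀ = Y (F4.w * a) := by
    intro a
    have h1 := K.conjY (F4.w * a)
    have : ∀ a : F4, F4.u * (F4.w * a) = a := by decide
    rw [this] at h1
    rw [← h1]; group
  -- the adjusted element
  obtain ⟨r, hr, d, hd, hrd⟩ : ∃ r ∈ R, ∃ d ∈ Od R V, (r * s₀) * ρ₀ * (r * s₀)⁻¹ = ρ₀⁻¹ * d := by
    obtain ⟨f, l, n, h, hf, hl, hfl, hX, hY, hZ⟩ := act_semi D F (hs₀.nrm hP) hs₀.conjρ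
    have hxA : ρ₀ * (s₀ * ρ₀ * s₀⁻¹) ∈ C A := mul_mem K.mem (conj_mem_C hs₀.mem K.mem)
    have hxR : ∀ r ∈ R, ρ₀ * (s₀ * ρ₀ * s₀⁻¹) * r = r * (ρ₀ * (s₀ * ρ₀ * s₀⁻¹)) := by
      intro r hr
      obtain ⟨a, rfl⟩ := F.X_surj r hr
      obtain ⟨b, hb⟩ : ∃ b, f * F4.fr b = a := by
        have : ∀ hh d : F4, hh ≠ 0 → ∃ c, hh * F4.fr c = d := by decide
        exact this f a hf
      have h1 : (s₀ * ρ₀ * s₀⁻¹) * X a * (s₀ * ρ₀ * s₀⁻¹)⁻¹ = X (F4.u * a) := by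
        rw [← hb, ← hX, show (s₀ * ρ₀ * s₀⁻¹) * (s₀ * X b * s₀⁻¹) * (s₀ * ρ₀ * s₀⁻¹)⁻¹ =
          s₀ * (ρ₀ * X b * ρ₀⁻¹) * s₀⁻¹ by group, K.conjX, hX]
        congr 1
        have : ∀ f b : F4, f * F4.fr (F4.w * b) = F4.u * (f * F4.fr b) := by decide
        exact this f b
      have h2 : (ρ₀ * (s₀ * ρ₀ * s₀⁻¹)) * X a * (ρ₀ * (s₀ * ρ₀ * s₀⁻¹))⁻¹ = X a := by
        rw [show (ρ₀ * (s₀ * ρ₀ * s₀⁻¹)) * X a * (ρ₀ * (s₀ * ρ₀ * s₀⁻¹))⁻¹ =
          ρ₀ * ((s₀ * ρ₀ * s₀⁻¹) * X a * (s₀ * ρ₀ * s₀⁻¹)⁻¹) * ρ₀⁻¹ by group, h1, K.conjX]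
        congr 1
        have : ∀ a : F4, F4.w * (F4.u * a) = a := by decide
        exact this a
      calc ρ₀ * (s₀ * ρ₀ * s₀⁻¹) * X a = ((ρ₀ * (s₀ * ρ₀ * s₀⁻¹)) * X a * (ρ₀ * (s₀ * ρ₀ * s₀⁻¹))⁻¹) *
            (ρ₀ * (s₀ * ρ₀ * s₀⁻¹)) := by group
        _ = _ := by rw [h2]
    obtain ⟨y, hy, d, hd, e⟩ := dec_CR hxA hxR hO
    obtain ⟨c, rfl⟩ := F.X_surj y hy
    have e1 : s₀ * ρ₀ * s₀⁻¹ = ρ₀⁻¹ * X c * d := by
      rw [mul_assoc ρ₀⁻¹, ← e]; group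
    refine ⟨X (F4.w * c), F.X_mem _, d, hd, ?_⟩
    have h1 : d * X (F4.w * c) = X (F4.w * c) * d := hd.1.1 _ (F.X_mem _)
    have h2 : X c * X (F4.w * c) = X (F4.w * c) * X c := by rw [← F.X_add, ← F.X_add, add_comm]
    have h3 : (X (F4.w * c))⁻¹ = X (F4.w * c) := PGroup.invR hO (F.X_mem _)
    calc X (F4.w * c) * s₀ * ρ₀ * (X (F4.w * c) * s₀)⁻¹
        = X (F4.w * c) * (s₀ * ρ₀ * s₀⁻¹) * (X (F4.w * c))⁻¹ := by group
      _ = X (F4.w * c) * (ρ₀⁻¹ * X c * d) * X (F4.w * c) := by rw [e1, h3]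
      _ = X (F4.w * c) * ρ₀⁻¹ * X c * (d * X (F4.w * c)) := by group
      _ = X (F4.w * c) * ρ₀⁻¹ * (X c * X (F4.w * c)) * d := by rw [h1]; group
      _ = X (F4.w * c) * (ρ₀⁻¹ * X (F4.w * c) * ρ₀) * (ρ₀⁻¹ * X c * ρ₀) * ρ₀⁻¹ * d := by rw [h2]; group
      _ = X (F4.w * c + F4.u * (F4.w * c) + F4.u * c) * ρ₀⁻¹ * d := by
          rw [hρi, hρi, F.X_add, F.X_add]
      _ = ρ₀⁻¹ * d := by
          have : ∀ c : F4, F4.w * c + F4.u * (F4.w * c) + F4.u * c = 0 := by decide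
          rw [this, F.X_zero, one_mul]
  have hs := hs₀.mul_R hO hr
  obtain ⟨s, hse⟩ : ∃ s, s = r * s₀ := ⟨_, rfl⟩
  rw [← hse] at hs hrd
  have hsE : s ∈ N (R ⊔ V) := hs.NE hO
  -- `s * s = 1`
  have hss : s * s = 1 := by
    obtain ⟨t, ht⟩ := F.X_surj _ hs.sq
    have h1 : (s * s) * ρ₀ * (s * s)⁻¹ = d⁻¹ * ρ₀ * (s * d * s⁻¹) := by
      calc (s * s) * ρ₀ * (s * s)⁻¹ = s * (s * ρ₀ * s⁻¹) * s⁻¹ := by group
        _ = s * (ρ₀⁻¹ * d) * s⁻¹ := by rw [hrd]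
        _ = (s * ρ₀ * s⁻¹)⁻¹ * (s * d * s⁻¹) := by group
        _ = _ := by rw [hrd]; group
    have hd' : s * d * s⁻¹ ∈ Od R V := Od_conj hO hsE hd
    have hd'' : ρ₀ * (s * d * s⁻¹) * ρ₀⁻¹ ∈ Od R V := Od_conj hO hρ₀E hd'
    have h2 : X (F4.u * t) = d⁻¹ * (ρ₀ * (s * d * s⁻¹) * ρ₀⁻¹) := by
      have h3 : (X t)⁻¹ = X t := PGroup.invR hO (F.X_mem _)
      rw [← ht] at h1
      calc X (F4.u * t) = X t * X (F4.w * t) := by
            rw [← F.X_add]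
            congr 1
            have : ∀ t : F4, F4.u * t = t + F4.w * t := by decide
            exact this t
        _ = X t * (ρ₀ * (X t)⁻¹ * ρ₀⁻¹) := by rw [h3, K.conjX]
        _ = (X t * ρ₀ * (X t)⁻¹) * ρ₀⁻¹ := by group
        _ = _ := by rw [h1]; group
    have h4 : X (F4.u * t) * Y F4.e = Y F4.e * X (F4.u * t) := by
      have h5 := Od_P hP (inv_Od hd) (F.Y_mem F4.e)
      have h6 := Od_P hP hd'' (F.Y_mem F4.e)
      rw [h2, mul_assoc, ← h6, ← mul_assoc, ← h5, mul_assoc]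
    rw [F.X_Y] at h4
    have h5 : Z (F4.u * t * F4.e) = Z 0 := by
      rw [F.Z_zero]
      exact mul_eq_left.1 h4
    have h6 := F.Z_inj h5
    have : ∀ t : F4, F4.u * t * F4.e = 0 → t = 0 := by decide
    rw [← ht, this t h6, F.X_zero]
  obtain ⟨f, l, n, h, hf, hl, hfl, hX, hY, hZ⟩ := act_semi D F (hs.nrm hP) hs.conjρ
  have hn : n = 0 := by
    have h1 : s * (ρ₀ * Y F4.e * ρ₀⁻¹) * s⁻¹ = Y (F4.w * l) * Z n := by
      have h2 : s * Y F4.e * s⁻¹ = Y l * Z n := by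
        rw [hY]
        congr 2
        · exact mul_one l
        · exact mul_one n
      have h3 := Od_P hP hd (P.mul_mem (F.Y_mem l) (D.B_le (F.Z_mem n)))
      have h4 : ρ₀⁻¹ * Z n * ρ₀ = Z n := by
        have := Base.CA_V hO (inv_mem K.mem) (F.Z_mem n)
        rwa [inv_inv] at this
      calc s * (ρ₀ * Y F4.e * ρ₀⁻¹) * s⁻¹ = (s * ρ₀ * s⁻¹) * (s * Y F4.e * s⁻¹) * (s * ρ₀ * s⁻¹)⁻¹ := by
            group
        _ = ρ₀⁻¹ * (d * (Y l * Z n)) * d⁻¹ * ρ₀ := by rw [hrd, h2]; group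
        _ = (ρ₀⁻¹ * Y l * ρ₀) * (ρ₀⁻¹ * Z n * ρ₀) := by rw [← h3]; group
        _ = _ := by rw [hρiY, h4]
    rw [K.conjY, hY] at h1
    have h2 := (E2_inj D F h1).2
    have : ∀ n : F4, n * F4.fr (F4.u * F4.e) = n → n = 0 := by decide
    exact this n h2
  obtain ⟨X', Y', Z', n', F', S', hn', hK⟩ := norm_aux (A := A) D F (Or.inl rfl) ⟨hX, hY, hZ⟩ hf hl hfl
  rw [hn' hn] at S'
  exact ⟨X', Y', Z', s, F', hK ρ₀ K, S'.mu2 hs hss F', d, hd, hrd⟩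

end Cfsg.Agent.StdAlt.Five.MuNorm
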