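import Cfsg.Agent.StdAlt.Five.MkOdd
import Cfsg.Agent.StdAlt.Five.MkTwo

/-!
# In the type two case there are no odd pairs
-/

set_option autoImplicit false
set_option linter.unusedSectionVars false

namespace Cfsg.Agent.StdAlt.Five

open Subgroup Equiv Cfsg.Agent.StdAlt.Conj Cfsg.Agent.StdAlt.Pairs Cfsg.Agent.StdAlt.First
open Cfsg.Agent.StdAlt.Two (HasFour)

variable {G : Type*} [Group G] {A B : Subgroup G}

/-- symmetric form of the odd pairs -/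
theorem odd_sym [Finite G] (L : Lab A (Fin 5)) (L' : Lab B (Fin 5)) (hA : TE A) (hBt : TE B) (hB : Cj A B)
    (hne : A ≠ B) (noA : ∀ a ∈ A, a ∈ C B → a * a = 1 → a = 1)
    (noB : ∀ b ∈ B, b ∈ C A → b * b = 1 → b = 1) {T : Subgroup G} (hTB : T ≤ C B) (hTA : T ≤ N A)
    (hT4 : Nat.card T = 4) :
    ∃ i j R, OddP L hA B T i R ∧ R ≤ N B ∧ OddP L' hBt A R j T ∧ Kl L' hBt j ≤ R ⊔ Kl L hA i ∧
      ¬ 8 ∣ Nat.card (C A) := by
  obtain ⟨i, R, Q⟩ := exists_oddP L hA hB hne noA hTB hTA hT4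
  have hR1 : ∀ r ∈ R, r ≠ 1 → ∃ s ∈ T, s ≠ 1 ∧ ∃ a ∈ Kl L hA i, r = s * a := by
    intro r hr hr1
    obtain ⟨s, hs, a, ha, rfl⟩ := Q.dn r hr
    refine ⟨s, hs, ?_, a, ha, rfl⟩
    rintro rfl
    rw [one_mul] at hr hr1
    exact hr1 (hA.disj a (mem_Kl.1 ha).1 (Q.le hr))
  have hcent : ∀ n ∈ C A, ∀ r ∈ R, r ≠ 1 → n * r = r * n → n ∈ N B := by
    intro n hn r hr hr1 hnr
    obtain ⟨s, hs, hs1, a, ha, rfl⟩ := hR1 r hr hr1
    refine hBt.nrm (hTB hs) hs1 (Q.sqT s hs) ?_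
    have h1 : n * a = a * n := comm_of_C hn (mem_Kl.1 ha).1
    have h2 : n * s * a = s * n * a := by
      rw [mul_assoc, hnr, mul_assoc, mul_assoc, h1]
    exact mul_right_cancel h2
  have hRB : R ≤ N B := by
    intro r hr
    by_cases hr1 : r = 1
    · rw [hr1]; exact one_mem _
    · exact hcent r (Q.le hr) r hr hr1 rfl
  have h8 := not_eight L' hA hB hne noB Q.le hRB Q.card hcent
  have hcTR : ∀ t ∈ T, ∀ r ∈ R, t * r = r * t := by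
    intro t ht r hr
    obtain ⟨u, hu, a, ha, rfl⟩ := Q.dn r hr
    rw [← mul_assoc, comm_of_card_four hT4 ht hu, mul_assoc, Q.commT t ht a ha, mul_assoc]
  obtain ⟨j, T', P⟩ := exists_oddP L' hBt hB.symm (Ne.symm hne) noB Q.le hRB Q.card
  have hT'T : T' ≤ T := by
    intro s hs
    by_contra hsT
    obtain ⟨r, hr, b, hb, hsrb⟩ := P.dn s hs
    have hsc : ∀ t ∈ T, s * t = t * s := by
      intro t ht
      have h1 : t * b = b * t := comm_of_C (hTB ht) (mem_Kl.1 hb).1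
      rw [hsrb, mul_assoc, ← h1, ← mul_assoc, ← hcTR t ht r hr, mul_assoc]
    have hss : s * s = 1 := by
      rw [hsrb, mul_assoc, ← mul_assoc b, ← P.commT r hr b hb, mul_assoc, (mem_Kl.1 hb).2.1, mul_one,
        P.sqT r hr]
    have hsN : s ∈ N T := mem_N_of (fun t ht => by rwa [hsc t ht, mul_inv_cancel_right])
    apply h8
    have h1 := card_sup_zpowers hsN hss hsT
    rw [hT4] at h1
    have h2 : T ⊔ zpowers s ≤ C B := sup_le hTB (by rw [zpowers_le]; exact P.le hs)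
    have h3 := card_dvd_of_le h2
    rw [h1, ← hB.card_C] at h3
    exact h3
  have hTT : T' = T := eq_of_le_of_card_ge hT'T (by rw [P.card, hT4])
  rw [hTT] at P
  refine ⟨i, j, R, Q, hRB, P, ?_, h8⟩
  have hTE : T ≤ R ⊔ Kl L hA i := by
    intro s hs
    obtain ⟨a, ha, -, hsa⟩ := Q.up s hs
    have h1 : s = (s * a) * a⁻¹ := by group
    rw [h1]
    exact mul_mem ((le_sup_left : R ≤ _) hsa) (inv_mem ((le_sup_right : Kl L hA i ≤ _) ha))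
  intro b hb
  obtain ⟨r, hr, -, hrb⟩ := P.surj b hb
  have h1 : b = r⁻¹ * (r * b) := by group
  rw [h1]
  exact mul_mem (inv_mem ((le_sup_left : R ≤ _) hr)) (hTE hrb)

/-- elements of `R ⊔ V` -/
theorem mem_sup_Kl {L : Lab A (Fin 5)} {hA : TE A} {i : Fin 5} {R : Subgroup G} (hR : R ≤ C A)
    {x : G} (hx : x ∈ R ⊔ Kl L hA i) : ∃ r ∈ R, ∃ v ∈ Kl L hA i, x = r * v := by
  have hc : Kl L hA i ≤ N R := by
    intro v hv
    rw [mem_N]
    intro r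
    have hc' : ∀ y ∈ R, v * y * v⁻¹ = y := fun y hy => by
      rw [← comm_of_C (hR hy) (mem_Kl.1 hv).1, mul_inv_cancel_right]
    constructor
    · intro hr
      rwa [hc' r hr]
    · intro h
      have h1 := hc' _ h
      have h2 : v * r * v⁻¹ = r := by
        have := congrArg (fun z => v⁻¹ * z * v) h1
        simpa [mul_assoc] using this
      rwa [h2] at h
  rw [← SetLike.mem_coe, coe_mul_of_right_le_normalizer_left R (Kl L hA i) hc] at hx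
  obtain ⟨r, hr, v, hv, rfl⟩ := hx
  exact ⟨r, hr, v, hv, rfl⟩

/-- 2-elements of `C A` lie in `B` for a pair of type two -/
theorem TwoP.le_of_pgroup [Finite G] {L : Lab A (Fin 5)} {L' : Lab B (Fin 5)} {i j : Fin 5}
    (h : TwoP L L' i j) {Q : Subgroup G} (hQ : IsPGroup 2 Q) (hQA : Q ≤ C A) : Q ≤ B := by
  intro x hx
  have hBt : TE B := h.teA.of_cj h.cj
  obtain ⟨b, hb, hbj, d, hdA, hdB, hxbd⟩ := decomp h (hQA hx)
  obtain ⟨n, hn⟩ := hQ ⟨x, hx⟩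
  have h1 : x ^ 2 ^ n = 1 := congrArg Subtype.val hn
  have hcomm : Commute b d := (comm_of_C hdB hb).symm
  rw [hxbd, hcomm.mul_pow] at h1
  have h2 : d ^ 2 ^ n = (b ^ 2 ^ n)⁻¹ := eq_inv_of_mul_eq_one_right h1
  have h3 : d ^ 2 ^ n = 1 := by
    apply hBt.disj _ _ (pow_mem hdB _)
    rw [h2]; exact inv_mem (pow_mem hb _)
  have h4 := odd_orderOf h.teA h.cj h.ne hdA hdB
  have h5 := orderOf_dvd_of_pow_eq_one h3
  have h6 : Nat.Coprime (orderOf d) (2 ^ n) := (Nat.coprime_two_right.2 h4).pow_right n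
  have h7 : d = 1 := orderOf_eq_one_iff.1 (Nat.eq_one_of_dvd_coprimes h6 dvd_rfl h5)
  rw [hxbd, h7, mul_one]; exact hb

/-- every involution of `A` is conjugate into `C A` -/
def AllK (A : Subgroup G) : Prop := ∀ a ∈ A, a ≠ 1 → a * a = 1 → ∃ x : G, x * a * x⁻¹ ∈ C A

theorem allK_of_exists (L : Lab A (Fin 5)) (hA : TE A)
    (hK : ∃ x : G, ∃ a ∈ A, a ≠ 1 ∧ a * a = 1 ∧ x * a * x⁻¹ ∈ C A) : AllK A := by
  obtain ⟨x, a, ha, ha1, haa, hx⟩ := hK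
  intro b hb hb1 hbb
  obtain ⟨r', hr'⟩ := fact_conj (Lab.ev L hb) ((Lab.ev_sq L hA hb).2 hbb)
    (fun h => hb1 ((Lab.ev_eq_one L hA hb).1 h)) (Lab.ev L ha) ((Lab.ev_sq L hA ha).2 haa)
    (fun h => ha1 ((Lab.ev_eq_one L hA ha).1 h))
  obtain ⟨r, hr, rfl⟩ := Lab.exists_ev L r'
  have h1 : r * b * r⁻¹ = a := by
    apply L.inj hA (conj_mem (le_N hr) hb) ha
    rw [L.conj (le_N hr) (le_N hb)]
    exact congrArg Subtype.val hr'
  refine ⟨x * r, ?_⟩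
  rw [show x * r * b * (x * r)⁻¹ = x * (r * b * r⁻¹) * x⁻¹ by group, h1]
  exact hx

theorem AllK.of_cj (h : AllK A) (hB : Cj A B) : AllK B := by
  obtain ⟨g, rfl⟩ := hB.exists_eq
  intro b hb hb1 hbb
  obtain ⟨x, hx⟩ := h (g⁻¹ * b * g) (mem_cj.1 hb) (fun e => hb1 (by
    rw [show b = g * (g⁻¹ * b * g) * g⁻¹ by group, e]; group)) (by
    rw [show g⁻¹ * b * g * (g⁻¹ * b * g) = g⁻¹ * (b * b) * g by group, hbb]; group)
  refine ⟨g * x * g⁻¹, ?_⟩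
  rw [mem_C_cj, show g⁻¹ * (g * x * g⁻¹ * b * (g * x * g⁻¹)⁻¹) * g =
    x * (g⁻¹ * b * g) * x⁻¹ by group]
  exact hx

/-- an involution of `A` centralizes another conjugate, and then there is a pair of type two -/
theorem AllK.exists_twoP [Finite G] (L : Lab A (Fin 5)) (hA : TE A) (hF : HasFour A) (h : AllK A) {a : G}
    (ha : a ∈ A) (ha1 : a ≠ 1) (haa : a * a = 1) :
    ∃ (x : G) (i j : Fin 5), a ∈ C (Conj.cj x A) ∧ TwoP L (L.cj x) i j := by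
  obtain ⟨x, hx⟩ := h a ha ha1 haa
  have hxB : a ∈ C (Conj.cj x⁻¹ A) := by
    rw [mem_C_cj, inv_inv]; exact hx
  have hne : A ≠ Conj.cj x⁻¹ A := by
    intro e
    rw [← e] at hxB
    exact ha1 (hA.disj a ha hxB)
  obtain ⟨i, j, h⟩ := Five.exists_twoP L (L.cj x⁻¹) hA (Cj.cj A x⁻¹) hne hF ha ha1 haa hxB
  exact ⟨x⁻¹, i, j, hxB, h⟩

/-- auxiliary predicate -/
def FM (i : Fin 5) (a v : A5) : Prop :=
  (v * v = 1 ∧ v ≠ 1 ∧ v ≠ a ∧ v.1 i = i) → ∃ r : A5, r.1 i = i ∧ r * r * r = 1 ∧ r * a * r⁻¹ = v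

instance (i : Fin 5) (a v : A5) : Decidable (FM i a v) := by unfold FM; infer_instance

theorem fact_move : ∀ i : Fin 5, ∀ a : A5, (a * a = 1 ∧ a ≠ 1 ∧ a.1 i = i) → ∀ v : A5, FM i a v := by
  decide +kernel

/-- in the type two case there are no odd pairs -/
theorem no_odd [Finite G] (L : Lab A (Fin 5)) (hA : TE A) (hF : HasFour A) (hK : AllK A)
    (hB : Cj A B) (hne : A ≠ B) {T : Subgroup G} (hTB : T ≤ C B) (hTA : T ≤ N A)
    (hT4 : Nat.card T = 4) : T ≤ A := by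
  have hBt : TE B := hA.of_cj hB
  obtain ⟨h, rfl⟩ := hB.exists_eq
  set L' := L.cj h with hL'
  by_cases hex : ∃ y ∈ A, y ∈ C (Conj.cj h A) ∧ y * y = 1 ∧ y ≠ 1
  · obtain ⟨y, hy, hyB, hyy, hy1⟩ := hex
    obtain ⟨i, j, h2⟩ := Five.exists_twoP L L' hA hB hne hF hy hy1 hyy hyB
    have h3 : TwoP L' L j i := ⟨hBt, hB.symm, Ne.symm hne, h2.leA, h2.leB, h2.fixB, h2.fixA⟩
    exact h3.le_of_pgroup (isPGroup_four hT4) hTB
  exfalso
  have noA : ∀ a ∈ A, a ∈ C (Conj.cj h A) → a * a = 1 → a = 1 := by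
    intro a ha haB haa
    by_contra ha1
    exact hex ⟨a, ha, haB, haa, ha1⟩
  have noB : ∀ b ∈ Conj.cj h A, b ∈ C A → b * b = 1 → b = 1 := by
    intro b hb hbA hbb
    by_contra hb1
    obtain ⟨a, ha, haB, ha1, haa⟩ := exists_inv_B L' L hBt hB.symm (Ne.symm hne) (hF.of_cj hB) hb hb1
      hbb hbA
    exact hex ⟨a, ha, haB, haa, ha1⟩
  obtain ⟨i, j, R, Q, hRB, P, hVE, h8⟩ := odd_sym L L' hA hBt hB hne noA noB hTB hTA hT4
  -- commutation inside `E = R ⊔ V`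
  have hcRV : ∀ r ∈ R, ∀ v ∈ Kl L hA i, r * v = v * r := fun r hr v hv =>
    comm_of_C (Q.le hr) (mem_Kl.1 hv).1
  have hcE : ∀ x ∈ R ⊔ Kl L hA i, ∀ y ∈ R ⊔ Kl L hA i, x * y = y * x := by
    intro x hx y hy
    obtain ⟨r, hr, v, hv, rfl⟩ := mem_sup_Kl Q.le hx
    obtain ⟨s, hs, w, hw, rfl⟩ := mem_sup_Kl Q.le hy
    have e1 := hcRV r hr w hw
    have e2 := hcRV s hs v hv
    have e3 := comm_of_card_four Q.card hr hs
    have e4 := Kl_comm hv hw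
    calc r * v * (s * w) = r * (v * s) * w := by group
      _ = (r * s) * (v * w) := by rw [← e2]; group
      _ = (s * r) * (w * v) := by rw [e3, e4]
      _ = s * (r * w) * v := by group
      _ = s * w * (r * v) := by rw [e1]; group
  -- an involution of `V'`
  obtain ⟨z', hzz', hzj', hz1'⟩ := fact_kl j
  obtain ⟨z, hzB, rfl⟩ := Lab.exists_ev L' z'
  have hz1 : z ≠ 1 := fun e => hz1' ((Lab.ev_eq_one L' hBt hzB).2 e)
  have hzz : z * z = 1 := (Lab.ev_sq L' hBt hzB).1 hzz'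
  have hzK : z ∈ Kl L' hBt j := mem_Kl.2 ⟨hzB, hzz, hzj'⟩
  obtain ⟨x₂, j', j₂, hzC, h2⟩ := (hK.of_cj hB).exists_twoP L' hBt (hF.of_cj hB) hzB hz1 hzz
  set B₂ := Conj.cj x₂ (Conj.cj h A) with hB₂
  have hj' : j' = j := by
    have h3 := (h2.fixA z hzB).1 hzC
    exact fix_unique _ hzz' hz1' _ _ h3 hzj'
  subst hj'
  have hB₂t : TE B₂ := hBt.of_cj h2.cj
  have hTB₂ : T ≤ B₂ := h2.le_of_pgroup (isPGroup_four hT4) hTB
  have hVB₂ : ∀ v ∈ Kl L' hBt j', v ∈ C B₂ := by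
    intro v hv
    exact (h2.fixA v (mem_Kl.1 hv).1).2 (mem_Kl.1 hv).2.2
  -- `z = r v`
  obtain ⟨r, hr, v, hv, hzrv⟩ := mem_sup_Kl Q.le (hVE hzK)
  obtain ⟨hvA, hvv, hvi⟩ := mem_Kl.1 hv
  have hr1 : r ≠ 1 := by
    rintro rfl
    rw [one_mul] at hzrv
    -- then `z ∈ A`
    have hAB₂ : A ≠ B₂ := by
      intro e
      rw [← e] at hzC
      exact hz1 (hA.disj z (hzrv ▸ hvA) hzC)
    have hcj₂ : Cj A B₂ := hB.trans h2.cj
    obtain ⟨i', j'', h3⟩ := Five.exists_twoP L ((L.cj h).cj x₂) hA hcj₂ hAB₂ hF (hzrv ▸ hvA : z ∈ A) hz1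
      hzz hzC
    have hRB₂ : R ≤ B₂ := h3.le_of_pgroup (isPGroup_four Q.card) Q.le
    apply hz1
    apply hB₂t.disj z _ hzC
    -- `z ∈ R ⊔ T ≤ B₂`
    obtain ⟨t, ht, htφ, htv⟩ := Q.surj v hv
    have h4 : z = t⁻¹ * (t * v) := by rw [hzrv]; group
    rw [h4]
    exact mul_mem (inv_mem (hTB₂ ht)) (hRB₂ htv)
  have hv1 : v ≠ 1 := by
    rintro rfl
    rw [mul_one] at hzrv
    exact hz1 (noB z hzB (hzrv ▸ Q.le hr) hzz)
  obtain ⟨t, ht, a, ha, hrta⟩ := Q.dn r hr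
  obtain ⟨haA, haa, hai⟩ := mem_Kl.1 ha
  have htt := Q.sqT t ht
  have hta := Q.commT t ht a ha
  have htra : t = r * a := by rw [hrta, mul_assoc, haa, mul_one]
  have ha1 : a ≠ 1 := by
    rintro rfl
    rw [mul_one] at htra
    apply hr1
    exact eq_one_of_CC hA hB hne (isPGroup_four hT4) (htra ▸ ht) (Q.le hr) (hTB (htra ▸ ht))
  have hva : v ≠ a := by
    rintro rfl
    have h3 : z = t := by rw [hzrv, htra]
    exact hz1 (hBt.disj z hzB (h3 ▸ hTB ht))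
  obtain ⟨ρ', hρi, hρ3, hρav⟩ := fact_move i (Lab.ev L haA) ⟨(Lab.ev_sq L hA haA).2 haa,
    fun e => ha1 ((Lab.ev_eq_one L hA haA).1 e), hai⟩ (Lab.ev L hvA) ⟨(Lab.ev_sq L hA hvA).2 hvv,
    fun e => hv1 ((Lab.ev_eq_one L hA hvA).1 e), fun e => hva (Lab.ev_inj L hA hvA haA e), hvi⟩
  obtain ⟨ρ, hρ, rfl⟩ := Lab.exists_ev L ρ'
  rw [Lab.ev_val] at hρi
  have eρ : ρ * a * ρ⁻¹ = v := by
    apply L.inj hA (conj_mem (le_N hρ) haA) hvA
    rw [L.conj (le_N hρ) (le_N haA)]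
    exact congrArg Subtype.val hρav
  have eρ3 : ρ * ρ * ρ = 1 := by
    apply L.eq_one hA (mul_mem (mul_mem hρ hρ) hρ)
    rw [L.mul _ _ (mul_mem (le_N hρ) (le_N hρ)) (le_N hρ), L.mul _ _ (le_N hρ) (le_N hρ)]
    exact congrArg Subtype.val hρ3
  have hρr : ρ * r = r * ρ := (comm_of_C (Q.le hr) hρ).symm
  have hz : z = ρ * t * ρ⁻¹ := by
    rw [htra, hzrv, ← eρ, ← mul_assoc, ← mul_assoc, ← hρr]; group
  -- `B₂ = cj ρ B`
  have hzρ : z ∈ C (Conj.cj ρ (Conj.cj h A)) := by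
    rw [mem_C_cj, hz, show ρ⁻¹ * (ρ * t * ρ⁻¹) * ρ = t by group]
    exact hTB ht
  have hBρ : Conj.cj ρ (Conj.cj h A) = B₂ :=
    (hBt.cj ρ).eq_of_mem ((Cj.cj _ ρ).symm.trans h2.cj) hz1 hzz hzρ hzC
  -- `u = ρ⁻¹ t ρ ∈ B`
  have huB : ρ⁻¹ * t * ρ ∈ Conj.cj h A := by
    have h3 := hTB₂ ht
    rw [← hBρ, mem_cj] at h3
    exact h3
  have ht1 : t ≠ 1 := by
    rintro rfl
    rw [one_mul] at hrta
    exact hr1 (by rw [hrta]; exact hA.disj a haA (hrta ▸ Q.le hr))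
  set u := ρ⁻¹ * t * ρ with hu
  have hu1 : u ≠ 1 := by
    intro e
    apply ht1
    rw [show t = ρ * (ρ⁻¹ * t * ρ) * ρ⁻¹ by group, ← hu, e]; group
  have huE : u ∈ R ⊔ Kl L hA i := by
    have h3 : u = r * (ρ⁻¹ * a * ρ) := by
      rw [hu, htra]
      have h4 : ρ⁻¹ * r = r * ρ⁻¹ := (comm_of_C (Q.le hr) (inv_mem hρ)).symm
      rw [← mul_assoc, h4]; group
    rw [h3]
    refine mul_mem ((le_sup_left : R ≤ _) hr) ((le_sup_right : Kl L hA i ≤ _) (mem_Kl.2 ⟨?_, ?_, ?_⟩))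
    · have := conj_mem (le_N (inv_mem hρ)) haA
      rwa [inv_inv] at this
    · rw [show ρ⁻¹ * a * ρ * (ρ⁻¹ * a * ρ) = ρ⁻¹ * (a * a) * ρ by group, haa]; group
    · have h5 : (L.φ ρ)⁻¹ i = i := by rw [Perm.inv_eq_iff_eq, hρi]
      have h6 : L.φ (ρ⁻¹ * a * ρ) = (L.φ ρ)⁻¹ * L.φ a * L.φ ρ := by
        rw [L.mul _ _ (mul_mem (inv_mem (le_N hρ)) (le_N haA)) (le_N hρ),
          L.mul _ _ (inv_mem (le_N hρ)) (le_N haA), L.inv (le_N hρ)]
      rw [h6, Perm.mul_apply, Perm.mul_apply, hρi, hai, h5]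
  have huz : u * z = z * u := hcE u huE z (hVE hzK)
  have huK : u ∈ Kl L' hBt j' := by
    have h3 : Lab.ev L' hzB * Lab.ev L' huB = Lab.ev L' huB * Lab.ev L' hzB :=
      (Lab.ev_comm L' hBt hzB huB).2 huz.symm
    have h4 := fact_cent _ hzz' hz1' _ h3
    have h5 : Lab.ev L' huB ≠ 1 := fun e => hu1 ((Lab.ev_eq_one L' hBt huB).1 e)
    exact mem_Kl.2 ⟨huB, (Lab.ev_sq L' hBt huB).1 h4, fix_of_comm _ hzz' hz1' _ h4 h5 h3 j' hzj'⟩
  have huu := (mem_Kl.1 huK).2.1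
  have hu2 : u ∈ C B₂ := hVB₂ u huK
  have hu3 : u ∈ C (Conj.cj ρ⁻¹ (Conj.cj h A)) := by
    rw [mem_C_cj, inv_inv, hu, show ρ * (ρ⁻¹ * t * ρ) * ρ⁻¹ = t by group]
    exact hTB ht
  have h9 : Conj.cj ρ⁻¹ (Conj.cj h A) = B₂ :=
    (hBt.cj ρ⁻¹).eq_of_mem ((Cj.cj _ ρ⁻¹).symm.trans h2.cj) hu1 huu hu3 hu2
  have h10 : ρ ∈ N (Conj.cj h A) := by
    have h11 : Conj.cj ρ (Conj.cj ρ (Conj.cj h A)) = Conj.cj h A := by
      rw [hBρ, ← h9, cj_cj, mul_inv_cancel]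
      ext y
      rw [mem_cj]; simp
    rw [cj_cj] at h11
    have h12 : ρ * ρ ∈ N (Conj.cj h A) := cj_eq_iff.1 h11
    have h13 : ρ = (ρ * ρ) * (ρ * ρ) := by
      rw [← mul_assoc, eρ3, one_mul]
    rw [h13]
    exact mul_mem h12 h12
  exact hz1 (hBt.disj z hzB (by rw [hz]; exact conj_mem_C h10 (hTB ht)))

end Cfsg.Agent.StdAlt.Five
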