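import Cfsg.Agent.StdAlt.Five.Sec4Main
import Cfsg.Agent.StdAlt.LabPair

/-!
# S1766, n = 5, case (I): the list of outcomes of sections 3 and 4, and their simple consequences
-/

set_option autoImplicit false

namespace Cfsg.Agent.StdAlt.Five.Outcome

open Subgroup Equiv Cfsg.Agent.StdAlt Cfsg.Agent.StdAlt.Conj Cfsg.Agent.J2Sylow.Model Cfsg.Agent.StdAlt.Five
open Cfsg.Agent.StdAlt.Five.Sec4 Cfsg.Agent.StdAlt.Five.Mu

variable {G : Type*} [Group G]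

/-- the outcomes of sections 3 and 4 -/
inductive Out [Finite G] (A R V : Subgroup G) (ρ : G) : Prop
  | one1 (P : Subgroup G) (ε : F4) (X Y Z : F4 → G) (S : Sylow 2 G) (B : Base A R V P ρ ε X Y Z)
      (κ : Kap1 A R) (W : WC1 A R V P Y Z S) : Out A R V ρ
  | one2 (P : Subgroup G) (ε : F4) (X Y Z : F4 → G) (s : G) (S : Sylow 2 G)
      (B : Base A R V P ρ ε X Y Z) (κ : Kap1 A R) (W : WC2 A R V P ρ X Y Z s S) : Out A R V ρ
  | three1 (P : Subgroup G) (X Y Z : F4 → G) (ρ₀ : G) (S : Sylow 2 G) (B : Base A R V P ρ 0 X Y Z)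
      (κ : Kap3 A X Y ρ₀) (W : WC1 A R V P Y Z S) : Out A R V ρ
  | three2 (P : Subgroup G) (X Y Z : F4 → G) (ρ₀ s : G) (S : Sylow 2 G)
      (B : Base A R V P ρ 0 X Y Z) (κ : Kap3 A X Y ρ₀) (W : WC2 A R V P ρ X Y Z s S) : Out A R V ρ
  | lin (P : Subgroup G) (X Y Z : F4 → G) (ρ₀ w : G) (S : Sylow 2 G) (B : Base A R V P ρ 0 X Y Z)
      (κ : Kap3 A X Y ρ₀) (sw : SwapLin A P X Y Z w S) : Out A R V ρ
  | semi (P : Subgroup G) (X Y Z : F4 → G) (ρ₀ w : G) (S : Sylow 2 G) (B : Base A R V P ρ 0 X Y Z)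
      (κ : Kap3 A X Y ρ₀) (sw : SwapSemi A P X Y Z w S) : Out A R V ρ
  | two (P : Subgroup G) (X Y Z : F4 → G) (ρ₀ s w : G) (S : Sylow 2 G)
      (B : Base A R V P ρ 0 X Y Z) (κ : Kap3 A X Y ρ₀) (sw : SwapTwo A P ρ X Y Z s w S) : Out A R V ρ

theorem out_of [Finite G] {A R V : Subgroup G} {ρ g : G} (h : OddE A R V ρ g) (h8 : ¬ 8 ∣ Nat.card A) :
    Out A R V ρ := by
  obtain ⟨P, S, X, Y, Z, ⟨ε, B, κ, W | ⟨s, W⟩⟩ | ⟨ρ₀, B, κ, -, W | ⟨s, W⟩ | ⟨w, W⟩ | ⟨w, W⟩ | ⟨s, w, W⟩⟩⟩ :=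
    Sec4Main.main h h8
  · exact Out.one1 P ε X Y Z S B κ W
  · exact Out.one2 P ε X Y Z s S B κ W
  · exact Out.three1 P X Y Z ρ₀ S B κ W
  · exact Out.three2 P X Y Z ρ₀ s S B κ W
  · exact Out.lin P X Y Z ρ₀ w S B κ W
  · exact Out.semi P X Y Z ρ₀ w S B κ W
  · exact Out.two P X Y Z ρ₀ s w S B κ W

/-! ### `μ` -/

/-- `|N A : A C A| ≤ 2` -/
theorem index_AC {A : Subgroup G} (L : Lab A (Fin 5)) {s : G} (hs : s ∈ N A) (hs' : s ∉ AC A) :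
    ∀ m ∈ N A, m ∈ AC A ∨ m * s ∈ AC A := by
  have key : ∀ x ∈ N A, L.φ x ∈ alternatingGroup (Fin 5) → x ∈ AC A := by
    intro x hx hxe
    obtain ⟨a, ha, hax⟩ := L.lift _ hxe
    have h1 : a⁻¹ * x ∈ C A := by
      rw [← L.ker _ (mul_mem (inv_mem (le_N ha)) hx), L.mul _ _ (inv_mem (le_N ha)) hx, L.inv (le_N ha), hax,
        inv_mul_cancel]
    exact ⟨a, ha, a⁻¹ * x, h1, by group⟩
  intro m hm
  by_cases h : L.φ m ∈ alternatingGroup (Fin 5)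
  · exact Or.inl (key m hm h)
  · right
    apply key _ (mul_mem hm hs)
    have h2 : L.φ s ∉ alternatingGroup (Fin 5) := fun h => hs' (key s hs h)
    rw [L.mul _ _ hm hs]
    rw [Perm.mem_alternatingGroup] at h h2 ⊢
    rw [Perm.sign_mul]
    rcases Int.units_eq_one_or (Perm.sign (L.φ m)) with h3 | h3
    · exact absurd h3 h
    rcases Int.units_eq_one_or (Perm.sign (L.φ s)) with h4 | h4
    · exact absurd h4 h2
    rw [h3, h4]
    norm_num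

/-! ### `κ = 3` -/

/-- in the case `κ = 3` the group is simple -/
theorem top_of_kap3 {A R L : Subgroup G} (hL : L.Normal) (hgen : ∀ g : G, ∃ l ∈ L, ∃ r ∈ R, g = l * r)
    {X Y : F4 → G} {ρ₀ : G} (κ : Kap3 A X Y ρ₀) (hX : ∀ r ∈ R, ∃ a, X a = r)
    (hadd : ∀ a b, X (a + b) = X a * X b) : L = ⊤ := by
  have h0 : X 0 = 1 := by
    have h1 := hadd 0 0
    rw [add_zero] at h1
    exact (left_eq_mul.1 h1)
  have hself : ∀ a : F4, a + a = 0 := by decide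
  have hinv : ∀ a, (X a)⁻¹ = X a := by
    intro a
    rw [inv_eq_iff_mul_eq_one, ← hadd, hself, h0]
  have hR : ∀ a, X a ∈ R → X a ∈ L := by
    intro a _
    obtain ⟨l, hl, r₁, hr₁, e⟩ := hgen ρ₀
    obtain ⟨b, rfl⟩ := hX r₁ hr₁
    have h1 := κ.conjX (F4.w * a)
    have hw : ∀ a : F4, F4.w * (F4.w * a) + F4.w * a = a := by decide
    have h2 : X a = ρ₀ * X (F4.w * a) * ρ₀⁻¹ * (X (F4.w * a))⁻¹ := by
      rw [h1, hinv, ← hadd, hw]
    have h3 : X b * X (F4.w * a) * (X b)⁻¹ = X (F4.w * a) := by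
      rw [hinv, ← hadd, ← hadd, add_comm b, add_assoc, hself, add_zero]
    rw [h2, e, show l * X b * X (F4.w * a) * (l * X b)⁻¹ * (X (F4.w * a))⁻¹ =
      l * ((X b * X (F4.w * a) * (X b)⁻¹) * l⁻¹ * (X (F4.w * a))⁻¹) by group, h3]
    exact mul_mem hl (hL.conj_mem _ (inv_mem hl) _)
  rw [eq_top_iff]
  intro g _
  obtain ⟨l, hl, r, hr, rfl⟩ := hgen g
  obtain ⟨a, rfl⟩ := hX r hr
  exact mul_mem hl (hR a hr)

end Cfsg.Agent.StdAlt.Five.Outcome
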