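import Cfsg.Agent.StdAlt.Five.PExists

/-!
# S1766, n = 5, case (I): the data of `P`
-/

set_option autoImplicit false

namespace Cfsg.Agent.StdAlt.Five.PData

open Subgroup Cfsg.Agent.StdAlt.Conj Cfsg.Agent.J2Sylow.Model Cfsg.Agent.StdAlt.Five
open Cfsg.Agent.StdAlt.Five.Sec4 Cfsg.Agent.StdAlt.Five.PGroup Cfsg.Agent.StdAlt.Five.PExists

variable {G : Type*} [Group G] {A R V : Subgroup G} {ρ g : G}

/-- the properties of `P` -/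
structure IsP (h : OddE A R V ρ g) (P : Subgroup G) : Prop where
  two : IsPGroup 2 P
  le : P ≤ Wc h
  mem : ∀ x ∈ Wc h, (∃ k : ℕ, x ^ (2 ^ k) = 1) → x ∈ P

variable {h : OddE A R V ρ g} {P : Subgroup G} (hP : IsP h P)
include hP

theorem pow_two_of_mem {x : G} (hx : x ∈ P) : ∃ k : ℕ, x ^ (2 ^ k) = 1 := by
  obtain ⟨k, hk⟩ := hP.two ⟨x, hx⟩
  exact ⟨k, congrArg Subtype.val hk⟩

theorem norm [Finite G] {n x : G} (hn : n ∈ N (R ⊔ V)) (hx : x ∈ P) : n * x * n⁻¹ ∈ P := by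
  obtain ⟨k, hk⟩ := pow_two_of_mem hP hx
  refine hP.mem _ (Wc_conj h hn (hP.le hx)) ⟨k, ?_⟩
  rw [conj_pow, hk]; group

theorem E_le [Finite G] {e : G} (he : e ∈ R ⊔ V) : e ∈ P :=
  hP.mem _ (E_le_Wc h he) ⟨1, by rw [pow_one, pow_two, E_sq h he]⟩

theorem cent {x v : G} (hx : x ∈ P) (hv : v ∈ V) : x * v = v * x :=
  ((mem_Wc h).1 (hP.le hx)).1.2.1 v hv

theorem comm_mem {x r : G} (hx : x ∈ P) (hr : r ∈ R) : x * r * x⁻¹ * r⁻¹ ∈ V :=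
  ((mem_Wc h).1 (hP.le hx)).1.2.2 r hr

theorem P_N {x : G} (hx : x ∈ P) : x ∈ N (R ⊔ V) := ((mem_Wc h).1 (hP.le hx)).1.1

theorem free [Finite G] {x r : G} (hx : x ∈ P) (hr : r ∈ R) (hr1 : r ≠ 1) (hc : x * r = r * x) :
    x ∈ R ⊔ V :=
  CE_two h (W0_cent h ((mem_Wc h).1 (hP.le hx)).1 hr hr1 hc) (pow_two_of_mem hP hx)

/-- squares of `P` are in `V` -/
theorem sq [Finite G] {x : G} (hx : x ∈ P) : x * x ∈ V := by
  obtain ⟨r₀, hr₀, hr₀1⟩ := exists_r h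
  have hxx : x * x ∈ P := mul_mem hx hx
  have h1 : x * x ∈ R ⊔ V := by
    refine free hP hxx hr₀ hr₀1 ?_
    have h2 := comm_mem hP hx hr₀
    have h3 := cent hP hx h2
    have h4 := h.sqV _ h2
    calc x * x * r₀ = (x * (x * r₀ * x⁻¹ * r₀⁻¹)) * r₀ * x := by group
      _ = (x * r₀ * x⁻¹ * r₀⁻¹) * (x * r₀ * x⁻¹ * r₀⁻¹) * r₀ * x * x := by rw [h3]; group
      _ = r₀ * (x * x) := by rw [h4]; group
  obtain ⟨r, hr, v, hv, e⟩ := (mem_E h).1 h1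
  by_cases hr1 : r = 1
  · rw [e, hr1, one_mul]; exact hv
  exfalso
  obtain ⟨n, hn, s, hs, hs1, e2⟩ := exists_conj_E h hr hr1 hv
  have hy : n⁻¹ * x * n⁻¹⁻¹ ∈ P := norm hP (inv_mem hn) hx
  set y := n⁻¹ * x * n⁻¹⁻¹ with hyd
  have hyy : y * y = s := by
    calc y * y = n⁻¹ * (x * x) * n := by rw [hyd]; group
      _ = n⁻¹ * (n * s * n⁻¹) * n := by rw [e, e2]
      _ = s := by group
  have hyE : y ∈ R ⊔ V := free hP hy hs hs1 (by rw [← hyy]; group)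
  apply hs1
  rw [← hyy]
  exact E_sq h hyE

/-- the homomorphism `P → V`, `x ↦ [x, r]` -/
def ψ (hP : IsP h P) {r : G} (hr : r ∈ R) : ↥P →* ↥V :=
  (fhom h hr).comp (inclusion (fun _ hx => ((mem_Wc h).1 (hP.le hx)).1))

theorem ψ_apply {r : G} (hr : r ∈ R) (x : ↥P) : (ψ hP hr x : G) = x * r * (x : G)⁻¹ * r⁻¹ := rfl

theorem exists_δ' [Finite G] : ∃ δ ∈ P, ∀ r ∈ R, r ≠ 1 → δ * r * δ⁻¹ * r⁻¹ ≠ 1 := by
  obtain ⟨δ, hδ, hδr⟩ := exists_δ h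
  obtain ⟨a, b, ha, hb, hab, ha2, hbo⟩ := exists_two_odd δ
  have haW : a ∈ Wc h := (zpowers_le.2 hδ) ha
  have hbW : b ∈ Wc h := (zpowers_le.2 hδ) hb
  refine ⟨a, hP.mem a haW ha2, fun r hr hr1 e => hδr r hr hr1 ?_⟩
  have h1 := (W0_odd h ((mem_Wc h).1 hbW).1 hbo).1 r hr
  rw [hab]
  calc a * b * r * (a * b)⁻¹ * r⁻¹ = a * (b * r) * b⁻¹ * a⁻¹ * r⁻¹ := by group
    _ = a * r * a⁻¹ * r⁻¹ := by rw [h1]; group
    _ = 1 := e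

theorem ψ_surj [Finite G] {r : G} (hr : r ∈ R) (hr1 : r ≠ 1) : Function.Surjective (ψ hP hr) := by
  obtain ⟨δ, hδ, hδr⟩ := exists_δ' hP
  have hv := comm_mem hP hδ hr
  have hv1 := hδr r hr hr1
  set v := δ * r * δ⁻¹ * r⁻¹ with hvd
  have hρ := ρE h
  have step : ∀ x ∈ P, ρ * x * ρ⁻¹ ∈ P ∧
      (ρ * x * ρ⁻¹) * r * (ρ * x * ρ⁻¹)⁻¹ * r⁻¹ = ρ * (x * r * x⁻¹ * r⁻¹) * ρ⁻¹ := by
    intro x hx
    refine ⟨norm hP hρ hx, ?_⟩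
    have h1 := ρR h hr
    calc (ρ * x * ρ⁻¹) * r * (ρ * x * ρ⁻¹)⁻¹ * r⁻¹
        = ρ * x * (ρ⁻¹ * r * ρ) * x⁻¹ * (ρ⁻¹ * r⁻¹ * ρ) * ρ⁻¹ := by group
      _ = ρ * x * (ρ⁻¹ * (ρ * r * ρ⁻¹) * ρ) * x⁻¹ * (ρ⁻¹ * (ρ * r * ρ⁻¹)⁻¹ * ρ) * ρ⁻¹ := by rw [h1]
      _ = _ := by group
  rintro ⟨w, hw⟩
  rcases V_elts h hv hv1 hw with e | e | e | e
  · exact ⟨1, by rw [map_one]; exact Subtype.ext e.symm⟩
  · exact ⟨⟨δ, hδ⟩, Subtype.ext e.symm⟩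
  · exact ⟨⟨_, (step δ hδ).1⟩, Subtype.ext (by
      show (ρ * δ * ρ⁻¹) * r * (ρ * δ * ρ⁻¹)⁻¹ * r⁻¹ = w
      rw [(step δ hδ).2, e])⟩
  · exact ⟨⟨_, (step _ (step δ hδ).1).1⟩, Subtype.ext (by
      show (ρ * (ρ * δ * ρ⁻¹) * ρ⁻¹) * r * (ρ * (ρ * δ * ρ⁻¹) * ρ⁻¹)⁻¹ * r⁻¹ = w
      rw [(step _ (step δ hδ).1).2, (step δ hδ).2, e])⟩

omit hP in
theorem card_E [Finite G] (h : OddE A R V ρ g) : Nat.card ↥(R ⊔ V) = 16 := by
  let f : ↥R × ↥V → ↥(R ⊔ V) := fun p => ⟨p.1 * p.2, mul_mem (mem_sup_left p.1.2) (mem_sup_right p.2.2)⟩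
  have hf : Function.Bijective f := by
    constructor
    · rintro ⟨⟨r, hr⟩, ⟨v, hv⟩⟩ ⟨⟨r', hr'⟩, ⟨v', hv'⟩⟩ e
      have e1 : r * v = r' * v' := congrArg Subtype.val e
      have e2 : r'⁻¹ * r = v' * v⁻¹ := by
        rw [eq_mul_inv_iff_mul_eq, mul_assoc, e1]; group
      have e3 := inf_RV h (mul_mem (inv_mem hr') hr) (by rw [e2]; exact mul_mem hv' (inv_mem hv))
      have e4 : r = r' := by rw [inv_mul_eq_one] at e3; exact e3.symm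
      subst e4
      have e5 := mul_left_cancel e1
      subst e5
      rfl
    · rintro ⟨x, hx⟩
      obtain ⟨r, hr, v, hv, rfl⟩ := (mem_E h).1 hx
      exact ⟨(⟨r, hr⟩, ⟨v, hv⟩), rfl⟩
  rw [← Nat.card_congr (Equiv.ofBijective f hf), Nat.card_prod, h.cardR, h.cardV]

theorem card_P [Finite G] : Nat.card P = 64 := by
  obtain ⟨r, hr, hr1⟩ := exists_r h
  have h1 : Nat.card (ψ hP hr).ker = 16 := by
    rw [← card_E h]
    refine Nat.card_congr ⟨fun x => ⟨(x : ↥P), ?_⟩, fun e => ⟨⟨e, E_le hP e.2⟩, ?_⟩, fun _ => rfl,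
      fun _ => rfl⟩
    · refine free hP (x : ↥P).2 hr hr1 ?_
      have h2 := congrArg Subtype.val ((ψ hP hr).mem_ker.1 x.2)
      rw [ψ_apply] at h2
      have h2' : ((x : ↥P) : G) * r * ((x : ↥P) : G)⁻¹ * r⁻¹ = 1 := h2
      calc ((x : ↥P) : G) * r = (((x : ↥P) : G) * r * ((x : ↥P) : G)⁻¹ * r⁻¹) * (r * (x : ↥P)) := by group
        _ = r * (x : ↥P) := by rw [h2', one_mul]
    · rw [MonoidHom.mem_ker]
      apply Subtype.ext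
      rw [ψ_apply]
      show (e : G) * r * (e : G)⁻¹ * r⁻¹ = 1
      rw [E_comm h e.2 (mem_sup_left hr)]; group
  have h2 : (ψ hP hr).ker.index = 4 := by
    rw [index_ker, MonoidHom.range_eq_top.2 (ψ_surj hP hr hr1), ← h.cardV]
    exact Nat.card_congr (topEquiv (G := ↥V)).toEquiv
  have h3 := (ψ hP hr).ker.card_mul_index
  rw [h1, h2] at h3
  rw [← h3]

/-- the data for the coordinates -/
theorem data [Finite G] : Coord.Data R V P ρ where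
  cardR := h.cardR
  cardB := h.cardV
  cardP := card_P hP
  sqR := h.sqR
  sqB := h.sqV
  inf := fun _ hx hx' => inf_RV h hx hx'
  R_le := fun _ hx => E_le hP (mem_sup_left hx)
  B_le := fun _ hx => E_le hP (mem_sup_right hx)
  cent := fun _ hx _ hb => cent hP hx hb
  comm_mem := fun _ hx _ hr => comm_mem hP hx hr
  free := fun _ hx _ hr hr1 hc => (mem_E h).1 (free hP hx hr hr1 hc)
  sq := fun _ hx => sq hP hx
  ρP := fun _ hx => norm hP (ρE h) hx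
  ρR := fun _ hr => PGroup.ρR h hr
  ρB := h.ρV
  ρ3 := fun x _ => ρ3' h x
  ρfix := fun b hb e => by
    by_contra hb1
    exact h.ρfix b hb hb1 e

/-- `x ∈ W0` is a product of an element of `P` and an odd element of `C_G(E)` -/
theorem W0_fact [Finite G] {x : G} (hx : x ∈ W0 h) : ∃ p ∈ P, ∃ d ∈ Od R V, x = p * d := by
  obtain ⟨r, hr, hr1⟩ := exists_r h
  obtain ⟨⟨p, hp⟩, hpx⟩ := ψ_surj hP hr hr1 (fhom h hr ⟨x, hx⟩)
  have hpx' : p * r * p⁻¹ * r⁻¹ = x * r * x⁻¹ * r⁻¹ := congrArg Subtype.val hpx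
  have hpW : p ∈ W0 h := ((mem_Wc h).1 (hP.le hp)).1
  have hy : p⁻¹ * x ∈ W0 h := mul_mem (inv_mem hpW) hx
  have hc : p⁻¹ * x * r = r * (p⁻¹ * x) := by
    calc p⁻¹ * x * r = p⁻¹ * (x * r * x⁻¹ * r⁻¹) * (r * x) := by group
      _ = p⁻¹ * (p * r * p⁻¹ * r⁻¹) * (r * x) := by rw [hpx']
      _ = r * (p⁻¹ * x) := by group
  have hCE := W0_cent h hy hr hr1 hc
  obtain ⟨a, b, ha, hb, hab, ha2, hbo⟩ := exists_two_odd (p⁻¹ * x)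
  have hpow : ∀ y ∈ zpowers (p⁻¹ * x), CE R V y := by
    rintro y ⟨n, rfl⟩
    refine ⟨fun s hs => ?_, fun v hv => ?_⟩
    · exact ((show Commute (p⁻¹ * x) s from hCE.1 s hs).zpow_left n).eq
    · exact ((show Commute (p⁻¹ * x) v from hCE.2 v hv).zpow_left n).eq
  have haE := CE_two h (hpow a ha) ha2
  refine ⟨p * a, mul_mem hp (E_le hP haE), b, ⟨hpow b hb, hbo⟩, ?_⟩
  rw [mul_assoc, ← hab]; group

theorem Od_P {d p : G} (hd : d ∈ Od R V) (hp : p ∈ P) : p * d = d * p :=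
  ((mem_Wc h).1 (hP.le hp)).2 d hd

/-- `N(E) = P (N(A) ∩ N(E))` -/
theorem fact [Finite G] {x : G} (hx : x ∈ N (R ⊔ V)) : ∃ p ∈ P, ∃ m ∈ N A, m ∈ N (R ⊔ V) ∧ x = p * m := by
  obtain ⟨r, hr, hr1⟩ := exists_r h
  obtain ⟨s, hs, v, hv, e⟩ := (mem_E h).1 (E_conj h hx (mem_sup_left hr))
  have hs1 : s ≠ 1 := by
    intro e1
    rw [e1, one_mul] at e
    apply not_KT h (v := x * r * x⁻¹) (by rw [e]; exact hv)
    exact KT_conj (KT_R h hr hr1) x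
  obtain ⟨⟨p, hp⟩, hpx⟩ := ψ_surj hP hs hs1 ⟨v, hv⟩
  have hpx' : p * s * p⁻¹ * s⁻¹ = v := congrArg Subtype.val hpx
  refine ⟨p, hp, p⁻¹ * x, ?_, mul_mem (inv_mem (P_N hP hp)) hx, by group⟩
  refine h.te.key r (p⁻¹ * x) (h.R_le hr) hr1 (h.sqR r hr) ?_
  have : p⁻¹ * x * r * (p⁻¹ * x)⁻¹ = s := by
    have h1 := cent hP hp hv
    have h2 := comm_RV h hs hv
    calc p⁻¹ * x * r * (p⁻¹ * x)⁻¹ = p⁻¹ * (x * r * x⁻¹) * p := by group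
      _ = p⁻¹ * (v * s) * p := by rw [e, h2]
      _ = p⁻¹ * (p * s * p⁻¹ * s⁻¹ * s) * p := by rw [hpx']
      _ = s := by group
  rw [this]
  exact h.R_le hs

end Cfsg.Agent.StdAlt.Five.PData
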