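import Cfsg.Agent.StdAlt.Five.PGroup

/-!
# S1766, n = 5, case (I): existence of the 2-group `P` of order 64
-/

set_option autoImplicit false

namespace Cfsg.Agent.StdAlt.Five.PExists

open Subgroup Cfsg.Agent.StdAlt.Conj Cfsg.Agent.J2Sylow.Model Cfsg.Agent.StdAlt.Five
open Cfsg.Agent.StdAlt.Five.Sec4 Cfsg.Agent.StdAlt.Five.PGroup

variable {G : Type*} [Group G] {A R V : Subgroup G} {ρ g : G}

/-- the centralizer of `V` and `E/V` in `N(E)` -/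
def W0 (h : OddE A R V ρ g) : Subgroup G where
  carrier := {x | x ∈ N (R ⊔ V) ∧ (∀ v ∈ V, x * v = v * x) ∧ ∀ r ∈ R, x * r * x⁻¹ * r⁻¹ ∈ V}
  mul_mem' := by
    rintro x y ⟨hx1, hx2, hx3⟩ ⟨hy1, hy2, hy3⟩
    refine ⟨mul_mem hx1 hy1, fun v hv => ?_, fun r hr => ?_⟩
    · rw [mul_assoc, hy2 v hv, ← mul_assoc, hx2 v hv, mul_assoc]
    · have h1 := hx2 _ (hy3 r hr)
      have : x * y * r * (x * y)⁻¹ * r⁻¹ = (y * r * y⁻¹ * r⁻¹) * (x * r * x⁻¹ * r⁻¹) := by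
        calc x * y * r * (x * y)⁻¹ * r⁻¹ = (x * (y * r * y⁻¹ * r⁻¹)) * r * x⁻¹ * r⁻¹ := by group
          _ = _ := by rw [h1]; group
      rw [this]
      exact mul_mem (hy3 r hr) (hx3 r hr)
  one_mem' := ⟨one_mem _, fun v _ => by rw [one_mul, mul_one], fun r _ => by
    have : (1 : G) * r * 1⁻¹ * r⁻¹ = 1 := by group
    rw [this]; exact one_mem _⟩
  inv_mem' := by
    rintro x ⟨hx1, hx2, hx3⟩
    refine ⟨inv_mem hx1, fun v hv => ?_, fun r hr => ?_⟩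
    · have := hx2 v hv
      calc x⁻¹ * v = x⁻¹ * (v * x) * x⁻¹ := by group
        _ = v * x⁻¹ := by rw [← this]; group
    · have h1 := hx2 _ (inv_mem (hx3 r hr))
      have : x⁻¹ * r * x⁻¹⁻¹ * r⁻¹ = (x * r * x⁻¹ * r⁻¹)⁻¹ := by
        calc x⁻¹ * r * x⁻¹⁻¹ * r⁻¹ = x⁻¹ * ((x * r * x⁻¹ * r⁻¹)⁻¹ * x) * (r * r⁻¹) := by group
          _ = _ := by rw [← h1]; group
      rw [this]
      exact inv_mem (hx3 r hr)

variable (h : OddE A R V ρ g)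
include h

theorem W0_E {x : G} (hx : x ∈ W0 h) {e : G} (he : e ∈ R ⊔ V) : x * e * x⁻¹ * e⁻¹ ∈ V := by
  obtain ⟨-, h2, h3⟩ := hx
  obtain ⟨r, hr, v, hv, rfl⟩ := (mem_E h).1 he
  have h4 := h2 v hv
  have : x * (r * v) * x⁻¹ * (r * v)⁻¹ = x * r * x⁻¹ * r⁻¹ := by
    calc x * (r * v) * x⁻¹ * (r * v)⁻¹ = x * r * x⁻¹ * (x * v) * x⁻¹ * v⁻¹ * r⁻¹ := by group
      _ = _ := by rw [h4]; group
  rw [this]
  exact h3 r hr

theorem W0_conj [Finite G] {n x : G} (hn : n ∈ N (R ⊔ V)) (hx : x ∈ W0 h) : n * x * n⁻¹ ∈ W0 h := by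
  refine ⟨mul_mem (mul_mem hn hx.1) (inv_mem hn), fun v hv => ?_, fun r hr => ?_⟩
  · have h1 := hx.2.1 _ (normV h (inv_mem hn) hv)
    rw [inv_inv] at h1
    calc n * x * n⁻¹ * v = n * (x * (n⁻¹ * v * n)) * n⁻¹ := by group
      _ = v * (n * x * n⁻¹) := by rw [h1]; group
  · have h1 := W0_E h hx (E_conj h (inv_mem hn) (mem_sup_left hr))
    have h2 := normV h hn h1
    rw [show n * (x * (n⁻¹ * r * n⁻¹⁻¹) * x⁻¹ * (n⁻¹ * r * n⁻¹⁻¹)⁻¹) * n⁻¹ =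
      n * x * n⁻¹ * r * (n * x * n⁻¹)⁻¹ * r⁻¹ by group] at h2
    exact h2

/-- odd elements of `C_G(E)` -/
def Od (R V : Subgroup G) : Set G := {d | CE R V d ∧ Odd (orderOf d)}

omit h in
theorem orderOf_conj' (n x : G) : orderOf (n * x * n⁻¹) = orderOf x :=
  MulEquiv.orderOf_eq (MulAut.conj n) x

theorem CE_E {x : G} (hx : CE R V x) {e : G} (he : e ∈ R ⊔ V) : x * e = e * x := by
  obtain ⟨r, hr, v, hv, rfl⟩ := (mem_E h).1 he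
  rw [← mul_assoc, hx.1 r hr, mul_assoc, hx.2 v hv, mul_assoc]

theorem CE_conj {n x : G} (hn : n ∈ N (R ⊔ V)) (hx : CE R V x) : CE R V (n * x * n⁻¹) := by
  have key : ∀ e ∈ R ⊔ V, n * x * n⁻¹ * e = e * (n * x * n⁻¹) := by
    intro e he
    have h1 := CE_E h hx (E_conj h (inv_mem hn) he)
    rw [inv_inv] at h1
    calc n * x * n⁻¹ * e = n * (x * (n⁻¹ * e * n)) * n⁻¹ := by group
      _ = e * (n * x * n⁻¹) := by rw [h1]; group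
  exact ⟨fun r hr => key r (mem_sup_left hr), fun v hv => key v (mem_sup_right hv)⟩

theorem Od_conj {n d : G} (hn : n ∈ N (R ⊔ V)) (hd : d ∈ Od R V) : n * d * n⁻¹ ∈ Od R V :=
  ⟨CE_conj h hn hd.1, by rw [orderOf_conj']; exact hd.2⟩

theorem Od_A {d : G} (hd : d ∈ Od R V) : d ∈ C A := CE_odd h hd.1 hd.2

/-- `W0 ∩ C(Od)` -/
def Wc (h : OddE A R V ρ g) : Subgroup G := W0 h ⊓ centralizer (Od R V)

theorem mem_Wc {x : G} : x ∈ Wc h ↔ x ∈ W0 h ∧ ∀ d ∈ Od R V, x * d = d * x := by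
  constructor
  · rintro ⟨h1, h2⟩
    exact ⟨h1, fun d hd => (mem_centralizer_iff.1 h2 d hd).symm⟩
  · rintro ⟨h1, h2⟩
    exact ⟨h1, mem_centralizer_iff.2 fun d hd => (h2 d hd).symm⟩

theorem Wc_conj [Finite G] {n x : G} (hn : n ∈ N (R ⊔ V)) (hx : x ∈ Wc h) : n * x * n⁻¹ ∈ Wc h := by
  rw [mem_Wc] at hx ⊢
  refine ⟨W0_conj h hn hx.1, fun d hd => ?_⟩
  have h1 := hx.2 _ (Od_conj h (inv_mem hn) hd)
  rw [inv_inv] at h1
  calc n * x * n⁻¹ * d = n * (x * (n⁻¹ * d * n)) * n⁻¹ := by group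
    _ = d * (n * x * n⁻¹) := by rw [h1]; group

/-- the homomorphism `x ↦ [x, r]` -/
def fhom (h : OddE A R V ρ g) {r : G} (hr : r ∈ R) : ↥(W0 h) →* ↥V where
  toFun x := ⟨x * r * (x : G)⁻¹ * r⁻¹, x.2.2.2 r hr⟩
  map_one' := Subtype.ext (by show (1 : G) * r * 1⁻¹ * r⁻¹ = 1; group)
  map_mul' := by
    rintro ⟨x, hx⟩ ⟨y, hy⟩
    apply Subtype.ext
    show x * y * r * (x * y)⁻¹ * r⁻¹ = (x * r * x⁻¹ * r⁻¹) * (y * r * y⁻¹ * r⁻¹)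
    have h1 := hx.2.1 _ (hy.2.2 r hr)
    rw [commV h (hx.2.2 r hr) (hy.2.2 r hr)]
    calc x * y * r * (x * y)⁻¹ * r⁻¹ = (x * (y * r * y⁻¹ * r⁻¹)) * r * x⁻¹ * r⁻¹ := by group
      _ = _ := by rw [h1]; group

theorem W0_cent {x r₀ : G} (hx : x ∈ W0 h) (hr₀ : r₀ ∈ R) (h1 : r₀ ≠ 1) (hc : x * r₀ = r₀ * x) :
    CE R V x :=
  ⟨fun _ hr => cent_R h hx.1 hx.2.2 hr₀ h1 hc hr, hx.2.1⟩

theorem exists_r : ∃ r ∈ R, r ≠ 1 := by
  haveI : Finite R := Nat.finite_of_card_ne_zero (by rw [h.cardR]; norm_num)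
  haveI : Nontrivial R := (Finite.one_lt_card_iff_nontrivial).mp (by rw [h.cardR]; norm_num)
  obtain ⟨⟨r, hr⟩, hr1⟩ := exists_ne (1 : R)
  exact ⟨r, hr, fun e => hr1 (Subtype.ext e)⟩

theorem exists_v : ∃ v ∈ V, v ≠ 1 := by
  haveI : Finite V := Nat.finite_of_card_ne_zero (by rw [h.cardV]; norm_num)
  haveI : Nontrivial V := (Finite.one_lt_card_iff_nontrivial).mp (by rw [h.cardV]; norm_num)
  obtain ⟨⟨r, hr⟩, hr1⟩ := exists_ne (1 : V)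
  exact ⟨r, hr, fun e => hr1 (Subtype.ext e)⟩

/-- elements of odd order of `W0` centralize `E` -/
theorem W0_odd {x : G} (hx : x ∈ W0 h) (ho : Odd (orderOf x)) : CE R V x := by
  obtain ⟨r, hr, hr1⟩ := exists_r h
  have h1 : (fhom h hr ⟨x, hx⟩) ^ orderOf x = 1 := by
    rw [← map_pow]
    have : (⟨x, hx⟩ : ↥(W0 h)) ^ orderOf x = 1 := Subtype.ext (pow_orderOf_eq_one x)
    rw [this, map_one]
  have h2 : (fhom h hr ⟨x, hx⟩) * (fhom h hr ⟨x, hx⟩) = 1 := Subtype.ext (h.sqV _ (fhom h hr ⟨x, hx⟩).2)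
  have h3 : fhom h hr ⟨x, hx⟩ = 1 := by
    obtain ⟨k, hk⟩ := ho
    rw [hk, pow_add, pow_mul, pow_two, h2, one_pow, one_mul, pow_one] at h1
    exact h1
  refine W0_cent h hx hr hr1 ?_
  have h4 : x * r * x⁻¹ * r⁻¹ = 1 := congrArg Subtype.val h3
  calc x * r = (x * r * x⁻¹ * r⁻¹) * (r * x) := by group
    _ = r * x := by rw [h4, one_mul]

/-- odd elements of `Wc` are central in `Wc` -/
theorem Wc_odd {x y : G} (hx : x ∈ Wc h) (ho : Odd (orderOf x)) (hy : y ∈ Wc h) : y * x = x * y :=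
  ((mem_Wc h).1 hy).2 x ⟨W0_odd h ((mem_Wc h).1 hx).1 ho, ho⟩

theorem sylow_normal [Finite G] (Q : Sylow 2 ↥(Wc h)) : (Q : Subgroup ↥(Wc h)).Normal := by
  have key : (normalizer ((Q : Subgroup ↥(Wc h)) : Set ↥(Wc h))).index = 1 := by
    by_contra hcon
    obtain ⟨p, hp, hdvd⟩ := Nat.exists_prime_and_dvd hcon
    haveI := Fact.mk hp
    by_cases h2 : p = 2
    · subst h2
      have h1 : (normalizer ((Q : Subgroup ↥(Wc h)) : Set ↥(Wc h))).index ∣ (Q : Subgroup ↥(Wc h)).index :=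
        index_dvd_of_le le_normalizer
      exact Q.not_dvd_index (hdvd.trans h1)
    · obtain ⟨T⟩ : Nonempty (Sylow p ↥(Wc h)) := inferInstance
      have hT : (T : Subgroup ↥(Wc h)) ≤ normalizer ((Q : Subgroup ↥(Wc h)) : Set ↥(Wc h)) := by
        intro t ht
        have ho : Odd (orderOf (t : G)) := by
          obtain ⟨k, hk⟩ := (IsPGroup.iff_orderOf.1 T.isPGroup') ⟨t, ht⟩
          have : orderOf (t : G) = p ^ k := by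
            rw [Subgroup.orderOf_mk] at hk
            rw [Subgroup.orderOf_coe, hk]
          rw [this]
          exact (hp.odd_of_ne_two h2).pow
        apply mem_normalizer_fintype
        intro n hn
        have h3 : (n : G) * t = t * n := Wc_odd h t.2 ho n.2
        have h4 : t * n * t⁻¹ = n := by
          apply Subtype.ext
          show (t : G) * n * (t : G)⁻¹ = n
          rw [← h3]; group
        rw [h4]
        exact hn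
      exact T.not_dvd_index (hdvd.trans (index_dvd_of_le hT))
  rw [index_eq_one] at key
  exact normalizer_eq_top_iff.1 key

/-- `P` is the set of 2-elements of `Wc` -/
theorem exists_P [Finite G] : ∃ P : Subgroup G, IsPGroup 2 P ∧ P ≤ Wc h ∧
    ∀ x ∈ Wc h, (∃ k : ℕ, x ^ (2 ^ k) = 1) → x ∈ P := by
  obtain ⟨Q⟩ : Nonempty (Sylow 2 ↥(Wc h)) := inferInstance
  have hQ := sylow_normal h Q
  refine ⟨(Q : Subgroup ↥(Wc h)).map (Wc h).subtype, Q.isPGroup'.map _, ?_, ?_⟩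
  · rintro _ ⟨y, -, rfl⟩
    exact y.2
  · rintro x hx ⟨k, hk⟩
    refine ⟨⟨x, hx⟩, ?_, rfl⟩
    have h1 : IsPGroup 2 (zpowers (⟨x, hx⟩ : ↥(Wc h))) := by
      have h2 : Nat.card (zpowers (⟨x, hx⟩ : ↥(Wc h))) ∣ 2 ^ k := by
        rw [Nat.card_zpowers]
        exact orderOf_dvd_of_pow_eq_one (Subtype.ext hk)
      obtain ⟨m, -, hm⟩ := (Nat.dvd_prime_pow Nat.prime_two).1 h2
      exact IsPGroup.of_card hm
    obtain ⟨Q', hQ'⟩ := h1.exists_le_sylow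
    haveI := Sylow.unique_of_normal Q hQ
    rw [Subsingleton.elim Q' Q] at hQ'
    exact hQ' (mem_zpowers _)

theorem E_le_Wc [Finite G] {e : G} (he : e ∈ R ⊔ V) : e ∈ Wc h := by
  rw [mem_Wc]
  refine ⟨⟨le_N he, fun v hv => E_comm h he (mem_sup_right hv), fun r hr => ?_⟩, fun d hd => ?_⟩
  · rw [E_comm h he (mem_sup_left hr), mul_inv_cancel_right, mul_inv_cancel]
    exact one_mem _
  · exact (CE_E h hd.1 he).symm

theorem ρ_conj_inj {x y : G} (e : ρ * x * ρ⁻¹ = ρ * y * ρ⁻¹) : x = y := by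
  have := mul_right_cancel e
  exact mul_left_cancel this

/-- an element of `A ^ g` of order 3 acts on `V` as `ρ` or `ρ⁻¹` -/
theorem exists_σ [Finite G] : ∃ σ : G, (σ = ρ ∨ σ = ρ⁻¹) ∧
    ∀ v ∈ V, (g * ρ * g⁻¹) * v * (g * ρ * g⁻¹)⁻¹ = σ * v * σ⁻¹ := by
  obtain ⟨v, hv, hv1⟩ := exists_v h
  set τ := g * ρ * g⁻¹ with hτ
  have hg := h.gE
  have τV : ∀ v ∈ V, τ * v * τ⁻¹ ∈ V := by
    intro v hv
    have h1 := normV h (inv_mem hg) hv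
    have h2 := normV h hg (h.ρV _ h1)
    rwa [show g * (ρ * (g⁻¹ * v * g⁻¹⁻¹) * ρ⁻¹) * g⁻¹ = τ * v * τ⁻¹ by rw [hτ]; group] at h2
  have τfix : ∀ v ∈ V, v ≠ 1 → τ * v * τ⁻¹ ≠ v := by
    intro v hv hv1 e
    have h1 := normV h (inv_mem hg) hv
    rw [inv_inv] at h1
    refine h.ρfix _ h1 ?_ ?_
    · intro e1
      apply hv1
      rw [show v = g * (g⁻¹ * v * g) * g⁻¹ by group, e1]; group
    · calc ρ * (g⁻¹ * v * g) * ρ⁻¹ = g⁻¹ * (τ * v * τ⁻¹) * g := by rw [hτ]; group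
        _ = g⁻¹ * v * g := by rw [e]
  have τ3 : ∀ x : G, τ * (τ * (τ * x * τ⁻¹) * τ⁻¹) * τ⁻¹ = x := by
    intro x
    have h1 := ρ3' h (g⁻¹ * x * g)
    calc τ * (τ * (τ * x * τ⁻¹) * τ⁻¹) * τ⁻¹
        = g * (ρ * (ρ * (ρ * (g⁻¹ * x * g) * ρ⁻¹) * ρ⁻¹) * ρ⁻¹) * g⁻¹ := by rw [hτ]; group
      _ = x := by rw [h1]; group
  -- the argument for `σ` with `σ` free on `V`
  have key : ∀ σ : G, (∀ w ∈ V, w ≠ 1 → ∀ x ∈ V, x = 1 ∨ x = w ∨ x = σ * w * σ⁻¹ ∨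
      x = σ * (σ * w * σ⁻¹) * σ⁻¹) → (∀ x, σ * (σ * (σ * x * σ⁻¹) * σ⁻¹) * σ⁻¹ = x) →
      τ * v * τ⁻¹ = σ * v * σ⁻¹ → (∀ w ∈ V, σ * w * σ⁻¹ ∈ V) →
      ∀ w ∈ V, τ * w * τ⁻¹ = σ * w * σ⁻¹ := by
    intro σ hel h3 e0 hσV
    set v1 := σ * v * σ⁻¹ with hv1d
    set v2 := σ * v1 * σ⁻¹ with hv2d
    have m1 : v1 ∈ V := hσV _ hv
    have m2 : v2 ∈ V := hσV _ m1
    have n1 : v1 ≠ 1 := by
      intro e
      apply hv1
      rw [show v = σ⁻¹ * v1 * σ by rw [hv1d]; group, e]; group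
    have n2 : v2 ≠ 1 := by
      intro e
      apply n1
      rw [show v1 = σ⁻¹ * v2 * σ by rw [hv2d]; group, e]; group
    have e1 : τ * v1 * τ⁻¹ = v2 := by
      rcases hel v hv hv1 _ (τV _ m1) with e | e | e | e
      · exfalso
        apply n1
        rw [show v1 = τ⁻¹ * (τ * v1 * τ⁻¹) * τ by group, e]; group
      · exfalso
        have h4 := τ3 v
        rw [e0, e] at h4
        rw [e0] at h4
        exact τfix v hv hv1 (by rw [e0]; exact h4)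
      · exact absurd e (τfix v1 m1 n1)
      · exact e
    have e2 : τ * v2 * τ⁻¹ = σ * v2 * σ⁻¹ := by
      have h4 := τ3 v
      rw [e0, e1] at h4
      rw [h4]
      exact (h3 v).symm
    intro w hw
    rcases hel v hv hv1 w hw with e | e | e | e
    · rw [e]; group
    · rw [e, e0]
    · rw [e, e1]
    · rw [e, e2]
  have hσ' : ∀ w ∈ V, w ≠ 1 → ∀ x ∈ V, x = 1 ∨ x = w ∨ x = ρ⁻¹ * w * ρ⁻¹⁻¹ ∨
      x = ρ⁻¹ * (ρ⁻¹ * w * ρ⁻¹⁻¹) * ρ⁻¹⁻¹ := by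
    intro w hw hw1 x hx
    have e1 : ρ⁻¹ * w * ρ⁻¹⁻¹ = ρ * (ρ * w * ρ⁻¹) * ρ⁻¹ := by
      have := ρ3' h w
      calc ρ⁻¹ * w * ρ⁻¹⁻¹ = ρ⁻¹ * (ρ * (ρ * (ρ * w * ρ⁻¹) * ρ⁻¹) * ρ⁻¹) * ρ⁻¹⁻¹ := by rw [this]
        _ = _ := by group
    have e2 : ρ⁻¹ * (ρ⁻¹ * w * ρ⁻¹⁻¹) * ρ⁻¹⁻¹ = ρ * w * ρ⁻¹ := by
      rw [e1]; group
    rw [e2, e1]
    rcases V_elts h hw hw1 hx with e | e | e | e
    · exact Or.inl e
    · exact Or.inr (Or.inl e)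
    · exact Or.inr (Or.inr (Or.inr e))
    · exact Or.inr (Or.inr (Or.inl e))
  rcases V_elts h hv hv1 (τV v hv) with e | e | e | e
  · exfalso
    apply hv1
    rw [show v = τ⁻¹ * (τ * v * τ⁻¹) * τ by group, e]; group
  · exact absurd e (τfix v hv hv1)
  · exact ⟨ρ, Or.inl rfl, key ρ (fun w hw hw1 x hx => V_elts h hw hw1 hx) (ρ3' h) e h.ρV⟩
  · refine ⟨ρ⁻¹, Or.inr rfl, key ρ⁻¹ hσ' ?_ ?_ ?_⟩
    · intro x
      have := ρ3' h x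
      calc ρ⁻¹ * (ρ⁻¹ * (ρ⁻¹ * x * ρ⁻¹⁻¹) * ρ⁻¹⁻¹) * ρ⁻¹⁻¹
          = ρ⁻¹ * (ρ⁻¹ * (ρ⁻¹ * (ρ * (ρ * (ρ * x * ρ⁻¹) * ρ⁻¹) * ρ⁻¹) * ρ⁻¹⁻¹) * ρ⁻¹⁻¹) * ρ⁻¹⁻¹ := by
            rw [this]
        _ = x := by group
    · rw [e]
      have := ρ3' h v
      calc ρ * (ρ * v * ρ⁻¹) * ρ⁻¹ = ρ⁻¹ * (ρ * (ρ * (ρ * v * ρ⁻¹) * ρ⁻¹) * ρ⁻¹) * ρ⁻¹⁻¹ := by group
        _ = ρ⁻¹ * v * ρ⁻¹⁻¹ := by rw [this]
    · intro w hw
      exact normV h (inv_mem (ρE h)) hw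

/-- the element `δ` -/
theorem exists_δ [Finite G] : ∃ δ ∈ Wc h, ∀ r ∈ R, r ≠ 1 → δ * r * δ⁻¹ * r⁻¹ ≠ 1 := by
  obtain ⟨σ, hσ, hσV⟩ := exists_σ h
  set τ := g * ρ * g⁻¹ with hτ
  have hρE := ρE h
  have hσE : σ ∈ N (R ⊔ V) := by
    rcases hσ with e | e
    · rw [e]; exact hρE
    · rw [e]; exact inv_mem hρE
  have hσR : ∀ r ∈ R, σ * r = r * σ := by
    intro r hr
    have h1 := comm_of_C (h.R_le hr) h.ρ_mem
    rcases hσ with e | e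
    · rw [e]; exact h1.symm
    · rw [e]
      calc ρ⁻¹ * r = ρ⁻¹ * (r * ρ) * ρ⁻¹ := by group
        _ = r * ρ⁻¹ := by rw [h1]; group
  have hτE : τ ∈ N (R ⊔ V) := mul_mem (mul_mem h.gE hρE) (inv_mem h.gE)
  have hcomm : ∀ d ∈ Od R V, σ * d = d * σ := by
    intro d hd
    have h1 := comm_of_C (Od_A h hd) h.ρ_mem
    rcases hσ with e | e
    · rw [e]; exact h1.symm
    · rw [e]
      calc ρ⁻¹ * d = ρ⁻¹ * (d * ρ) * ρ⁻¹ := by group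
        _ = d * ρ⁻¹ := by rw [h1]; group
  have hcommτ : ∀ d ∈ Od R V, τ * d = d * τ := by
    intro d hd
    have h0 := Od_conj h (inv_mem h.gE) hd
    rw [inv_inv] at h0
    have h1 := comm_of_C (Od_A h h0) h.ρ_mem
    rw [hτ]
    calc g * ρ * g⁻¹ * d = g * (ρ * (g⁻¹ * d * g)) * g⁻¹ := by group
      _ = g * ((g⁻¹ * d * g) * ρ) * g⁻¹ := by rw [h1]
      _ = d * (g * ρ * g⁻¹) := by group
  -- the commutator with `r`
  have hf : ∀ r ∈ R, r ≠ 1 → (σ⁻¹ * τ) * r * (σ⁻¹ * τ)⁻¹ * r⁻¹ ∈ V ∧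
      (σ⁻¹ * τ) * r * (σ⁻¹ * τ)⁻¹ * r⁻¹ ≠ 1 := by
    intro r hr hr1
    obtain ⟨s, hs, hs1, b, hb, hb1, e⟩ := exists_g h hr hr1
    have e1 : τ * (r * b) * τ⁻¹ = r * b := by
      rw [← e, hτ]
      have := ρR h hs
      calc g * ρ * g⁻¹ * (g * s * g⁻¹) * (g * ρ * g⁻¹)⁻¹ = g * (ρ * s * ρ⁻¹) * g⁻¹ := by group
        _ = g * s * g⁻¹ := by rw [this]
    have e2 : τ * r * τ⁻¹ = r * (b * (τ * b * τ⁻¹)⁻¹) := by
      calc τ * r * τ⁻¹ = (τ * (r * b) * τ⁻¹) * (τ * b * τ⁻¹)⁻¹ := by group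
        _ = r * (b * (τ * b * τ⁻¹)⁻¹) := by rw [e1]; group
    set c := b * (τ * b * τ⁻¹)⁻¹ with hc
    have hτb : τ * b * τ⁻¹ ∈ V := normV h hτE hb
    have hcV : c ∈ V := mul_mem hb (inv_mem hτb)
    have hc1 : c ≠ 1 := by
      intro e3
      rw [hc, mul_inv_eq_one] at e3
      rw [hσV b hb] at e3
      rcases hσ with e4 | e4
      · rw [e4] at e3
        exact h.ρfix b hb hb1 e3.symm
      · rw [e4] at e3
        apply h.ρfix b hb hb1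
        nth_rewrite 1 [e3]
        group
    have e3 : (σ⁻¹ * τ) * r * (σ⁻¹ * τ)⁻¹ * r⁻¹ = σ⁻¹ * c * σ⁻¹⁻¹ := by
      have h1 := hσR r hr
      have h2 := comm_RV h hr hcV
      calc (σ⁻¹ * τ) * r * (σ⁻¹ * τ)⁻¹ * r⁻¹ = σ⁻¹ * (τ * r * τ⁻¹) * (σ * r⁻¹) := by group
        _ = σ⁻¹ * (r * c) * (σ * r⁻¹) := by rw [e2]
        _ = σ⁻¹ * (c * r) * (σ * r⁻¹) := by rw [h2]
        _ = σ⁻¹ * c * (r * σ) * r⁻¹ := by group
        _ = σ⁻¹ * c * σ⁻¹⁻¹ := by rw [← h1]; group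
    rw [e3]
    refine ⟨normV h (inv_mem hσE) hcV, ?_⟩
    intro e4
    apply hc1
    rw [show c = σ * (σ⁻¹ * c * σ⁻¹⁻¹) * σ⁻¹ by group, e4]; group
  refine ⟨σ⁻¹ * τ, ?_, fun r hr hr1 => (hf r hr hr1).2⟩
  rw [mem_Wc]
  refine ⟨⟨mul_mem (inv_mem hσE) hτE, fun v hv => ?_, fun r hr => ?_⟩, fun d hd => ?_⟩
  · have h1 := hσV v hv
    calc σ⁻¹ * τ * v = σ⁻¹ * (τ * v * τ⁻¹) * τ := by group
      _ = v * (σ⁻¹ * τ) := by rw [h1]; group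
  · by_cases hr1 : r = 1
    · have : (σ⁻¹ * τ) * r * (σ⁻¹ * τ)⁻¹ * r⁻¹ = 1 := by rw [hr1]; group
      rw [this]; exact one_mem _
    · exact (hf r hr hr1).1
  · have h1 := hcomm d hd
    have h2 := hcommτ d hd
    calc σ⁻¹ * τ * d = σ⁻¹ * (d * τ) := by rw [mul_assoc, h2]
      _ = σ⁻¹ * (d * σ) * σ⁻¹ * τ := by group
      _ = d * (σ⁻¹ * τ) := by rw [← h1]; group

end Cfsg.Agent.StdAlt.Five.PExists
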