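import Cfsg.Agent.StdAlt.Five.Facts
import Cfsg.Agent.StdAlt.Five.Defs
import Cfsg.Agent.StdAlt.LabPair

/-!
# Pairs of conjugates of a standard subgroup isomorphic to `A_5`
-/

set_option autoImplicit false
set_option linter.unusedSectionVars false

namespace Cfsg.Agent.StdAlt.Five

open Subgroup Equiv Cfsg.Agent.StdAlt.Conj Cfsg.Agent.StdAlt.Pairs Cfsg.Agent.StdAlt.First

variable {G : Type*} [Group G] {A B : Subgroup G}

/-- value of the labelling on `A` as an element of `A5` -/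
def Lab.ev (L : Lab A (Fin 5)) {a : G} (ha : a ∈ A) : A5 := ⟨L.φ a, L.even a ha⟩

theorem Lab.ev_val (L : Lab A (Fin 5)) {a : G} (ha : a ∈ A) : (Lab.ev L ha).1 = L.φ a := rfl

theorem Lab.ev_mul (L : Lab A (Fin 5)) {a b : G} (ha : a ∈ A) (hb : b ∈ A) :
    Lab.ev L (mul_mem ha hb) = Lab.ev L ha * Lab.ev L hb :=
  Subtype.ext (L.mul a b (le_N ha) (le_N hb))

theorem Lab.ev_eq_one (L : Lab A (Fin 5)) (hA : TE A) {a : G} (ha : a ∈ A) :
    Lab.ev L ha = 1 ↔ a = 1 := by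
  constructor
  · intro h
    exact L.eq_one hA ha (congrArg Subtype.val h)
  · rintro rfl
    exact Subtype.ext L.one

theorem Lab.ev_sq (L : Lab A (Fin 5)) (hA : TE A) {a : G} (ha : a ∈ A) :
    Lab.ev L ha * Lab.ev L ha = 1 ↔ a * a = 1 := by
  rw [← Lab.ev_mul, Lab.ev_eq_one L hA]

theorem Lab.ev_comm (L : Lab A (Fin 5)) (hA : TE A) {a b : G} (ha : a ∈ A) (hb : b ∈ A) :
    Lab.ev L ha * Lab.ev L hb = Lab.ev L hb * Lab.ev L ha ↔ a * b = b * a := by
  constructor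
  · intro h
    exact L.comm_of hA ha (le_N hb) (congrArg Subtype.val h)
  · intro h
    exact Subtype.ext (L.comm' (le_N ha) (le_N hb) h)

theorem Lab.exists_ev (L : Lab A (Fin 5)) (x : A5) : ∃ (a : G) (ha : a ∈ A), Lab.ev L ha = x := by
  obtain ⟨a, ha, h⟩ := L.lift x.1 x.2
  exact ⟨a, ha, Subtype.ext h⟩

theorem mem_alt_iff {σ : Perm (Fin 5)} : σ ∈ alternatingGroup (Fin 5) ↔ Perm.sign σ = 1 :=
  Perm.mem_alternatingGroup

/-- the four-group of `A` fixing the point `i` -/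
def Kl (L : Lab A (Fin 5)) (hA : TE A) (i : Fin 5) : Subgroup G where
  carrier := {a | a ∈ A ∧ a * a = 1 ∧ L.φ a i = i}
  one_mem' := ⟨one_mem _, one_mul _, by rw [L.one]; rfl⟩
  mul_mem' := by
    rintro a b ⟨ha, haa, hai⟩ ⟨hb, hbb, hbi⟩
    have h := fact_mul i (Lab.ev L ha) ((Lab.ev_sq L hA ha).2 haa) hai (Lab.ev L hb)
      ((Lab.ev_sq L hA hb).2 hbb) hbi
    rw [← Lab.ev_mul, Lab.ev_sq L hA] at h
    refine ⟨mul_mem ha hb, h, ?_⟩
    rw [L.mul _ _ (le_N ha) (le_N hb), Perm.mul_apply, hbi, hai]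
  inv_mem' := by
    rintro a ⟨ha, haa, hai⟩
    have : a⁻¹ = a := inv_eq_of_mul_eq_one_left haa
    rw [Set.mem_ofPred_eq, this]
    exact ⟨ha, haa, hai⟩

theorem mem_Kl {L : Lab A (Fin 5)} {hA : TE A} {i : Fin 5} {a : G} :
    a ∈ Kl L hA i ↔ a ∈ A ∧ a * a = 1 ∧ L.φ a i = i := Iff.rfl

theorem Kl_comm {L : Lab A (Fin 5)} {hA : TE A} {i : Fin 5} {a b : G} (ha : a ∈ Kl L hA i)
    (hb : b ∈ Kl L hA i) : a * b = b * a := by
  have h := (mem_Kl.1 (mul_mem ha hb)).2.1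
  have h1 : a * b = (a * b)⁻¹ := eq_inv_of_mul_eq_one_left h
  have ha' : a⁻¹ = a := inv_eq_of_mul_eq_one_left (mem_Kl.1 ha).2.1
  have hb' : b⁻¹ = b := inv_eq_of_mul_eq_one_left (mem_Kl.1 hb).2.1
  rw [mul_inv_rev, ha', hb'] at h1
  exact h1

/-- the image of `Kl` -/
abbrev KV (i : Fin 5) := {σ : Perm (Fin 5) // Perm.sign σ = 1 ∧ σ * σ = 1 ∧ σ i = i}

theorem card_KV (i : Fin 5) : Nat.card (KV i) = 4 := by
  rw [Nat.card_eq_fintype_card, fact_card]

theorem card_Kl (L : Lab A (Fin 5)) (hA : TE A) (i : Fin 5) : Nat.card (Kl L hA i) = 4 := by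
  let f : Kl L hA i → KV i := fun a => ⟨L.φ a, mem_alt_iff.1 (L.even a a.2.1), by
    rw [← L.mul _ _ (le_N a.2.1) (le_N a.2.1), a.2.2.1, L.one], a.2.2.2⟩
  have hf : Function.Bijective f := by
    constructor
    · intro a b hab
      exact Subtype.ext (L.inj hA a.2.1 b.2.1 (congrArg Subtype.val hab))
    · rintro ⟨σ, h1, h2, h3⟩
      obtain ⟨a, ha, rfl⟩ := L.lift σ (mem_alt_iff.2 h1)
      refine ⟨⟨a, ha, ?_, h3⟩, rfl⟩
      apply L.eq_one hA (mul_mem ha ha)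
      rw [L.mul _ _ (le_N ha) (le_N ha), h2]
  rw [Nat.card_congr (Equiv.ofBijective f hf), card_KV]

theorem comm_of_card_four {T : Subgroup G} (h : Nat.card T = 4) {x y : G} (hx : x ∈ T)
    (hy : y ∈ T) : x * y = y * x := by
  have : Fact (Nat.Prime 2) := ⟨Nat.prime_two⟩
  have := IsPGroup.isMulCommutative_of_card_eq_prime_sq (p := 2) (G := T) (by rw [h]; norm_num)
  exact congrArg Subtype.val (mul_comm' (⟨x, hx⟩ : T) ⟨y, hy⟩)

theorem isPGroup_four {T : Subgroup G} (h : Nat.card T = 4) : IsPGroup 2 T :=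
  IsPGroup.of_card (n := 2) (by rw [h]; norm_num)

theorem eq_one_of_pgroup [Finite G] {Q : Subgroup G} (hQ : IsPGroup 2 Q) {x : G} (hx : x ∈ Q)
    (hodd : Odd (orderOf x)) : x = 1 := by
  obtain ⟨k, hk⟩ := hQ ⟨x, hx⟩
  have h1 : x ^ 2 ^ k = 1 := congrArg Subtype.val hk
  have h2 := orderOf_dvd_of_pow_eq_one h1
  have h3 : Nat.Coprime (orderOf x) (2 ^ k) := (Nat.coprime_two_right.2 hodd).pow_right k
  exact orderOf_eq_one_iff.1 (Nat.eq_one_of_dvd_coprimes h3 dvd_rfl h2)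

/-- a 2-element centralizing two different conjugates is trivial -/
theorem eq_one_of_CC [Finite G] (hA : TE A) (hB : Cj A B) (hne : A ≠ B) {Q : Subgroup G}
    (hQ : IsPGroup 2 Q) {x : G} (hx : x ∈ Q) (h1 : x ∈ C A) (h2 : x ∈ C B) : x = 1 :=
  eq_one_of_pgroup hQ hx (odd_orderOf hA hB hne h1 h2)

/-- **(P-odd)** -/
theorem odd_pair [Finite G] (L : Lab A (Fin 5)) (hA : TE A) (hB : Cj A B) (hne : A ≠ B)
    (hno : ∀ a ∈ A, a ∈ C B → a * a = 1 → a = 1) {T : Subgroup G} (hTB : T ≤ C B) (hTA : T ≤ N A)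
    (hT4 : Nat.card T = 4) :
    ∃ i, (∀ t ∈ T, t * t = 1 ∧ L.φ t i = i ∧ L.φ t ∈ alternatingGroup (Fin 5)) ∧
      (∀ a ∈ Kl L hA i, ∃ t ∈ T, L.φ t = L.φ a) := by
  have hTp := isPGroup_four hT4
  have hinj : ∀ t ∈ T, L.φ t = 1 → t = 1 := fun t ht h =>
    eq_one_of_CC hA hB hne hTp ht ((L.ker t (hTA ht)).1 h) (hTB ht)
  have hBt : TE B := hA.of_cj hB
  -- an even involution
  obtain ⟨x, hxT, hx1, hxx, hxe⟩ : ∃ x ∈ T, x ≠ 1 ∧ x * x = 1 ∧ Perm.sign (L.φ x) = 1 := by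
    by_cases hsq : ∀ t ∈ T, t * t = 1
    · -- elementary abelian
      have h1 : ∃ t ∈ T, t ≠ 1 := by
        by_contra hcon
        push Not at hcon
        have : T = ⊥ := (eq_bot_iff_forall T).2 hcon
        rw [this, card_bot] at hT4
        exact absurd hT4 (by norm_num)
      obtain ⟨t, ht, ht1⟩ := h1
      have h2 : ∃ s ∈ T, s ≠ 1 ∧ s ≠ t := by
        by_contra hcon
        push Not at hcon
        have hle : T ≤ zpowers t := by
          intro s hs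
          by_cases h : s = 1
          · rw [h]; exact one_mem _
          · rw [hcon s hs h]; exact mem_zpowers t
        have h3 := card_dvd_of_le hle
        rw [hT4, Nat.card_zpowers] at h3
        have h4 : orderOf t ∣ 2 := orderOf_dvd_of_pow_eq_one (by rw [sq, hsq t ht])
        exact absurd (h3.trans h4) (by norm_num)
      obtain ⟨s, hs, hs1, hst⟩ := h2
      rcases Int.units_eq_one_or (Perm.sign (L.φ t)) with h3 | h3
      · exact ⟨t, ht, ht1, hsq t ht, h3⟩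
      rcases Int.units_eq_one_or (Perm.sign (L.φ s)) with h4 | h4
      · exact ⟨s, hs, hs1, hsq s hs, h4⟩
      refine ⟨s * t, mul_mem hs ht, ?_, hsq _ (mul_mem hs ht), ?_⟩
      · intro e
        apply hst
        rw [eq_inv_of_mul_eq_one_left e]
        exact inv_eq_of_mul_eq_one_left (hsq t ht)
      · rw [L.mul _ _ (hTA hs) (hTA ht), Perm.sign_mul, h3, h4]; decide
    · push Not at hsq
      obtain ⟨t, ht, ht2⟩ := hsq
      refine ⟨t * t, mul_mem ht ht, ht2, ?_, ?_⟩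
      · have h1 : (⟨t, ht⟩ : T) ^ Nat.card T = 1 := pow_card_eq_one'
        rw [hT4] at h1
        have h2 : t ^ 4 = 1 := congrArg Subtype.val h1
        rw [← h2, pow_succ, pow_succ, pow_succ, pow_one]; group
      · rw [L.mul _ _ (hTA ht) (hTA ht), Perm.sign_mul]
        rcases Int.units_eq_one_or (Perm.sign (L.φ t)) with h3 | h3 <;> rw [h3] <;> decide
  -- its fixed point
  set X : A5 := ⟨L.φ x, mem_alt_iff.2 hxe⟩ with hX
  have hXX : X * X = 1 := by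
    apply Subtype.ext
    show L.φ x * L.φ x = 1
    rw [← L.mul _ _ (hTA hxT) (hTA hxT), hxx, L.one]
  have hX1 : X ≠ 1 := fun h => hx1 (hinj x hxT (congrArg Subtype.val h))
  obtain ⟨i, hi⟩ := exists_fix X hXX hX1
  have hfix : ∀ t ∈ T, L.φ t i = i := by
    intro t ht
    have h1 : L.φ t * L.φ x = L.φ x * L.φ t :=
      L.comm' (hTA ht) (hTA hxT) (comm_of_card_four hT4 ht hxT)
    apply fix_unique X hXX hX1 _ _ _ hi
    show L.φ x (L.φ t i) = L.φ t i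
    rw [← Perm.mul_apply, ← h1, Perm.mul_apply]
    exact congrArg _ hi
  have hcent : ∀ t ∈ T, ∀ y : A5, y * y = 1 → y.1 i = i → L.φ t * y.1 = y.1 * L.φ t := by
    intro t ht y hyy hyi
    obtain ⟨a, ha, rfl⟩ := Lab.exists_ev L y
    rw [Lab.ev_val] at hyi ⊢
    by_cases ha1 : a = 1
    · rw [ha1, L.one, mul_one, one_mul]
    have haa : a * a = 1 := (Lab.ev_sq L hA ha).1 hyy
    have hy1 : Lab.ev L ha ≠ 1 := fun h => ha1 ((Lab.ev_eq_one L hA ha).1 h)
    have h1 : a * x = x * a := by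
      apply L.comm_of hA ha (hTA hxT)
      exact congrArg Subtype.val (comm_of_fix _ hyy hy1 X hXX hX1 i hyi hi)
    have haB : a ∈ N B := hBt.nrm (hTB hxT) hx1 hxx h1
    -- the commutator
    have h2 : t * a⁻¹ * t⁻¹ ∈ A := conj_mem (hTA ht) (inv_mem ha)
    have h3 : a * (t * a⁻¹ * t⁻¹) ∈ A := mul_mem ha h2
    have h4 : a * (t * a⁻¹ * t⁻¹) ∈ C B := by
      rw [show a * (t * a⁻¹ * t⁻¹) = (a * t * a⁻¹) * t⁻¹ by group]
      exact mul_mem (conj_mem_C haB (hTB ht)) (inv_mem (hTB ht))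
    have h5 : a * (t * a⁻¹ * t⁻¹) ∈ Kl L hA i := by
      refine mul_mem (mem_Kl.2 ⟨ha, haa, hyi⟩) (mem_Kl.2 ⟨h2, ?_, ?_⟩)
      · rw [show t * a⁻¹ * t⁻¹ * (t * a⁻¹ * t⁻¹) = t * (a * a)⁻¹ * t⁻¹ by group, haa]; group
      · have h6 := hfix t ht
        have h7 : (L.φ t)⁻¹ i = i := by
          rw [Perm.inv_eq_iff_eq]; exact h6.symm
        have h8 : (L.φ a)⁻¹ i = i := by
          rw [Perm.inv_eq_iff_eq]; exact hyi.symm
        rw [L.conj (hTA ht) (inv_mem (le_N ha)), L.inv (le_N ha), Perm.mul_apply, Perm.mul_apply,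
          h7, h8, h6]
    have h6 := hno _ h3 h4 (mem_Kl.1 h5).2.1
    have h7 : a * t = t * a := by
      have h8 : a * (t * a⁻¹ * t⁻¹) * (t * a) = t * a := by rw [h6, one_mul]
      rw [← h8]; group
    exact L.comm' (hTA ht) (le_N ha) h7.symm
  have hall : ∀ t ∈ T, t * t = 1 ∧ L.φ t i = i ∧ Perm.sign (L.φ t) = 1 := by
    intro t ht
    obtain ⟨h1, h2, h3⟩ := fact_centV i (L.φ t) (hcent t ht)
    refine ⟨?_, h2, h3⟩
    apply hinj _ (mul_mem ht ht)
    rw [L.mul _ _ (hTA ht) (hTA ht), h1]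
  refine ⟨i, fun t ht => ⟨(hall t ht).1, (hall t ht).2.1, mem_alt_iff.2 (hall t ht).2.2⟩, ?_⟩
  -- surjectivity
  let f : T → KV i := fun t => ⟨L.φ t, (hall t t.2).2.2, by
    rw [← L.mul _ _ (hTA t.2) (hTA t.2), (hall t t.2).1, L.one], (hall t t.2).2.1⟩
  have hf : Function.Injective f := by
    intro s t hst
    have h1 : L.φ s = L.φ t := congrArg Subtype.val hst
    have h2 : L.φ (s * (t : G)⁻¹) = 1 := by
      rw [L.mul _ _ (hTA s.2) (inv_mem (hTA t.2)), L.inv (hTA t.2), h1, mul_inv_cancel]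
    exact Subtype.ext (mul_inv_eq_one.1 (hinj _ (mul_mem s.2 (inv_mem t.2)) h2))
  have hb : Function.Bijective f := by
    refine hf.bijective_of_nat_card_le ?_
    rw [card_KV, hT4]
  intro a ha
  obtain ⟨ha1, ha2, ha3⟩ := mem_Kl.1 ha
  obtain ⟨t, ht⟩ := hb.2 ⟨L.φ a, mem_alt_iff.1 (L.even a ha1), by
    rw [← L.mul _ _ (le_N ha1) (le_N ha1), ha2, L.one], ha3⟩
  exact ⟨t, t.2, congrArg Subtype.val ht⟩

end Cfsg.Agent.StdAlt.Five
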