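import Cfsg.Agent.StdAlt.Five.SwapE

/-!
# S1766, n = 5, case (I): sections 3 and 4, conclusion
-/

set_option autoImplicit false

namespace Cfsg.Agent.StdAlt.Five.Sec4Main

open Subgroup Cfsg.Agent.StdAlt.Conj Cfsg.Agent.J2Sylow.Model Cfsg.Agent.StdAlt.Five
open Cfsg.Agent.StdAlt.Five.Sec4 Cfsg.Agent.StdAlt.Five.PExists
open Cfsg.Agent.StdAlt.Five.PData Cfsg.Agent.StdAlt.Five.Coord

variable {G : Type*} [Group G] {A R V P : Subgroup G} {ρ g s : G} {ε : F4} {X Y Z : F4 → G}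

/-- `|N A : A * C A| ≤ 2` -/
theorem index_le [Finite G] (B : Base A R V P ρ ε X Y Z) (h8 : ¬ 8 ∣ Nat.card A) (hmu : Mu2 A ρ X Y Z s) :
    ∀ m ∈ N A, (∃ a ∈ A, ∃ k ∈ C A, m = a * k) ∨ ∃ a ∈ A, ∃ k ∈ C A, m * s = a * k := by
  intro m hm
  obtain ⟨g, h⟩ := B.odd
  have hsi : s⁻¹ = s := inv_eq_of_mul_eq_one_left hmu.sq
  have hsZ : ∀ a, s * Z a * s⁻¹ = Z (F4.fr a) := by rw [hsi]; exact hmu.conjZ
  exact SylA.index_two h B.frame h8 hmu.mem hsZ hm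

/-- the configurations with `κ = 1` -/
structure One (A R V P : Subgroup G) (ρ : G) (ε : F4) (X Y Z : F4 → G) (S : Sylow 2 G) : Prop where
  base : Base A R V P ρ ε X Y Z
  kap : Kap1 A R
  mu : WC1 A R V P Y Z S ∨ ∃ s, WC2 A R V P ρ X Y Z s S

/-- the configurations with `κ = 3` -/
structure Three (A R V P : Subgroup G) (ρ : G) (X Y Z : F4 → G) (ρ₀ : G) (S : Sylow 2 G) : Prop where
  base : Base A R V P ρ 0 X Y Z
  kap : Kap3 A X Y ρ₀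
  odd : Odd (orderOf ρ₀)
  mu : WC1 A R V P Y Z S ∨ (∃ s, WC2 A R V P ρ X Y Z s S) ∨
    (∃ w, SwapLin A P X Y Z w S) ∨ (∃ w, SwapSemi A P X Y Z w S) ∨ ∃ s w, SwapTwo A P ρ X Y Z s w S

/-- **sections 3 and 4 of the blueprint** -/
theorem main [Finite G] (h : OddE A R V ρ g) (h8 : ¬ 8 ∣ Nat.card A) :
    ∃ (P : Subgroup G) (S : Sylow 2 G) (X Y Z : F4 → G),
      (∃ ε, One A R V P ρ ε X Y Z S) ∨ ∃ ρ₀, Three A R V P ρ X Y Z ρ₀ S := by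
  obtain ⟨P, hP⟩ := Base.exists_isP h
  have D := PData.data hP
  obtain ⟨ε, X, Y, Z, hε, F⟩ := D.exists_frame
  by_cases hk : Kap1 A R
  · -- `κ = 1`
    have nkt : ∀ {X Y Z : F4 → G} (_ : Frame R V P ρ ε X Y Z), ∀ b c, b ≠ 0 → ¬ KT A (Y b * Z c) := by
      intro X Y Z F b c hb hKT
      rcases hε with rfl | rfl
      · obtain ⟨x, hx⟩ := SwapB.exists_swap hP F (SwapB.all_kt D F hb hKT) h8
        exact SwapB.not_kap1 hP F hx hk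
      · exact SylA.nkt_Q hP F hb hKT
    by_cases hmu : Mu1 A
    · obtain ⟨S, hS⟩ := SylA.wc_one hP hε F (nkt F) h8 hmu
      exact ⟨P, S, X, Y, Z, Or.inl ⟨ε, Base.mk hP hε F, hk, Or.inl hS⟩⟩
    · obtain ⟨X', Y', Z', s, F', hmu'⟩ := MuNorm.norm_one hP hε F h8 hmu
      obtain ⟨S, hS⟩ := SylA.wc_two hP hε F' (nkt F') hmu'
      exact ⟨P, S, X', Y', Z', Or.inl ⟨ε, Base.mk hP hε F', hk, Or.inr ⟨s, hS⟩⟩⟩
  · -- `κ = 3`
    obtain ⟨rfl, k, ρ₀, hρo, K⟩ := Base.kap hP hε F hk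
    have F₁ := Moves.shift D F k
    obtain ⟨Y₁, hY₁⟩ : ∃ Y₁ : F4 → G, Y₁ = fun b => Y b * Z (k * b) := ⟨_, rfl⟩
    rw [← hY₁] at F₁ K
    by_cases hmu : Mu1 A
    · by_cases hkt : ∃ b c, b ≠ 0 ∧ KT A (Y₁ b * Z c)
      · obtain ⟨b, c, hb, hKT⟩ := hkt
        obtain ⟨X', Y', Z', w, S, F', K', hS⟩ := SwapE.swap_one hP F₁ K (SwapB.all_kt D F₁ hb hKT) h8 hmu
        refine ⟨P, S, X', Y', Z', Or.inr ⟨ρ₀, Base.mk hP (Or.inl rfl) F', K', hρo, ?_⟩⟩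
        rcases hS with hS | hS
        · exact Or.inr (Or.inr (Or.inl ⟨w, hS⟩))
        · exact Or.inr (Or.inr (Or.inr (Or.inl ⟨w, hS⟩)))
      · push_neg at hkt
        obtain ⟨S, hS⟩ := SylA.wc_one hP (Or.inl rfl) F₁ hkt h8 hmu
        exact ⟨P, S, X, Y₁, Z, Or.inr ⟨ρ₀, Base.mk hP (Or.inl rfl) F₁, K, hρo, Or.inl hS⟩⟩
    · obtain ⟨X', Y', Z', s, F', K', hmu', hsρ⟩ := MuNorm.norm_three hP F₁ K h8 hmu
      by_cases hkt : ∃ b c, b ≠ 0 ∧ KT A (Y' b * Z' c)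
      · obtain ⟨b, c, hb, hKT⟩ := hkt
        obtain ⟨w, S, hS⟩ := SwapE.swap_two hP F' K' (SwapB.all_kt D F' hb hKT) h8 hmu' hsρ
        exact ⟨P, S, X', Y', Z', Or.inr ⟨ρ₀, Base.mk hP (Or.inl rfl) F', K', hρo,
          Or.inr (Or.inr (Or.inr (Or.inr ⟨s, w, hS⟩)))⟩⟩
      · push_neg at hkt
        obtain ⟨S, hS⟩ := SylA.wc_two hP (Or.inl rfl) F' hkt hmu'
        exact ⟨P, S, X', Y', Z', Or.inr ⟨ρ₀, Base.mk hP (Or.inl rfl) F', K', hρo,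
          Or.inr (Or.inl ⟨s, hS⟩)⟩⟩

end Cfsg.Agent.StdAlt.Five.Sec4Main
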