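import Cfsg.Agent.StdAlt.LabPair
import Cfsg.Agent.StdAlt.CaseB
import Cfsg.Agent.Lib.Cores


/-!
# Passing to a subgroup containing the standard subgroup
-/

set_option autoImplicit false
set_option linter.unusedSectionVars false

namespace Cfsg.Agent.StdAlt.Five.Sub

open Subgroup Equiv Cfsg.Agent.StdAlt Cfsg.Agent.StdAlt.Conj Cfsg.Agent.StdAlt.Pairs Cfsg.Agent.StdAlt.First
open Cfsg.Agent.StdAlt.Two (HasFour)

variable {G : Type*} [Group G] {A H : Subgroup G}

theorem mem_C_sub (hAH : A ≤ H) {x : H} : x ∈ C (A.subgroupOf H) ↔ (x : G) ∈ C A := by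
  rw [mem_C, mem_C]
  constructor
  · intro h a ha
    exact congrArg Subtype.val (h ⟨a, hAH ha⟩ ha)
  · intro h a ha
    exact Subtype.ext (h a ha)

theorem mem_N_sub (hAH : A ≤ H) {x : H} : x ∈ N (A.subgroupOf H) ↔ (x : G) ∈ N A := by
  rw [mem_N, mem_N]
  constructor
  · intro h a
    constructor
    · intro ha
      exact (h ⟨a, hAH ha⟩).1 ha
    · intro ha
      have h1 : (x : G) * a * (x : G)⁻¹ ∈ H := hAH ha
      have h2 : a ∈ H := by
        have := mul_mem (mul_mem (inv_mem x.2) h1) x.2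
        rwa [show (x : G)⁻¹ * (x * a * (x : G)⁻¹) * x = a by group] at this
      exact (h ⟨a, h2⟩).2 ha
  · intro h a
    exact h a

theorem C_sub (hAH : A ≤ H) : C (A.subgroupOf H) = (C A).subgroupOf H := by
  ext x
  rw [mem_C_sub hAH, mem_subgroupOf]

theorem N_sub (hAH : A ≤ H) : N (A.subgroupOf H) = (N A).subgroupOf H := by
  ext x
  rw [mem_N_sub hAH, mem_subgroupOf]

theorem te (hA : TE A) (hAH : A ≤ H) : TE (A.subgroupOf H) := by
  refine ⟨fun k g hk hk1 hkk hg => ?_, fun a ha hac => ?_, fun B hB hle => ?_⟩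
  · rw [mem_C_sub hAH] at hk hg
    rw [mem_N_sub hAH]
    exact hA.key k g hk (fun e => hk1 (Subtype.ext e)) (congrArg Subtype.val hkk) hg
  · rw [mem_C_sub hAH] at hac
    exact Subtype.ext (hA.disj a ha hac)
  · obtain ⟨g, rfl⟩ := hB.exists_eq
    apply hA.ncomm (Conj.cj (g : G) A) (Cj.cj A _)
    intro a ha
    rw [mem_C]
    intro b hb
    have h1 := hle (show (⟨a, hAH ha⟩ : H) ∈ A.subgroupOf H from ha)
    rw [mem_cj] at hb
    have hbH : b ∈ H := by
      have := mul_mem (mul_mem g.2 (hAH hb)) (inv_mem g.2)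
      rwa [show (g : G) * ((g : G)⁻¹ * b * g) * (g : G)⁻¹ = b by group] at this
    exact congrArg Subtype.val (mem_C.1 h1 ⟨b, hbH⟩ (mem_cj.2 hb))

/-- the restricted labelling -/
def lab {α : Type*} [Fintype α] [DecidableEq α] (L : Lab A α) (hAH : A ≤ H) :
    Lab (A.subgroupOf H) α where
  φ x := L.φ x
  mul x y hx hy := L.mul x y ((mem_N_sub hAH).1 hx) ((mem_N_sub hAH).1 hy)
  ker x hx := by rw [L.ker x ((mem_N_sub hAH).1 hx), mem_C_sub hAH]
  even x hx := L.even x hx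
  lift σ hσ := by
    obtain ⟨x, hx, rfl⟩ := L.lift σ hσ
    exact ⟨⟨x, hAH hx⟩, hx, rfl⟩

theorem lab_φ {α : Type*} [Fintype α] [DecidableEq α] (L : Lab A α) (hAH : A ≤ H) (x : H) :
    (lab L hAH).φ x = L.φ x := rfl

theorem simple (hs : IsSimpleGroup A) (hAH : A ≤ H) : IsSimpleGroup (A.subgroupOf H) :=
  (subgroupOfEquivOfLe hAH).isSimpleGroup

theorem hasFour (hF : HasFour A) (hAH : A ≤ H) (hle : ∀ v ∈ C A, v * v = 1 → v ∈ H) :
    HasFour (A.subgroupOf H) := by
  obtain ⟨v, hv, v', hv', h1, h2, h3, h4, h5, h6⟩ := hF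
  refine ⟨⟨v, hle v hv h4⟩, (mem_C_sub hAH).2 hv, ⟨v', hle v' hv' h5⟩, (mem_C_sub hAH).2 hv', ?_, ?_, ?_, ?_, ?_, ?_⟩
  · exact fun e => h1 (congrArg Subtype.val e)
  · exact fun e => h2 (congrArg Subtype.val e)
  · exact fun e => h3 (congrArg Subtype.val e)
  · exact Subtype.ext h4
  · exact Subtype.ext h5
  · exact Subtype.ext h6

/-! ### cores -/

theorem core_eq_bot_iff [Finite G] : Cfsg.oddCore G = ⊥ ↔ ∀ N : Subgroup G, N.Normal → Odd (Nat.card N) → N = ⊥ := by
  constructor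
  · intro h N hN hodd
    rw [eq_bot_iff, ← h]
    exact Lib.Cores.le_pPrimeCore hN (Nat.coprime_two_right.2 hodd)
  · intro h
    exact h _ (Lib.Cores.pPrimeCore_normal 2) (Nat.coprime_two_right.1 (Lib.Cores.pPrimeCore_coprime 2))

theorem core_of_normal [Finite G] (hO : Cfsg.oddCore G = ⊥) [hH : H.Normal] : Cfsg.oddCore H = ⊥ := by
  have hc : (Cfsg.oddCore H).Characteristic := Lib.Cores.pPrimeCore_characteristic 2
  have hn : ((Cfsg.oddCore H).map H.subtype).Normal := inferInstance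
  have h1 : (Cfsg.oddCore H).map H.subtype = ⊥ := by
    apply core_eq_bot_iff.1 hO _ hn
    rw [← Nat.card_congr ((Cfsg.oddCore H).equivMapOfInjective H.subtype H.subtype_injective).toEquiv]
    exact Nat.coprime_two_right.1 (Lib.Cores.pPrimeCore_coprime 2)
  exact (map_eq_bot_iff_of_injective _ H.subtype_injective).1 h1

end Cfsg.Agent.StdAlt.Five.Sub
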