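import Cfsg.Agent.StdAlt.Five.SylA

/-!
# S1766, n = 5, case (I): if `E2` contains an element of K-type, `E2` is conjugate to `E`
-/

set_option autoImplicit false

namespace Cfsg.Agent.StdAlt.Five.SwapA

open Subgroup Cfsg.Agent.StdAlt.Conj Cfsg.Agent.J2Sylow.Model Cfsg.Agent.StdAlt.Five
open Cfsg.Agent.StdAlt.Five.Sec4 Cfsg.Agent.StdAlt.Five.PGroup Cfsg.Agent.StdAlt.Five.PExists
open Cfsg.Agent.StdAlt.Five.PData Cfsg.Agent.StdAlt.Five.Coord Cfsg.Agent.StdAlt.Five.Moves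
open Cfsg.Agent.StdAlt.Five.Mu Cfsg.Agent.StdAlt.Five.SylA

variable {G : Type*} [Group G] {A R V P : Subgroup G} {ρ g s : G} {ε : F4} {X Y Z : F4 → G}

/-! ### `AC A` -/

/-- an element of `N A` acting linearly on `V` lies in `AC A` -/
theorem lin_AC (h : OddE A R V ρ g) (F : Frame R V P ρ ε X Y Z) {t : G} (ht : t ∈ N A) {hh : F4}
    (hh0 : hh ≠ 0) (hc : ∀ c, t * Z c * t⁻¹ = Z (hh * c)) :
    ∃ σ ∈ A, (∀ r ∈ R, σ * r = r * σ) ∧ ∀ v ∈ V, (σ * t) * v = v * (σ * t) := by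
  obtain ⟨σ, hσA, hσ⟩ : ∃ σ ∈ A, ∀ c, σ * Z (hh * c) * σ⁻¹ = Z c := by
    have hρ := F.ρZ
    have : hh = F4.e ∨ hh = F4.w ∨ hh = F4.u := by
      revert hh0
      cases hh
      · intro h; exact absurd rfl h
      · intro _; exact Or.inl rfl
      · intro _; exact Or.inr (Or.inl rfl)
      · intro _; exact Or.inr (Or.inr rfl)
    rcases this with rfl | rfl | rfl
    · exact ⟨1, one_mem _, fun c => by rw [show F4.e * c = c from one_mul c]; group⟩
    · refine ⟨ρ * ρ, mul_mem h.ρ_mem h.ρ_mem, fun c => ?_⟩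
      rw [show ρ * ρ * Z (F4.w * c) * (ρ * ρ)⁻¹ = ρ * (ρ * Z (F4.w * c) * ρ⁻¹) * ρ⁻¹ by group, hρ, hρ]
      congr 1
      have : ∀ c : F4, F4.w * (F4.w * (F4.w * c)) = c := by decide
      exact this c
    · refine ⟨ρ, h.ρ_mem, fun c => ?_⟩
      rw [hρ]
      congr 1
      have : ∀ c : F4, F4.w * (F4.u * c) = c := by decide
      exact this c
  refine ⟨σ, hσA, fun r hr => (comm_of_C (h.R_le hr) hσA).symm, ?_⟩
  intro v hv
  obtain ⟨c, rfl⟩ := F.Z_surj v hv
  have : (σ * t) * Z c * (σ * t)⁻¹ = Z c := by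
    rw [show (σ * t) * Z c * (σ * t)⁻¹ = σ * (t * Z c * t⁻¹) * σ⁻¹ by group, hc, hσ]
  calc (σ * t) * Z c = ((σ * t) * Z c * (σ * t)⁻¹) * (σ * t) := by group
    _ = Z c * (σ * t) := by rw [this]

theorem lin_AC' (h : OddE A R V ρ g) (F : Frame R V P ρ ε X Y Z) {t : G} (ht : t ∈ N A) {hh : F4}
    (hh0 : hh ≠ 0) (hc : ∀ c, t * Z c * t⁻¹ = Z (hh * c)) : t ∈ AC A := by
  obtain ⟨σ, hσA, -, hc2⟩ := lin_AC h F ht hh0 hc
  have h1 := AC_of_CV h (mul_mem (le_N hσA) ht) hc2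
  rw [show t = σ⁻¹ * (σ * t) by group]
  exact mul_mem (A_le_AC (inv_mem hσA)) h1

/-- `|N A : AC A| ≤ 2` -/
theorem mul_mem_AC [Finite G] (h : OddE A R V ρ g) (F : Frame R V P ρ ε X Y Z) (h8 : ¬ 8 ∣ Nat.card A)
    {x y : G} (hx : x ∈ N A) (hxA : x ∉ AC A) (hy : y ∈ N A) (hyA : y ∉ AC A) : x * y ∈ AC A := by
  obtain ⟨a, ha, hV, -⟩ := exists_inv h F h8 hx hxA
  obtain ⟨b, hb, hV', -⟩ := exists_inv h F h8 hy hyA
  have semi : ∀ {a x : G}, a ∈ A → x ∈ N A → x ∉ AC A → (∀ v ∈ V, (a * x) * v * (a * x)⁻¹ ∈ V) →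
      ∃ hh : F4, hh ≠ 0 ∧ ∀ c, (a * x) * Z c * (a * x)⁻¹ = Z (hh * F4.fr c) := by
    intro a x ha hx hxA hV
    obtain ⟨hh, hh0, hc | hc⟩ := act_V F hV
    · exfalso
      apply hxA
      have h1 := lin_AC' h F (mul_mem (le_N ha) hx) hh0 hc
      rw [show x = a⁻¹ * (a * x) by group]
      exact mul_mem (A_le_AC (inv_mem ha)) h1
    · exact ⟨hh, hh0, hc⟩
  obtain ⟨h1, h10, hc1⟩ := semi ha hx hxA hV
  obtain ⟨h2, h20, hc2⟩ := semi hb hy hyA hV'
  have hlin : ∀ c, (a * x * (b * y)) * Z c * (a * x * (b * y))⁻¹ = Z (h1 * F4.fr h2 * c) := by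
    intro c
    rw [show (a * x * (b * y)) * Z c * (a * x * (b * y))⁻¹ =
      (a * x) * ((b * y) * Z c * (b * y)⁻¹) * (a * x)⁻¹ by group, hc2, hc1, F4.fr_mul, F4.fr_fr, mul_assoc]
  have hne : h1 * F4.fr h2 ≠ 0 := by
    have : ∀ x y : F4, x ≠ 0 → y ≠ 0 → x * F4.fr y ≠ 0 := by decide
    exact this h1 h2 h10 h20
  have h3 := lin_AC' h F (mul_mem (mul_mem (le_N ha) hx) (mul_mem (le_N hb) hy)) hne hlin
  rw [show x * y = (x * b * x⁻¹)⁻¹ * (a⁻¹ * (a * x * (b * y))) by group]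
  exact mul_mem (A_le_AC (inv_mem (conj_mem hx hb))) (mul_mem (A_le_AC (inv_mem ha)) h3)

/-- an element of `N A` centralizing `R` lies in `AC A` -/
theorem cent_R_AC [Finite G] {h : OddE A R V ρ g} (hP : IsP h P) (F : Frame R V P ρ ε X Y Z)
    (h8 : ¬ 8 ∣ Nat.card A) {x : G} (hx : x ∈ N A) (hc : ∀ r ∈ R, x * r = r * x) : x ∈ AC A := by
  by_contra hxA
  have D := PData.data hP
  obtain ⟨a, ha, hV, hρ⟩ := exists_inv h F h8 hx hxA
  have hR : ∀ r ∈ R, (a * x) * r * (a * x)⁻¹ = r := by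
    intro r hr
    have h1 := hc r hr
    have h2 := comm_of_C (h.R_le hr) ha
    calc (a * x) * r * (a * x)⁻¹ = a * (x * r) * x⁻¹ * a⁻¹ := by group
      _ = a * r * a⁻¹ := by rw [h1]; group
      _ = r := by rw [← h2]; group
  have hE : a * x ∈ N (R ⊔ V) := Base.mem_NE h (fun r hr => by rw [hR r hr]; exact hr) hV
  obtain ⟨f, l, n, hh, hf, hl, hfl, hX, hY, hZ⟩ := act_semi D F
    (Base.nrm hP hE (mul_mem (le_N ha) hx)) hρ
  have h1 := hX F4.e
  have h2 := hX F4.w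
  rw [hR _ (F.X_mem _)] at h1 h2
  have h3 := F.X_inj h1
  have h4 := F.X_inj h2
  have : ∀ f : F4, F4.e = f * F4.fr F4.e → F4.w = f * F4.fr F4.w → False := by decide
  exact this f h3 h4

theorem AC_conj {k x : G} (hk : k ∈ AC A) (hx : k * x * k⁻¹ ∈ AC A) : x ∈ AC A := by
  rw [show x = k⁻¹ * (k * x * k⁻¹) * k by group]
  exact mul_mem (mul_mem (inv_mem hk) hx) hk

/-- uniqueness of the decomposition -/
theorem AC_uniq (h : OddE A R V ρ g) {a b k l : G} (ha : a ∈ A) (hb : b ∈ A) (hk : k ∈ C A) (hl : l ∈ C A)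
    (e : a * k = b * l) : a = b ∧ k = l := by
  have h1 : b⁻¹ * a = l * k⁻¹ := by
    calc b⁻¹ * a = b⁻¹ * (a * k) * k⁻¹ := by group
      _ = l * k⁻¹ := by rw [e]; group
  have h2 : b⁻¹ * a = 1 := h.te.disj _ (mul_mem (inv_mem hb) ha) (by rw [h1]; exact mul_mem hl (inv_mem hk))
  have h3 : a = b := by rw [inv_mul_eq_one] at h2; exact h2.symm
  subst h3
  exact ⟨rfl, mul_left_cancel e⟩

/-! ### elementary abelian subgroups of order 16 -/

section elab16

variable (A) in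
/-- projection of `T` to `A` -/
def TA (T : Subgroup G) : Subgroup G where
  carrier := {a | a ∈ A ∧ ∃ k ∈ C A, a * k ∈ T}
  mul_mem' := by
    rintro a b ⟨ha, k, hk, hak⟩ ⟨hb, l, hl, hbl⟩
    refine ⟨mul_mem ha hb, k * l, mul_mem hk hl, ?_⟩
    have h1 := comm_of_C hk hb
    rw [show a * b * (k * l) = a * (b * k) * l by group, ← h1, show a * (k * b) * l = (a * k) * (b * l) by group]
    exact mul_mem hak hbl
  one_mem' := ⟨one_mem _, 1, one_mem _, by rw [one_mul]; exact one_mem _⟩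
  inv_mem' := by
    rintro a ⟨ha, k, hk, hak⟩
    refine ⟨inv_mem ha, k⁻¹, inv_mem hk, ?_⟩
    have h1 := comm_of_C hk ha
    rw [← mul_inv_rev, h1]
    exact inv_mem hak

variable (A) in
/-- projection of `T` to `C A` -/
def TC (T : Subgroup G) : Subgroup G where
  carrier := {k | k ∈ C A ∧ ∃ a ∈ A, a * k ∈ T}
  mul_mem' := by
    rintro k l ⟨hk, a, ha, hak⟩ ⟨hl, b, hb, hbl⟩
    refine ⟨mul_mem hk hl, a * b, mul_mem ha hb, ?_⟩
    have h1 := comm_of_C hk hb
    rw [show a * b * (k * l) = a * (b * k) * l by group, ← h1, show a * (k * b) * l = (a * k) * (b * l) by group]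
    exact mul_mem hak hbl
  one_mem' := ⟨one_mem _, 1, one_mem _, by rw [one_mul]; exact one_mem _⟩
  inv_mem' := by
    rintro k ⟨hk, a, ha, hak⟩
    refine ⟨inv_mem hk, a⁻¹, inv_mem ha, ?_⟩
    have h1 := comm_of_C hk ha
    rw [← mul_inv_rev, h1]
    exact inv_mem hak

variable {T : Subgroup G} (h : OddE A R V ρ g) (hsq : ∀ t ∈ T, t * t = 1)
include h hsq

theorem sq_both {a k : G} (ha : a ∈ A) (hk : k ∈ C A) (hak : a * k ∈ T) : a * a = 1 ∧ k * k = 1 := by
  have h1 := hsq _ hak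
  have h2 := comm_of_C hk ha
  have h3 : (a * a) * (k * k) = 1 * 1 := by
    rw [one_mul]
    calc (a * a) * (k * k) = a * (a * k) * k := by group
      _ = a * (k * a) * k := by rw [h2]
      _ = (a * k) * (a * k) := by group
      _ = 1 := h1
  exact AC_uniq h (mul_mem ha ha) (one_mem _) (mul_mem hk hk) (one_mem _) h3

theorem TA_two : IsPGroup 2 (TA A T) :=
  Pairs.isPGroup_of_sq fun _ ha => by
    obtain ⟨ha, k, hk, hak⟩ := ha
    exact (sq_both h hsq ha hk hak).1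

theorem TC_two : IsPGroup 2 (TC A T) :=
  Pairs.isPGroup_of_sq fun _ ha => by
    obtain ⟨hk, a, ha, hak⟩ := ha
    exact (sq_both h hsq ha hk hak).2

omit hsq h in
theorem card_le_four [Finite G] {Q L : Subgroup G} (hQ : IsPGroup 2 Q) (hQL : Q ≤ L) (hL : ¬ 8 ∣ Nat.card L) :
    Nat.card Q ≤ 4 ∧ (Nat.card Q ≠ 4 → Nat.card Q ≤ 2) := by
  obtain ⟨n, hn⟩ := hQ.exists_card_eq
  have h1 : Nat.card Q ∣ Nat.card L := card_dvd_of_le hQL
  have hn2 : n ≤ 2 := by
    by_contra hcon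
    push_neg at hcon
    apply hL
    rw [hn] at h1
    exact (show (8 : ℕ) ∣ 2 ^ n by rw [show (8 : ℕ) = 2 ^ 3 by norm_num]; exact pow_dvd_pow 2 hcon).trans h1
  rw [hn]
  interval_cases n <;> norm_num

omit hsq in
/-- the projection to `A` has fibres of order `|T ⊓ C A|` -/
theorem card_le_proj [Finite G] (hT : T ≤ AC A) : Nat.card T ≤ Nat.card (TA A T) * Nat.card (T ⊓ C A : Subgroup G) := by
  classical
  have hdec : ∀ t : T, ∃ p : G × G, p.1 ∈ A ∧ p.2 ∈ C A ∧ (t : G) = p.1 * p.2 := by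
    rintro ⟨t, ht⟩
    obtain ⟨a, ha, k, hk, e⟩ := hT ht
    exact ⟨(a, k), ha, hk, e⟩
  choose f hfA hfC hf using hdec
  have hsec : ∀ a : TA A T, ∃ k ∈ C A, (a : G) * k ∈ T := fun a => a.2.2
  choose κ hκC hκ using hsec
  have hmem : ∀ t : T, (f t).1 ∈ TA A T := fun t => ⟨hfA t, (f t).2, hfC t, by rw [← hf]; exact t.2⟩
  have hd : ∀ t : T, (t : G) * ((f t).1 * κ ⟨_, hmem t⟩)⁻¹ ∈ T ⊓ C A := by
    intro t
    refine ⟨T.mul_mem t.2 (T.inv_mem (hκ ⟨_, hmem t⟩)), ?_⟩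
    have h1 := comm_of_C (inv_mem (hκC ⟨_, hmem t⟩)) (inv_mem (hfA t))
    have h2 := comm_of_C (mul_mem (hfC t) (inv_mem (hκC ⟨_, hmem t⟩))) (hfA t)
    have h3 : (t : G) * ((f t).1 * κ ⟨_, hmem t⟩)⁻¹ = (f t).2 * (κ ⟨_, hmem t⟩)⁻¹ := by
      calc (t : G) * ((f t).1 * κ ⟨_, hmem t⟩)⁻¹ =
            (f t).1 * ((f t).2 * (κ ⟨_, hmem t⟩)⁻¹) * ((f t).1)⁻¹ := by
            nth_rewrite 1 [hf t]; group
        _ = (f t).2 * (κ ⟨_, hmem t⟩)⁻¹ := by rw [← h2]; group
    show (t : G) * ((f t).1 * κ ⟨_, hmem t⟩)⁻¹ ∈ C A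
    rw [h3]
    exact mul_mem (hfC t) (inv_mem (hκC _))
  let F : T → TA A T × (T ⊓ C A : Subgroup G) := fun t => (⟨_, hmem t⟩, ⟨_, hd t⟩)
  have hF : Function.Injective F := by
    intro t u e
    have e1 : (⟨(f t).1, hmem t⟩ : TA A T) = ⟨(f u).1, hmem u⟩ := (Prod.mk.inj e).1
    have e2 : (t : G) * ((f t).1 * κ ⟨_, hmem t⟩)⁻¹ = (u : G) * ((f u).1 * κ ⟨_, hmem u⟩)⁻¹ :=
      congrArg (fun x : (T ⊓ C A : Subgroup G) => (x : G)) (Prod.mk.inj e).2
    have e3 : (f t).1 = (f u).1 := congrArg (fun x : TA A T => (x : G)) e1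
    rw [← e1, ← e3] at e2
    exact Subtype.ext (mul_right_cancel e2)
  have := Nat.card_le_card_of_injective F hF
  rwa [Nat.card_prod] at this

/-- **an elementary abelian subgroup of `N A` of order 16 is conjugate to a subgroup of `E`** -/
theorem conj_into_E [Finite G] (hP : IsP h P) (F : Frame R V P ρ ε X Y Z) (h8 : ¬ 8 ∣ Nat.card A)
    (hTN : T ≤ N A) (hcomm : ∀ x ∈ T, ∀ y ∈ T, x * y = y * x) (hcard : Nat.card T = 16) :
    ∃ z : G, ∀ t ∈ T, z * t * z⁻¹ ∈ R ⊔ V := by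
  have hTA := card_le_four (TA_two h hsq) (fun x hx => hx.1) h8
  have hTC := card_le_four (TC_two h hsq) (fun x hx => hx.1) h.card8
  -- `T ≤ AC A`
  have hT : T ≤ AC A := by
    intro m hm
    by_contra hmA
    let B : Subgroup G := T ⊓ AC A
    have hB : Nat.card T ≤ 2 * Nat.card B :=
      half inf_le_left fun x hx hxB y hy hyB => ⟨mul_mem hx hy,
        mul_mem_AC h F h8 (hTN hx) (fun h1 => hxB ⟨hx, h1⟩) (hTN hy) (fun h1 => hyB ⟨hy, h1⟩)⟩
    -- `m` centralizes both projections of `B`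
    have hmc : ∀ a ∈ A, ∀ k ∈ C A, a * k ∈ T → m * a * m⁻¹ = a ∧ m * k * m⁻¹ = k := by
      intro a ha k hk hak
      have h1 := hcomm m hm _ hak
      refine AC_uniq h (conj_mem (hTN hm) ha) ha (conj_mem_C (hTN hm) hk) hk ?_
      calc m * a * m⁻¹ * (m * k * m⁻¹) = (m * (a * k)) * m⁻¹ := by group
        _ = a * k := by rw [h1]; group
    by_cases hA4 : Nat.card (TA A T) = 4
    · -- `m` centralizes a Sylow 2-subgroup of `A`
      obtain ⟨x, hx, hxV⟩ := Pairs.exists_conj_le A V (TA A T) (pgroup_V h) (TA_two h hsq) h.V_le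
        (fun x hx => hx.1) (V_max h h8)
      have hsurj : ∀ v ∈ V, x⁻¹ * v * x ∈ TA A T := by
        have h1 : cj x (TA A T) ≤ V := by
          rintro _ ⟨y, hy, rfl⟩
          exact hxV y hy
        have h2 : cj x (TA A T) = V := by
          apply eq_of_le_of_card_ge h1
          rw [h.cardV, ← hA4]
          exact (Nat.card_congr ((TA A T).equivMapOfInjective _ (MulAut.conj x).injective).toEquiv).le
        intro v hv
        rw [← mem_cj, h2]
        exact hv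
      apply hmA
      apply AC_conj (A_le_AC hx)
      refine AC_of_CV h (mul_mem (mul_mem (le_N hx) (hTN hm)) (inv_mem (le_N hx))) fun v hv => ?_
      obtain ⟨ha, k, hk, hak⟩ := hsurj v hv
      have h1 := (hmc _ ha k hk hak).1
      calc x * m * x⁻¹ * v = x * (m * (x⁻¹ * v * x) * m⁻¹) * m * x⁻¹ := by group
        _ = v * (x * m * x⁻¹) := by rw [h1]; group
    · -- `m` centralizes a Sylow 2-subgroup of `C A`
      have hA2 := hTA.2 hA4
      let K₀ : Subgroup G := T ⊓ C A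
      have hK : Nat.card B ≤ 2 * Nat.card K₀ := by
        refine half (le_inf inf_le_left fun x hx => C_le_AC hx.2) fun x hx hxK y hy hyK =>
          ⟨mul_mem hx.1 hy.1, ?_⟩
        obtain ⟨a, ha, k, hk, rfl⟩ := hx.2
        obtain ⟨b, hb, l, hl, rfl⟩ := hy.2
        have haT : a ∈ TA A T := ⟨ha, k, hk, hx.1⟩
        have hbT : b ∈ TA A T := ⟨hb, l, hl, hy.1⟩
        have ha1 : a ≠ 1 := by
          rintro rfl
          exact hxK ⟨hx.1, by rw [one_mul]; exact hk⟩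
        have hb1 : b ≠ 1 := by
          rintro rfl
          exact hyK ⟨hy.1, by rw [one_mul]; exact hl⟩
        have hab : a = b := by
          by_contra hne
          classical
          haveI := Fintype.ofFinite (TA A T)
          have h3 : ({⟨1, one_mem _⟩, ⟨a, haT⟩, ⟨b, hbT⟩} : Finset (TA A T)).card ≤ Nat.card (TA A T) := by
            rw [Nat.card_eq_fintype_card]
            exact Finset.card_le_univ _
          rw [Finset.card_insert_of_notMem, Finset.card_insert_of_notMem, Finset.card_singleton] at h3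
          · omega
          · simp only [Finset.mem_singleton, Subtype.mk.injEq]
            exact hne
          · simp only [Finset.mem_insert, Finset.mem_singleton, Subtype.mk.injEq, not_or]
            exact ⟨fun e => ha1 e.symm, fun e => hb1 e.symm⟩
        subst hab
        have h2 := (sq_both h hsq ha hk hx.1).1
        have h3 := comm_of_C hk ha
        rw [show a * k * (a * l) = a * (k * a) * l by group, h3, show a * (a * k) * l = (a * a) * (k * l) by group,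
          h2, one_mul]
        exact mul_mem hk hl
      have hK4 : 4 ≤ Nat.card K₀ := by omega
      have hK2 : IsPGroup 2 K₀ := Pairs.isPGroup_of_sq fun x hx => hsq x hx.1
      obtain ⟨y, hy, hyR⟩ := Pairs.exists_conj_le (C A) R K₀ (pgroup_R h) hK2 h.R_le
        (fun x hx => hx.2) (R_max h)
      have hsurj : ∀ v ∈ R, y⁻¹ * v * y ∈ K₀ := by
        have h1 : cj y K₀ ≤ R := by
          rintro _ ⟨z, hz, rfl⟩
          exact hyR z hz
        have h2 : cj y K₀ = R := by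
          apply eq_of_le_of_card_ge h1
          rw [h.cardR]
          exact hK4.trans (Nat.card_congr (K₀.equivMapOfInjective _ (MulAut.conj y).injective).toEquiv).le
        intro v hv
        rw [← mem_cj, h2]
        exact hv
      apply hmA
      apply AC_conj (C_le_AC hy)
      refine cent_R_AC hP F h8 (mul_mem (mul_mem (C_le_N hy) (hTN hm)) (inv_mem (C_le_N hy))) fun r hr => ?_
      have h1 := hcomm m hm _ (hsurj r hr).1
      calc y * m * y⁻¹ * r = y * (m * (y⁻¹ * r * y)) * y⁻¹ := by group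
        _ = r * (y * m * y⁻¹) := by rw [h1]; group
  -- both projections have order 4
  have h1 := card_le_proj h hT
  have hKC : (T ⊓ C A : Subgroup G) ≤ TC A T := fun x hx => ⟨hx.2, 1, one_mem _, by rw [one_mul]; exact hx.1⟩
  have hKcard := Subgroup.card_le_of_le hKC
  have hK4 : 4 ≤ Nat.card (T ⊓ C A : Subgroup G) := by
    by_contra hlt
    push_neg at hlt
    have : Nat.card (TA A T) * Nat.card (T ⊓ C A : Subgroup G) ≤ 4 * 3 :=
      Nat.mul_le_mul hTA.1 (by omega)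
    omega
  have hKeq : (T ⊓ C A : Subgroup G) = TC A T := eq_of_le_of_card_ge hKC (by omega)
  obtain ⟨x, hx, hxV⟩ := Pairs.exists_conj_le A V (TA A T) (pgroup_V h) (TA_two h hsq) h.V_le
    (fun x hx => hx.1) (V_max h h8)
  obtain ⟨y, hy, hyR⟩ := Pairs.exists_conj_le (C A) R (TC A T) (pgroup_R h) (TC_two h hsq) h.R_le
    (fun x hx => hx.1) (R_max h)
  refine ⟨y * x, fun t ht => ?_⟩
  obtain ⟨a, ha, k, hk, rfl⟩ := hT ht
  have h2 := hxV a ⟨ha, k, hk, ht⟩
  have h3 := hyR k ⟨hk, a, ha, ht⟩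
  have h4 := comm_of_C hk hx
  have h5 := comm_of_C hy (h.V_le h2)
  have h6 : x * k * x⁻¹ = k := by rw [← h4]; group
  rw [show y * x * (a * k) * (y * x)⁻¹ = (y * (x * a * x⁻¹)) * (x * k * x⁻¹) * y⁻¹ by group, h6, h5,
    show x * a * x⁻¹ * y * k * y⁻¹ = (x * a * x⁻¹) * (y * k * y⁻¹) by group]
  exact mul_mem (mem_sup_right h2) (mem_sup_left h3)

end elab16

end Cfsg.Agent.StdAlt.Five.SwapA
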