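import Cfsg.Agent.StdAlt.Five.SwapA

/-!
# S1766, n = 5, case (I): the normalizer of `P` when `E2` has K-type
-/

set_option autoImplicit false

namespace Cfsg.Agent.StdAlt.Five.SwapB

open Subgroup Cfsg.Agent.StdAlt.Conj Cfsg.Agent.J2Sylow.Model Cfsg.Agent.StdAlt.Five
open Cfsg.Agent.StdAlt.Five.Sec4 Cfsg.Agent.StdAlt.Five.PGroup Cfsg.Agent.StdAlt.Five.PExists
open Cfsg.Agent.StdAlt.Five.PData Cfsg.Agent.StdAlt.Five.Coord Cfsg.Agent.StdAlt.Five.Moves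
open Cfsg.Agent.StdAlt.Five.Mu Cfsg.Agent.StdAlt.Five.SylA Cfsg.Agent.StdAlt.Five.SwapA

variable {G : Type*} [Group G] {A R V P : Subgroup G} {ρ g s : G} {X Y Z : F4 → G}

/-! ### the subgroup `E2` -/

theorem mulE2 (D : Data R V P ρ) (F : Frame R V P ρ 0 X Y Z) (b c b' c' : F4) :
    (Y b * Z c) * (Y b' * Z c') = Y (b + b') * Z (c + c') := by
  rw [E2_mul D F, zero_mul, add_zero]

theorem sqE2 (D : Data R V P ρ) (F : Frame R V P ρ 0 X Y Z) (b c : F4) :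
    (Y b * Z c) * (Y b * Z c) = 1 := by
  rw [mulE2 D F, F4.add_self, F4.add_self, F.Y_zero, F.Z_zero, one_mul]

/-- `E2 = {Y b * Z c}` -/
def E2 (D : Data R V P ρ) (F : Frame R V P ρ 0 X Y Z) : Subgroup G where
  carrier := {x | ∃ b c, x = Y b * Z c}
  mul_mem' := by
    rintro _ _ ⟨b, c, rfl⟩ ⟨b', c', rfl⟩
    exact ⟨b + b', c + c', mulE2 D F b c b' c'⟩
  one_mem' := ⟨0, 0, by rw [F.Y_zero, F.Z_zero, one_mul]⟩
  inv_mem' := by
    rintro _ ⟨b, c, rfl⟩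
    exact ⟨b, c, inv_eq_of_mul_eq_one_left (sqE2 D F b c)⟩

section
variable (D : Data R V P ρ) (F : Frame R V P ρ 0 X Y Z)
include D F

theorem mem_E2' {x : G} : x ∈ E2 D F ↔ ∃ b c, x = Y b * Z c := Iff.rfl

theorem E2_sq {x : G} (hx : x ∈ E2 D F) : x * x = 1 := by
  obtain ⟨b, c, rfl⟩ := hx
  exact sqE2 D F b c

theorem E2_comm {x y : G} (hx : x ∈ E2 D F) (hy : y ∈ E2 D F) : x * y = y * x := by
  obtain ⟨b, c, rfl⟩ := hx
  obtain ⟨b', c', rfl⟩ := hy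
  rw [mulE2 D F, mulE2 D F, add_comm b, add_comm c]

theorem E2_le {x : G} (hx : x ∈ E2 D F) : x ∈ P := by
  obtain ⟨b, c, rfl⟩ := hx
  exact P.mul_mem (F.Y_mem b) (D.B_le (F.Z_mem c))

theorem V_le_E2 {x : G} (hx : x ∈ V) : x ∈ E2 D F := by
  obtain ⟨c, rfl⟩ := F.Z_surj x hx
  exact ⟨0, c, by rw [F.Y_zero, one_mul]⟩

theorem card_E2 : Nat.card (E2 D F) = 16 := by
  have h1 : Function.Bijective (fun p : F4 × F4 => (⟨Y p.1 * Z p.2, ⟨p.1, p.2, rfl⟩⟩ : E2 D F)) := by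
    constructor
    · rintro ⟨b, c⟩ ⟨b', c'⟩ e
      have e1 : Y b * Z c = Y b' * Z c' := congrArg (fun x : E2 D F => (x : G)) e
      obtain ⟨e2, e3⟩ := E2_inj D F e1
      exact Prod.ext e2 e3
    · rintro ⟨x, b, c, rfl⟩
      exact ⟨(b, c), rfl⟩
  rw [← Nat.card_congr (Equiv.ofBijective _ h1), Nat.card_prod, Nat.card_eq_fintype_card]
  decide

theorem mem_E2_iff {b a c : F4} : Y b * X a * Z c ∈ E2 D F ↔ a = 0 := by
  constructor
  · rintro ⟨b', c', e⟩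
    rw [show Y b' * Z c' = Y b' * X 0 * Z c' by rw [F.X_zero, mul_one]] at e
    exact (F.inj _ _ _ _ _ _ e).2.1
  · rintro rfl
    exact ⟨b, c, by rw [F.X_zero, mul_one]⟩

theorem mem_V_iff {b a c : F4} : Y b * X a * Z c ∈ V ↔ b = 0 ∧ a = 0 := by
  constructor
  · intro h
    obtain ⟨c', e⟩ := F.Z_surj _ h
    rw [show Z c' = Y 0 * X 0 * Z c' by rw [F.X_zero, F.Y_zero, mul_one, one_mul]] at e
    obtain ⟨h1, h2, -⟩ := F.inj _ _ _ _ _ _ e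
    exact ⟨h1.symm, h2.symm⟩
  · rintro ⟨rfl, rfl⟩
    rw [F.X_zero, F.Y_zero, one_mul, one_mul]
    exact F.Z_mem c

theorem inf_E (h : OddE A R V ρ g) {x : G} (hx : x ∈ R ⊔ V) (hx2 : x ∈ E2 D F) : x ∈ V := by
  obtain ⟨b, a, c, e⟩ := F.P_surj x (E2_le D F hx2)
  rw [e] at hx hx2 ⊢
  exact (mem_V_iff D F).2 ⟨(mem_E_iff D F h).1 hx, (mem_E2_iff D F).1 hx2⟩

theorem inv_mem (h : OddE A R V ρ g) {x : G} (hx : x ∈ P) (hxx : x * x = 1) : x ∈ R ⊔ V ∨ x ∈ E2 D F := by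
  obtain ⟨b, a, c, e⟩ := F.P_surj x hx
  rw [e] at hxx ⊢
  rcases inv_coord D F hxx with h1 | h1
  · exact Or.inl ((mem_E_iff D F h).2 h1)
  · exact Or.inr ((mem_E2_iff D F).2 h1)

/-- commutation with an involution outside `V` -/
theorem cent_inv (h : OddE A R V ρ g) {y : G} (hy : y ∈ P) (hyy : y * y = 1) (hyV : y ∉ V) :
    (y ∈ R ⊔ V ∧ ∀ z ∈ P, z * y = y * z → z ∈ R ⊔ V) ∨ (y ∈ E2 D F ∧ ∀ z ∈ P, z * y = y * z → z ∈ E2 D F) := by
  obtain ⟨b₀, a₀, c₀, e⟩ := F.P_surj y hy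
  rw [e] at hyy hyV ⊢
  rcases inv_coord D F hyy with h1 | h1
  · left
    refine ⟨(mem_E_iff D F h).2 h1, fun z hz hc => ?_⟩
    obtain ⟨b, a, c, e'⟩ := F.P_surj z hz
    rw [e', h1, F.Y_zero, one_mul] at hc
    have h2 := comm_coord D F hc
    rw [e']
    refine (mem_E_iff D F h).2 ?_
    have h3 : a₀ ≠ 0 := fun h3 => hyV ((mem_V_iff D F).2 ⟨h1, h3⟩)
    have : ∀ a b : F4, a * b = 0 → a ≠ 0 → b = 0 := by decide
    exact this _ _ h2 h3
  · right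
    refine ⟨(mem_E2_iff D F).2 h1, fun z hz hc => ?_⟩
    obtain ⟨b, a, c, e'⟩ := F.P_surj z hz
    rw [e', P_mul D F, P_mul D F] at hc
    obtain ⟨-, -, h2⟩ := F.inj _ _ _ _ _ _ hc
    rw [e']
    refine (mem_E2_iff D F).2 ?_
    have h3 : b₀ ≠ 0 := fun h3 => hyV ((mem_V_iff D F).2 ⟨h3, h1⟩)
    rw [h1] at h2
    have e1 : a * b₀ + (c + c₀) = 0 + (c + c₀) := by
      rw [zero_mul, zero_mul, zero_add, zero_mul, zero_add, add_comm c₀ c] at h2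
      exact h2
    have e2 := add_right_cancel e1
    have : ∀ a b : F4, a * b = 0 → b ≠ 0 → a = 0 := by decide
    exact this _ _ e2 h3

end

/-- all elements of `E2 - V` have K-type if one does -/
theorem all_kt (D : Data R V P ρ) (F : Frame R V P ρ 0 X Y Z) {b c : F4} (hb : b ≠ 0)
    (hk : KT A (Y b * Z c)) (b' c' : F4) (hb' : b' ≠ 0) : KT A (Y b' * Z c') := by
  -- conjugation by `ρ`
  have h1 : ∀ b c, KT A (Y b * Z c) → KT A (Y (F4.w * b) * Z (F4.w * c)) := by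
    intro b c h
    rw [← ρE2 F]
    exact KT_conj h ρ
  have h2 : ∀ b c a, KT A (Y b * Z c) → KT A (Y b * Z (a * b + c)) := by
    intro b c a h
    have h3 : X a * (Y b * Z c) * (X a)⁻¹ = Y b * Z (a * b + c) := by
      have e1 := F.X_Y a b
      have e2 := ZX D F (a * b) a
      have e3 := ZX D F c a
      calc X a * (Y b * Z c) * (X a)⁻¹ = (X a * Y b) * Z c * (X a)⁻¹ := by group
        _ = Y b * (X a * Z (a * b)) * Z c * (X a)⁻¹ := by rw [e1]; group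
        _ = Y b * Z (a * b) * (X a * Z c) * (X a)⁻¹ := by rw [← e2]; group
        _ = Y b * (Z (a * b) * Z c) := by rw [← e3]; group
        _ = _ := by rw [← F.Z_add]
    rw [← h3]
    exact KT_conj h (X a)
  obtain ⟨c₁, h3⟩ : ∃ c₁, KT A (Y b' * Z c₁) := by
    have : b' = b ∨ b' = F4.w * b ∨ b' = F4.w * (F4.w * b) := by
      have : ∀ b b' : F4, b ≠ 0 → b' ≠ 0 → b' = b ∨ b' = F4.w * b ∨ b' = F4.w * (F4.w * b) := by decide
      exact this b b' hb hb'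
    rcases this with e | e | e
    · exact ⟨c, by rw [e]; exact hk⟩
    · exact ⟨_, by rw [e]; exact h1 _ _ hk⟩
    · exact ⟨_, by rw [e]; exact h1 _ _ (h1 _ _ hk)⟩
  obtain ⟨a, ha⟩ : ∃ a, a * b' + c₁ = c' := by
    have : ∀ b' c₁ c' : F4, b' ≠ 0 → ∃ a, a * b' + c₁ = c' := by decide
    exact this b' c₁ c' hb'
  rw [← ha]
  exact h2 _ _ a h3

/-! ### elements normalizing `P` -/

/-- `x` swaps `E` and `E2` -/
structure Sw (D : Data R V P ρ) (F : Frame R V P ρ 0 X Y Z) (x : G) : Prop where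
  onP : ∀ p ∈ P, x * p * x⁻¹ ∈ P
  onV : ∀ v ∈ V, x * v * x⁻¹ ∈ V
  onE : ∀ e ∈ R ⊔ V, x * e * x⁻¹ ∈ E2 D F
  onE' : ∀ e ∈ E2 D F, x * e * x⁻¹ ∈ R ⊔ V

/-- `x` normalizes `E` and `E2` -/
structure Nm (D : Data R V P ρ) (F : Frame R V P ρ 0 X Y Z) (x : G) : Prop where
  onP : ∀ p ∈ P, x * p * x⁻¹ ∈ P
  onV : ∀ v ∈ V, x * v * x⁻¹ ∈ V
  onE : ∀ e ∈ R ⊔ V, x * e * x⁻¹ ∈ R ⊔ V
  onE' : ∀ e ∈ E2 D F, x * e * x⁻¹ ∈ E2 D F

theorem XY_ncomm (D : Data R V P ρ) (F : Frame R V P ρ 0 X Y Z) : X F4.e * Y F4.e ≠ Y F4.e * X F4.e := by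
  intro e
  rw [F.X_Y] at e
  have h1 : Z (F4.e * F4.e) = 1 := mul_eq_left.1 e
  rw [← F.Z_zero] at h1
  exact absurd (F.Z_inj h1) (by decide)

/-- the dichotomy -/
theorem dich [Finite G] {h : OddE A R V ρ g} (hP : IsP h P) (F : Frame R V P ρ 0 X Y Z)
    (kt2 : ∀ b c, b ≠ 0 → KT A (Y b * Z c)) {x : G} (hx : ∀ p ∈ P, x * p * x⁻¹ ∈ P) :
    Nm (PData.data hP) F x ∨ Sw (PData.data hP) F x := by
  have D := PData.data hP
  -- elements of `V` go to `V`, elements outside do not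
  have hkt : ∀ y ∈ P, y * y = 1 → (y ∉ V ↔ KT A y) := by
    intro y hy hyy
    constructor
    · intro hyV
      obtain ⟨b, a, c, e⟩ := F.P_surj y hy
      rcases inv_mem D F h hy hyy with h1 | h1
      · rw [e] at h1 hyV ⊢
        have h2 := (mem_E_iff D F h).1 h1
        have h3 : a ≠ 0 := fun h3 => hyV ((mem_V_iff D F).2 ⟨h2, h3⟩)
        rw [h2, F.Y_zero, one_mul]
        refine KT_E h (F.X_mem a) ?_ (F.Z_mem c)
        intro e'
        apply h3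
        apply F.X_inj
        rw [e', F.X_zero]
      · rw [e] at h1 hyV ⊢
        have h2 := (mem_E2_iff D F).1 h1
        have h3 : b ≠ 0 := fun h3 => hyV ((mem_V_iff D F).2 ⟨h3, h2⟩)
        rw [h2, F.X_zero, mul_one]
        exact kt2 b c h3
    · intro hk hyV
      exact not_KT h hyV hk
  have hsq : ∀ y : G, y * y = 1 → (x * y * x⁻¹) * (x * y * x⁻¹) = 1 := by
    intro y hy
    calc (x * y * x⁻¹) * (x * y * x⁻¹) = x * (y * y) * x⁻¹ := by group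
      _ = 1 := by rw [hy]; group
  have hV : ∀ v ∈ V, x * v * x⁻¹ ∈ V := by
    intro v hv
    by_contra hcon
    have h1 := (hkt _ (hx v (D.B_le hv)) (hsq v (h.sqV v hv))).1 hcon
    have h2 := KT_conj h1 x⁻¹
    rw [show x⁻¹ * (x * v * x⁻¹) * x⁻¹⁻¹ = v by group] at h2
    exact not_KT h hv h2
  have hnV : ∀ y ∈ P, y * y = 1 → y ∉ V → x * y * x⁻¹ ∉ V := by
    intro y hy hyy hyV
    have h1 := (hkt y hy hyy).1 hyV
    exact (hkt _ (hx y hy) (hsq y hyy)).2 (KT_conj h1 x)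
  have hcj : ∀ y z : G, y * z = z * y → (x * y * x⁻¹) * (x * z * x⁻¹) = (x * z * x⁻¹) * (x * y * x⁻¹) := by
    intro y z e
    calc (x * y * x⁻¹) * (x * z * x⁻¹) = x * (y * z) * x⁻¹ := by group
      _ = _ := by rw [e]; group
  have hXV : X F4.e ∉ V := by
    rw [show X F4.e = Y 0 * X F4.e * Z 0 by rw [F.Y_zero, F.Z_zero, one_mul, mul_one], mem_V_iff D F]
    rintro ⟨-, h1⟩
    exact absurd h1 (by decide)
  have hYV : Y F4.e ∉ V := by
    rw [show Y F4.e = Y F4.e * X 0 * Z 0 by rw [F.X_zero, F.Z_zero, mul_one, mul_one], mem_V_iff D F]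
    rintro ⟨h1, -⟩
    exact absurd h1 (by decide)
  have hXP : X F4.e ∈ P := D.R_le (F.X_mem _)
  have hYP : Y F4.e ∈ P := F.Y_mem _
  have hXX : X F4.e * X F4.e = 1 := h.sqR _ (F.X_mem _)
  have hYY : Y F4.e * Y F4.e = 1 := by
    have := sqE2 D F F4.e 0
    rwa [F.Z_zero, mul_one] at this
  have hXE : X F4.e ∈ R ⊔ V := mem_sup_left (F.X_mem _)
  have hYE : Y F4.e ∈ E2 D F := ⟨F4.e, 0, by rw [F.Z_zero, mul_one]⟩
  have c1 := cent_inv D F h (hx _ hXP) (hsq _ hXX) (hnV _ hXP hXX hXV)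
  have c2 := cent_inv D F h (hx _ hYP) (hsq _ hYY) (hnV _ hYP hYY hYV)
  have hn : ¬ ((x * X F4.e * x⁻¹) * (x * Y F4.e * x⁻¹) = (x * Y F4.e * x⁻¹) * (x * X F4.e * x⁻¹)) := by
    intro e
    apply XY_ncomm D F
    calc X F4.e * Y F4.e = x⁻¹ * ((x * X F4.e * x⁻¹) * (x * Y F4.e * x⁻¹)) * x := by group
      _ = Y F4.e * X F4.e := by rw [e]; group
  have hEE : ∀ e ∈ R ⊔ V, (x * e * x⁻¹) * (x * X F4.e * x⁻¹) = (x * X F4.e * x⁻¹) * (x * e * x⁻¹) :=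
    fun e he => hcj _ _ (E_comm h he hXE)
  have hE2 : ∀ e ∈ E2 D F, (x * e * x⁻¹) * (x * Y F4.e * x⁻¹) = (x * Y F4.e * x⁻¹) * (x * e * x⁻¹) :=
    fun e he => hcj _ _ (E2_comm D F he hYE)
  rcases c1 with ⟨m1, c1⟩ | ⟨m1, c1⟩ <;> rcases c2 with ⟨m2, c2⟩ | ⟨m2, c2⟩
  · exact absurd (E_comm h m1 m2) hn
  · exact Or.inl ⟨hx, hV, fun e he => c1 _ (hx e (E_le hP he)) (hEE e he),
      fun e he => c2 _ (hx e (E2_le D F he)) (hE2 e he)⟩
  · exact Or.inr ⟨hx, hV, fun e he => c1 _ (hx e (E_le hP he)) (hEE e he),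
      fun e he => c2 _ (hx e (E2_le D F he)) (hE2 e he)⟩
  · exact absurd (E2_comm D F m1 m2) hn

theorem Nm.NE [Finite G] {D : Data R V P ρ} {F : Frame R V P ρ 0 X Y Z} {x : G} (hx : Nm D F x) :
    x ∈ N (R ⊔ V) := mem_N_of hx.onE

theorem Sw.not_NE [Finite G] {h : OddE A R V ρ g} {D : Data R V P ρ} {F : Frame R V P ρ 0 X Y Z} {x : G}
    (hx : Sw D F x) : x ∉ N (R ⊔ V) := by
  intro hn
  have h1 : ∀ e ∈ R ⊔ V, e ∈ V := by
    intro e he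
    have h2 := conj_mem' hn he
    have h3 := hx.onE _ h2
    rw [show x * (x⁻¹ * e * x) * x⁻¹ = e by group] at h3
    exact inf_E D F h he h3
  have h2 := h1 _ (mem_sup_left (F.X_mem F4.e))
  rw [show X F4.e = Y 0 * X F4.e * Z 0 by rw [F.Y_zero, F.Z_zero, one_mul, mul_one], mem_V_iff D F] at h2
  exact absurd h2.2 (by decide)

theorem Sw.mul {D : Data R V P ρ} {F : Frame R V P ρ 0 X Y Z} {x y : G} (hx : Sw D F x) (hy : Sw D F y) :
    Nm D F (x * y) where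
  onP := fun p hp => by
    rw [show x * y * p * (x * y)⁻¹ = x * (y * p * y⁻¹) * x⁻¹ by group]; exact hx.onP _ (hy.onP _ hp)
  onV := fun p hp => by
    rw [show x * y * p * (x * y)⁻¹ = x * (y * p * y⁻¹) * x⁻¹ by group]; exact hx.onV _ (hy.onV _ hp)
  onE := fun p hp => by
    rw [show x * y * p * (x * y)⁻¹ = x * (y * p * y⁻¹) * x⁻¹ by group]; exact hx.onE' _ (hy.onE _ hp)
  onE' := fun p hp => by
    rw [show x * y * p * (x * y)⁻¹ = x * (y * p * y⁻¹) * x⁻¹ by group]; exact hx.onE _ (hy.onE' _ hp)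

theorem Sw.Nm_mul {D : Data R V P ρ} {F : Frame R V P ρ 0 X Y Z} {x y : G} (hx : Nm D F x) (hy : Sw D F y) :
    Sw D F (x * y) where
  onP := fun p hp => by
    rw [show x * y * p * (x * y)⁻¹ = x * (y * p * y⁻¹) * x⁻¹ by group]; exact hx.onP _ (hy.onP _ hp)
  onV := fun p hp => by
    rw [show x * y * p * (x * y)⁻¹ = x * (y * p * y⁻¹) * x⁻¹ by group]; exact hx.onV _ (hy.onV _ hp)
  onE := fun p hp => by
    rw [show x * y * p * (x * y)⁻¹ = x * (y * p * y⁻¹) * x⁻¹ by group]; exact hx.onE' _ (hy.onE _ hp)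
  onE' := fun p hp => by
    rw [show x * y * p * (x * y)⁻¹ = x * (y * p * y⁻¹) * x⁻¹ by group]; exact hx.onE _ (hy.onE' _ hp)

/-- 2-elements of `W0` lie in `P` -/
theorem W0_two [Finite G] {h : OddE A R V ρ g} (hP : IsP h P) {x : G} (hx : x ∈ W0 h)
    (h2 : ∃ k : ℕ, x ^ (2 ^ k) = 1) : x ∈ P := by
  obtain ⟨p, hp, d, hd, rfl⟩ := W0_fact hP hx
  obtain ⟨k, hk⟩ := h2
  obtain ⟨l, hl⟩ := pow_two_of_mem hP hp
  have hc : Commute p d := Od_P hP hd hp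
  have h3 : d ^ (2 ^ (k + l)) = 1 := by
    have h4 : (p * d) ^ (2 ^ (k + l)) = 1 := by rw [pow_add, pow_mul, hk, one_pow]
    rw [hc.mul_pow, show p ^ (2 ^ (k + l)) = 1 by rw [pow_add, mul_comm, pow_mul, hl, one_pow],
      one_mul] at h4
    exact h4
  have h5 : d = 1 := by
    have h6 : orderOf d ∣ 2 ^ (k + l) := orderOf_dvd_of_pow_eq_one h3
    have h7 : Nat.Coprime (orderOf d) (2 ^ (k + l)) := Nat.Coprime.pow_right _ hd.2.coprime_two_right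
    exact orderOf_eq_one_iff.1 (Nat.Coprime.eq_one_of_dvd h7 h6)
  rw [h5, mul_one]
  exact hp

/-- **existence of a swap** -/
theorem exists_swap [Finite G] {h : OddE A R V ρ g} (hP : IsP h P) (F : Frame R V P ρ 0 X Y Z)
    (kt2 : ∀ b c, b ≠ 0 → KT A (Y b * Z c)) (h8 : ¬ 8 ∣ Nat.card A) : ∃ x, Sw (PData.data hP) F x := by
  have D := PData.data hP
  obtain ⟨h1, h2, g₁, hg₁⟩ := kt2 F4.e 0 (by decide)
  have hyE : Y F4.e * Z 0 ∈ E2 D F := ⟨F4.e, 0, rfl⟩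
  set y := Y F4.e * Z 0 with hy
  let T := cj g₁ (E2 D F)
  have hTmem : ∀ t, t ∈ T → ∃ e ∈ E2 D F, t = g₁ * e * g₁⁻¹ := by
    intro t ht
    exact ⟨g₁⁻¹ * t * g₁, mem_cj.1 ht, by group⟩
  have hTN : T ≤ N A := by
    intro t ht
    obtain ⟨e, he, rfl⟩ := hTmem t ht
    refine h.te.nrm hg₁ ?_ ?_ ?_
    · intro e1
      apply h1
      rw [show y = g₁⁻¹ * (g₁ * y * g₁⁻¹) * g₁ by group, e1]; group
    · rw [show g₁ * y * g₁⁻¹ * (g₁ * y * g₁⁻¹) = g₁ * (y * y) * g₁⁻¹ by group, h2]; group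
    · have h3 := E2_comm D F he hyE
      calc g₁ * e * g₁⁻¹ * (g₁ * y * g₁⁻¹) = g₁ * (e * y) * g₁⁻¹ := by group
        _ = _ := by rw [h3]; group
  have hsq : ∀ t ∈ T, t * t = 1 := by
    intro t ht
    obtain ⟨e, he, rfl⟩ := hTmem t ht
    rw [show g₁ * e * g₁⁻¹ * (g₁ * e * g₁⁻¹) = g₁ * (e * e) * g₁⁻¹ by group, E2_sq D F he]; group
  have hcomm : ∀ x ∈ T, ∀ y ∈ T, x * y = y * x := by
    intro t ht u hu
    obtain ⟨e, he, rfl⟩ := hTmem t ht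
    obtain ⟨f, hf, rfl⟩ := hTmem u hu
    have h3 := E2_comm D F he hf
    calc g₁ * e * g₁⁻¹ * (g₁ * f * g₁⁻¹) = g₁ * (e * f) * g₁⁻¹ := by group
      _ = _ := by rw [h3]; group
  have hcard : Nat.card T = 16 := by
    rw [← card_E2 D F]
    exact (Nat.card_congr ((E2 D F).equivMapOfInjective _ (MulAut.conj g₁).injective).toEquiv).symm
  obtain ⟨z, hz⟩ := conj_into_E h hsq hP F h8 hTN hcomm hcard
  obtain ⟨x, hx⟩ : ∃ x, x = z * g₁ := ⟨_, rfl⟩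
  have hxE : ∀ e ∈ E2 D F, x * e * x⁻¹ ∈ R ⊔ V := by
    intro e he
    have := hz _ (conj_mem_cj.2 he)
    rwa [show z * (g₁ * e * g₁⁻¹) * z⁻¹ = x * e * x⁻¹ by rw [hx]; group] at this
  have hEx : ∀ e ∈ R ⊔ V, x⁻¹ * e * x ∈ E2 D F := by
    have h3 : cj x (E2 D F) ≤ R ⊔ V := by
      rintro _ ⟨y, hy, rfl⟩
      exact hxE y hy
    have h4 : cj x (E2 D F) = R ⊔ V := by
      apply eq_of_le_of_card_ge h3
      rw [card_E h, ← card_E2 D F]
      exact (Nat.card_congr ((E2 D F).equivMapOfInjective _ (MulAut.conj x).injective).toEquiv).le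
    intro v hv
    rw [← mem_cj, h4]
    exact hv
  -- `V` is normalized by `x`
  have hV : ∀ v ∈ V, x * v * x⁻¹ ∈ V := by
    intro v hv
    have h3 := hxE v (V_le_E2 D F hv)
    obtain ⟨r, hr, w, hw, e⟩ := (mem_E h).1 h3
    by_cases hr1 : r = 1
    · rw [e, hr1, one_mul]; exact hw
    · exfalso
      have h4 := KT_conj (KT_E h hr hr1 hw) x⁻¹
      rw [← e, show x⁻¹ * (x * v * x⁻¹) * x⁻¹⁻¹ = v by group] at h4
      exact not_KT h hv h4
  have hV' : ∀ v ∈ V, x⁻¹ * v * x ∈ V := by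
    have h3 : x ∈ N V := mem_N_of hV
    exact fun v hv => conj_mem' h3 hv
  -- `P` is normalized by `x`
  have hPE2 : ∀ p ∈ P, ∀ e ∈ E2 D F, p * e * p⁻¹ ∈ E2 D F ∧ p * e * p⁻¹ * e⁻¹ ∈ V := by
    intro p hp e he
    have h3 : p * e * p⁻¹ * e⁻¹ ∈ V := D.sqcomm hp (E2_le D F he)
    refine ⟨?_, h3⟩
    rw [show p * e * p⁻¹ = (p * e * p⁻¹ * e⁻¹) * e by group]
    exact mul_mem (V_le_E2 D F h3) he
  have hxP : ∀ p ∈ P, x * p * x⁻¹ ∈ P := by
    intro p hp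
    refine W0_two hP ⟨mem_N_of fun e he => ?_, fun v hv => ?_, fun r hr => ?_⟩ ?_
    · rw [show x * p * x⁻¹ * e * (x * p * x⁻¹)⁻¹ = x * (p * (x⁻¹ * e * x) * p⁻¹) * x⁻¹ by group]
      exact hxE _ (hPE2 p hp _ (hEx e he)).1
    · have h3 := D.cent p hp _ (hV' v hv)
      calc x * p * x⁻¹ * v = x * (p * (x⁻¹ * v * x)) * x⁻¹ := by group
        _ = v * (x * p * x⁻¹) := by rw [h3]; group
    · rw [show x * p * x⁻¹ * r * (x * p * x⁻¹)⁻¹ * r⁻¹ =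
        x * (p * (x⁻¹ * r * x) * p⁻¹ * (x⁻¹ * r * x)⁻¹) * x⁻¹ by group]
      exact hV _ (hPE2 p hp _ (hEx r (mem_sup_left hr))).2
    · obtain ⟨k, hk⟩ := pow_two_of_mem hP hp
      exact ⟨k, by rw [conj_pow, hk]; group⟩
  rcases dich hP F kt2 hxP with h3 | h3
  · exfalso
    -- `x` maps `E2` into `E`
    have h4 := h3.onE' y hyE
    have h5 := inf_E D F h (hxE y hyE) h4
    have h6 := KT_conj (kt2 F4.e 0 (by decide)) x
    exact not_KT h h5 h6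
  · exact ⟨x, h3⟩

/-! ### the Sylow 2-subgroup of `N P` -/

/-- a Sylow 2-subgroup of `N P` -/
structure IsQ (D : Data R V P ρ) (F : Frame R V P ρ 0 X Y Z) (S₀ Q : Subgroup G) (τ : G) : Prop where
  two : IsPGroup 2 Q
  le : S₀ ≤ Q
  leN : Q ≤ N P
  pow : ∀ n, 2 ^ n ∣ Nat.card (N P) → 2 ^ n ∣ Nat.card Q
  mem : τ ∈ Q
  sw : Sw D F τ
  inf : ∀ q ∈ Q, q ∈ N (R ⊔ V) → q ∈ S₀
  cases : ∀ q ∈ Q, q ∈ S₀ ∨ q * τ ∈ S₀
  cases' : ∀ q ∈ Q, q ∈ S₀ ∨ Sw D F q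

theorem exists_Q [Finite G] {h : OddE A R V ρ g} (hP : IsP h P) (F : Frame R V P ρ 0 X Y Z)
    (kt2 : ∀ b c, b ≠ 0 → KT A (Y b * Z c)) (h8 : ¬ 8 ∣ Nat.card A) {S₀ : Subgroup G}
    (hS : IsPGroup 2 S₀) (hPS : S₀ ≤ N P) (hSE : S₀ ≤ N (R ⊔ V))
    (hmax : ∀ Q : Subgroup G, IsPGroup 2 Q → S₀ ≤ Q → Q ≤ N (R ⊔ V) → Q = S₀) :
    ∃ Q τ, IsQ (PData.data hP) F S₀ Q τ := by
  have D := PData.data hP
  obtain ⟨x, hx⟩ := exists_swap hP F kt2 h8
  have hxN : x ∈ N P := mem_N_of hx.onP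
  obtain ⟨Q, hQ2, hSQ, hQN, hpow⟩ := Pairs.exists_two_subgroup (N P) S₀ hS hPS
  have hinf : ∀ q ∈ Q, q ∈ N (R ⊔ V) → q ∈ S₀ := by
    intro q hq hqN
    have h1 := hmax (Q ⊓ N (R ⊔ V)) (hQ2.to_le inf_le_left) (le_inf hSQ hSE) inf_le_right
    rw [← h1]
    exact ⟨hq, hqN⟩
  have hdich : ∀ q ∈ Q, q ∈ S₀ ∨ Sw D F q := by
    intro q hq
    rcases dich hP F kt2 (fun p hp => conj_mem (hQN hq) hp) with h1 | h1
    · exact Or.inl (hinf q hq h1.NE)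
    · exact Or.inr h1
  -- a swap in `Q`
  obtain ⟨τ, hτ, hτs⟩ : ∃ τ ∈ Q, Sw D F τ := by
    by_contra hcon
    push_neg at hcon
    have hQS : Q ≤ S₀ := fun q hq => (hdich q hq).resolve_right (hcon q hq)
    let M : Subgroup G := N P ⊓ N (R ⊔ V)
    have hM : Nat.card (N P) ≤ 2 * Nat.card M := by
      refine half inf_le_left fun a ha haM b hb hbM => ⟨mul_mem ha hb, ?_⟩
      have ha' : Sw D F a := by
        rcases dich hP F kt2 (fun p hp => conj_mem ha hp) with h1 | h1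
        · exact absurd ⟨ha, h1.NE⟩ haM
        · exact h1
      have hb' : Sw D F b := by
        rcases dich hP F kt2 (fun p hp => conj_mem hb hp) with h1 | h1
        · exact absurd ⟨hb, h1.NE⟩ hbM
        · exact h1
      exact (ha'.mul hb').NE
    have hMne : Nat.card M ≠ Nat.card (N P) := by
      intro e
      have h1 : M = N P := eq_of_le_of_card_ge inf_le_left e.ge
      have h2 : x ∈ M := by rw [h1]; exact hxN
      exact hx.not_NE (h := h) h2.2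
    obtain ⟨k, hk⟩ : Nat.card M ∣ Nat.card (N P) := card_dvd_of_le inf_le_left
    have hMpos : 0 < Nat.card M := Nat.card_pos
    have hk2 : k = 2 := by
      have h1 : k ≤ 2 := by
        by_contra h1
        push_neg at h1
        have : Nat.card M * 3 ≤ Nat.card M * k := Nat.mul_le_mul_left _ h1
        omega
      have h0 : 0 < Nat.card (N P) := Nat.card_pos
      rcases Nat.lt_or_ge k 2 with h2 | h2
      · exfalso
        rcases Nat.lt_or_ge k 1 with h3 | h3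
        · rw [show k = 0 by omega, mul_zero] at hk
          omega
        · rw [show k = 1 by omega, mul_one] at hk
          exact hMne hk.symm
      · omega
    obtain ⟨n, hn⟩ := hQ2.exists_card_eq
    have hQM : Nat.card Q ∣ Nat.card M := card_dvd_of_le (le_inf hQN (hQS.trans hSE))
    have h1 : 2 ^ (n + 1) ∣ Nat.card (N P) := by
      rw [hk, hk2, pow_succ, ← hn]
      exact Nat.mul_dvd_mul_right hQM 2
    have h2 := hpow _ h1
    rw [hn] at h2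
    have h3 := (Nat.pow_dvd_pow_iff_le_right (by norm_num : 1 < 2)).1 h2
    omega
  refine ⟨Q, τ, hQ2, hSQ, hQN, hpow, hτ, hτs, hinf, ?_, hdich⟩
  intro q hq
  rcases hdich q hq with h1 | h1
  · exact Or.inl h1
  · exact Or.inr (hinf _ (mul_mem hq hτ) (h1.mul hτs).NE)

/-- if the conjugates of `E` in `Q` lie in `P`, then `Q` is a Sylow 2-subgroup of `G` -/
theorem sylow_Q [Finite G] {h : OddE A R V ρ g} (hP : IsP h P) (F : Frame R V P ρ 0 X Y Z)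
    {S₀ Q : Subgroup G} {τ : G} (hPS : P ≤ S₀) (hQ : IsQ (PData.data hP) F S₀ Q τ)
    (hwc : ∀ x : G, (∀ e ∈ R ⊔ V, x * e * x⁻¹ ∈ Q) → ∀ e ∈ R ⊔ V, x * e * x⁻¹ ∈ P) :
    ∃ S : Sylow 2 G, (S : Subgroup G) = Q := by
  have D := PData.data hP
  obtain ⟨S, hSS⟩ := hQ.two.exists_le_sylow
  refine ⟨S, ?_⟩
  by_contra hne
  obtain ⟨c, hcS, hcn, hc⟩ := Pairs.exists_normalizing (S : Subgroup G) Q S.2 hSS (fun e => hne e.symm)
  have hPQ : P ≤ Q := hPS.trans hQ.le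
  -- `c` normalizes `P`
  have h1 := hwc c (fun e he => hc e (hPQ (E_le hP he)))
  have h2 : ∀ e ∈ E2 D F, c * e * c⁻¹ ∈ P := by
    have h3 := hwc (c * τ) (fun e he => by
      rw [show c * τ * e * (c * τ)⁻¹ = c * (τ * e * τ⁻¹) * c⁻¹ by group]
      exact hc _ (hPQ (hQ.sw.onP e (E_le hP he))))
    have hτE : ∀ e ∈ E2 D F, τ⁻¹ * e * τ ∈ R ⊔ V := by
      have h4 : cj τ (R ⊔ V) ≤ E2 D F := by
        rintro _ ⟨y, hy, rfl⟩
        exact hQ.sw.onE y hy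
      have h5 : cj τ (R ⊔ V) = E2 D F := by
        apply eq_of_le_of_card_ge h4
        rw [card_E2 D F, ← card_E h]
        exact (Nat.card_congr ((R ⊔ V).equivMapOfInjective _ (MulAut.conj τ).injective).toEquiv).le
      intro v hv
      rw [← mem_cj, h5]
      exact hv
    intro e he
    have h4 := h3 _ (hτE e he)
    rwa [show c * τ * (τ⁻¹ * e * τ) * (c * τ)⁻¹ = c * e * c⁻¹ by group] at h4
  have hcP : c ∈ N P := by
    refine mem_N_of fun p hp => ?_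
    obtain ⟨b, a, c', rfl⟩ := F.P_surj p hp
    rw [conj_mul', conj_mul']
    refine mul_mem (mul_mem ?_ ?_) ?_
    · exact h2 _ ⟨b, 0, by rw [F.Z_zero, mul_one]⟩
    · exact h1 _ (mem_sup_left (F.X_mem a))
    · exact h1 _ (mem_sup_right (F.Z_mem c'))
  -- a bigger 2-subgroup of `N P`
  let Q' : Subgroup G := Q ⊔ zpowers c
  have hQ' : IsPGroup 2 Q' := S.2.to_le (sup_le hSS (by rw [zpowers_le]; exact hcS))
  obtain ⟨n, hn⟩ := hQ'.exists_card_eq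
  have hQ'N : Q' ≤ N P := sup_le hQ.leN (by rw [zpowers_le]; exact hcP)
  have h3 : 2 ^ n ∣ Nat.card (N P) := by
    rw [← hn]
    exact card_dvd_of_le hQ'N
  have h4 := hQ.pow n h3
  have h5 : Q = Q' := by
    apply eq_of_le_of_card_ge le_sup_left
    rw [hn]
    exact Nat.le_of_dvd Nat.card_pos h4
  apply hcn
  rw [h5]
  exact mem_sup_right (mem_zpowers c)

/-- an elementary abelian subgroup with a swap meets `P` in a subgroup of `V` -/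
theorem meet_V [Finite G] {h : OddE A R V ρ g} (hP : IsP h P) (F : Frame R V P ρ 0 X Y Z) {t y : G}
    (ht : Sw (PData.data hP) F t) (hy : y ∈ P) (hyy : y * y = 1) (hc : t * y = y * t) : y ∈ V := by
  have D := PData.data hP
  have h1 : t * y * t⁻¹ = y := by rw [hc]; group
  rcases inv_mem D F h hy hyy with h2 | h2
  · have h3 := ht.onE y h2
    rw [h1] at h3
    exact inf_E D F h h2 h3
  · have h3 := ht.onE' y h2
    rw [h1] at h3
    exact inf_E D F h h3 h2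

theorem conj_E_facts [Finite G] (h : OddE A R V ρ g) (x : G) :
    (∀ y ∈ cj x (R ⊔ V), y * y = 1) ∧ (∀ y ∈ cj x (R ⊔ V), ∀ z ∈ cj x (R ⊔ V), y * z = z * y) ∧
    Nat.card (cj x (R ⊔ V)) = 16 := by
  refine ⟨fun y hy => ?_, fun y hy z hz => ?_, ?_⟩
  · have h1 := E_sq h (mem_cj.1 hy)
    calc y * y = x * (x⁻¹ * y * x * (x⁻¹ * y * x)) * x⁻¹ := by group
      _ = 1 := by rw [h1]; group
  · have h1 := E_comm h (mem_cj.1 hy) (mem_cj.1 hz)
    calc y * z = x * (x⁻¹ * y * x * (x⁻¹ * z * x)) * x⁻¹ := by group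
      _ = z * y := by rw [h1]; group
  · rw [← card_E h]
    exact (Nat.card_congr ((R ⊔ V).equivMapOfInjective _ (MulAut.conj x).injective).toEquiv).symm

/-- `μ = 1` -/
theorem wcQ_one [Finite G] {h : OddE A R V ρ g} (hP : IsP h P) (F : Frame R V P ρ 0 X Y Z)
    {Q : Subgroup G} {τ : G} (hQ : IsQ (PData.data hP) F P Q τ) {x : G}
    (hx : ∀ e ∈ R ⊔ V, x * e * x⁻¹ ∈ Q) : ∀ e ∈ R ⊔ V, x * e * x⁻¹ ∈ P := by
  intro e he
  by_contra hcon
  obtain ⟨hsq, hcomm, hcard⟩ := conj_E_facts h x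
  have hTQ : ∀ y ∈ cj x (R ⊔ V), y ∈ Q := by
    rintro _ ⟨y, hy, rfl⟩
    exact hx y hy
  have ht : x * e * x⁻¹ ∈ cj x (R ⊔ V) := conj_mem_cj.2 he
  have htS : Sw (PData.data hP) F (x * e * x⁻¹) := (hQ.cases' _ (hx e he)).resolve_left hcon
  have h1 : Nat.card (cj x (R ⊔ V)) ≤ 2 * Nat.card (cj x (R ⊔ V) ⊓ P : Subgroup G) := by
    refine half inf_le_left fun a ha haP b hb hbP => ⟨mul_mem ha hb, ?_⟩
    have ha' := (hQ.cases' a (hTQ a ha)).resolve_left (fun h1 => haP ⟨ha, h1⟩)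
    have hb' := (hQ.cases' b (hTQ b hb)).resolve_left (fun h1 => hbP ⟨hb, h1⟩)
    exact hQ.inf _ (mul_mem (hTQ a ha) (hTQ b hb)) (ha'.mul hb').NE
  have h2 : (cj x (R ⊔ V) ⊓ P : Subgroup G) ≤ V := fun y hy =>
    meet_V hP F htS hy.2 (hsq y hy.1) (hcomm _ ht y hy.1)
  have h3 := Subgroup.card_le_of_le h2
  rw [h.cardV] at h3
  omega

/-- `μ = 2` -/
theorem wcQ_two [Finite G] {h : OddE A R V ρ g} (hP : IsP h P) (F : Frame R V P ρ 0 X Y Z)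
    (hsP : ∀ p ∈ P, s * p * s⁻¹ ∈ P) (hss : s * s = 1) (hsX : ∀ a, s * X a * s⁻¹ = X (F4.fr a))
    (hsY : ∀ a, s * Y a * s⁻¹ = Y (F4.fr a)) (hsZ : ∀ a, s * Z a * s⁻¹ = Z (F4.fr a))
    {Q : Subgroup G} {τ : G} (hQ : IsQ (PData.data hP) F (PS P s hsP hss) Q τ) {x : G}
    (hx : ∀ e ∈ R ⊔ V, x * e * x⁻¹ ∈ Q) : ∀ e ∈ R ⊔ V, x * e * x⁻¹ ∈ P := by
  have D := PData.data hP
  obtain ⟨hsq, hcomm, hcard⟩ := conj_E_facts h x
  have hTQ : ∀ y ∈ cj x (R ⊔ V), y ∈ Q := by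
    rintro _ ⟨y, hy, rfl⟩
    exact hx y hy
  have hS : ∀ e ∈ R ⊔ V, x * e * x⁻¹ ∈ PS P s hsP hss := by
    intro e he
    by_contra hcon
    have ht : x * e * x⁻¹ ∈ cj x (R ⊔ V) := conj_mem_cj.2 he
    have htS : Sw (PData.data hP) F (x * e * x⁻¹) := (hQ.cases' _ (hx e he)).resolve_left hcon
    have h1 : Nat.card (cj x (R ⊔ V)) ≤ 2 * Nat.card (cj x (R ⊔ V) ⊓ PS P s hsP hss : Subgroup G) := by
      refine half inf_le_left fun a ha haP b hb hbP => ⟨mul_mem ha hb, ?_⟩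
      have ha' := (hQ.cases' a (hTQ a ha)).resolve_left (fun h1 => haP ⟨ha, h1⟩)
      have hb' := (hQ.cases' b (hTQ b hb)).resolve_left (fun h1 => hbP ⟨hb, h1⟩)
      exact hQ.inf _ (mul_mem (hTQ a ha) (hTQ b hb)) (ha'.mul hb').NE
    have h1' : Nat.card (cj x (R ⊔ V) ⊓ PS P s hsP hss : Subgroup G) ≤
        2 * Nat.card (cj x (R ⊔ V) ⊓ P : Subgroup G) := by
      refine half (inf_le_inf_left _ fun p hp => Or.inl hp) fun a ha haP b hb hbP =>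
        ⟨mul_mem ha.1 hb.1, ?_⟩
      have ha' : a * s ∈ P := (mem_PS.1 ha.2).resolve_left (fun h1 => haP ⟨ha.1, h1⟩)
      have hb' : b * s ∈ P := (mem_PS.1 hb.2).resolve_left (fun h1 => hbP ⟨hb.1, h1⟩)
      have hsi : s⁻¹ = s := inv_eq_of_mul_eq_one_left hss
      have h3 := hsP _ hb'
      rw [hsi] at h3
      show a * b ∈ P
      rw [show a * b = (a * s) * (s⁻¹ * (b * s) * s⁻¹) by group, hsi]
      exact mul_mem ha' h3
    have h2 : (cj x (R ⊔ V) ⊓ P : Subgroup G) ≤ V := fun y hy =>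
      meet_V hP F htS hy.2 (hsq y hy.1) (hcomm _ ht y hy.1)
    have h3 := Subgroup.card_le_of_le h2
    rw [h.cardV] at h3
    have h4 : (cj x (R ⊔ V) ⊓ P : Subgroup G) = V := eq_of_le_of_card_ge h2 (by rw [h.cardV]; omega)
    have h5 : ¬ (cj x (R ⊔ V) ⊓ PS P s hsP hss : Subgroup G) ≤ P := by
      intro hle
      have h6 : (cj x (R ⊔ V) ⊓ PS P s hsP hss : Subgroup G) ≤ cj x (R ⊔ V) ⊓ P :=
        le_inf inf_le_left hle
      have := Subgroup.card_le_of_le h6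
      omega
    obtain ⟨t, ht', htP⟩ := SetLike.not_le_iff_exists.1 h5
    have htP' : t * s ∈ P := (mem_PS.1 ht'.2).resolve_left htP
    have hZT : Z F4.w ∈ (cj x (R ⊔ V) ⊓ P : Subgroup G) := by rw [h4]; exact F.Z_mem _
    have h6 := hcomm t ht'.1 _ hZT.1
    have h7 := D.cent _ htP' _ (F.Z_mem F4.u)
    have h8 := hsZ F4.w
    have hsi : s⁻¹ = s := inv_eq_of_mul_eq_one_left hss
    have h9 : t * Z F4.w * t⁻¹ = Z F4.u := by
      calc t * Z F4.w * t⁻¹ = (t * s) * (s⁻¹ * Z F4.w * s) * (t * s)⁻¹ := by group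
        _ = (t * s) * Z F4.u * (t * s)⁻¹ := by
            rw [hsi]
            rw [hsi] at h8
            rw [h8]; rfl
        _ = Z F4.u := by rw [h7]; group
    have h10 : Z F4.w = Z F4.u := by
      rw [← h9, h6]; group
    exact absurd (F.Z_inj h10) (by decide)
  exact fun e he => wc_PS hP F hsX hsY hsZ hss hS he

/-- `κ = 3` in the swap case -/
theorem not_kap1 [Finite G] {h : OddE A R V ρ g} (hP : IsP h P) (F : Frame R V P ρ 0 X Y Z) {x : G}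
    (hx : Sw (PData.data hP) F x) : ¬ Kap1 A R := by
  intro hk
  have D := PData.data hP
  have hxV : ∀ v ∈ V, x⁻¹ * v * x ∈ V := by
    have h3 : x ∈ N V := mem_N_of hx.onV
    exact fun v hv => conj_mem' h3 hv
  have hxE : ∀ e ∈ R ⊔ V, x⁻¹ * e * x ∈ E2 D F := by
    have h4 : cj x (E2 D F) ≤ R ⊔ V := by
      rintro _ ⟨y, hy, rfl⟩
      exact hx.onE' y hy
    have h5 : cj x (E2 D F) = R ⊔ V := by
      apply eq_of_le_of_card_ge h4
      rw [card_E h, ← card_E2 D F]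
      exact (Nat.card_congr ((E2 D F).equivMapOfInjective _ (MulAut.conj x).injective).toEquiv).le
    intro v hv
    rw [← mem_cj, h5]
    exact hv
  have hρE2 : ∀ e ∈ E2 D F, ρ * e * ρ⁻¹ ∈ E2 D F := by
    rintro _ ⟨b, c, rfl⟩
    exact ⟨_, _, ρE2 F b c⟩
  obtain ⟨ρ', hρ'⟩ : ∃ ρ', ρ' = x * ρ * x⁻¹ := ⟨_, rfl⟩
  have hρ'E : ρ' ∈ N (R ⊔ V) := by
    refine mem_N_of fun e he => ?_
    rw [hρ', show x * ρ * x⁻¹ * e * (x * ρ * x⁻¹)⁻¹ = x * (ρ * (x⁻¹ * e * x) * ρ⁻¹) * x⁻¹ by group]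
    exact hx.onE' _ (hρE2 _ (hxE e he))
  obtain ⟨p, hp, m, hm, hmE, hpm⟩ := PData.fact hP hρ'E
  -- action on `R`
  have hr : ∀ r ∈ R, r ≠ 1 → m * r * m⁻¹ ≠ r := by
    intro r hr hr1 e
    have hrP : r ∈ P := D.R_le hr
    -- `[ρ', r] ∈ V`
    have h1 : ρ' * r * ρ'⁻¹ * r⁻¹ ∈ V := by
      have h2 : ρ' * r * ρ'⁻¹ * r⁻¹ = p * r * p⁻¹ * r⁻¹ := by
        calc ρ' * r * ρ'⁻¹ * r⁻¹ = p * (m * r * m⁻¹) * p⁻¹ * r⁻¹ := by rw [hpm]; group
          _ = _ := by rw [e]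
      rw [h2]
      exact D.comm_mem p hp r hr
    have h2 := hxV _ h1
    obtain ⟨b, c, hbc⟩ := hxE r (mem_sup_left hr)
    have h3 : x⁻¹ * (ρ' * r * ρ'⁻¹ * r⁻¹) * x = Y (F4.w * b) * Z (F4.w * c) * (Y b * Z c) := by
      have hi : (Y b * Z c)⁻¹ = Y b * Z c := inv_eq_of_mul_eq_one_left (sqE2 D F b c)
      calc x⁻¹ * (ρ' * r * ρ'⁻¹ * r⁻¹) * x = ρ * (x⁻¹ * r * x) * ρ⁻¹ * (x⁻¹ * r * x)⁻¹ := by
            rw [hρ']; group
        _ = _ := by rw [hbc, ρE2 F, hi]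
    rw [h3, mulE2 D F] at h2
    have h4 : Y (F4.w * b + b) * X 0 * Z (F4.w * c + c) ∈ V := by rw [F.X_zero, mul_one]; exact h2
    have h5 := ((mem_V_iff D F).1 h4).1
    have h6 : b = 0 := by
      have : ∀ b : F4, F4.w * b + b = 0 → b = 0 := by decide
      exact this b h5
    rw [h6, F.Y_zero, one_mul] at hbc
    have h7 : r ∈ V := by
      have h8 := hx.onV _ (F.Z_mem c)
      rw [← hbc, show x * (x⁻¹ * r * x) * x⁻¹ = r by group] at h8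
      exact h8
    exact hr1 (inf_RV h hr h7)
  -- action on `V`
  have hpV : ∀ v ∈ V, p * v = v * p := fun v hv => D.cent p hp v hv
  obtain ⟨hh, hh0, hc | hc⟩ := act_V F (fun v hv => PGroup.normV h hmE hv)
  · obtain ⟨σ, hσA, hσR, hσc⟩ := lin_AC h F hm hh0 hc
    obtain ⟨v, hv, hxv⟩ := h.CV _ (mul_mem (le_N hσA) hm) hσc
    obtain ⟨r, hrR, hr1⟩ := exists_r h
    have hmR : ∀ r ∈ R, m * r * m⁻¹ ∈ R := fun r hr => PGroup.normR h hmE hm hr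
    have hact : ∀ r ∈ R, (σ * m * v) * r * (σ * m * v)⁻¹ = m * r * m⁻¹ := by
      intro r hr
      have h1 := comm_RV h hr hv
      have h2 := hσR _ (hmR r hr)
      calc (σ * m * v) * r * (σ * m * v)⁻¹ = σ * m * (v * r) * v⁻¹ * m⁻¹ * σ⁻¹ := by group
        _ = (σ * (m * r * m⁻¹)) * σ⁻¹ := by rw [← h1]; group
        _ = m * r * m⁻¹ := by rw [h2]; group
    have h1 := hk _ hxv (mem_N_of fun r hr => by rw [hact r hr]; exact hmR r hr) r hrR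
    apply hr r hrR hr1
    rw [← hact r hrR, h1]; group
  · -- `ρ' ^ 3 = 1`
    have h1 : ∀ c, ρ' * Z c * ρ'⁻¹ = Z (hh * F4.fr c) := by
      intro c
      have h2 := hpV _ (F.Z_mem (hh * F4.fr c))
      calc ρ' * Z c * ρ'⁻¹ = p * (m * Z c * m⁻¹) * p⁻¹ := by rw [hpm]; group
        _ = _ := by rw [hc, h2]; group
    have h3 : ρ' * (ρ' * (ρ' * Z F4.w * ρ'⁻¹) * ρ'⁻¹) * ρ'⁻¹ = Z F4.w := by
      have h4 := ρ3' h (x⁻¹ * Z F4.w * x)
      calc ρ' * (ρ' * (ρ' * Z F4.w * ρ'⁻¹) * ρ'⁻¹) * ρ'⁻¹ =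
            x * (ρ * (ρ * (ρ * (x⁻¹ * Z F4.w * x) * ρ⁻¹) * ρ⁻¹) * ρ⁻¹) * x⁻¹ := by rw [hρ']; group
        _ = Z F4.w := by rw [h4]; group
    have h3' : ρ' * (ρ' * (ρ' * Z F4.e * ρ'⁻¹) * ρ'⁻¹) * ρ'⁻¹ = Z F4.e := by
      have h4 := ρ3' h (x⁻¹ * Z F4.e * x)
      calc ρ' * (ρ' * (ρ' * Z F4.e * ρ'⁻¹) * ρ'⁻¹) * ρ'⁻¹ =
            x * (ρ * (ρ * (ρ * (x⁻¹ * Z F4.e * x) * ρ⁻¹) * ρ⁻¹) * ρ⁻¹) * x⁻¹ := by rw [hρ']; group
        _ = Z F4.e := by rw [h4]; group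
    rw [h1, h1, h1] at h3 h3'
    have h5 := F.Z_inj h3
    have h6 := F.Z_inj h3'
    have : ∀ hh : F4, hh * F4.fr (hh * F4.fr (hh * F4.fr F4.w)) = F4.w →
        hh * F4.fr (hh * F4.fr (hh * F4.fr F4.e)) = F4.e → False := by decide
    exact this hh h5 h6

end Cfsg.Agent.StdAlt.Five.SwapB
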