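import Cfsg.Agent.StdAlt.Five.SwapB

/-!
# S1766, n = 5, case (I): normal form of the swap
-/

set_option autoImplicit false

namespace Cfsg.Agent.StdAlt.Five.SwapC

open Subgroup Cfsg.Agent.StdAlt.Conj Cfsg.Agent.J2Sylow.Model Cfsg.Agent.StdAlt.Five
open Cfsg.Agent.StdAlt.Five.Sec4 Cfsg.Agent.StdAlt.Five.PGroup Cfsg.Agent.StdAlt.Five.PExists
open Cfsg.Agent.StdAlt.Five.PData Cfsg.Agent.StdAlt.Five.Coord Cfsg.Agent.StdAlt.Five.Moves
open Cfsg.Agent.StdAlt.Five.Mu Cfsg.Agent.StdAlt.Five.SylA Cfsg.Agent.StdAlt.Five.SwapA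
open Cfsg.Agent.StdAlt.Five.SwapB

variable {G : Type*} [Group G] {A R V P : Subgroup G} {ρ g s : G} {X Y Z : F4 → G}

/-! ### the group generated by the odd elements of `C_G(E)` -/

/-- generated by the elements of odd order of `C_G(E)` -/
def DD (R V : Subgroup G) : Subgroup G := Subgroup.closure (Od R V)

theorem Od_DD {d : G} (hd : d ∈ Od R V) : d ∈ DD R V := Subgroup.subset_closure hd

theorem DD_P {h : OddE A R V ρ g} (hP : IsP h P) {d p : G} (hd : d ∈ DD R V) (hp : p ∈ P) :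
    p * d = d * p := by
  have h1 : DD R V ≤ centralizer (P : Set G) := by
    rw [DD, Subgroup.closure_le]
    intro d hd
    exact mem_centralizer_iff.2 fun p hp => Od_P hP hd hp
  exact mem_centralizer_iff.1 (h1 hd) p hp

theorem DD_A (h : OddE A R V ρ g) {d : G} (hd : d ∈ DD R V) : d ∈ C A := by
  have h1 : DD R V ≤ C A := by
    rw [DD, Subgroup.closure_le]
    intro d hd
    exact Od_A h hd
  exact h1 hd

theorem DD_inf {h : OddE A R V ρ g} (hP : IsP h P) {ε : F4} (D : Data R V P ρ) (F : Frame R V P ρ ε X Y Z)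
    {d : G} (hd : d ∈ DD R V) (hdP : d ∈ P) : d = 1 := by
  obtain ⟨b, a, c, rfl⟩ := F.P_surj d hdP
  have h1 := DD_P hP hd (D.R_le (F.X_mem F4.e))
  have h2 := DD_P hP hd (F.Y_mem F4.e)
  have h3 : F4.e * b = 0 := by
    apply comm_coord D F (a := a) (c := c) (c' := 0)
    rw [F.Z_zero, mul_one]
    exact h1.symm
  have hb : b = 0 := by
    rw [show F4.e * b = b from one_mul b] at h3
    exact h3
  have h4 := comm_Y D F b a c
  rw [h2, ] at h4
  have h5 : Z a = 1 := mul_eq_right.1 h4.symm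
  have ha : a = 0 := F.Z_inj (by rw [h5, F.Z_zero])
  rw [hb, ha, F.Y_zero, F.X_zero, one_mul, one_mul] at hd ⊢
  exact h.te.disj _ (h.V_le (F.Z_mem c)) (DD_A h hd)

/-- `N P` normalizes `DD` -/
theorem DD_conj [Finite G] {h : OddE A R V ρ g} (hP : IsP h P) {n : G} (hn : n ∈ N P) {d : G}
    (hd : d ∈ DD R V) : n * d * n⁻¹ ∈ DD R V := by
  have h1 : DD R V ≤ (DD R V).comap (MulAut.conj n).toMonoidHom := by
    conv_lhs => rw [DD]
    rw [Subgroup.closure_le]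
    intro d hd
    show n * d * n⁻¹ ∈ DD R V
    refine Od_DD ⟨⟨fun r hr => ?_, fun v hv => ?_⟩, by rw [orderOf_conj']; exact hd.2⟩
    · have h2 := Od_P hP hd (conj_mem' hn (E_le hP (mem_sup_left hr)))
      calc n * d * n⁻¹ * r = n * (d * (n⁻¹ * r * n)) * n⁻¹ := by group
        _ = r * (n * d * n⁻¹) := by rw [← h2]; group
    · have h2 := Od_P hP hd (conj_mem' hn (E_le hP (mem_sup_right hv)))
      calc n * d * n⁻¹ * v = n * (d * (n⁻¹ * v * n)) * n⁻¹ := by group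
        _ = v * (n * d * n⁻¹) := by rw [← h2]; group
  exact h1 hd

/-- congruence modulo `DD` -/
def Cg (R V : Subgroup G) (x y : G) : Prop := ∃ d ∈ DD R V, x = d * y

theorem Cg.refl (x : G) : Cg R V x x := ⟨1, one_mem _, by rw [one_mul]⟩

theorem Cg.symm {x y : G} (hxy : Cg R V x y) : Cg R V y x := by
  obtain ⟨d, hd, rfl⟩ := hxy
  exact ⟨d⁻¹, Subgroup.inv_mem _ hd, by group⟩

theorem Cg.trans {x y z : G} (hxy : Cg R V x y) (hyz : Cg R V y z) : Cg R V x z := by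
  obtain ⟨d, hd, rfl⟩ := hxy
  obtain ⟨d', hd', rfl⟩ := hyz
  exact ⟨d * d', mul_mem hd hd', by group⟩

theorem Cg.conj [Finite G] {h : OddE A R V ρ g} (hP : IsP h P) {n : G} (hn : n ∈ N P) {x y : G}
    (hxy : Cg R V x y) : Cg R V (n * x * n⁻¹) (n * y * n⁻¹) := by
  obtain ⟨d, hd, rfl⟩ := hxy
  exact ⟨n * d * n⁻¹, DD_conj hP hn hd, by group⟩

theorem Cg.inv [Finite G] {h : OddE A R V ρ g} (hP : IsP h P) {x y : G} (hy : y ∈ N P)
    (hxy : Cg R V x y) : Cg R V x⁻¹ y⁻¹ := by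
  obtain ⟨d, hd, rfl⟩ := hxy
  exact ⟨y⁻¹ * d⁻¹ * y⁻¹⁻¹, DD_conj hP (Subgroup.inv_mem _ hy) (Subgroup.inv_mem _ hd), by group⟩

theorem Cg.conj_inv [Finite G] {h : OddE A R V ρ g} (hP : IsP h P) {n : G} (hn : n ∈ N P) {x y : G}
    (hy : y ∈ N P) (hxy : Cg R V (n * x * n⁻¹) y) : Cg R V (n * x⁻¹ * n⁻¹) y⁻¹ := by
  have := hxy.inv hP hy
  rwa [show (n * x * n⁻¹)⁻¹ = n * x⁻¹ * n⁻¹ by group] at this

/-! ### linear elements -/

/-- `n` acts on `X`, `Y` modulo `V` and on `V` by scalars -/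
structure Acts (X Y Z : F4 → G) (n : G) (x y z : F4) : Prop where
  onX : ∀ a, ∃ c, n * X a * n⁻¹ = X (x * a) * Z c
  onY : ∀ a, ∃ c, n * Y a * n⁻¹ = Y (y * a) * Z c
  onZ : ∀ a, n * Z a * n⁻¹ = Z (z * a)

section acts

variable {ε : F4} {n n' : G} {x y z x' y' z' : F4}

theorem Acts.mul (F : Frame R V P ρ ε X Y Z) (hn : Acts X Y Z n x y z) (hn' : Acts X Y Z n' x' y' z') :
    Acts X Y Z (n * n') (x * x') (y * y') (z * z') where
  onX := by
    intro a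
    obtain ⟨c', h1⟩ := hn'.onX a
    obtain ⟨c, h2⟩ := hn.onX (x' * a)
    refine ⟨c + z * c', ?_⟩
    rw [show n * n' * X a * (n * n')⁻¹ = n * (n' * X a * n'⁻¹) * n⁻¹ by group, h1, conj_mul', h2, hn.onZ,
      mul_assoc, ← F.Z_add, mul_assoc]
  onY := by
    intro a
    obtain ⟨c', h1⟩ := hn'.onY a
    obtain ⟨c, h2⟩ := hn.onY (y' * a)
    refine ⟨c + z * c', ?_⟩
    rw [show n * n' * Y a * (n * n')⁻¹ = n * (n' * Y a * n'⁻¹) * n⁻¹ by group, h1, conj_mul', h2, hn.onZ,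
      mul_assoc, ← F.Z_add, mul_assoc]
  onZ := by
    intro a
    rw [show n * n' * Z a * (n * n')⁻¹ = n * (n' * Z a * n'⁻¹) * n⁻¹ by group, hn'.onZ, hn.onZ, mul_assoc]

theorem Acts.inv (F : Frame R V P ρ ε X Y Z) (hn : Acts X Y Z n x y z) (hx : x * x' = 1) (hy : y * y' = 1)
    (hz : z * z' = 1) : Acts X Y Z n⁻¹ x' y' z' where
  onX := by
    intro a
    obtain ⟨c, h1⟩ := hn.onX (x' * a)
    have h2 := hn.onZ (z' * c)
    rw [← mul_assoc, hx, one_mul] at h1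
    rw [← mul_assoc, hz, one_mul] at h2
    refine ⟨z' * c, ?_⟩
    have h3 : Z c * Z c = 1 := by rw [← F.Z_add, F4.add_self, F.Z_zero]
    have h4 : n * (X (x' * a) * Z (z' * c)) * n⁻¹ = X a := by
      rw [conj_mul', h1, h2, mul_assoc, h3, mul_one]
    rw [← h4]; group
  onY := by
    intro a
    obtain ⟨c, h1⟩ := hn.onY (y' * a)
    have h2 := hn.onZ (z' * c)
    rw [← mul_assoc, hy, one_mul] at h1
    rw [← mul_assoc, hz, one_mul] at h2
    refine ⟨z' * c, ?_⟩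
    have h3 : Z c * Z c = 1 := by rw [← F.Z_add, F4.add_self, F.Z_zero]
    have h4 : n * (Y (y' * a) * Z (z' * c)) * n⁻¹ = Y a := by
      rw [conj_mul', h1, h2, mul_assoc, h3, mul_one]
    rw [← h4]; group
  onZ := by
    intro a
    have h2 := hn.onZ (z' * a)
    rw [← mul_assoc, hz, one_mul] at h2
    rw [← h2]; group

theorem Acts.NE [Finite G] (h : OddE A R V ρ g) (F : Frame R V P ρ ε X Y Z) (hn : Acts X Y Z n x y z) :
    n ∈ N (R ⊔ V) := by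
  refine mem_N_of fun e he => ?_
  obtain ⟨r, hr, v, hv, rfl⟩ := (mem_E h).1 he
  obtain ⟨a, rfl⟩ := F.X_surj r hr
  obtain ⟨c, rfl⟩ := F.Z_surj v hv
  obtain ⟨c', h1⟩ := hn.onX a
  rw [conj_mul', h1, hn.onZ]
  exact mul_mem (mul_mem (mem_sup_left (F.X_mem _)) (mem_sup_right (F.Z_mem _))) (mem_sup_right (F.Z_mem _))

theorem Acts.NP [Finite G] (D : Data R V P ρ) (F : Frame R V P ρ ε X Y Z) (hn : Acts X Y Z n x y z) :
    n ∈ N P := by
  refine mem_N_of fun p hp => ?_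
  obtain ⟨b, a, c, rfl⟩ := F.P_surj p hp
  obtain ⟨c', h1⟩ := hn.onX a
  obtain ⟨c'', h2⟩ := hn.onY b
  rw [conj_mul', conj_mul', h1, h2, hn.onZ]
  exact P.mul_mem (P.mul_mem (P.mul_mem (F.Y_mem _) (D.B_le (F.Z_mem _)))
    (P.mul_mem (D.R_le (F.X_mem _)) (D.B_le (F.Z_mem _)))) (D.B_le (F.Z_mem _))

/-- an element acting trivially is in `P * Od` -/
theorem Acts.fact [Finite G] {h : OddE A R V ρ g} (hP : IsP h P) (F : Frame R V P ρ ε X Y Z)
    (hn : Acts X Y Z n x y z) (hx : x = 1) (hz : z = 1) : ∃ p ∈ P, ∃ d ∈ Od R V, n = p * d := by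
  subst hx hz
  refine W0_fact hP ⟨hn.NE h F, fun v hv => ?_, fun r hr => ?_⟩
  · obtain ⟨c, rfl⟩ := F.Z_surj v hv
    have h1 := hn.onZ c
    rw [one_mul] at h1
    calc n * Z c = (n * Z c * n⁻¹) * n := by group
      _ = Z c * n := by rw [h1]
  · obtain ⟨a, rfl⟩ := F.X_surj r hr
    obtain ⟨c, h1⟩ := hn.onX a
    have h2 := comm_RV h (F.X_mem a) (F.Z_mem c)
    rw [h1, one_mul, h2, mul_inv_cancel_right]
    exact F.Z_mem c

theorem Acts.rho (F : Frame R V P ρ ε X Y Z) : Acts X Y Z ρ 1 F4.w F4.w where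
  onX := fun a => ⟨0, by rw [F.ρX, F.Z_zero, mul_one, one_mul]⟩
  onY := fun a => ⟨0, by rw [F.ρY, F.Z_zero, mul_one]⟩
  onZ := fun a => F.ρZ a

theorem Acts.rho0 (h : OddE A R V ρ g) (F : Frame R V P ρ ε X Y Z) {ρ₀ : G} (K : Kap3 A X Y ρ₀) :
    Acts X Y Z ρ₀ F4.w F4.u 1 where
  onX := fun a => ⟨0, by rw [K.conjX, F.Z_zero, mul_one]⟩
  onY := fun a => ⟨0, by rw [K.conjY, F.Z_zero, mul_one]⟩
  onZ := fun a => by rw [Base.CA_V h K.mem (F.Z_mem a), one_mul]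

end acts

/-! ### the action of a swap -/

/-- the identity or the Frobenius -/
structure IsAut (σ : F4 → F4) : Prop where
  eq : σ = id ∨ σ = F4.fr

namespace IsAut

variable {σ : F4 → F4} (hσ : IsAut σ)
include hσ

theorem mul (a b : F4) : σ (a * b) = σ a * σ b := by
  rcases hσ.eq with rfl | rfl
  · rfl
  · exact F4.fr_mul a b

theorem add (a b : F4) : σ (a + b) = σ a + σ b := by
  rcases hσ.eq with rfl | rfl
  · rfl
  · exact F4.fr_add a b

theorem one : σ 1 = 1 := by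
  rcases hσ.eq with rfl | rfl <;> rfl

theorem invol (a : F4) : σ (σ a) = a := by
  rcases hσ.eq with rfl | rfl
  · rfl
  · exact F4.fr_fr a

theorem ne_zero {a : F4} (ha : a ≠ 0) : σ a ≠ 0 := by
  rcases hσ.eq with rfl | rfl
  · exact ha
  · have : ∀ a : F4, a ≠ 0 → F4.fr a ≠ 0 := by decide
    exact this a ha

theorem surj {f : F4} (hf : f ≠ 0) (a : F4) : ∃ b, f * σ b = a := by
  rcases hσ.eq with rfl | rfl
  · have : ∀ f a : F4, f ≠ 0 → ∃ b, f * id b = a := by decide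
    exact this f a hf
  · have : ∀ f a : F4, f ≠ 0 → ∃ b, f * F4.fr b = a := by decide
    exact this f a hf

end IsAut

/-- the action of a swap -/
structure ActSw (X Y Z : F4 → G) (τ : G) (f l : F4) (σ : F4 → F4) : Prop where
  aut : IsAut σ
  f0 : f ≠ 0
  l0 : l ≠ 0
  onX : ∀ a, ∃ c, τ * X a * τ⁻¹ = Y (f * σ a) * Z c
  onY : ∀ a, ∃ c, τ * Y a * τ⁻¹ = X (l * σ a) * Z c
  onZ : ∀ a, τ * Z a * τ⁻¹ = Z (f * l * σ a)

/-- additive bijections of `F4` -/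
theorem additive_cases {θ : F4 → F4} (hadd : ∀ a b, θ (a + b) = θ a + θ b) (hker : ∀ a, θ a = 0 → a = 0) :
    ∃ f, f ≠ 0 ∧ ((∀ a, θ a = f * a) ∨ ∀ a, θ a = f * F4.fr a) := by
  have h0 : θ 0 = 0 := by
    have h1 := hadd 0 0
    rw [add_zero] at h1
    rw [h1, F4.add_self]
  have hp : θ F4.e ≠ 0 := fun e => absurd (hker _ e) (by decide)
  have hq : θ F4.w ≠ 0 := fun e => absurd (hker _ e) (by decide)
  have hr : θ F4.u ≠ 0 := fun e => absurd (hker _ e) (by decide)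
  have hu : θ F4.u = θ F4.e + θ F4.w := by
    rw [← hadd]; rfl
  rw [hu] at hr
  have key : ∀ p q : F4, p ≠ 0 → q ≠ 0 → p + q ≠ 0 →
      ((q = p * F4.w ∧ p + q = p * F4.u) ∨ (q = p * F4.fr F4.w ∧ p + q = p * F4.fr F4.u)) := by decide
  refine ⟨θ F4.e, hp, ?_⟩
  rcases key _ _ hp hq hr with ⟨e1, e2⟩ | ⟨e1, e2⟩
  · left
    intro c
    cases c
    · change θ 0 = _ * 0
      rw [h0, mul_zero]
    · exact (mul_one _).symm
    · exact e1
    · rw [hu]; exact e2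
  · right
    intro c
    cases c
    · change θ 0 = _ * 0
      rw [h0, mul_zero]
    · exact (mul_one _).symm
    · exact e1
    · rw [hu]; exact e2

section

variable (D : Data R V P ρ) (F : Frame R V P ρ 0 X Y Z)
include D F

theorem actSw {τ : G} (hτ : Sw D F τ) (hO : OddE A R V ρ g) : ∃ f l σ, ActSw X Y Z τ f l σ := by
  have hX : ∀ a, ∃ b c, τ * X a * τ⁻¹ = Y b * Z c := fun a => hτ.onE _ (mem_sup_left (F.X_mem a))
  have hY : ∀ a, ∃ b c, τ * Y a * τ⁻¹ = X b * Z c := by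
    intro a
    obtain ⟨r, hr, v, hv, e⟩ := (mem_E hO).1 (hτ.onE' _ ⟨a, 0, by rw [F.Z_zero, mul_one]⟩)
    obtain ⟨b, rfl⟩ := F.X_surj r hr
    obtain ⟨c, rfl⟩ := F.Z_surj v hv
    exact ⟨b, c, e⟩
  have hZ : ∀ a, ∃ c, τ * Z a * τ⁻¹ = Z c := by
    intro a
    obtain ⟨c, e⟩ := F.Z_surj _ (hτ.onV _ (F.Z_mem a))
    exact ⟨c, e.symm⟩
  choose θ θ' hθ using hX
  choose φ φ' hφ using hY
  choose γ hγ using hZ
  have hEinj : ∀ {a c a' c' : F4}, X a * Z c = X a' * Z c' → a = a' ∧ c = c' := by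
    intro a c a' c' e
    have := F.inj a 0 c a' 0 c' (by rw [F.Y_zero, one_mul, one_mul]; exact e)
    exact ⟨this.2.1, this.2.2⟩
  have hinj : ∀ x y : G, τ * x * τ⁻¹ = τ * y * τ⁻¹ → x = y := fun x y e =>
    mul_left_cancel (mul_right_cancel e)
  -- additivity
  have addθ : ∀ a b, θ (a + b) = θ a + θ b := by
    intro a b
    have h1 := hθ (a + b)
    rw [F.X_add, conj_mul', hθ, hθ, mulE2 D F] at h1
    exact (E2_inj D F h1).1.symm
  have addγ : ∀ a b, γ (a + b) = γ a + γ b := by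
    intro a b
    have h1 := hγ (a + b)
    rw [F.Z_add, conj_mul', hγ, hγ, ← F.Z_add] at h1
    exact (F.Z_inj h1).symm
  have addφ : ∀ a b, φ (a + b) = φ a + φ b := by
    intro a b
    have h1 := hφ (a + b)
    have h2 := F.Y_mul a b
    rw [zero_mul, F.Z_zero, mul_one] at h2
    rw [← h2, conj_mul', hφ, hφ] at h1
    have h3 := ZX D F (φ' a) (φ b)
    have h4 : X (φ a) * Z (φ' a) * (X (φ b) * Z (φ' b)) = X (φ a + φ b) * Z (φ' a + φ' b) := by
      calc X (φ a) * Z (φ' a) * (X (φ b) * Z (φ' b)) = X (φ a) * (Z (φ' a) * X (φ b)) * Z (φ' b) := by group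
        _ = (X (φ a) * X (φ b)) * (Z (φ' a) * Z (φ' b)) := by rw [h3]; group
        _ = _ := by rw [← F.X_add, ← F.Z_add]
    rw [h4] at h1
    exact (hEinj h1).1.symm
  -- kernels
  have hVmem : ∀ c, ∃ c', Z c = τ * Z c' * τ⁻¹ := by
    haveI : Finite V := Nat.finite_of_card_ne_zero (by rw [D.cardB]; norm_num)
    have hf : Function.Injective (fun v : V => (⟨τ * v * τ⁻¹, hτ.onV v v.2⟩ : V)) := by
      intro v w e
      exact Subtype.ext (hinj _ _ (congrArg (fun t : V => (t : G)) e))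
    obtain hs := Finite.surjective_of_injective hf
    intro c
    obtain ⟨⟨v, hv⟩, e⟩ := hs ⟨Z c, F.Z_mem c⟩
    obtain ⟨c', rfl⟩ := F.Z_surj v hv
    exact ⟨c', (congrArg (fun t : V => (t : G)) e).symm⟩
  have kerθ : ∀ a, θ a = 0 → a = 0 := by
    intro a ha
    have h1 := hθ a
    rw [ha, F.Y_zero, one_mul] at h1
    obtain ⟨c', hc'⟩ := hVmem (θ' a)
    rw [hc'] at h1
    have h2 := hinj _ _ h1
    have h3 : X a * Z 0 = X 0 * Z c' := by rw [F.Z_zero, F.X_zero, mul_one, one_mul]; exact h2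
    exact (hEinj h3).1
  have kerφ : ∀ a, φ a = 0 → a = 0 := by
    intro a ha
    have h1 := hφ a
    rw [ha, F.X_zero, one_mul] at h1
    obtain ⟨c', hc'⟩ := hVmem (φ' a)
    rw [hc'] at h1
    have h2 := hinj _ _ h1
    have h3 : Y a * Z 0 = Y 0 * Z c' := by rw [F.Z_zero, F.Y_zero, mul_one, one_mul]; exact h2
    exact (E2_inj D F h3).1
  have kerγ : ∀ a, γ a = 0 → a = 0 := by
    intro a ha
    have h1 := hγ a
    rw [ha, F.Z_zero] at h1
    apply F.Z_inj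
    rw [F.Z_zero]
    apply hinj
    rw [h1]; group
  -- the relation
  have hrel : ∀ a b, γ (a * b) = θ a * φ b := by
    intro a b
    have h1 : τ * (X a * Y b) * τ⁻¹ = τ * (Y b * X a * Z (a * b)) * τ⁻¹ := by rw [F.X_Y]
    rw [conj_mul', conj_mul', conj_mul', hθ, hφ, hγ] at h1
    have h2 : Y (θ a) * Z (θ' a) = Y (θ a) * X 0 * Z (θ' a) := by rw [F.X_zero, mul_one]
    have h3 : X (φ b) * Z (φ' b) = Y 0 * X (φ b) * Z (φ' b) := by rw [F.Y_zero, one_mul]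
    rw [h2, h3, P_mul D F, P_mul D F, mul_assoc _ _ (Z (γ (a * b))), ← F.Z_add] at h1
    have h4 := (F.inj _ _ _ _ _ _ h1).2.2
    have key : ∀ p q r t u : F4, 0 * F4.fr (r * 0) + 0 * 0 + (p + q) =
        0 * F4.fr (0 * r) + t * r + (q + p) + u → u = r * t := by
      intro p q r t u e
      rw [zero_mul, zero_mul, zero_mul, zero_add, zero_add, zero_add, add_comm q p] at e
      have e2 : (t * r + (p + q)) + (p + q) = t * r := by
        rw [add_assoc, F4.add_self, add_zero]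
      have e3 : t * r + u = 0 := by
        have e4 : (t * r + (p + q) + u) + (p + q) = 0 := by rw [← e, F4.add_self]
        calc t * r + u = ((t * r + (p + q)) + (p + q)) + u := by rw [e2]
          _ = (t * r + (p + q) + u) + (p + q) := by ring
          _ = 0 := e4
      calc u = t * r + (t * r + u) := by rw [← add_assoc, F4.add_self, zero_add]
        _ = r * t := by rw [e3, add_zero, mul_comm]
    exact key _ _ _ _ _ h4
  obtain ⟨f, hf0, hf⟩ := additive_cases addθ kerθ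
  obtain ⟨l, hl0, hl⟩ := additive_cases addφ kerφ
  obtain ⟨m, hm0, hm⟩ := additive_cases addγ kerγ
  have r1 := hrel F4.e F4.e
  have r2 := hrel F4.e F4.w
  have r3 := hrel F4.w F4.e
  rcases hf with hf | hf <;> rcases hl with hl | hl <;> rcases hm with hm | hm <;>
    rw [hf, hl, hm] at r1 r2 r3
  · refine ⟨f, l, id, ⟨Or.inl rfl⟩, hf0, hl0, fun a => ⟨θ' a, by rw [hθ, hf]; rfl⟩,
      fun a => ⟨φ' a, by rw [hφ, hl]; rfl⟩, fun a => ?_⟩
    rw [hγ, hm]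
    congr 1
    have : ∀ m f l a : F4, m * (F4.e * F4.e) = f * F4.e * (l * F4.e) → m * a = f * l * id a := by decide
    exact this m f l a r1
  · exfalso
    have : ∀ m f l : F4, f ≠ 0 → l ≠ 0 → m * F4.fr (F4.e * F4.e) = f * F4.e * (l * F4.e) →
      m * F4.fr (F4.e * F4.w) = f * F4.e * (l * F4.w) → False := by decide
    exact this m f l hf0 hl0 r1 r2
  · exfalso
    have : ∀ m f l : F4, f ≠ 0 → l ≠ 0 → m * (F4.e * F4.e) = f * F4.e * (l * F4.fr F4.e) →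
      m * (F4.e * F4.w) = f * F4.e * (l * F4.fr F4.w) → False := by decide
    exact this m f l hf0 hl0 r1 r2
  · exfalso
    have : ∀ m f l : F4, f ≠ 0 → l ≠ 0 → m * F4.fr (F4.e * F4.e) = f * F4.e * (l * F4.fr F4.e) →
      m * F4.fr (F4.w * F4.e) = f * F4.w * (l * F4.fr F4.e) → False := by decide
    exact this m f l hf0 hl0 r1 r3
  · exfalso
    have : ∀ m f l : F4, f ≠ 0 → l ≠ 0 → m * (F4.e * F4.e) = f * F4.fr F4.e * (l * F4.e) →
      m * (F4.w * F4.e) = f * F4.fr F4.w * (l * F4.e) → False := by decide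
    exact this m f l hf0 hl0 r1 r3
  · exfalso
    have : ∀ m f l : F4, f ≠ 0 → l ≠ 0 → m * F4.fr (F4.e * F4.e) = f * F4.fr F4.e * (l * F4.e) →
      m * F4.fr (F4.e * F4.w) = f * F4.fr F4.e * (l * F4.w) → False := by decide
    exact this m f l hf0 hl0 r1 r2
  · exfalso
    have : ∀ m f l : F4, f ≠ 0 → l ≠ 0 → m * (F4.e * F4.e) = f * F4.fr F4.e * (l * F4.fr F4.e) →
      m * (F4.e * F4.w) = f * F4.fr F4.e * (l * F4.fr F4.w) → False := by decide
    exact this m f l hf0 hl0 r1 r2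
  · refine ⟨f, l, F4.fr, ⟨Or.inr rfl⟩, hf0, hl0, fun a => ⟨θ' a, by rw [hθ, hf]⟩,
      fun a => ⟨φ' a, by rw [hφ, hl]⟩, fun a => ?_⟩
    rw [hγ, hm]
    congr 1
    have : ∀ m f l a : F4, m * F4.fr (F4.e * F4.e) = f * F4.fr F4.e * (l * F4.fr F4.e) →
      m * F4.fr a = f * l * F4.fr a := by decide
    exact this m f l a r1

/-- `P` acts trivially modulo `V` -/
theorem P_conj {p : G} (hp : p ∈ P) {q : G} (hq : q ∈ P) : ∃ c, p * q * p⁻¹ = q * Z c := by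
  obtain ⟨c, hc⟩ := F.Z_surj _ (D.sqcomm hp hq)
  refine ⟨c, ?_⟩
  have h1 := ZP D F c hq
  rw [← h1, hc]; group

theorem ActSw.mulP {τ p : G} {f l : F4} {σ : F4 → F4} (hτ : ActSw X Y Z τ f l σ) (hp : p ∈ P) :
    ActSw X Y Z (p * τ) f l σ where
  aut := hτ.aut
  f0 := hτ.f0
  l0 := hτ.l0
  onX := by
    intro a
    obtain ⟨c, h1⟩ := hτ.onX a
    obtain ⟨c', h2⟩ := P_conj D F hp (P.mul_mem (F.Y_mem (f * σ a)) (D.B_le (F.Z_mem c)))
    exact ⟨c + c', by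
      rw [show p * τ * X a * (p * τ)⁻¹ = p * (τ * X a * τ⁻¹) * p⁻¹ by group, h1, h2, mul_assoc, F.Z_add]⟩
  onY := by
    intro a
    obtain ⟨c, h1⟩ := hτ.onY a
    obtain ⟨c', h2⟩ := P_conj D F hp (P.mul_mem (D.R_le (F.X_mem (l * σ a))) (D.B_le (F.Z_mem c)))
    exact ⟨c + c', by
      rw [show p * τ * Y a * (p * τ)⁻¹ = p * (τ * Y a * τ⁻¹) * p⁻¹ by group, h1, h2, mul_assoc, F.Z_add]⟩
  onZ := by
    intro a
    rw [show p * τ * Z a * (p * τ)⁻¹ = p * (τ * Z a * τ⁻¹) * p⁻¹ by group, hτ.onZ, ← ZP D F _ hp]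
    group

omit D in
/-- conjugating a linear element by a swap -/
theorem Acts.sw {τ n : G} {f l x y z : F4} {σ : F4 → F4} (hn : Acts X Y Z n x y z)
    (hτ : ActSw X Y Z τ f l σ) : Acts X Y Z (τ * n * τ⁻¹) (σ y) (σ x) (σ z) where
  onX := by
    intro a
    obtain ⟨b, hb⟩ := hτ.aut.surj hτ.l0 a
    obtain ⟨c, h1⟩ := hτ.onY b
    obtain ⟨c1, h2⟩ := hn.onY b
    obtain ⟨c2, h3⟩ := hτ.onY (y * b)
    rw [hb] at h1
    have h4 : ∀ e, (τ * n * τ⁻¹) * Z e * (τ * n * τ⁻¹)⁻¹ ∈ Set.range Z := by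
      intro e
      obtain ⟨e', he'⟩ := hτ.aut.surj (f := f * l) (by
        have : ∀ f l : F4, f ≠ 0 → l ≠ 0 → f * l ≠ 0 := by decide
        exact this f l hτ.f0 hτ.l0) e
      refine ⟨f * l * σ (z * e'), ?_⟩
      rw [← he', ← hτ.onZ e', show (τ * n * τ⁻¹) * (τ * Z e' * τ⁻¹) * (τ * n * τ⁻¹)⁻¹ =
        τ * (n * Z e' * n⁻¹) * τ⁻¹ by group, hn.onZ, hτ.onZ]
    obtain ⟨c3, h5⟩ := h4 c
    have h6 : (τ * n * τ⁻¹) * (X a * Z c) * (τ * n * τ⁻¹)⁻¹ = X (σ y * a) * Z (c2 + f * l * σ c1) := by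
      rw [← h1, show (τ * n * τ⁻¹) * (τ * Y b * τ⁻¹) * (τ * n * τ⁻¹)⁻¹ =
        τ * (n * Y b * n⁻¹) * τ⁻¹ by group, h2, conj_mul', h3, hτ.onZ, mul_assoc, ← F.Z_add]
      congr 2
      rw [hτ.aut.mul, ← hb]; ring
    rw [conj_mul', ← h5] at h6
    refine ⟨c2 + f * l * σ c1 + c3, ?_⟩
    have h7 : Z c3 * Z c3 = 1 := by rw [← F.Z_add, F4.add_self, F.Z_zero]
    rw [F.Z_add, ← mul_assoc, ← h6, mul_assoc _ (Z c3), h7, mul_one]
  onY := by
    intro a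
    obtain ⟨b, hb⟩ := hτ.aut.surj hτ.f0 a
    obtain ⟨c, h1⟩ := hτ.onX b
    obtain ⟨c1, h2⟩ := hn.onX b
    obtain ⟨c2, h3⟩ := hτ.onX (x * b)
    rw [hb] at h1
    have h4 : ∀ e, (τ * n * τ⁻¹) * Z e * (τ * n * τ⁻¹)⁻¹ ∈ Set.range Z := by
      intro e
      obtain ⟨e', he'⟩ := hτ.aut.surj (f := f * l) (by
        have : ∀ f l : F4, f ≠ 0 → l ≠ 0 → f * l ≠ 0 := by decide
        exact this f l hτ.f0 hτ.l0) e
      refine ⟨f * l * σ (z * e'), ?_⟩
      rw [← he', ← hτ.onZ e', show (τ * n * τ⁻¹) * (τ * Z e' * τ⁻¹) * (τ * n * τ⁻¹)⁻¹ =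
        τ * (n * Z e' * n⁻¹) * τ⁻¹ by group, hn.onZ, hτ.onZ]
    obtain ⟨c3, h5⟩ := h4 c
    have h6 : (τ * n * τ⁻¹) * (Y a * Z c) * (τ * n * τ⁻¹)⁻¹ = Y (σ x * a) * Z (c2 + f * l * σ c1) := by
      rw [← h1, show (τ * n * τ⁻¹) * (τ * X b * τ⁻¹) * (τ * n * τ⁻¹)⁻¹ =
        τ * (n * X b * n⁻¹) * τ⁻¹ by group, h2, conj_mul', h3, hτ.onZ, mul_assoc, ← F.Z_add]
      congr 2
      rw [hτ.aut.mul, ← hb]; ring
    rw [conj_mul', ← h5] at h6
    refine ⟨c2 + f * l * σ c1 + c3, ?_⟩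
    have h7 : Z c3 * Z c3 = 1 := by rw [← F.Z_add, F4.add_self, F.Z_zero]
    rw [F.Z_add, ← mul_assoc, ← h6, mul_assoc _ (Z c3), h7, mul_one]
  onZ := by
    intro e
    obtain ⟨e', he'⟩ := hτ.aut.surj (f := f * l) (by
      have : ∀ f l : F4, f ≠ 0 → l ≠ 0 → f * l ≠ 0 := by decide
      exact this f l hτ.f0 hτ.l0) e
    rw [← he', ← hτ.onZ e', show (τ * n * τ⁻¹) * (τ * Z e' * τ⁻¹) * (τ * n * τ⁻¹)⁻¹ =
      τ * (n * Z e' * n⁻¹) * τ⁻¹ by group, hn.onZ, hτ.onZ]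
    congr 1
    rw [hτ.aut.mul]; ring

end

end Cfsg.Agent.StdAlt.Five.SwapC
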