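import Cfsg.Agent.StdAlt.Five.SwapC

/-!
# S1766, n = 5, case (I): normal form of the swap, conclusion
-/

set_option autoImplicit false

namespace Cfsg.Agent.StdAlt.Five.SwapD

open Subgroup Cfsg.Agent.StdAlt.Conj Cfsg.Agent.J2Sylow.Model Cfsg.Agent.StdAlt.Five
open Cfsg.Agent.StdAlt.Five.Sec4 Cfsg.Agent.StdAlt.Five.PGroup Cfsg.Agent.StdAlt.Five.PExists
open Cfsg.Agent.StdAlt.Five.PData Cfsg.Agent.StdAlt.Five.Coord Cfsg.Agent.StdAlt.Five.Moves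
open Cfsg.Agent.StdAlt.Five.Mu Cfsg.Agent.StdAlt.Five.SylA Cfsg.Agent.StdAlt.Five.SwapA
open Cfsg.Agent.StdAlt.Five.SwapB Cfsg.Agent.StdAlt.Five.SwapC

variable {G : Type*} [Group G] {A R V P : Subgroup G} {ρ g s : G} {X Y Z : F4 → G}

section

variable {h : OddE A R V ρ g} (hP : IsP h P) (F : Frame R V P ρ 0 X Y Z) {ρ₀ : G} (K : Kap3 A X Y ρ₀)

section
include h F K

theorem act_zt : Acts X Y Z (ρ⁻¹ * ρ₀) F4.w F4.w F4.u :=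
  ((Acts.rho F).inv F (x' := 1) (y' := F4.u) (z' := F4.u) rfl rfl rfl).mul F (Acts.rho0 h F K)

theorem act_zt' : Acts X Y Z (ρ⁻¹ * ρ₀)⁻¹ F4.u F4.u F4.w :=
  (act_zt (h := h) F K).inv F rfl rfl rfl

theorem act_om : Acts X Y Z (ρ * ρ₀) F4.w 1 F4.w := (Acts.rho F).mul F (Acts.rho0 h F K)

theorem act_om' : Acts X Y Z (ρ * ρ₀)⁻¹ F4.u 1 F4.u := (act_om (h := h) F K).inv F rfl rfl rfl

omit F in
theorem comm_rho : ρ * ρ₀ = ρ₀ * ρ := (comm_of_C K.mem h.ρ_mem).symm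

end

include hP F K

/-- exact action of `ζ` -/
theorem zt_exact [Finite G] (b a c : F4) : (ρ⁻¹ * ρ₀) * (Y b * X a * Z c) * (ρ⁻¹ * ρ₀)⁻¹ =
    Y (F4.w * b) * X (F4.w * a) * Z (F4.u * c) := by
  have D := PData.data hP
  have h1 : ρ₀ * (Y b * X a * Z c) * ρ₀⁻¹ = Y (F4.u * b) * X (F4.w * a) * Z c := by
    rw [conj_mul', conj_mul', K.conjY, K.conjX, Base.CA_V h K.mem (F.Z_mem c)]
  have h2 : ρ⁻¹ * X (F4.w * a) * ρ = X (F4.w * a) := by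
    have := F.ρX (F4.w * a)
    calc ρ⁻¹ * X (F4.w * a) * ρ = ρ⁻¹ * (ρ * X (F4.w * a) * ρ⁻¹) * ρ := by rw [this]
      _ = _ := by group
  calc (ρ⁻¹ * ρ₀) * (Y b * X a * Z c) * (ρ⁻¹ * ρ₀)⁻¹ = ρ⁻¹ * (ρ₀ * (Y b * X a * Z c) * ρ₀⁻¹) * ρ := by group
    _ = (ρ⁻¹ * Y (F4.u * b) * ρ) * (ρ⁻¹ * X (F4.w * a) * ρ) * (ρ⁻¹ * Z c * ρ) := by rw [h1]; group
    _ = _ := by
      rw [ρinvY D F, ρinvZ D F, h2, ← mul_assoc]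
      rfl

/-- `ζ` has no fixed points on `P` -/
theorem zt_fpf [Finite G] {p : G} (hp : p ∈ P) (e : (ρ⁻¹ * ρ₀) * p * (ρ⁻¹ * ρ₀)⁻¹ = p) : p = 1 := by
  obtain ⟨b, a, c, rfl⟩ := F.P_surj p hp
  rw [zt_exact hP F K] at e
  obtain ⟨e1, e2, e3⟩ := F.inj _ _ _ _ _ _ e
  have key : ∀ b : F4, F4.w * b = b → b = 0 := by decide
  have key' : ∀ b : F4, F4.u * b = b → b = 0 := by decide
  rw [key b e1, key a e2, key' c e3, F.Y_zero, F.X_zero, F.Z_zero, one_mul, one_mul]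

theorem zt_NP [Finite G] : (ρ⁻¹ * ρ₀) ∈ N P := (act_zt (h := h) F K).NP (PData.data hP) F

theorem fix_one [Finite G] {t : G} (ht : t ∈ P) (hn : ρ⁻¹ * ρ₀ ∈ N P)
    (hc : Cg R V (t * (ρ⁻¹ * ρ₀) * t⁻¹) (ρ⁻¹ * ρ₀)) : t = 1 := by
  obtain ⟨d, hd, e⟩ := hc
  have h1 : d = t * ((ρ⁻¹ * ρ₀) * t⁻¹ * (ρ⁻¹ * ρ₀)⁻¹) := by
    calc d = (d * (ρ⁻¹ * ρ₀)) * (ρ⁻¹ * ρ₀)⁻¹ := by group
      _ = t * (ρ⁻¹ * ρ₀) * t⁻¹ * (ρ⁻¹ * ρ₀)⁻¹ := by rw [e]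
      _ = _ := by group
  have h2 : d ∈ P := by
    rw [h1]
    exact mul_mem ht (conj_mem hn (Subgroup.inv_mem _ ht))
  have h3 := DD_inf hP (PData.data hP) F hd h2
  rw [h3, one_mul] at e
  apply zt_fpf hP F K ht
  calc (ρ⁻¹ * ρ₀) * t * (ρ⁻¹ * ρ₀)⁻¹ = (t * (ρ⁻¹ * ρ₀) * t⁻¹) * t * (ρ⁻¹ * ρ₀)⁻¹ := by rw [e]
    _ = t := by group

/-- surjectivity of `q ↦ q⁻¹ ζ₁(q)` -/
theorem exists_q [Finite G] {z : G} (hz : z = ρ⁻¹ * ρ₀ ∨ z = (ρ⁻¹ * ρ₀)⁻¹) {p : G} (hp : p ∈ P) :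
    ∃ q ∈ P, q⁻¹ * (z * q * z⁻¹) = p := by
  have hzN : z ∈ N P := by
    rcases hz with e | e
    · rw [e]; exact zt_NP hP F K
    · rw [e]; exact Subgroup.inv_mem _ (zt_NP hP F K)
  have hfpf : ∀ p ∈ P, z * p * z⁻¹ = p → p = 1 := by
    intro p hp e
    rcases hz with rfl | rfl
    · exact zt_fpf hP F K hp e
    · apply zt_fpf hP F K hp
      nth_rewrite 1 [← e]
      group
  have hinj : Function.Injective (fun q : P => (⟨(q : G)⁻¹ * (z * q * z⁻¹),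
      mul_mem (Subgroup.inv_mem _ q.2) (conj_mem hzN q.2)⟩ : P)) := by
    rintro ⟨q, hq⟩ ⟨r, hr⟩ e
    have e1 : q⁻¹ * (z * q * z⁻¹) = r⁻¹ * (z * r * z⁻¹) := congrArg (fun t : P => (t : G)) e
    have e2 : z * (q * r⁻¹) * z⁻¹ = q * r⁻¹ := by
      calc z * (q * r⁻¹) * z⁻¹ = q * (q⁻¹ * (z * q * z⁻¹)) * (z * r * z⁻¹)⁻¹ := by group
        _ = q * (r⁻¹ * (z * r * z⁻¹)) * (z * r * z⁻¹)⁻¹ := by rw [e1]
        _ = q * r⁻¹ := by group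
    have e3 := hfpf _ (mul_mem hq (Subgroup.inv_mem _ hr)) e2
    exact Subtype.ext (mul_inv_eq_one.1 e3)
  have hs := Finite.surjective_of_injective hinj
  obtain ⟨⟨q, hq⟩, e⟩ := hs ⟨p, hp⟩
  exact ⟨q, hq, congrArg (fun t : P => (t : G)) e⟩

/-- adjusting the swap by `P` -/
theorem adjust [Finite G] {τ : G} {f l : F4} {σ : F4 → F4} (hτ : ActSw X Y Z τ f l σ) :
    ∃ q ∈ P, ∃ z, ((σ = id ∧ z = ρ⁻¹ * ρ₀) ∨ (σ = F4.fr ∧ z = (ρ⁻¹ * ρ₀)⁻¹)) ∧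
      Cg R V ((q * τ) * (ρ⁻¹ * ρ₀) * (q * τ)⁻¹) z := by
  have hact := (act_zt (h := h) F K).sw F hτ
  obtain ⟨z, hz, p, hp, d, hd, e⟩ : ∃ z, ((σ = id ∧ z = ρ⁻¹ * ρ₀) ∨ (σ = F4.fr ∧ z = (ρ⁻¹ * ρ₀)⁻¹)) ∧
      ∃ p ∈ P, ∃ d ∈ Od R V, τ * (ρ⁻¹ * ρ₀) * τ⁻¹ * z⁻¹ = p * d := by
    rcases hτ.aut.eq with rfl | rfl
    · exact ⟨_, Or.inl ⟨rfl, rfl⟩, (hact.mul F (act_zt' (h := h) F K)).fact hP F rfl rfl⟩
    · refine ⟨_, Or.inr ⟨rfl, rfl⟩, ?_⟩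
      rw [inv_inv]
      exact (hact.mul F (act_zt (h := h) F K)).fact hP F rfl rfl
  have hz' : z = ρ⁻¹ * ρ₀ ∨ z = (ρ⁻¹ * ρ₀)⁻¹ := by
    rcases hz with ⟨-, e⟩ | ⟨-, e⟩
    · exact Or.inl e
    · exact Or.inr e
  have hzN : z ∈ N P := by
    rcases hz' with e | e
    · rw [e]; exact zt_NP hP F K
    · rw [e]; exact Subgroup.inv_mem _ (zt_NP hP F K)
  obtain ⟨q, hq, hqp⟩ := exists_q hP F K hz' hp
  refine ⟨q, hq, z, hz, d, Od_DD hd, ?_⟩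
  have h1 : z * q⁻¹ * z⁻¹ ∈ P := conj_mem hzN (Subgroup.inv_mem _ hq)
  have h2 := Od_P hP hd h1
  calc (q * τ) * (ρ⁻¹ * ρ₀) * (q * τ)⁻¹ = q * (τ * (ρ⁻¹ * ρ₀) * τ⁻¹ * z⁻¹) * (z * q⁻¹ * z⁻¹) * z := by group
    _ = q * p * (d * (z * q⁻¹ * z⁻¹)) * z := by rw [e]; group
    _ = q * (q⁻¹ * (z * q * z⁻¹)) * (z * q⁻¹ * z⁻¹) * d * z := by rw [← h2, hqp]; group
    _ = d * z := by group

/-- **exact form of the swap** -/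
theorem exact_form [Finite G] {τ : G} {f l : F4} {σ : F4 → F4} (hτ : ActSw X Y Z τ f l σ) (hτN : τ ∈ N P)
    {z : G} (hz : z = ρ⁻¹ * ρ₀ ∨ z = (ρ⁻¹ * ρ₀)⁻¹) (hcg : Cg R V (τ * (ρ⁻¹ * ρ₀) * τ⁻¹) z)
    (hττ : τ * τ ∈ P) : τ * τ = 1 ∧ l * σ f = 1 ∧ (∀ a, τ * X a * τ = Y (f * σ a)) ∧
      (∀ a, τ * Y a * τ = X (l * σ a)) ∧ ∀ a, τ * Z a * τ = Z (f * l * σ a) := by
  have D := PData.data hP
  have hζN := zt_NP hP F K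
  have hzN : z ∈ N P := by
    rcases hz with e | e
    · rw [e]; exact hζN
    · rw [e]; exact Subgroup.inv_mem _ hζN
  -- `τ z τ⁻¹ ~ ζ`
  have hz2 : Cg R V (τ * z * τ⁻¹) (ρ⁻¹ * ρ₀) := by
    rcases hz with e | e
    · rw [← e] at hcg; rw [← e]; exact hcg
    · have h1 := hcg.conj_inv hP hτN hzN
      rw [← e] at h1
      rw [show ρ⁻¹ * ρ₀ = z⁻¹ by rw [e, inv_inv]]
      exact h1
  have hττ1 : τ * τ = 1 := by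
    apply fix_one hP F K hττ hζN
    have h1 := (hcg.conj hP hτN).trans hz2
    rwa [show τ * (τ * (ρ⁻¹ * ρ₀) * τ⁻¹) * τ⁻¹ = τ * τ * (ρ⁻¹ * ρ₀) * (τ * τ)⁻¹ by group] at h1
  have hτi : τ⁻¹ = τ := inv_eq_of_mul_eq_one_left hττ1
  -- the element `ρ' = τ ρ τ⁻¹`
  have hρN : ρ ∈ N P := (Acts.rho F).NP D F
  obtain ⟨ω, hω, hωζ, hωa⟩ : ∃ ω, (∃ p ∈ P, ∃ d ∈ Od R V, τ * ρ * τ⁻¹ * ω⁻¹ = p * d) ∧
      ω * (ρ⁻¹ * ρ₀) = (ρ⁻¹ * ρ₀) * ω ∧ ω ∈ N P ∧ ∀ b c, ω * (Y b * Z c) * ω⁻¹ = Y b * Z c → c = 0 := by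
    have hact := (Acts.rho F).sw F hτ
    have hc := comm_rho (h := h) K
    have hcζ : (ρ * ρ₀) * (ρ⁻¹ * ρ₀) = (ρ⁻¹ * ρ₀) * (ρ * ρ₀) := by
      calc (ρ * ρ₀) * (ρ⁻¹ * ρ₀) = (ρ₀ * ρ) * (ρ⁻¹ * ρ₀) := by rw [hc]
        _ = ρ₀ * ρ₀ := by group
        _ = ρ⁻¹ * (ρ * ρ₀) * ρ₀ := by group
        _ = ρ⁻¹ * (ρ₀ * ρ) * ρ₀ := by rw [hc]
        _ = _ := by group
    have hex : ∀ b c, (ρ * ρ₀) * (Y b * Z c) * (ρ * ρ₀)⁻¹ = Y b * Z (F4.w * c) := by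
      intro b c
      rw [show (ρ * ρ₀) * (Y b * Z c) * (ρ * ρ₀)⁻¹ = ρ * (ρ₀ * (Y b * Z c) * ρ₀⁻¹) * ρ⁻¹ by group,
        conj_mul' ρ₀, K.conjY, Base.CA_V h K.mem (F.Z_mem c), ρE2 F, ← mul_assoc]
      congr 2
      exact one_mul b
    rcases hτ.aut.eq with rfl | rfl
    · refine ⟨ρ * ρ₀, (hact.mul F (act_om' (h := h) F K)).fact hP F rfl rfl, hcζ,
        (act_om (h := h) F K).NP D F, fun b c e => ?_⟩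
      rw [hex] at e
      have e1 := (E2_inj D F e).2
      have : ∀ c : F4, F4.w * c = c → c = 0 := by decide
      exact this c e1
    · refine ⟨(ρ * ρ₀)⁻¹, ?_, ?_, (act_om' (h := h) F K).NP D F, fun b c e => ?_⟩
      · rw [inv_inv]
        exact (hact.mul F (act_om (h := h) F K)).fact hP F rfl rfl
      · calc (ρ * ρ₀)⁻¹ * (ρ⁻¹ * ρ₀) = (ρ * ρ₀)⁻¹ * ((ρ⁻¹ * ρ₀) * (ρ * ρ₀)) * (ρ * ρ₀)⁻¹ := by group
          _ = _ := by rw [← hcζ]; group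
      · have e1 : (ρ * ρ₀) * (Y b * Z c) * (ρ * ρ₀)⁻¹ = Y b * Z c := by
          nth_rewrite 1 [← e]
          group
        rw [hex] at e1
        have e2 := (E2_inj D F e1).2
        have : ∀ c : F4, F4.w * c = c → c = 0 := by decide
        exact this c e2
  obtain ⟨p, hp, d, hd, e⟩ := hω
  -- `p = 1`
  have hd' := Od_DD hd
  have hp1 : p = 1 := by
    apply fix_one hP F K hp hζN
    have hpe : p = τ * ρ * τ⁻¹ * ω⁻¹ * d⁻¹ := by rw [e]; group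
    have c1 : Cg R V (d⁻¹ * (ρ⁻¹ * ρ₀) * d⁻¹⁻¹) (ρ⁻¹ * ρ₀) :=
      ⟨d⁻¹ * ((ρ⁻¹ * ρ₀) * d * (ρ⁻¹ * ρ₀)⁻¹), mul_mem (Subgroup.inv_mem _ hd') (DD_conj hP hζN hd'),
        by group⟩
    have c2 := c1.conj hP (Subgroup.inv_mem _ hωa.1)
    have e2 : ω⁻¹ * (ρ⁻¹ * ρ₀) * ω⁻¹⁻¹ = ρ⁻¹ * ρ₀ := by
      rw [inv_inv, mul_assoc, ← hωζ]; group
    rw [e2] at c2
    have c3 := c2.conj hP (Subgroup.inv_mem _ hτN)
    have c4 : Cg R V (τ⁻¹ * (ρ⁻¹ * ρ₀) * τ⁻¹⁻¹) z := by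
      rw [hτi]
      rw [hτi] at hcg
      rw [hτi]; exact hcg
    have c5 := (c3.trans c4).conj hP hρN
    have e3 : ρ * z * ρ⁻¹ = z := by
      have hc := comm_rho (h := h) K
      have e4 : ρ * (ρ⁻¹ * ρ₀) * ρ⁻¹ = ρ⁻¹ * ρ₀ := by
        calc ρ * (ρ⁻¹ * ρ₀) * ρ⁻¹ = ρ⁻¹ * (ρ * ρ₀) * ρ⁻¹ := by group
          _ = ρ⁻¹ * ρ₀ := by rw [hc]; group
      rcases hz with e | e
      · rw [e, e4]
      · rw [e]
        calc ρ * (ρ⁻¹ * ρ₀)⁻¹ * ρ⁻¹ = (ρ * (ρ⁻¹ * ρ₀) * ρ⁻¹)⁻¹ := by group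
          _ = _ := by rw [e4]
    rw [e3] at c5
    have c6 := (c5.conj hP hτN).trans hz2
    rw [hpe]
    convert c6 using 1
    group
  rw [hp1, one_mul] at e
  have hρ' : τ * ρ * τ⁻¹ = d * ω := by rw [← e]; group
  -- exactness on `X`
  have hX : ∀ a, τ * X a * τ⁻¹ = Y (f * σ a) := by
    intro a
    obtain ⟨c, hc⟩ := hτ.onX a
    have e1 : (d * ω) * (Y (f * σ a) * Z c) * (d * ω)⁻¹ = Y (f * σ a) * Z c := by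
      rw [← hρ', ← hc, show (τ * ρ * τ⁻¹) * (τ * X a * τ⁻¹) * (τ * ρ * τ⁻¹)⁻¹ =
        τ * (ρ * X a * ρ⁻¹) * τ⁻¹ by group, F.ρX]
    have e2 : ω * (Y (f * σ a) * Z c) * ω⁻¹ = Y (f * σ a) * Z c := by
      have hm : ω * (Y (f * σ a) * Z c) * ω⁻¹ ∈ P :=
        conj_mem hωa.1 (P.mul_mem (F.Y_mem _) (D.B_le (F.Z_mem _)))
      have e3 := DD_P hP hd' hm
      calc ω * (Y (f * σ a) * Z c) * ω⁻¹ = (ω * (Y (f * σ a) * Z c) * ω⁻¹) * d * d⁻¹ := by group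
        _ = (d * ω) * (Y (f * σ a) * Z c) * (d * ω)⁻¹ := by rw [e3]; group
        _ = _ := e1
    rw [hc, hωa.2 _ _ e2, F.Z_zero, mul_one]
  have hback : ∀ a, τ * Y (f * σ a) * τ⁻¹ = X a := by
    intro a
    rw [← hX a, show τ * (τ * X a * τ⁻¹) * τ⁻¹ = (τ * τ) * X a * (τ * τ)⁻¹ by group, hττ1]; group
  have hEinj : ∀ {a c a' c' : F4}, X a * Z c = X a' * Z c' → a = a' ∧ c = c' := by
    intro a c a' c' e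
    have := F.inj a 0 c a' 0 c' (by rw [F.Y_zero, one_mul, one_mul]; exact e)
    exact ⟨this.2.1, this.2.2⟩
  have hlf : l * σ f = 1 := by
    obtain ⟨c, hc⟩ := hτ.onY (f * σ 1)
    rw [hback 1, hτ.aut.mul, hτ.aut.invol, mul_one] at hc
    have h1 : X 1 * Z 0 = X (l * σ f) * Z c := by rw [F.Z_zero, mul_one]; exact hc
    exact (hEinj h1).1.symm
  refine ⟨hττ1, hlf, fun a => ?_, fun a => ?_, fun a => ?_⟩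
  · rw [← hX a, hτi]
  · obtain ⟨b, hb⟩ := hτ.aut.surj hτ.f0 a
    rw [← hb]
    have h1 := hback b
    rw [hτi] at h1
    rw [h1, hτ.aut.mul, hτ.aut.invol, ← mul_assoc, hlf, one_mul]
  · rw [← hτ.onZ a, hτi]

end

end Cfsg.Agent.StdAlt.Five.SwapD
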