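import Cfsg.Agent.StdAlt.Five.SwapD

/-!
# S1766, n = 5, case (I): the swap cases
-/

set_option autoImplicit false

namespace Cfsg.Agent.StdAlt.Five.SwapE

open Subgroup Cfsg.Agent.StdAlt.Conj Cfsg.Agent.J2Sylow.Model Cfsg.Agent.StdAlt.Five
open Cfsg.Agent.StdAlt.Five.Sec4 Cfsg.Agent.StdAlt.Five.PGroup Cfsg.Agent.StdAlt.Five.PExists
open Cfsg.Agent.StdAlt.Five.PData Cfsg.Agent.StdAlt.Five.Coord Cfsg.Agent.StdAlt.Five.Moves
open Cfsg.Agent.StdAlt.Five.Mu Cfsg.Agent.StdAlt.Five.SylA Cfsg.Agent.StdAlt.Five.SwapA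
open Cfsg.Agent.StdAlt.Five.SwapB Cfsg.Agent.StdAlt.Five.SwapC Cfsg.Agent.StdAlt.Five.SwapD

variable {G : Type*} [Group G] {A R V P : Subgroup G} {ρ g s : G} {X Y Z : F4 → G}
variable {h : OddE A R V ρ g}

/-- elements of `P` normalize everything -/
theorem P_Nm [Finite G] (hP : IsP h P) (F : Frame R V P ρ 0 X Y Z) {p : G} (hp : p ∈ P) :
    Nm (PData.data hP) F p where
  onP := fun q hq => mul_mem (mul_mem hp hq) (Subgroup.inv_mem _ hp)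
  onV := fun v hv => by rw [PData.cent hP hp hv]; simpa using hv
  onE := fun e he => conj_mem (P_N hP hp) he
  onE' := fun e he => by
    have D := PData.data hP
    have h3 : p * e * p⁻¹ * e⁻¹ ∈ V := D.sqcomm hp (E2_le D F he)
    rw [show p * e * p⁻¹ = (p * e * p⁻¹ * e⁻¹) * e by group]
    exact mul_mem (V_le_E2 D F h3) he

/-- **swap, `μ = 1`** -/
theorem swap_one [Finite G] (hP : IsP h P) (F : Frame R V P ρ 0 X Y Z) {ρ₀ : G} (K : Kap3 A X Y ρ₀)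
    (kt2 : ∀ b c, b ≠ 0 → KT A (Y b * Z c)) (h8 : ¬ 8 ∣ Nat.card A) (hmu : Mu1 A) :
    ∃ X' Y' Z' w, ∃ S : Sylow 2 G, Frame R V P ρ 0 X' Y' Z' ∧ Kap3 A X' Y' ρ₀ ∧
      (SwapLin A P X' Y' Z' w S ∨ SwapSemi A P X' Y' Z' w S) := by
  have D := PData.data hP
  obtain ⟨Q, τ₀, hQ⟩ := exists_Q hP F kt2 h8 hP.two le_N (fun p hp => P_N hP hp) (max_one hP F h8 hmu)
  obtain ⟨S, hS⟩ := sylow_Q hP F le_rfl hQ (fun x hx => wcQ_one hP F hQ hx)
  obtain ⟨f, l, σ, hτ₀⟩ := actSw D F hQ.sw h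
  obtain ⟨q, hq, z, hz, hcg⟩ := adjust hP F K hτ₀
  have hτ := hτ₀.mulP D F hq
  have hsw : Sw D F (q * τ₀) := Sw.Nm_mul (P_Nm hP F hq) hQ.sw
  have hτQ : q * τ₀ ∈ Q := mul_mem (hQ.le hq) hQ.mem
  obtain ⟨τ, hτe⟩ : ∃ τ, τ = q * τ₀ := ⟨_, rfl⟩
  rw [← hτe] at hτ hsw hτQ hcg
  have hz' : z = ρ⁻¹ * ρ₀ ∨ z = (ρ⁻¹ * ρ₀)⁻¹ := by
    rcases hz with ⟨-, e⟩ | ⟨-, e⟩
    · exact Or.inl e
    · exact Or.inr e
  obtain ⟨h1, h2, h3, h4, h5⟩ := exact_form hP F K hτ (hQ.leN hτQ) hz' hcg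
    (hQ.inf _ (mul_mem hτQ hτQ) (hsw.mul hsw).NE)
  have hmem : ∀ x, x ∈ (S : Subgroup G) ↔ x ∈ P ∨ x * τ ∈ P := by
    intro x
    rw [hS]
    constructor
    · intro hx
      rcases hQ.cases' x hx with h6 | h6
      · exact Or.inl h6
      · exact Or.inr (hQ.inf _ (mul_mem hx hτQ) (h6.mul hsw).NE)
    · rintro (hx | hx)
      · exact hQ.le hx
      · rw [show x = (x * τ) * τ⁻¹ by group]
        exact mul_mem (hQ.le hx) (Subgroup.inv_mem _ hτQ)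
  -- rescale
  have hf : f * F4.fr f = 1 := by
    have : ∀ f : F4, f ≠ 0 → f * F4.fr f = 1 := by decide
    exact this f hτ.f0
  refine ⟨X, _, _, τ, S, Moves.scale F hf, MuNorm.Kap3.scale K f, ?_⟩
  rcases hz with ⟨rfl, -⟩ | ⟨rfl, -⟩
  · left
    have hlf : l * f = 1 := h2
    exact
      { mu1 := hmu
        sq := h1
        conjX := fun a => h3 a
        conjY := fun b => by
          rw [h4]
          congr 1
          calc l * id (f * b) = (l * f) * b := by simp only [id]; ring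
            _ = b := by rw [hlf, one_mul]
        conjZ := fun c => by
          rw [h5]
          congr 1
          calc f * l * id (f * c) = (l * f) * (f * c) := by simp only [id]; ring
            _ = f * c := by rw [hlf, one_mul]
        mem := hmem }
  · right
    exact
      { mu1 := hmu
        sq := h1
        conjX := fun a => h3 a
        conjY := fun b => by
          rw [h4]
          congr 1
          rw [F4.fr_mul, ← mul_assoc, h2, one_mul]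
        conjZ := fun c => by
          rw [h5]
          congr 1
          rw [F4.fr_mul, mul_assoc, ← mul_assoc l, h2, one_mul]
        mem := hmem }

/-- **swap, `μ = 2`** -/
theorem swap_two [Finite G] (hP : IsP h P) (F : Frame R V P ρ 0 X Y Z) {ρ₀ : G} (K : Kap3 A X Y ρ₀)
    (kt2 : ∀ b c, b ≠ 0 → KT A (Y b * Z c)) (h8 : ¬ 8 ∣ Nat.card A) (hmu : Mu2 A ρ X Y Z s)
    (hsρ : ∃ d ∈ Od R V, s * ρ₀ * s⁻¹ = ρ₀⁻¹ * d) : ∃ w, ∃ S : Sylow 2 G, SwapTwo A P ρ X Y Z s w S := by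
  have D := PData.data hP
  have hsi : s⁻¹ = s := inv_eq_of_mul_eq_one_left hmu.sq
  have hsX : ∀ a, s * X a * s⁻¹ = X (F4.fr a) := by rw [hsi]; exact hmu.conjX
  have hsY : ∀ a, s * Y a * s⁻¹ = Y (F4.fr a) := by rw [hsi]; exact hmu.conjY
  have hsZ : ∀ a, s * Z a * s⁻¹ = Z (F4.fr a) := by rw [hsi]; exact hmu.conjZ
  have hsP : ∀ p ∈ P, s * p * s⁻¹ ∈ P := by
    intro p hp
    obtain ⟨b, a, c, rfl⟩ := F.P_surj p hp
    rw [conj_mul', conj_mul', hsX, hsY, hsZ]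
    exact mem_P F _ _ _ D
  have hsE : s ∈ N (R ⊔ V) := by
    refine Base.mem_NE h (fun r hr => ?_) (fun r hr => ?_)
    · obtain ⟨a, rfl⟩ := F.X_surj r hr
      rw [hsX]; exact F.X_mem _
    · obtain ⟨a, rfl⟩ := F.Z_surj r hr
      rw [hsZ]; exact F.Z_mem _
  have hsN : s ∈ N P := mem_N_of hsP
  have hsNm : Nm D F s := by
    refine ⟨hsP, fun v hv => ?_, fun e he => conj_mem hsE he, ?_⟩
    · obtain ⟨c, rfl⟩ := F.Z_surj v hv
      rw [hsZ]; exact F.Z_mem _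
    · rintro _ ⟨b, c, rfl⟩
      exact ⟨F4.fr b, F4.fr c, by rw [conj_mul', hsY, hsZ]⟩
  have hPle : P ≤ PS P s hsP hmu.sq := fun p hp => Or.inl hp
  have hsmem : s ∈ PS P s hsP hmu.sq := Or.inr (by rw [hmu.sq]; exact one_mem _)
  have hSN : PS P s hsP hmu.sq ≤ N P := by
    rintro x (hx | hx)
    · exact le_N hx
    · rw [show x = (x * s) * s⁻¹ by group]
      exact mul_mem (le_N hx) (Subgroup.inv_mem _ hsN)
  have hSE : PS P s hsP hmu.sq ≤ N (R ⊔ V) := by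
    rintro x (hx | hx)
    · exact P_N hP hx
    · rw [show x = (x * s) * s⁻¹ by group]
      exact mul_mem (P_N hP hx) (Subgroup.inv_mem _ hsE)
  obtain ⟨Q, τ₀, hQ⟩ := exists_Q hP F kt2 h8 (PS_two hP.two hsP hmu.sq) hSN hSE
    (fun Q hQ hSQ hQE => le_antisymm (fun q hq => max_two hP F hmu.mem hsE hsZ Q hQ (hPle.trans hSQ)
      (hSQ hsmem) hQE hq) hSQ)
  obtain ⟨S, hS⟩ := sylow_Q hP F hPle hQ (fun x hx => wcQ_two hP F hsP hmu.sq hsX hsY hsZ hQ hx)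
  have hsQ : s ∈ Q := hQ.le hsmem
  -- a linear swap
  obtain ⟨τ₁, f, l, hτ₁Q, hτ₁S, hτ₁⟩ : ∃ τ₁ f l, τ₁ ∈ Q ∧ Sw D F τ₁ ∧ ActSw X Y Z τ₁ f l id := by
    obtain ⟨f, l, σ, hτ₀⟩ := actSw D F hQ.sw h
    rcases hτ₀.aut.eq with rfl | rfl
    · exact ⟨τ₀, f, l, hQ.mem, hQ.sw, hτ₀⟩
    · refine ⟨s * τ₀, F4.fr f, F4.fr l, mul_mem hsQ hQ.mem, Sw.Nm_mul hsNm hQ.sw, ?_⟩
      have hne : ∀ x : F4, x ≠ 0 → F4.fr x ≠ 0 := by decide
      refine ⟨⟨Or.inl rfl⟩, hne f hτ₀.f0, hne l hτ₀.l0, fun a => ?_, fun a => ?_, fun a => ?_⟩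
      · obtain ⟨c, hc⟩ := hτ₀.onX a
        refine ⟨F4.fr c, ?_⟩
        rw [show s * τ₀ * X a * (s * τ₀)⁻¹ = s * (τ₀ * X a * τ₀⁻¹) * s⁻¹ by group, hc, conj_mul', hsY, hsZ,
          F4.fr_mul, F4.fr_fr]
        rfl
      · obtain ⟨c, hc⟩ := hτ₀.onY a
        refine ⟨F4.fr c, ?_⟩
        rw [show s * τ₀ * Y a * (s * τ₀)⁻¹ = s * (τ₀ * Y a * τ₀⁻¹) * s⁻¹ by group, hc, conj_mul', hsX, hsZ,
          F4.fr_mul, F4.fr_fr]
        rfl
      · rw [show s * τ₀ * Z a * (s * τ₀)⁻¹ = s * (τ₀ * Z a * τ₀⁻¹) * s⁻¹ by group, hτ₀.onZ, hsZ,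
          F4.fr_mul, F4.fr_mul, F4.fr_fr]
        rfl
  obtain ⟨q, hq, z, hz, hcg⟩ := adjust hP F K hτ₁
  have hz1 : z = ρ⁻¹ * ρ₀ := by
    rcases hz with ⟨-, e⟩ | ⟨e, -⟩
    · exact e
    · exact absurd (congrFun e F4.w) (by decide)
  subst hz1
  have hτ := hτ₁.mulP D F hq
  have hsw : Sw D F (q * τ₁) := Sw.Nm_mul (P_Nm hP F hq) hτ₁S
  have hτQ : q * τ₁ ∈ Q := mul_mem (hQ.le (hPle hq)) hτ₁Q
  obtain ⟨τ, hτe⟩ : ∃ τ, τ = q * τ₁ := ⟨_, rfl⟩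
  rw [← hτe] at hτ hsw hτQ hcg
  have hfl0 : f * l ≠ 0 := by
    have : ∀ f l : F4, f ≠ 0 → l ≠ 0 → f * l ≠ 0 := by decide
    exact this f l hτ.f0 hτ.l0
  -- `x s ∈ P` implies that `x` acts semilinearly
  have hsemi : ∀ x, x * s ∈ P → ∀ c, x * Z c * x⁻¹ = Z (F4.fr c) := by
    intro x hx c
    have h1 := D.cent _ hx _ (F.Z_mem (F4.fr c))
    have h2 := hsZ (F4.fr c)
    rw [F4.fr_fr] at h2
    calc x * Z c * x⁻¹ = x * (s * Z (F4.fr c) * s⁻¹) * x⁻¹ := by rw [h2]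
      _ = (x * s) * Z (F4.fr c) * (x * s)⁻¹ := by group
      _ = _ := by rw [h1]; group
  have hττ : τ * τ ∈ P := by
    have h1 := hQ.inf _ (mul_mem hτQ hτQ) (hsw.mul hsw).NE
    rcases mem_PS.1 h1 with h2 | h2
    · exact h2
    · exfalso
      have h3 := hsemi _ h2 F4.e
      have h4 := hsemi _ h2 F4.w
      rw [show τ * τ * Z F4.e * (τ * τ)⁻¹ = τ * (τ * Z F4.e * τ⁻¹) * τ⁻¹ by group, hτ.onZ, hτ.onZ] at h3
      rw [show τ * τ * Z F4.w * (τ * τ)⁻¹ = τ * (τ * Z F4.w * τ⁻¹) * τ⁻¹ by group, hτ.onZ, hτ.onZ] at h4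
      have h5 := F.Z_inj h3
      have h6 := F.Z_inj h4
      have : ∀ m : F4, m * id (m * id F4.e) = F4.fr F4.e → m * id (m * id F4.w) = F4.fr F4.w → False := by
        decide
      exact this _ h5 h6
  obtain ⟨h1, h2, h3, h4, h5⟩ := exact_form hP F K hτ (hQ.leN hτQ) (Or.inl rfl) hcg hττ
  have hτi : τ⁻¹ = τ := inv_eq_of_mul_eq_one_left h1
  have hζN := zt_NP hP F K
  -- `s ζ s⁻¹ ~ ζ⁻¹`
  have hsζ : Cg R V (s * (ρ⁻¹ * ρ₀) * s⁻¹) (ρ⁻¹ * ρ₀)⁻¹ := by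
    obtain ⟨d, hd, e⟩ := hsρ
    have e1 : s * ρ * s⁻¹ = ρ⁻¹ := by rw [hsi]; exact hmu.conjρ
    have hc := comm_rho (h := h) K
    have e2 : ρ * ρ₀⁻¹ = (ρ⁻¹ * ρ₀)⁻¹ := by
      calc ρ * ρ₀⁻¹ = ρ₀⁻¹ * (ρ₀ * ρ) * ρ₀⁻¹ := by group
        _ = (ρ⁻¹ * ρ₀)⁻¹ := by rw [← hc]; group
    refine ⟨(ρ⁻¹ * ρ₀)⁻¹ * d * (ρ⁻¹ * ρ₀)⁻¹⁻¹, DD_conj hP (Subgroup.inv_mem _ hζN) (Od_DD hd), ?_⟩
    calc s * (ρ⁻¹ * ρ₀) * s⁻¹ = (s * ρ * s⁻¹)⁻¹ * (s * ρ₀ * s⁻¹) := by group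
      _ = ρ * ρ₀⁻¹ * d := by rw [e, e1]; group
      _ = (ρ⁻¹ * ρ₀)⁻¹ * d := by rw [e2]
      _ = _ := by group
  -- `s` and `τ` commute
  have hcomm : s * τ = τ * s := by
    have hst : Sw D F (s * τ) := Sw.Nm_mul hsNm hsw
    have hstQ : s * τ ∈ Q := mul_mem hsQ hτQ
    have hcP : s * τ * (s * τ) ∈ P := by
      have h6 := hQ.inf _ (mul_mem hstQ hstQ) (hst.mul hst).NE
      rcases mem_PS.1 h6 with h7 | h7
      · exact h7
      · exfalso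
        have hact : ∀ c, (s * τ) * Z c * (s * τ)⁻¹ = Z (F4.fr (f * l * id c)) := by
          intro c
          rw [show (s * τ) * Z c * (s * τ)⁻¹ = s * (τ * Z c * τ⁻¹) * s⁻¹ by group, hτ.onZ, hsZ]
        have h8 := hsemi _ h7 F4.e
        have h9 := hsemi _ h7 F4.w
        rw [show s * τ * (s * τ) * Z F4.e * (s * τ * (s * τ))⁻¹ =
          (s * τ) * ((s * τ) * Z F4.e * (s * τ)⁻¹) * (s * τ)⁻¹ by group, hact, hact] at h8
        rw [show s * τ * (s * τ) * Z F4.w * (s * τ * (s * τ))⁻¹ =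
          (s * τ) * ((s * τ) * Z F4.w * (s * τ)⁻¹) * (s * τ)⁻¹ by group, hact, hact] at h9
        have h10 := F.Z_inj h8
        have h11 := F.Z_inj h9
        have : ∀ m : F4, F4.fr (m * id (F4.fr (m * id F4.e))) = F4.fr F4.e →
            F4.fr (m * id (F4.fr (m * id F4.w))) = F4.fr F4.w → False := by decide
        exact this _ h10 h11
    have hstN : s * τ ∈ N P := hQ.leN hstQ
    have c1 : Cg R V ((s * τ) * (ρ⁻¹ * ρ₀) * (s * τ)⁻¹) (ρ⁻¹ * ρ₀)⁻¹ := by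
      have := (hcg.conj hP hsN).trans hsζ
      rwa [show s * (τ * (ρ⁻¹ * ρ₀) * τ⁻¹) * s⁻¹ = (s * τ) * (ρ⁻¹ * ρ₀) * (s * τ)⁻¹ by group] at this
    have c2 := c1.conj_inv hP hstN (Subgroup.inv_mem _ hζN)
    rw [inv_inv] at c2
    have c3 := (c1.conj hP hstN).trans c2
    rw [show (s * τ) * ((s * τ) * (ρ⁻¹ * ρ₀) * (s * τ)⁻¹) * (s * τ)⁻¹ =
      (s * τ * (s * τ)) * (ρ⁻¹ * ρ₀) * (s * τ * (s * τ))⁻¹ by group] at c3
    have c4 := fix_one hP F K hcP hζN c3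
    calc s * τ = (s * τ * (s * τ)) * (τ⁻¹ * s⁻¹) := by group
      _ = τ * s := by rw [c4, hτi, hsi, one_mul]
  -- `f = l = 1`
  have hf1 : f = 1 := by
    have h6 := h3 1
    have h7 : s * (τ * X 1 * τ) * s⁻¹ = τ * X 1 * τ := by
      have e1 : s * X 1 * s⁻¹ = X 1 := hsX 1
      calc s * (τ * X 1 * τ) * s⁻¹ = (s * τ) * X 1 * (τ * s) := by rw [hsi]; group
        _ = (τ * s) * X 1 * (s * τ) := by rw [hcomm]
        _ = τ * (s * X 1 * s⁻¹) * (s * s) * τ := by group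
        _ = τ * X 1 * τ := by rw [e1, hmu.sq]; group
    rw [h6, hsY] at h7
    have h8 : Y (F4.fr (f * id 1)) * Z 0 = Y (f * id 1) * Z 0 := by rw [h7]
    have h9 := (E2_inj D F h8).1
    have : ∀ f : F4, f ≠ 0 → F4.fr (f * id 1) = f * id 1 → f = 1 := by decide
    exact this f hτ.f0 h9
  have hl1 : l = 1 := by
    rw [hf1] at h2
    exact (mul_one l).symm.trans h2
  subst hf1 hl1
  refine ⟨τ, S, { mu2 := hmu, sq := h1, comm := hcomm, conjX := fun a => ?_, conjY := fun a => ?_,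
                  conjZ := fun a => ?_, mem := fun x => ?_ }⟩
  · rw [h3, one_mul]; rfl
  · rw [h4, one_mul]; rfl
  · rw [h5, one_mul, one_mul]; rfl
  · rw [hS]
    constructor
    · intro hx
      rcases hQ.cases' x hx with h6 | h6
      · rcases mem_PS.1 h6 with h7 | h7
        · exact Or.inl h7
        · exact Or.inr (Or.inl h7)
      · have h7 := hQ.inf _ (mul_mem hx hτQ) (h6.mul hsw).NE
        rcases mem_PS.1 h7 with h8 | h8
        · exact Or.inr (Or.inr (Or.inl h8))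
        · right; right; right
          rw [hcomm, ← mul_assoc]
          exact h8
    · rintro (hx | hx | hx | hx)
      · exact hQ.le (hPle hx)
      · rw [show x = (x * s) * s⁻¹ by group]
        exact mul_mem (hQ.le (hPle hx)) (Subgroup.inv_mem _ hsQ)
      · rw [show x = (x * τ) * τ⁻¹ by group]
        exact mul_mem (hQ.le (hPle hx)) (Subgroup.inv_mem _ hτQ)
      · rw [show x = (x * (s * τ)) * (s * τ)⁻¹ by group]
        exact mul_mem (hQ.le (hPle hx)) (Subgroup.inv_mem _ (mul_mem hsQ hτQ))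

end Cfsg.Agent.StdAlt.Five.SwapE
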