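import Cfsg.Agent.StdAlt.Five.MuNorm

/-!
# S1766, n = 5, case (I): the Sylow 2-subgroup of `N(E)`, weakly closed case
-/

set_option autoImplicit false

namespace Cfsg.Agent.StdAlt.Five.SylA

open Subgroup Cfsg.Agent.StdAlt.Conj Cfsg.Agent.J2Sylow.Model Cfsg.Agent.StdAlt.Five
open Cfsg.Agent.StdAlt.Five.Sec4 Cfsg.Agent.StdAlt.Five.PGroup Cfsg.Agent.StdAlt.Five.PExists
open Cfsg.Agent.StdAlt.Five.PData Cfsg.Agent.StdAlt.Five.Coord Cfsg.Agent.StdAlt.Five.Moves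
open Cfsg.Agent.StdAlt.Five.Mu

variable {G : Type*} [Group G] {A R V P : Subgroup G} {ρ g s : G} {ε : F4} {X Y Z : F4 → G}

/-! ### coordinates -/

section
variable (D : Data R V P ρ) (F : Frame R V P ρ ε X Y Z)
include D F

theorem P_mul (b a c b' a' c' : F4) : (Y b * X a * Z c) * (Y b' * X a' * Z c') =
    Y (b + b') * X (a + a') * Z (ε * F4.fr (b * b') + a * b' + (c + c')) := by
  have h1 := ZY D F c b'
  have h2 := ZX D F c a'
  have h3 := F.X_Y a b'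
  have h4 := ZX D F (a * b') a'
  have h5 := F.Y_mul b b'
  have h6 := ZX D F (ε * F4.fr (b * b')) (a + a')
  calc (Y b * X a * Z c) * (Y b' * X a' * Z c') = Y b * X a * (Z c * Y b') * X a' * Z c' := by group
    _ = Y b * (X a * Y b') * (Z c * X a') * Z c' := by rw [h1]; group
    _ = Y b * Y b' * X a * (Z (a * b') * X a') * Z c * Z c' := by rw [h2, h3]; group
    _ = (Y b * Y b') * (X a * X a') * Z (a * b') * (Z c * Z c') := by rw [h4]; group
    _ = Y (b + b') * (Z (ε * F4.fr (b * b')) * X (a + a')) * Z (a * b') * (Z c * Z c') := by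
        rw [h5, ← F.X_add]; group
    _ = _ := by rw [h6, F.Z_add, F.Z_add, F.Z_add]; group

theorem sq_coord (b a c : F4) : (Y b * X a * Z c) * (Y b * X a * Z c) = Z ((ε + a) * b) := by
  rw [P_mul D F, F4.add_self, F4.add_self, F4.add_self, F.Y_zero, F.X_zero, one_mul, one_mul, add_zero]
  congr 1
  have : ∀ ε a b : F4, ε * F4.fr (b * b) + a * b = (ε + a) * b := by decide
  exact this ε a b

omit D in
theorem mem_P (b a c : F4) (D : Data R V P ρ) : Y b * X a * Z c ∈ P :=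
  P.mul_mem (P.mul_mem (F.Y_mem b) (D.R_le (F.X_mem a))) (D.B_le (F.Z_mem c))

/-- `Y b X a Z c` is an involution or trivial iff `b = 0` or `a = ε` -/
theorem inv_coord {b a c : F4} (h : (Y b * X a * Z c) * (Y b * X a * Z c) = 1) : b = 0 ∨ a = ε := by
  rw [sq_coord D F, ← F.Z_zero] at h
  have h1 := F.Z_inj h
  have : ∀ ε a b : F4, (ε + a) * b = 0 → b = 0 ∨ a = ε := by decide
  exact this ε a b h1

theorem comm_coord {b a c a' c' : F4}
    (h : (Y b * X a * Z c) * (X a' * Z c') = (X a' * Z c') * (Y b * X a * Z c)) : a' * b = 0 := by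
  have h1 : X a' * Z c' = Y 0 * X a' * Z c' := by rw [F.Y_zero, one_mul]
  rw [h1, P_mul D F, P_mul D F] at h
  obtain ⟨-, -, h2⟩ := F.inj _ _ _ _ _ _ h
  have : ∀ ε a b c a' c' : F4, ε * F4.fr (b * 0) + a * 0 + (c + c') = ε * F4.fr (0 * b) + a' * b + (c' + c) →
      a' * b = 0 := by
    intro ε a b c a' c' e
    have e1 : F4.fr 0 = 0 := rfl
    rw [mul_zero, zero_mul, mul_zero, e1, mul_zero, zero_add, zero_add, zero_add, add_comm c c'] at e
    have e2 : (c' + c) + (c' + c) = 0 := F4.add_self _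
    calc a' * b = a' * b + ((c' + c) + (c' + c)) := by rw [e2, add_zero]
      _ = (a' * b + (c' + c)) + (c' + c) := by ring
      _ = 0 := by rw [← e, F4.add_self]
  exact this _ _ _ _ _ _ h2

/-- elements of `E` -/
theorem mem_E_iff (h : OddE A R V ρ g) {b a c : F4} : Y b * X a * Z c ∈ R ⊔ V ↔ b = 0 := by
  constructor
  · intro hx
    obtain ⟨r, hr, v, hv, e⟩ := (mem_E h).1 hx
    obtain ⟨a', rfl⟩ := F.X_surj r hr
    obtain ⟨c', rfl⟩ := F.Z_surj v hv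
    rw [show X a' * Z c' = Y 0 * X a' * Z c' by rw [F.Y_zero, one_mul]] at e
    exact (F.inj _ _ _ _ _ _ e).1
  · rintro rfl
    rw [F.Y_zero, one_mul]
    exact mul_mem (mem_sup_left (F.X_mem _)) (mem_sup_right (F.Z_mem _))

end

/-! ### 2-subgroups of `N(E)` containing `P` -/

/-- 2-elements of `N A ∩ N(E)` centralizing `V` lie in `E` -/
theorem two_cent [Finite G] (h : OddE A R V ρ g) {x : G} (hx : x ∈ N A) (hxE : x ∈ N (R ⊔ V))
    (hc : ∀ v ∈ V, x * v = v * x) (h2 : ∃ k : ℕ, x ^ (2 ^ k) = 1) : x ∈ R ⊔ V := by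
  obtain ⟨v, hv, hxv⟩ := h.CV x hx hc
  have h1 : x * v ∈ R := by
    refine mem_R_of_two h hxv (fun r hr => ?_) ?_
    · have h3 := comm_RV h hr hv
      rw [show x * v * r * (x * v)⁻¹ = x * (v * r) * v⁻¹ * x⁻¹ by group, ← h3,
        show x * (r * v) * v⁻¹ * x⁻¹ = x * r * x⁻¹ by group]
      exact PGroup.normR h hxE hx hr
    · obtain ⟨k, hk⟩ := h2
      refine ⟨k + 1, ?_⟩
      rw [(show Commute x v from hc v hv).mul_pow, pow_succ, pow_mul, hk, one_pow, one_mul,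
        mul_comm, pow_mul, pow_two, h.sqV v hv, one_pow]
  rw [show x = (x * v) * v⁻¹ by group]
  exact mul_mem (mem_sup_left h1) (mem_sup_right (inv_mem hv))

/-- an element of `A` normalizing `V` acts linearly on `V` -/
theorem no_semi [Finite G] (h : OddE A R V ρ g) (F : Frame R V P ρ ε X Y Z) (h8 : ¬ 8 ∣ Nat.card A)
    {a : G} (ha : a ∈ A) {hh : F4} (hh0 : hh ≠ 0) (hc : ∀ c, a * Z c * a⁻¹ = Z (hh * F4.fr c)) : False := by
  have hcV : ∀ v ∈ V, (a * a) * v = v * (a * a) := by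
    intro v hv
    obtain ⟨c, rfl⟩ := F.Z_surj v hv
    have : (a * a) * Z c * (a * a)⁻¹ = Z c := by
      rw [show (a * a) * Z c * (a * a)⁻¹ = a * (a * Z c * a⁻¹) * a⁻¹ by group, hc, hc]
      congr 1
      have : ∀ hh c : F4, hh ≠ 0 → hh * F4.fr (hh * F4.fr c) = c := by decide
      exact this hh c hh0
    calc (a * a) * Z c = ((a * a) * Z c * (a * a)⁻¹) * (a * a) := by group
      _ = _ := by rw [this]
  obtain ⟨y, b, hy, hb, hab, hy2, hbo⟩ := exists_two_odd a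
  have hbV : ∀ v ∈ V, b * v = v * b := by
    obtain ⟨n, hn⟩ := hb
    have hn' : a ^ n = b := hn
    intro v hv
    have h1 : Commute (b * b) v := by
      rw [← hn', ← (Commute.refl a).mul_zpow]
      exact (show Commute (a * a) v from hcV v hv).zpow_left n
    obtain ⟨m, hm⟩ := hbo
    have h2 : b = (b * b) ^ (m + 1) := by
      have h3 := pow_orderOf_eq_one b
      rw [hm] at h3
      calc b = b * b ^ (2 * m + 1) := by rw [h3, mul_one]
        _ = b ^ (2 * (m + 1)) := by rw [← pow_succ']; congr 1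
        _ = (b * b) ^ (m + 1) := by rw [pow_mul, pow_two]
    rw [h2]
    exact (h1.pow_left (m + 1)).eq
  have hyA : y ∈ A := (zpowers_le.2 ha) hy
  have hyc : ∀ c, y * Z c * y⁻¹ = Z (hh * F4.fr c) := by
    intro c
    have h1 := hbV _ (F.Z_mem c)
    have h2 := hc c
    rw [hab] at h2
    rw [← h2]
    calc y * Z c * y⁻¹ = y * (Z c * b) * b⁻¹ * y⁻¹ := by group
      _ = y * b * Z c * (y * b)⁻¹ := by rw [← h1]; group
  have hyV : ∀ v ∈ V, y * v * y⁻¹ ∈ V := by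
    intro v hv
    obtain ⟨c, rfl⟩ := F.Z_surj v hv
    rw [hyc]; exact F.Z_mem _
  have hZ : IsPGroup 2 (zpowers y) := by
    obtain ⟨k, hk⟩ := hy2
    have h1 : Nat.card (zpowers y) ∣ 2 ^ k := by
      rw [Nat.card_zpowers]; exact orderOf_dvd_of_pow_eq_one hk
    obtain ⟨m, -, hm⟩ := (Nat.dvd_prime_pow Nat.prime_two).1 h1
    exact IsPGroup.of_card hm
  have hyN : zpowers y ≤ N V := by
    rw [zpowers_le]
    exact mem_N_of hyV
  have hsup : IsPGroup 2 ((zpowers y) ⊔ V : Subgroup G) := hZ.to_sup_of_normal_right' (pgroup_V h) hyN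
  have h3 := V_max h h8 _ hsup le_sup_right (sup_le (by rw [zpowers_le]; exact hyA) h.V_le)
  have hy : y ∈ V := by
    rw [← h3]; exact mem_sup_left (mem_zpowers y)
  have h4 := hyc F4.w
  rw [commV h hy (F.Z_mem _)] at h4
  have h5 := hyc F4.e
  rw [commV h hy (F.Z_mem _)] at h5
  have h6 : F4.w = hh * F4.fr F4.w := F.Z_inj (by rw [← h4]; group)
  have h7 : F4.e = hh * F4.fr F4.e := F.Z_inj (by rw [← h5]; group)
  have : ∀ hh : F4, F4.w = hh * F4.fr F4.w → F4.e = hh * F4.fr F4.e → False := by decide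
  exact this hh h6 h7

/-- elements of `AC A` act linearly on `V` -/
theorem no_semi' [Finite G] (h : OddE A R V ρ g) (F : Frame R V P ρ ε X Y Z) (h8 : ¬ 8 ∣ Nat.card A)
    {a : G} (ha : a ∈ AC A) {hh : F4} (hh0 : hh ≠ 0) (hc : ∀ c, a * Z c * a⁻¹ = Z (hh * F4.fr c)) :
    False := by
  obtain ⟨a, ha, k, hk, rfl⟩ := ha
  refine no_semi h F h8 ha hh0 (fun c => ?_)
  rw [← hc]
  have h1 := Base.CA_V h hk (F.Z_mem c)
  calc a * Z c * a⁻¹ = a * (k * Z c * k⁻¹) * a⁻¹ := by rw [h1]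
    _ = _ := by group

theorem pow_of_two {Q : Subgroup G} (hQ : IsPGroup 2 Q) {x : G} (hx : x ∈ Q) : ∃ k : ℕ, x ^ (2 ^ k) = 1 := by
  obtain ⟨k, hk⟩ := hQ ⟨x, hx⟩
  exact ⟨k, congrArg Subtype.val hk⟩

/-- `μ = 1`: `P` is a maximal 2-subgroup of `N(E)` -/
theorem max_one [Finite G] {h : OddE A R V ρ g} (hP : IsP h P) (F : Frame R V P ρ ε X Y Z)
    (h8 : ¬ 8 ∣ Nat.card A) (hmu : Mu1 A) (Q : Subgroup G) (hQ : IsPGroup 2 Q) (hPQ : P ≤ Q)
    (hQE : Q ≤ N (R ⊔ V)) : Q = P := by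
  refine le_antisymm (fun q hq => ?_) hPQ
  obtain ⟨p, hp, m, hm, hmE, rfl⟩ := PData.fact hP (hQE hq)
  have hmQ : m ∈ Q := by
    rw [show m = p⁻¹ * (p * m) by group]
    exact mul_mem (inv_mem (hPQ hp)) hq
  refine mul_mem hp (E_le hP ?_)
  refine two_cent h hm hmE ?_ (pow_of_two hQ hmQ)
  obtain ⟨hh, hh0, hc | hc⟩ := act_V F (fun v hv => PGroup.normV h hmE hv)
  · exact lin_two F hh0 hc (pow_of_two hQ hmQ)
  · exact absurd hc (fun hc => no_semi' h F h8 (mu1_iff.1 hmu m hm) hh0 hc)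

/-- `μ = 2`: `P ∪ P s` is a maximal 2-subgroup of `N(E)` -/
theorem max_two [Finite G] {h : OddE A R V ρ g} (hP : IsP h P) (F : Frame R V P ρ ε X Y Z)
    (hs : s ∈ N A) (hsE : s ∈ N (R ⊔ V)) (hsZ : ∀ c, s * Z c * s⁻¹ = Z (F4.fr c))
    (Q : Subgroup G) (hQ : IsPGroup 2 Q) (hPQ : P ≤ Q)
    (hsQ : s ∈ Q) (hQE : Q ≤ N (R ⊔ V)) {q : G} (hq : q ∈ Q) : q ∈ P ∨ q * s ∈ P := by
  obtain ⟨p, hp, m, hm, hmE, rfl⟩ := PData.fact hP (hQE hq)
  have hmQ : m ∈ Q := by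
    rw [show m = p⁻¹ * (p * m) by group]
    exact mul_mem (inv_mem (hPQ hp)) hq
  obtain ⟨hh, hh0, hc | hc⟩ := act_V F (fun v hv => PGroup.normV h hmE hv)
  · left
    refine mul_mem hp (E_le hP ?_)
    exact two_cent h hm hmE (lin_two F hh0 hc (pow_of_two hQ hmQ)) (pow_of_two hQ hmQ)
  · right
    rw [mul_assoc]
    refine mul_mem hp (E_le hP ?_)
    have h2 := pow_of_two hQ (mul_mem hmQ hsQ)
    refine two_cent h (mul_mem hm hs) (mul_mem hmE hsE) (lin_two F hh0 (fun c => ?_) h2) h2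
    rw [show m * s * Z c * (m * s)⁻¹ = m * (s * Z c * s⁻¹) * m⁻¹ by group, hsZ, hc, F4.fr_fr]

/-- `N A = AC A ∪ AC A s` -/
theorem index_two [Finite G] (h : OddE A R V ρ g) (F : Frame R V P ρ ε X Y Z)
    (h8 : ¬ 8 ∣ Nat.card A) (hs : s ∈ N A) (hsZ : ∀ c, s * Z c * s⁻¹ = Z (F4.fr c))
    {m : G} (hm : m ∈ N A) : m ∈ AC A ∨ m * s ∈ AC A := by
  by_cases hmA : m ∈ AC A
  · exact Or.inl hmA
  right
  obtain ⟨a, ha, hV, hρ⟩ := exists_inv h F h8 hm hmA
  obtain ⟨t, ht⟩ : ∃ t, t = a * m := ⟨_, rfl⟩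
  rw [← ht] at hV hρ
  have htN : t ∈ N A := by rw [ht]; exact mul_mem (le_N ha) hm
  obtain ⟨hh, hh0, hc⟩ : ∃ hh : F4, hh ≠ 0 ∧ ∀ c, t * s * Z c * (t * s)⁻¹ = Z (hh * c) := by
    obtain ⟨hh, hh0, hc | hc⟩ := act_V F hV
    · exfalso
      -- linear action contradicts `hρ`
      have h1 : t * (ρ * Z F4.e * ρ⁻¹) * t⁻¹ = ρ⁻¹ * (t * Z F4.e * t⁻¹) * ρ := by
        calc t * (ρ * Z F4.e * ρ⁻¹) * t⁻¹ = (t * ρ * t⁻¹) * (t * Z F4.e * t⁻¹) * (t * ρ * t⁻¹)⁻¹ := by group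
          _ = _ := by rw [hρ]; group
      rw [F.ρZ, hc, hc] at h1
      have h2 : ρ * (ρ⁻¹ * Z (hh * F4.e) * ρ) * ρ⁻¹ = Z (F4.w * (hh * (F4.w * F4.e))) := by
        rw [← h1, F.ρZ]
      have h3 : Z (hh * F4.e) = Z (F4.w * (hh * (F4.w * F4.e))) := by rw [← h2]; group
      have h4 := F.Z_inj h3
      have : ∀ hh : F4, hh ≠ 0 → hh * F4.e ≠ F4.w * (hh * (F4.w * F4.e)) := by decide
      exact this hh hh0 h4
    · refine ⟨hh, hh0, fun c => ?_⟩
      rw [show t * s * Z c * (t * s)⁻¹ = t * (s * Z c * s⁻¹) * t⁻¹ by group, hsZ, hc, F4.fr_fr]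
  -- a power of `ρ`
  obtain ⟨σ, hσA, hσ⟩ : ∃ σ ∈ A, ∀ c, σ * Z (hh * c) * σ⁻¹ = Z c := by
    have hρ := F.ρZ
    have : hh = F4.e ∨ hh = F4.w ∨ hh = F4.u := by
      revert hh0
      cases hh
      · intro h; exact absurd rfl h
      · intro _; exact Or.inl rfl
      · intro _; exact Or.inr (Or.inl rfl)
      · intro _; exact Or.inr (Or.inr rfl)
    rcases this with rfl | rfl | rfl
    · exact ⟨1, one_mem _, fun c => by rw [show F4.e * c = c from one_mul c]; group⟩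
    · refine ⟨ρ * ρ, mul_mem h.ρ_mem h.ρ_mem, fun c => ?_⟩
      rw [show ρ * ρ * Z (F4.w * c) * (ρ * ρ)⁻¹ = ρ * (ρ * Z (F4.w * c) * ρ⁻¹) * ρ⁻¹ by group, hρ, hρ]
      congr 1
      have : ∀ c : F4, F4.w * (F4.w * (F4.w * c)) = c := by decide
      exact this c
    · refine ⟨ρ, h.ρ_mem, fun c => ?_⟩
      rw [hρ]
      congr 1
      have : ∀ c : F4, F4.w * (F4.u * c) = c := by decide
      exact this c
  have hc2 : ∀ v ∈ V, (σ * (t * s)) * v = v * (σ * (t * s)) := by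
    intro v hv
    obtain ⟨c, rfl⟩ := F.Z_surj v hv
    have : (σ * (t * s)) * Z c * (σ * (t * s))⁻¹ = Z c := by
      rw [show (σ * (t * s)) * Z c * (σ * (t * s))⁻¹ = σ * (t * s * Z c * (t * s)⁻¹) * σ⁻¹ by group, hc, hσ]
    calc (σ * (t * s)) * Z c = ((σ * (t * s)) * Z c * (σ * (t * s))⁻¹) * (σ * (t * s)) := by group
      _ = Z c * (σ * (t * s)) := by rw [this]
  have h1 := AC_of_CV h (mul_mem (le_N hσA) (mul_mem htN hs)) hc2
  rw [show m * s = a⁻¹ * (σ⁻¹ * (σ * (t * s))) by rw [ht]; group]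
  exact mul_mem (A_le_AC (inv_mem ha)) (mul_mem (A_le_AC (inv_mem hσA)) h1)

/-- `P ∪ P s` -/
def PS (P : Subgroup G) (s : G) (hs : ∀ p ∈ P, s * p * s⁻¹ ∈ P) (hss : s * s = 1) : Subgroup G where
  carrier := {x | x ∈ P ∨ x * s ∈ P}
  mul_mem' := by
    have hsi : s⁻¹ = s := inv_eq_of_mul_eq_one_left hss
    rintro x y (hx | hx) (hy | hy)
    · exact Or.inl (mul_mem hx hy)
    · right
      show x * y * s ∈ P
      rw [mul_assoc]
      exact mul_mem hx hy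
    · right
      show x * y * s ∈ P
      have h1 := hs y hy
      rw [show x * y * s = (x * s) * (s⁻¹ * y * s) by group, hsi]
      rw [hsi] at h1
      exact mul_mem hx h1
    · left
      show x * y ∈ P
      have h1 := hs _ hy
      rw [show x * y = (x * s) * (s⁻¹ * (y * s) * s⁻¹) by group, hsi]
      rw [hsi] at h1
      exact mul_mem hx h1
  one_mem' := Or.inl (one_mem _)
  inv_mem' := by
    have hsi : s⁻¹ = s := inv_eq_of_mul_eq_one_left hss
    rintro x (hx | hx)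
    · exact Or.inl (inv_mem hx)
    · right
      show x⁻¹ * s ∈ P
      have h1 := hs _ (inv_mem hx)
      rw [show x⁻¹ * s = s * (x * s)⁻¹ * s by group]
      rw [hsi] at h1
      exact h1

theorem mem_PS {hs : ∀ p ∈ P, s * p * s⁻¹ ∈ P} {hss : s * s = 1} {x : G} :
    x ∈ PS P s hs hss ↔ x ∈ P ∨ x * s ∈ P := Iff.rfl

theorem PS_two (hP2 : IsPGroup 2 P) (hs : ∀ p ∈ P, s * p * s⁻¹ ∈ P) (hss : s * s = 1) :
    IsPGroup 2 (PS P s hs hss) := by
  have hsi : s⁻¹ = s := inv_eq_of_mul_eq_one_left hss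
  rintro ⟨x, hx⟩
  have hxx : x * x ∈ P := by
    rcases hx with hx | hx
    · exact mul_mem hx hx
    · have h1 := hs _ hx
      rw [show x * x = (x * s) * (s⁻¹ * (x * s) * s⁻¹) by group, hsi]
      rw [hsi] at h1
      exact mul_mem hx h1
  obtain ⟨k, hk⟩ := pow_of_two hP2 hxx
  refine ⟨k + 1, Subtype.ext ?_⟩
  show x ^ (2 ^ (k + 1)) = 1
  rw [pow_succ, mul_comm, pow_mul, pow_two, hk]

/-! ### weak closure -/

/-- an abstract criterion for a Sylow subgroup -/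
theorem exists_sylow [Finite G] (E S₀ : Subgroup G) (hS : IsPGroup 2 S₀) (hE : E ≤ S₀)
    (hwc : ∀ x : G, (∀ e ∈ E, x * e * x⁻¹ ∈ S₀) → x ∈ N E)
    (hmax : ∀ Q : Subgroup G, IsPGroup 2 Q → S₀ ≤ Q → Q ≤ N E → Q = S₀) (hS₀ : S₀ ≤ N E) :
    ∃ S : Sylow 2 G, (S : Subgroup G) = S₀ := by
  obtain ⟨S, hSS⟩ := hS.exists_le_sylow
  refine ⟨S, ?_⟩
  by_contra hne
  obtain ⟨c, hcS, hcn, hc⟩ := Pairs.exists_normalizing (S : Subgroup G) S₀ S.2 hSS (fun e => hne e.symm)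
  have hcE : c ∈ N E := hwc c (fun e he => hc e (hE he))
  have h1 := hmax (S₀ ⊔ zpowers c) (S.2.to_le (sup_le hSS (by rw [zpowers_le]; exact hcS))) le_sup_left
    (sup_le hS₀ (by rw [zpowers_le]; exact hcE))
  apply hcn
  rw [← h1]
  exact mem_sup_right (mem_zpowers c)

/-- weak closure in `P` -/
theorem wc_P [Finite G] {h : OddE A R V ρ g} (hP : IsP h P) (hε : ε = 0 ∨ ε = F4.e)
    (F : Frame R V P ρ ε X Y Z) (nkt : ∀ b c, b ≠ 0 → ¬ KT A (Y b * Z c)) {x : G}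
    (hx : ∀ e ∈ R ⊔ V, x * e * x⁻¹ ∈ P) : x ∈ N (R ⊔ V) := by
  have D := PData.data hP
  refine mem_N_of fun e he => ?_
  obtain ⟨b, a, c, hy⟩ := F.P_surj _ (hx e he)
  rw [hy, mem_E_iff D F h]
  by_contra hb
  -- the elements of `R`
  have key : ∀ t : F4, t ≠ 0 → ∃ b' c', b' ≠ 0 ∧ ε = F4.e ∧ x * X t * x⁻¹ = Y b' * X F4.e * Z c' := by
    intro t ht
    obtain ⟨b', a', c', hy'⟩ := F.P_surj _ (hx _ (mem_sup_left (F.X_mem t)))
    have hKT : KT A (x * X t * x⁻¹) := by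
      refine KT_conj (KT_R h (F.X_mem t) ?_) x
      intro e1
      apply ht
      apply F.X_inj
      rw [e1, F.X_zero]
    by_cases hb' : b' = 0
    · exfalso
      rw [hb', F.Y_zero, one_mul] at hy'
      have h1 : a' * b = 0 := by
        apply comm_coord D F (a := a) (c := c) (c' := c')
        rw [← hy, ← hy']
        have h2 := E_comm h he (mem_sup_left (F.X_mem t))
        calc x * e * x⁻¹ * (x * X t * x⁻¹) = x * (e * X t) * x⁻¹ := by group
          _ = _ := by rw [h2]; group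
      have h2 : a' = 0 := by
        have : ∀ a' b : F4, a' * b = 0 → b ≠ 0 → a' = 0 := by decide
        exact this a' b h1 hb
      rw [h2, F.X_zero, one_mul] at hy'
      apply not_KT h (F.Z_mem c')
      rw [← hy']
      exact hKT
    · have h1 : (x * X t * x⁻¹) * (x * X t * x⁻¹) = 1 := by
        have h2 := h.sqR _ (F.X_mem t)
        calc (x * X t * x⁻¹) * (x * X t * x⁻¹) = x * (X t * X t) * x⁻¹ := by group
          _ = 1 := by rw [h2]; group
      rw [hy'] at h1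
      rcases inv_coord D F h1 with h2 | h2
      · exact absurd h2 hb'
      rcases hε with h3 | h3
      · exfalso
        rw [h2, h3, F.X_zero, mul_one] at hy'
        apply nkt b' c' hb'
        rw [← hy']
        exact hKT
      · exact ⟨b', c', hb', h3, by rw [hy', h2, h3]⟩
  obtain ⟨b1, c1, hb1, -, h1⟩ := key F4.e (by decide)
  obtain ⟨b2, c2, hb2, -, h2⟩ := key F4.w (by decide)
  obtain ⟨b3, c3, hb3, -, h3⟩ := key F4.u (by decide)
  have h4 : x * X F4.u * x⁻¹ = (x * X F4.e * x⁻¹) * (x * X F4.w * x⁻¹) := by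
    rw [← conj_mul', ← F.X_add]; rfl
  rw [h1, h2, h3, P_mul D F] at h4
  have h5 := (F.inj _ _ _ _ _ _ h4).2.1
  exact absurd h5 (by decide)

/-- counting -/
theorem half [Finite G] {H K : Subgroup G} (hHK : H ≤ K)
    (h : ∀ x ∈ K, x ∉ H → ∀ y ∈ K, y ∉ H → x * y ∈ H) : Nat.card K ≤ 2 * Nat.card H := by
  classical
  by_cases hall : ∀ x ∈ K, x ∈ H
  · rw [show K = H from le_antisymm hall hHK]
    omega
  push_neg at hall
  obtain ⟨x, hxK, hxH⟩ := hall
  let f : K → H × Bool := fun y => if hy : (y : G) ∈ H then (⟨y, hy⟩, true)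
    else (⟨x * y, h x hxK hxH y y.2 hy⟩, false)
  have hf : Function.Injective f := by
    intro y z e
    simp only [f] at e
    split_ifs at e with h1 h2 h2
    · have h3 : (⟨y, h1⟩ : H) = ⟨z, h2⟩ := (Prod.mk.inj e).1
      have h4 : (y : G) = z := congrArg (fun t : H => (t : G)) h3
      exact Subtype.ext h4
    · exact absurd (Prod.mk.inj e).2 (by decide)
    · exact absurd (Prod.mk.inj e).2 (by decide)
    · have h3 : x * (y : G) = x * z := congrArg Subtype.val (Prod.mk.inj e).1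
      exact Subtype.ext (mul_left_cancel h3)
  have := Nat.card_le_card_of_injective f hf
  rw [Nat.card_prod] at this
  simp only [Nat.card_eq_fintype_card (α := Bool), Fintype.card_bool] at this
  omega

/-- the number of elements commuting with `t ∉ P` -/
theorem wc_PS [Finite G] {h : OddE A R V ρ g} (hP : IsP h P)
    (F : Frame R V P ρ ε X Y Z) (hsX : ∀ a, s * X a * s⁻¹ = X (F4.fr a))
    (hsY : ∀ a, s * Y a * s⁻¹ = Y (F4.fr a)) (hsZ : ∀ a, s * Z a * s⁻¹ = Z (F4.fr a)) (hss : s * s = 1)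
    {x : G} (hx : ∀ e ∈ R ⊔ V, x * e * x⁻¹ ∈ P ∨ x * e * x⁻¹ * s ∈ P) {e : G} (he : e ∈ R ⊔ V) :
    x * e * x⁻¹ ∈ P := by
  have D := PData.data hP
  by_contra hcon
  have hsP : ∀ p ∈ P, s * p * s⁻¹ ∈ P := by
    intro p hp
    obtain ⟨b, a, c, rfl⟩ := F.P_surj p hp
    rw [conj_mul', conj_mul', hsX, hsY, hsZ]
    exact mem_P F _ _ _ D
  obtain ⟨t, ht⟩ : ∃ t, t = x * e * x⁻¹ := ⟨_, rfl⟩
  rw [← ht] at hcon
  have htP : t * s ∈ P := by
    rcases hx e he with h1 | h1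
    · exact absurd (ht ▸ h1) hcon
    · rw [ht]; exact h1
  obtain ⟨b₀, a₀, c₀, h₀⟩ := F.P_surj _ htP
  have hts : t = Y b₀ * X a₀ * Z c₀ * s := by
    rw [← h₀, mul_assoc, hss, mul_one]
  -- elements of `P` commuting with `t`
  have hcomm : ∀ b a c, t * (Y b * X a * Z c) = (Y b * X a * Z c) * t → F4.fr b = b ∧ F4.fr a = a ∧
      (b = 0 → a = 0 → F4.fr c = c) := by
    intro b a c e1
    have e2 : (Y b₀ * X a₀ * Z c₀) * (Y (F4.fr b) * X (F4.fr a) * Z (F4.fr c)) =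
        (Y b * X a * Z c) * (Y b₀ * X a₀ * Z c₀) := by
      have e3 : s * (Y b * X a * Z c) * s⁻¹ = Y (F4.fr b) * X (F4.fr a) * Z (F4.fr c) := by
        rw [conj_mul', conj_mul', hsX, hsY, hsZ]
      rw [← e3]
      rw [hts] at e1
      calc (Y b₀ * X a₀ * Z c₀) * (s * (Y b * X a * Z c) * s⁻¹)
          = (Y b₀ * X a₀ * Z c₀ * s * (Y b * X a * Z c)) * s⁻¹ := by group
        _ = (Y b * X a * Z c) * (Y b₀ * X a₀ * Z c₀) := by rw [e1]; group
    rw [P_mul D F, P_mul D F] at e2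
    obtain ⟨e3, e4, e5⟩ := F.inj _ _ _ _ _ _ e2
    have can : ∀ p q r : F4, p + q = r + p → q = r := by decide
    refine ⟨can _ _ _ e3, can _ _ _ e4, ?_⟩
    rintro rfl rfl
    have h0 : F4.fr 0 = 0 := rfl
    rw [h0, mul_zero, h0, mul_zero, mul_zero, zero_mul, h0, mul_zero, zero_add, zero_add, zero_add] at e5
    exact can _ _ _ e5
  -- the group `F ∩ P`
  let T : Subgroup G := cj x (R ⊔ V)
  have hTmem : ∀ y, y ∈ T ↔ ∃ e ∈ R ⊔ V, y = x * e * x⁻¹ := by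
    intro y
    constructor
    · intro hy
      exact ⟨x⁻¹ * y * x, mem_cj.1 hy, by group⟩
    · rintro ⟨e, he, rfl⟩
      exact conj_mem_cj.2 he
  have hTcomm : ∀ y ∈ T, ∀ z ∈ T, y * z = z * y := by
    intro y hy z hz
    obtain ⟨e1, he1, rfl⟩ := (hTmem y).1 hy
    obtain ⟨e2, he2, rfl⟩ := (hTmem z).1 hz
    have h2 := E_comm h he1 he2
    calc x * e1 * x⁻¹ * (x * e2 * x⁻¹) = x * (e1 * e2) * x⁻¹ := by group
      _ = _ := by rw [h2]; group
  have htT : t ∈ T := (hTmem t).2 ⟨e, he, ht⟩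
  have hcardT : Nat.card T = 16 := by
    rw [← card_E h]
    exact (Nat.card_congr ((R ⊔ V).equivMapOfInjective _ (MulAut.conj x).injective).toEquiv).symm
  have h1 : Nat.card T ≤ 2 * Nat.card (T ⊓ P : Subgroup G) := by
    refine half inf_le_left fun y hy hyP z hz hzP => ⟨mul_mem hy hz, ?_⟩
    have hy' : y * s ∈ P := by
      obtain ⟨e1, he1, rfl⟩ := (hTmem y).1 hy
      rcases hx e1 he1 with h2 | h2
      · exact absurd ⟨hy, h2⟩ hyP
      · exact h2
    have hz' : z * s ∈ P := by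
      obtain ⟨e1, he1, rfl⟩ := (hTmem z).1 hz
      rcases hx e1 he1 with h2 | h2
      · exact absurd ⟨hz, h2⟩ hzP
      · exact h2
    have h3 := hsP _ hz'
    have hsi : s⁻¹ = s := inv_eq_of_mul_eq_one_left hss
    rw [show y * z = (y * s) * (s⁻¹ * (z * s) * s⁻¹) by group, hsi]
    rw [hsi] at h3
    exact mul_mem hy' h3
  have h2 : Nat.card (T ⊓ P : Subgroup G) ≤ 2 * Nat.card (T ⊓ (R ⊔ V) : Subgroup G) := by
    refine half (inf_le_inf_left T (fun y hy => E_le hP hy)) fun y hy hyP z hz hzP =>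
      ⟨mul_mem hy.1 hz.1, ?_⟩
    obtain ⟨b, a, c, e1⟩ := F.P_surj y hy.2
    obtain ⟨b', a', c', e2⟩ := F.P_surj z hz.2
    have h3 := (hcomm b a c (by rw [← e1]; exact hTcomm t htT y hy.1)).1
    have h4 := (hcomm b' a' c' (by rw [← e2]; exact hTcomm t htT z hz.1)).1
    rw [e1, e2, P_mul D F]
    show _ ∈ R ⊔ V
    rw [mem_E_iff D F h]
    have h5 : b ≠ 0 := fun e => hyP ⟨hy.1, by rw [e1]; exact (mem_E_iff D F h).2 e⟩
    have h6 : b' ≠ 0 := fun e => hzP ⟨hz.1, by rw [e2]; exact (mem_E_iff D F h).2 e⟩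
    have : ∀ b b' : F4, F4.fr b = b → F4.fr b' = b' → b ≠ 0 → b' ≠ 0 → b + b' = 0 := by decide
    exact this b b' h3 h4 h5 h6
  have h3 : Nat.card (T ⊓ (R ⊔ V) : Subgroup G) ≤ 2 * Nat.card (T ⊓ V : Subgroup G) := by
    refine half (inf_le_inf_left T le_sup_right) fun y hy hyP z hz hzP =>
      ⟨mul_mem hy.1 hz.1, ?_⟩
    obtain ⟨r, hr, v, hv, e1⟩ := (mem_E h).1 hy.2
    obtain ⟨r', hr', v', hv', e2⟩ := (mem_E h).1 hz.2
    obtain ⟨a, rfl⟩ := F.X_surj r hr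
    obtain ⟨a', rfl⟩ := F.X_surj r' hr'
    obtain ⟨c, rfl⟩ := F.Z_surj v hv
    obtain ⟨c', rfl⟩ := F.Z_surj v' hv'
    have e1' : y = Y 0 * X a * Z c := by rw [F.Y_zero, one_mul]; exact e1
    have e2' : z = Y 0 * X a' * Z c' := by rw [F.Y_zero, one_mul]; exact e2
    have h3 := (hcomm 0 a c (by rw [← e1']; exact hTcomm t htT y hy.1)).2.1
    have h4 := (hcomm 0 a' c' (by rw [← e2']; exact hTcomm t htT z hz.1)).2.1
    have h5 : a ≠ 0 := fun e => hyP ⟨hy.1, by rw [e1, e, F.X_zero, one_mul]; exact F.Z_mem _⟩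
    have h6 : a' ≠ 0 := fun e => hzP ⟨hz.1, by rw [e2, e, F.X_zero, one_mul]; exact F.Z_mem _⟩
    have h7 : a + a' = 0 := by
      have : ∀ b b' : F4, F4.fr b = b → F4.fr b' = b' → b ≠ 0 → b' ≠ 0 → b + b' = 0 := by decide
      exact this a a' h3 h4 h5 h6
    rw [e1', e2', P_mul D F, h7, add_zero, F.X_zero, F.Y_zero, one_mul, one_mul]
    exact F.Z_mem _
  have h4 : Nat.card (T ⊓ V : Subgroup G) ≤ 2 := by
    have h5 : ∀ y : (T ⊓ V : Subgroup G), (y : G) = Z 0 ∨ (y : G) = Z F4.e := by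
      rintro ⟨y, hy⟩
      obtain ⟨c, rfl⟩ := F.Z_surj y hy.2
      have h6 := (hcomm 0 0 c (by
        rw [F.Y_zero, F.X_zero, one_mul, one_mul]; exact hTcomm t htT _ hy.1)).2.2 rfl rfl
      have : ∀ c : F4, F4.fr c = c → c = 0 ∨ c = F4.e := by decide
      rcases this c h6 with rfl | rfl
      · exact Or.inl rfl
      · exact Or.inr rfl
    classical
    let f : (T ⊓ V : Subgroup G) → Bool := fun y => decide ((y : G) = Z 0)
    have hf : Function.Injective f := by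
      intro y z hyz
      simp only [f, decide_eq_decide] at hyz
      apply Subtype.ext
      rcases h5 y with e1 | e1 <;> rcases h5 z with e2 | e2
      · rw [e1, e2]
      · rw [e1, hyz.1 e1]
      · rw [hyz.2 e2, e2]
      · rw [e1, e2]
    have := Nat.card_le_card_of_injective f hf
    simpa using this
  -- `F ∩ P` is not contained in `E`
  have h5 : ¬ (T ⊓ P : Subgroup G) ≤ R ⊔ V := by
    intro hle
    have h6 : (T ⊓ P : Subgroup G) ≤ T ⊓ (R ⊔ V) := le_inf inf_le_left hle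
    have := Subgroup.card_le_of_le h6
    omega
  have h6 : ¬ (T ⊓ (R ⊔ V) : Subgroup G) ≤ V := by
    intro hle
    have h6 : (T ⊓ (R ⊔ V) : Subgroup G) ≤ T ⊓ V := le_inf inf_le_left hle
    have := Subgroup.card_le_of_le h6
    omega
  obtain ⟨y, hy, hyE⟩ := SetLike.not_le_iff_exists.1 h5
  obtain ⟨z, hz, hzV⟩ := SetLike.not_le_iff_exists.1 h6
  obtain ⟨b, a, c, e1⟩ := F.P_surj y hy.2
  obtain ⟨r', hr', v', hv', e2⟩ := (mem_E h).1 hz.2
  obtain ⟨a', rfl⟩ := F.X_surj r' hr'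
  obtain ⟨c', rfl⟩ := F.Z_surj v' hv'
  have h7 : a' * b = 0 := by
    apply comm_coord D F (a := a) (c := c) (c' := c')
    rw [← e1, ← e2]
    exact hTcomm y hy.1 z hz.1
  have h8 : b ≠ 0 := fun e => hyE (by rw [e1, mem_E_iff D F h]; exact e)
  have h9 : a' ≠ 0 := fun e => hzV (by rw [e2, e, F.X_zero, one_mul]; exact F.Z_mem _)
  have : ∀ a b : F4, a * b = 0 → b ≠ 0 → a ≠ 0 → False := by decide
  exact this a' b h7 h8 h9

/-- **the weakly closed case, `μ = 1`** -/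
theorem wc_one [Finite G] {h : OddE A R V ρ g} (hP : IsP h P) (hε : ε = 0 ∨ ε = F4.e)
    (F : Frame R V P ρ ε X Y Z) (nkt : ∀ b c, b ≠ 0 → ¬ KT A (Y b * Z c))
    (h8 : ¬ 8 ∣ Nat.card A) (hmu : Mu1 A) : ∃ S : Sylow 2 G, WC1 A R V P Y Z S := by
  have hwc : ∀ x : G, (∀ e ∈ R ⊔ V, x * e * x⁻¹ ∈ P) → x ∈ N (R ⊔ V) := fun x hx => wc_P hP hε F nkt hx
  obtain ⟨S, hS⟩ := exists_sylow (R ⊔ V) P hP.two (fun e he => E_le hP he) hwc
    (max_one hP F h8 hmu) (fun p hp => P_N hP hp)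
  exact ⟨S, { le := hS.symm.le, wc := by rw [hS]; exact hwc, nkt := nkt, mu1 := hmu, eq := hS }⟩

/-- **the weakly closed case, `μ = 2`** -/
theorem wc_two [Finite G] {h : OddE A R V ρ g} (hP : IsP h P) (hε : ε = 0 ∨ ε = F4.e)
    (F : Frame R V P ρ ε X Y Z) (nkt : ∀ b c, b ≠ 0 → ¬ KT A (Y b * Z c))
    (hmu : Mu2 A ρ X Y Z s) : ∃ S : Sylow 2 G, WC2 A R V P ρ X Y Z s S := by
  have D := PData.data hP
  have hsi : s⁻¹ = s := inv_eq_of_mul_eq_one_left hmu.sq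
  have hsX : ∀ a, s * X a * s⁻¹ = X (F4.fr a) := by rw [hsi]; exact hmu.conjX
  have hsY : ∀ a, s * Y a * s⁻¹ = Y (F4.fr a) := by rw [hsi]; exact hmu.conjY
  have hsZ : ∀ a, s * Z a * s⁻¹ = Z (F4.fr a) := by rw [hsi]; exact hmu.conjZ
  have hsP : ∀ p ∈ P, s * p * s⁻¹ ∈ P := by
    intro p hp
    obtain ⟨b, a, c, rfl⟩ := F.P_surj p hp
    rw [conj_mul', conj_mul', hsX, hsY, hsZ]
    exact mem_P F _ _ _ D
  have hsE : s ∈ N (R ⊔ V) := by
    refine Base.mem_NE h (fun r hr => ?_) (fun r hr => ?_)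
    · obtain ⟨a, rfl⟩ := F.X_surj r hr
      rw [hsX]; exact F.X_mem _
    · obtain ⟨a, rfl⟩ := F.Z_surj r hr
      rw [hsZ]; exact F.Z_mem _
  have hwc : ∀ x : G, (∀ e ∈ R ⊔ V, x * e * x⁻¹ ∈ PS P s hsP hmu.sq) → x ∈ N (R ⊔ V) :=
    fun x hx => wc_P hP hε F nkt (fun e he => wc_PS hP F hsX hsY hsZ hmu.sq hx he)
  have hPle : P ≤ PS P s hsP hmu.sq := fun p hp => Or.inl hp
  have hsmem : s ∈ PS P s hsP hmu.sq := Or.inr (by rw [hmu.sq]; exact one_mem _)
  obtain ⟨S, hS⟩ := exists_sylow (R ⊔ V) (PS P s hsP hmu.sq) (PS_two hP.two hsP hmu.sq)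
    (fun e he => hPle (E_le hP he)) hwc
    (fun Q hQ hSQ hQE => le_antisymm (fun q hq => max_two hP F hmu.mem hsE hsZ Q hQ (hPle.trans hSQ)
      (hSQ hsmem) hQE hq) hSQ) (by
      rintro x (hx | hx)
      · exact P_N hP hx
      · rw [show x = (x * s) * s⁻¹ by group]
        exact mul_mem (P_N hP hx) (inv_mem hsE))
  have hmem : ∀ x, x ∈ (S : Subgroup G) ↔ x ∈ P ∨ x * s ∈ P := by
    intro x
    rw [hS]
    exact mem_PS
  exact ⟨S, { le := by rw [hS]; exact hPle, wc := by rw [hS]; exact hwc, nkt := nkt, mu2 := hmu,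
              mem := hmem }⟩

/-- case (Q): there is no K-type element in `E2 - V` -/
theorem nkt_Q [Finite G] {h : OddE A R V ρ g} (hP : IsP h P) (F : Frame R V P ρ F4.e X Y Z) {b c : F4}
    (hb : b ≠ 0) : ¬ KT A (Y b * Z c) := by
  rintro ⟨-, h2, -⟩
  have h3 : (Y b * X 0 * Z c) * (Y b * X 0 * Z c) = 1 := by rw [F.X_zero, mul_one]; exact h2
  rcases inv_coord (PData.data hP) F h3 with h4 | h4
  · exact hb h4
  · exact absurd h4 (by decide)

end Cfsg.Agent.StdAlt.Five.SylA
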