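import Cfsg.Agent.StdAlt.Five.TwoQuot
import Cfsg.Agent.StdAlt.Five.NoOdd

/-!
# The type two configuration: Carmichael's relation

`TypeTwo.pair`: for `i ≠ j` the elements `β i (4 2 3)` and `β j (4 2 3)` satisfy `(x y)² = 1`.
-/

set_option autoImplicit false
set_option linter.unusedSectionVars false

namespace Cfsg.Agent.StdAlt.Five

open Subgroup Equiv Cfsg.Agent.StdAlt.Conj
open Cfsg.Agent.StdAlt.Two (HasFour)

theorem fact_three : ∀ i j : Fin 5, ∃ c : A5, c.1 i = i ∧ c.1 j = j ∧ c ≠ 1 ∧ c * c * c = 1 := by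
  decide +kernel

/-- the centralizer of a 3-cycle -/
theorem fact_three_cent : ∀ c : A5, (c ≠ 1 ∧ c * c * c = 1) → ∀ x : Perm (Fin 5), x * c.1 = c.1 * x →
    (Perm.sign x = 1 → x = 1 ∨ c.1 * x = 1 ∨ (c * c).1 * x = 1) ∧
    ∃ l, x l = l ∨ (c.1 * x) l = l ∨ ((c * c).1 * x) l = l := by decide +kernel

theorem fact_cent_r1 : ∀ σ : A5, σ.1 4 = 4 → σ * r1 = r1 * σ → IsV σ := by decide +kernel

theorem fact_center : ∀ σ : A5, (∀ τ : A5, σ * τ = τ * σ) → σ = 1 := by decide +kernel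

theorem fact_two_inv : ∀ σ : A5, ∃ a : A5, a * a = 1 ∧ (a * σ) * (a * σ) = 1 := by decide +kernel

theorem fact_sep : ∀ i j : Fin 5, i ≠ j → ∃ a : A5, a.1 i = i ∧ a.1 j ≠ j := by decide +kernel

theorem fact_inv_γ : r1 * γ * r1⁻¹ = γ⁻¹ := by decide +kernel

namespace TypeTwo

variable {G : Type*} [Group G] {A : Subgroup G} {φ : G → Perm (Fin 5)} {β : Fin 5 → A5 → G}

theorem te (h : TypeTwo A φ β) : TE A := h.std.te

theorem one (h : TypeTwo A φ β) (i : Fin 5) : β i 1 = 1 := by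
  have := h.mulβ i 1 1
  rw [mul_one] at this
  exact left_eq_mul.1 this

/-- the embedding as a homomorphism -/
def hom (h : TypeTwo A φ β) (i : Fin 5) : A5 →* G where
  toFun := β i
  map_one' := h.one i
  map_mul' := h.mulβ i

theorem hom_apply (h : TypeTwo A φ β) (i : Fin 5) (σ : A5) : h.hom i σ = β i σ := rfl

theorem hom_inj (h : TypeTwo A φ β) (i : Fin 5) : Function.Injective (h.hom i) := by
  rw [injective_iff_map_eq_one]
  exact h.injβ i

theorem inj (h : TypeTwo A φ β) {i : Fin 5} {σ τ : A5} (e : β i σ = β i τ) : σ = τ := h.hom_inj i e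

theorem inv (h : TypeTwo A φ β) (i : Fin 5) (σ : A5) : β i σ⁻¹ = (β i σ)⁻¹ := map_inv (h.hom i) σ

/-- the labelling -/
def lab (h : TypeTwo A φ β) : Lab A (Fin 5) where
  φ := φ
  mul x y hx hy := h.std.act.mul x hx y hy
  ker x hx := ⟨h.std.act.mem_C x hx, h.std.act.one_of_C x⟩
  even := h.std.act.even
  lift := h.std.act.surj

theorem lab_φ (h : TypeTwo A φ β) (x : G) : h.lab.φ x = φ x := rfl

/-- the conjugates -/
def B (h : TypeTwo A φ β) (i : Fin 5) : Subgroup G := (h.hom i).range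

theorem mem_B (h : TypeTwo A φ β) {i : Fin 5} {x : G} : x ∈ h.B i ↔ ∃ σ, β i σ = x := Iff.rfl

theorem mem_B' (h : TypeTwo A φ β) (i : Fin 5) (σ : A5) : β i σ ∈ h.B i := ⟨σ, rfl⟩

theorem cj_B (h : TypeTwo A φ β) (i : Fin 5) : Cj A (h.B i) := by
  obtain ⟨g, hg⟩ := h.conjβ i
  refine ⟨g, fun x => ?_⟩
  rw [hg, h.mem_B]
  exact ⟨fun ⟨σ, e⟩ => ⟨σ, e.symm⟩, fun ⟨σ, e⟩ => ⟨σ, e.symm⟩⟩

theorem te_B (h : TypeTwo A φ β) (i : Fin 5) : TE (h.B i) := h.te.of_cj (h.cj_B i)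

/-- the distinguished involution -/
theorem t_mem (h : TypeTwo A φ β) (i : Fin 5) {ρ : A5} (hρ : IsV ρ) : β i ρ ∈ C A :=
  (h.K0 i ρ).2 hρ.2

theorem sq_of_V (h : TypeTwo A φ β) (i : Fin 5) {ρ : A5} (hρ : IsV ρ) : β i ρ * β i ρ = 1 := by
  rw [← h.mulβ, hρ.1, h.one]

theorem ne_one (h : TypeTwo A φ β) (i : Fin 5) {ρ : A5} (hρ : ρ ≠ 1) : β i ρ ≠ 1 :=
  fun e => hρ (h.injβ i ρ e)

theorem hasFour (h : TypeTwo A φ β) : HasFour A :=
  ⟨β 0 r1, h.t_mem 0 isV_r1, β 0 r2, h.t_mem 0 isV_r2, h.ne_one 0 r1_ne, h.ne_one 0 r2_ne,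
    fun e => r12_ne (h.inj e).symm, h.sq_of_V 0 isV_r1, h.sq_of_V 0 isV_r2, by
      rw [← h.mulβ, ← h.mulβ, r12_comm]⟩

theorem ne_B (h : TypeTwo A φ β) (i : Fin 5) : A ≠ h.B i := by
  intro e
  apply h.ne_one i r1_ne
  apply h.te.disj _ _ (h.t_mem i isV_r1)
  rw [e]
  exact h.mem_B' i r1

/-- an element commuting with an involution of the four-group normalizes `A` -/
theorem nrm (h : TypeTwo A φ β) {x : G} (i : Fin 5) (hx : x * β i r1 = β i r1 * x) : x ∈ N A :=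
  h.te.nrm (h.t_mem i isV_r1) (h.ne_one i r1_ne) (h.sq_of_V i isV_r1) hx

theorem mem_C_B (h : TypeTwo A φ β) {a : G} (ha : a ∈ A) {i : Fin 5} :
    a ∈ C (h.B i) ↔ φ a i = i := by
  rw [mem_C, ← h.fix a ha]
  constructor
  · intro h1 σ
    exact h1 _ (h.mem_B' i σ)
  · rintro h1 _ ⟨σ, rfl⟩
    exact h1 σ

/-- an involution of `A` centralizing `B i` -/
theorem exists_inv (h : TypeTwo A φ β) (i : Fin 5) :
    ∃ y ∈ A, y ≠ 1 ∧ y * y = 1 ∧ φ y i = i := by
  obtain ⟨y', h1, h2, h3⟩ := fact_kl i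
  obtain ⟨y, hy, rfl⟩ := Lab.exists_ev h.lab y'
  exact ⟨y, hy, fun e => h3 ((Lab.ev_eq_one h.lab h.te hy).2 e), (Lab.ev_sq h.lab h.te hy).1 h1, h2⟩

/-- `N A` permutes the `B i` -/
theorem cj_eq (h : TypeTwo A φ β) {m : G} (hm : m ∈ N A) (i : Fin 5) :
    Conj.cj m (h.B i) = h.B (φ m i) := by
  obtain ⟨y, hy, hy1, hyy, hyi⟩ := h.exists_inv (φ m i)
  refine ((h.te_B i).cj m).eq_of_mem (((Cj.cj _ m).symm.trans (h.cj_B i).symm).trans (h.cj_B _)) hy1 hyy
    ?_ ((h.mem_C_B hy).2 hyi)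
  rw [mem_C_cj]
  have h1 : m⁻¹ * y * m ∈ A := conj_mem' hm hy
  rw [h.mem_C_B h1]
  have h2 : φ (m⁻¹ * y * m) = (φ m)⁻¹ * φ y * φ m := by
    have e1 := h.lab.mul _ _ (mul_mem (inv_mem hm) (le_N hy)) hm
    have e2 := h.lab.mul _ _ (inv_mem hm) (le_N hy)
    have e3 := h.lab.inv hm
    simp only [lab_φ] at e1 e2 e3
    rw [e1, e2, e3]
  rw [h2, Perm.mul_apply, Perm.mul_apply, hyi]
  exact inv_app _ _

/-- elements of `C (B l)` act evenly on `A` -/
theorem even_of_C_B [Finite G] (h : TypeTwo A φ β) (l : Fin 5) {k : G} (hk : k ∈ C (h.B l)) :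
    k ∈ N A ∧ Perm.sign (φ k) = 1 := by
  obtain ⟨y, hy, hy1, hyy, hyi⟩ := h.exists_inv l
  obtain ⟨g, hg⟩ := (h.cj_B l).exists_eq
  have hyB := (h.mem_C_B hy).2 hyi
  have hcj := h.cj_B l
  have hne := h.ne_B l
  rw [hg] at hk hyB hcj hne
  obtain ⟨i, j, h2⟩ := Five.exists_twoP h.lab (h.lab.cj g) h.te hcj hne h.hasFour hy hy1 hyy hyB
  have h3 : TwoP (h.lab.cj g) h.lab j i :=
    ⟨h.te.of_cj hcj, hcj.symm, Ne.symm hne, h2.leA, h2.leB, h2.fixB, h2.fixA⟩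
  exact ⟨h2.leA hk, Five.even_of_C h3 hk⟩

/-- elements of `N A` with a fixed point centralizing the four-group act evenly -/
theorem even_of_cent [Finite G] (h : TypeTwo A φ β) {x : G} (hx : x ∈ N A) {l : Fin 5}
    (hl : φ x l = l) (hc : ∀ ρ, IsV ρ → x * β l ρ = β l ρ * x) : Perm.sign (φ x) = 1 := by
  have hxB : x ∈ N (h.B l) := by
    rw [← cj_eq_iff, h.cj_eq hx, hl]
  obtain ⟨g, hg⟩ := (h.cj_B l).exists_eq
  have hBt := h.te_B l
  -- a labelling of `B l`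
  obtain ⟨L', hL'⟩ : ∃ L' : Lab (h.B l) (Fin 5), True := by
    rw [hg]; exact ⟨h.lab.cj g, trivial⟩
  have hmB := h.mem_B' l
  let f : A5 →* Perm (Fin 5) :=
    { toFun := fun σ => L'.φ (β l σ)
      map_one' := by rw [h.one, L'.one]
      map_mul' := fun σ τ => by rw [h.mulβ, L'.mul _ _ (le_N (hmB σ)) (le_N (hmB τ))] }
  have hf : Function.Injective f := by
    rw [injective_iff_map_eq_one]
    intro σ hσ
    exact h.injβ l σ (L'.eq_one hBt (hmB σ) hσ)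
  obtain ⟨s, hs⟩ := exists_conj_perm f hf
  have hτ := fact_centV 4 (s⁻¹ * L'.φ x * s) (by
    intro ρ hρ1 hρ2
    have h1 : L'.φ x * f ρ = f ρ * L'.φ x := L'.comm' hxB (le_N (hmB ρ)) (hc ρ ⟨hρ1, hρ2⟩)
    rw [hs] at h1
    calc s⁻¹ * L'.φ x * s * ρ.1 = s⁻¹ * (L'.φ x * (s * ρ.1 * s⁻¹)) * s := by group
      _ = s⁻¹ * ((s * ρ.1 * s⁻¹) * L'.φ x) * s := by rw [h1]
      _ = ρ.1 * (s⁻¹ * L'.φ x * s) := by group)
  obtain ⟨hτ1, hτ2, hτ3⟩ := hτ
  set ρ₀ : A5 := ⟨s⁻¹ * L'.φ x * s, Perm.mem_alternatingGroup.2 hτ3⟩ with hρ₀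
  have hV : IsV ρ₀ := ⟨Subtype.ext hτ1, hτ2⟩
  have h1 : L'.φ (β l ρ₀) = L'.φ x := by
    have h2 : f ρ₀ = s * ρ₀.1 * s⁻¹ := hs ρ₀
    have h3 : L'.φ (β l ρ₀) = s * ρ₀.1 * s⁻¹ := h2
    rw [h3, hρ₀]; group
  have h2 : x * (β l ρ₀)⁻¹ ∈ C (h.B l) := L'.mul_inv_mem_C hxB (le_N (hmB ρ₀)) h1.symm
  have h3 := (h.even_of_C_B l h2).2
  have h4 : φ (x * (β l ρ₀)⁻¹) = φ x := by
    have hk := inv_mem (h.t_mem l hV)
    have e1 := h.lab.mul _ _ hx (C_le_N hk)
    have e2 := h.lab.of_C hk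
    simp only [lab_φ] at e1 e2
    rw [e1, e2, mul_one]
  rwa [h4] at h3

/-! ### the group generated by two of the conjugates -/

/-- the group generated by `B i` and `B j` -/
def H (h : TypeTwo A φ β) (i j : Fin 5) : Subgroup G := h.B i ⊔ h.B j

theorem comm_H (h : TypeTwo A φ β) {i j : Fin 5} {x : G} (h1 : ∀ σ, x * β i σ = β i σ * x)
    (h2 : ∀ σ, x * β j σ = β j σ * x) : ∀ y ∈ h.H i j, x * y = y * x := by
  intro y hy
  have : h.H i j ≤ centralizer {x} := by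
    refine sup_le ?_ ?_
    · rintro _ ⟨σ, rfl⟩
      exact mem_centralizer_singleton_iff.2 (h1 σ).symm
    · rintro _ ⟨σ, rfl⟩
      exact mem_centralizer_singleton_iff.2 (h2 σ).symm
  exact (mem_centralizer_singleton_iff.1 (this hy)).symm

theorem mem_H₁ (h : TypeTwo A φ β) (i j : Fin 5) (σ : A5) : β i σ ∈ h.H i j :=
  (le_sup_left : h.B i ≤ _) (h.mem_B' i σ)

theorem mem_H₂ (h : TypeTwo A φ β) (i j : Fin 5) (σ : A5) : β j σ ∈ h.H i j :=
  (le_sup_right : h.B j ≤ _) (h.mem_B' j σ)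

/-- structure of the elements of `H i j` commuting with the involution `t` -/
theorem str [Finite G] (h : TypeTwo A φ β) {i j : Fin 5} {x : G} (hx : x ∈ h.H i j)
    (hxt : x * β i r1 = β i r1 * x) :
    ∃ a ∈ A, a * a * a = 1 ∧ (∀ y ∈ h.H i j, a * y = y * a) ∧ a * x ∈ N A ∧ (∃ l, φ (a * x) l = l) ∧
      Perm.sign (φ (a * x)) = Perm.sign (φ x) ∧
      (Perm.sign (φ x) = 1 → a * x ∈ C A) := by
  obtain ⟨c', hc1, hc2, hc3, hc4⟩ := fact_three i j
  obtain ⟨c, hc, rfl⟩ := Lab.exists_ev h.lab c'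
  have hcH : ∀ y ∈ h.H i j, c * y = y * c :=
    h.comm_H ((h.fix c hc i).2 hc1) ((h.fix c hc j).2 hc2)
  have hxN : x ∈ N A := h.nrm i hxt
  have hcc : φ x * φ c = φ c * φ x := h.lab.comm' hxN (le_N hc) (hcH x hx).symm
  have hc3' : c * c * c = 1 := by
    apply h.lab.eq_one h.te (mul_mem (mul_mem hc hc) hc)
    rw [h.lab.mul _ _ (le_N (mul_mem hc hc)) (le_N hc), h.lab.mul _ _ (le_N hc) (le_N hc)]
    exact congrArg Subtype.val hc4
  have hφc : φ (c * x) = φ c * φ x := h.lab.mul _ _ (le_N hc) hxN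
  have hφcc : φ (c * c * x) = φ c * φ c * φ x := by
    have e1 := h.lab.mul _ _ (le_N (mul_mem hc hc)) hxN
    have e2 := h.lab.mul _ _ (le_N hc) (le_N hc)
    simp only [lab_φ] at e1 e2
    rw [e1, e2]
  have hsc : Perm.sign (φ c) = 1 := mem_alt_iff.1 (h.std.act.even c hc)
  obtain ⟨h1, l, h2⟩ := fact_three_cent _ ⟨hc3, hc4⟩ (φ x) hcc
  have hm1 : c * x ∈ N A := mul_mem (le_N hc) hxN
  have hm2 : c * c * x ∈ N A := mul_mem (le_N (mul_mem hc hc)) hxN
  have hccH : ∀ y ∈ h.H i j, c * c * y = y * (c * c) := by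
    intro y hy
    rw [mul_assoc, hcH y hy, ← mul_assoc, hcH y hy, mul_assoc]
  have hccc : c * c * (c * c) * (c * c) = 1 := by
    rw [show c * c * (c * c) * (c * c) = (c * c * c) * (c * c * c) by group, hc3', one_mul]
  have s1 : Perm.sign (φ (c * x)) = Perm.sign (φ x) := by rw [hφc, Perm.sign_mul, hsc, one_mul]
  have s2 : Perm.sign (φ (c * c * x)) = Perm.sign (φ x) := by
    rw [hφcc, Perm.sign_mul, Perm.sign_mul, hsc, one_mul, one_mul]
  by_cases hs : Perm.sign (φ x) = 1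
  · rcases h1 hs with h3 | h3 | h3
    · refine ⟨1, one_mem _, by group, fun y _ => by group, by rwa [one_mul], ⟨l, by rw [one_mul, h3]; rfl⟩,
        by rw [one_mul], fun _ => ?_⟩
      rw [one_mul]
      exact h.std.act.mem_C x hxN h3
    · have h4 : φ (c * x) = 1 := by rw [hφc]; exact h3
      exact ⟨c, hc, hc3', hcH, hm1, ⟨l, by rw [h4]; rfl⟩, s1, fun _ => h.std.act.mem_C _ hm1 h4⟩
    · have h4 : φ (c * c * x) = 1 := by rw [hφcc]; exact h3
      exact ⟨c * c, mul_mem hc hc, hccc, hccH, hm2, ⟨l, by rw [h4]; rfl⟩, s2,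
        fun _ => h.std.act.mem_C _ hm2 h4⟩
  · rcases h2 with h3 | h3 | h3
    · exact ⟨1, one_mem _, by group, fun y _ => by group, by rwa [one_mul], ⟨l, by rw [one_mul, h3]⟩,
        by rw [one_mul], fun h' => absurd h' hs⟩
    · exact ⟨c, hc, hc3', hcH, hm1, ⟨l, by rw [hφc]; exact h3⟩, s1, fun h' => absurd h' hs⟩
    · exact ⟨c * c, mul_mem hc hc, hccc, hccH, hm2, ⟨l, by rw [hφcc]; exact h3⟩, s2,
        fun h' => absurd h' hs⟩

/-- elements of `H` acting evenly on `A` and commuting with `t` -/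
theorem str_even [Finite G] (h : TypeTwo A φ β) {i j : Fin 5} {x : G} (hx : x ∈ h.H i j)
    (hxt : x * β i r1 = β i r1 * x) (hs : Perm.sign (φ x) = 1) :
    ∃ σ, IsV σ ∧ ∃ a ∈ A, a * a * a = 1 ∧ ∃ d, CD A β d ∧ (∀ y ∈ h.H i j, a * y = y * a) ∧
      x = β i σ * (a * d) := by
  obtain ⟨a, ha, ha3, haH, -, -, -, h1⟩ := h.str hx hxt
  obtain ⟨σ, hσ, d, hd, h2⟩ := h.CA _ (h1 hs)
  have hi : β 0 σ = β i σ := h.agree 0 i σ hσ
  rw [hi] at h2
  have haσ : a * β i σ = β i σ * a := haH _ (h.mem_H₁ i j σ)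
  have e1 : x = β i σ * (a⁻¹ * d) := by
    have e2 : a⁻¹ * β i σ = β i σ * a⁻¹ := by
      rw [inv_mul_eq_iff_eq_mul, ← mul_assoc, haσ, mul_inv_cancel_right]
    rw [← mul_assoc, ← e2, mul_assoc, ← h2]; group
  refine ⟨σ, ?_, a⁻¹, inv_mem ha, ?_, d, hd, ?_, e1⟩
  · apply fact_cent_r1 σ hσ
    apply h.inj (i := i)
    rw [h.mulβ, h.mulβ]
    have e3 : a * x * β i r1 = β i r1 * (a * x) := by
      rw [mul_assoc, hxt, ← mul_assoc, haH _ (h.mem_H₁ i j r1), mul_assoc]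
    rw [h2, mul_assoc, hd.2, ← mul_assoc, ← mul_assoc] at e3
    exact mul_right_cancel e3
  · rw [← mul_inv_rev, ← mul_inv_rev, ← mul_assoc, ha3, inv_one]
  · intro y hy
    rw [inv_mul_eq_iff_eq_mul, ← mul_assoc, haH y hy, mul_inv_cancel_right]

/-- `D` centralizes `H` -/
theorem comm_D (h : TypeTwo A φ β) {i j : Fin 5} {d : G} (hd : CD A β d) :
    ∀ y ∈ h.H i j, d * y = y * d := h.comm_H (hd.2 i) (hd.2 j)

/-- the centre of `H` has no involutions -/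
theorem center_odd [Finite G] (h : TypeTwo A φ β) {i j : Fin 5} {z : G} (hz : z ∈ h.H i j)
    (hzc : ∀ y ∈ h.H i j, z * y = y * z) (hzz : z * z = 1) : z = 1 := by
  have hzt := hzc _ (h.mem_H₁ i j r1)
  obtain ⟨a, ha, -, haH, hN, ⟨l, hl⟩, hs, -⟩ := h.str hz hzt
  have hs1 : Perm.sign (φ z) = 1 := by
    rw [← hs]
    apply h.even_of_cent hN hl
    intro ρ hρ
    rw [h.agree l i ρ hρ.2, mul_assoc, hzc _ (h.mem_H₁ i j ρ), ← mul_assoc, haH _ (h.mem_H₁ i j ρ),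
      mul_assoc]
  obtain ⟨σ, hσ, a, ha, ha3, d, hd, haH, e⟩ := h.str_even hz hzt hs1
  have hcomm : a * d = d * a := (comm_of_C hd.1 ha).symm
  have hσ1 : σ = 1 := by
    apply fact_center
    intro τ
    apply h.inj (i := i)
    rw [h.mulβ, h.mulβ]
    have e1 := hzc _ (h.mem_H₁ i j τ)
    have e2 : a * d * β i τ = β i τ * (a * d) := by
      rw [mul_assoc, hd.2, ← mul_assoc, haH _ (h.mem_H₁ i j τ), mul_assoc]
    rw [e, mul_assoc, e2, ← mul_assoc (β i σ), ← mul_assoc (β i τ) (β i σ)] at e1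
    exact mul_right_cancel e1
  rw [hσ1, h.one, one_mul] at e
  have h1 : a * a * (d * d) = 1 := by
    rw [← hzz, e, show a * a * (d * d) = a * (a * d) * d by group, hcomm,
      show a * (d * a) * d = (a * d) * (a * d) by group, hcomm]
  have h2 : a * a = 1 := by
    apply h.te.disj _ (mul_mem ha ha)
    rw [eq_inv_of_mul_eq_one_left h1]
    exact inv_mem (mul_mem hd.1 hd.1)
  have h3 : a = 1 := by
    rw [h2, one_mul] at ha3; exact ha3
  rw [h3, one_mul] at e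
  rw [e]
  rw [e] at hzz
  exact h.odd d hd hzz

/-- commuting modulo the centre implies commuting, for involutions -/
theorem comm_of_central [Finite G] (h : TypeTwo A φ β) {i j : Fin 5} {x v z : G} (hx : x ∈ h.H i j)
    (hv : v ∈ h.H i j) (hvv : v * v = 1) (hz : z ∈ h.H i j) (hzc : ∀ y ∈ h.H i j, z * y = y * z)
    (e : x * v = v * x * z) : x * v = v * x := by
  have h1 : x * v * x⁻¹ = v * z := by
    rw [e, mul_assoc v, ← hzc x hx, ← mul_assoc, mul_inv_cancel_right]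
  have h2 : z * z = 1 := by
    have h3 : (x * v * x⁻¹) * (x * v * x⁻¹) = 1 := by
      rw [show x * v * x⁻¹ * (x * v * x⁻¹) = x * (v * v) * x⁻¹ by group, hvv]; group
    rw [h1, show v * z * (v * z) = v * (z * v) * z by group, hzc v hv,
      show v * (v * z) * z = (v * v) * (z * z) by group, hvv, one_mul] at h3
    exact h3
  rw [e, h.center_odd hz hzc h2, mul_one]

/-- the quotient map restricted to `B i` -/
def α₁ (h : TypeTwo A φ β) (i j : Fin 5) : A5 →* ↥(h.H i j) ⧸ center ↥(h.H i j) :=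
  (QuotientGroup.mk' _).comp ((h.hom i).codRestrict (h.H i j) (h.mem_H₁ i j))

/-- the quotient map restricted to `B j` -/
def α₂ (h : TypeTwo A φ β) (i j : Fin 5) : A5 →* ↥(h.H i j) ⧸ center ↥(h.H i j) :=
  (QuotientGroup.mk' _).comp ((h.hom j).codRestrict (h.H i j) (h.mem_H₂ i j))

theorem α₁_apply (h : TypeTwo A φ β) (i j : Fin 5) (σ : A5) :
    h.α₁ i j σ = QuotientGroup.mk ⟨β i σ, h.mem_H₁ i j σ⟩ := rfl

theorem α₂_apply (h : TypeTwo A φ β) (i j : Fin 5) (σ : A5) :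
    h.α₂ i j σ = QuotientGroup.mk ⟨β j σ, h.mem_H₂ i j σ⟩ := rfl

/-- equality in the quotient -/
theorem mk_eq_iff {K : Subgroup G} {x y : K} :
    (QuotientGroup.mk x : ↥K ⧸ center ↥K) = QuotientGroup.mk y ↔
      ∃ z ∈ K, (∀ w ∈ K, z * w = w * z) ∧ (y : G) = x * z := by
  rw [QuotientGroup.eq]
  constructor
  · intro h
    refine ⟨(x⁻¹ * y : K), (x⁻¹ * y : K).2, fun w hw => ?_, ?_⟩
    · exact (congrArg Subtype.val (mem_center_iff.1 h ⟨w, hw⟩)).symm
    · show (y : G) = x * ((x : G)⁻¹ * y)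
      group
  · rintro ⟨z, hz, hzc, e⟩
    have h1 : x⁻¹ * y = ⟨z, hz⟩ := by
      apply Subtype.ext
      show (x : G)⁻¹ * y = z
      rw [e]; group
    rw [h1, mem_center_iff]
    intro w
    exact Subtype.ext (hzc w w.2).symm

theorem inj_of_noncomm {K : Subgroup G} (f : A5 →* K) (hf : Function.Injective f) :
    Function.Injective ((QuotientGroup.mk' (center K)).comp f) := by
  have hsimple : IsSimpleGroup A5 := alternatingGroup.isSimpleGroup (by simp)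
  rw [← MonoidHom.ker_eq_bot_iff]
  rcases (inferInstance : ((QuotientGroup.mk' (center K)).comp f).ker.Normal).eq_bot_or_eq_top with h | h
  · exact h
  · exfalso
    have hc : ∀ x, f x ∈ center K := by
      intro x
      have : x ∈ ((QuotientGroup.mk' (center K)).comp f).ker := by rw [h]; trivial
      exact (QuotientGroup.eq_one_iff _).1 this
    have hcomm : ∀ x y : A5, x * y = y * x := by
      intro x y
      apply hf
      rw [map_mul, map_mul]
      exact (mem_center_iff.1 (hc x) (f y)).symm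
    exact r1_ne (fact_center r1 (hcomm r1))

theorem not_le_B [Finite G] (h : TypeTwo A φ β) {i j : Fin 5} (hij : i ≠ j) : h.B i ≠ h.B j := by
  intro e
  obtain ⟨a', h1, h2⟩ := fact_sep i j hij
  obtain ⟨a, ha, rfl⟩ := Lab.exists_ev h.lab a'
  apply h2
  have h3 : a ∈ C (h.B i) := (h.mem_C_B ha).2 h1
  rw [e] at h3
  exact (h.mem_C_B ha).1 h3

theorem amalg [Finite G] (h : TypeTwo A φ β) {i j : Fin 5} (hij : i ≠ j) :
    Amalg (h.α₁ i j) (h.α₂ i j) where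
  inj₁ := inj_of_noncomm _ (fun x y e => h.hom_inj i (congrArg Subtype.val e))
  inj₂ := inj_of_noncomm _ (fun x y e => h.hom_inj j (congrArg Subtype.val e))
  agree x hx := by
    rw [h.α₁_apply, h.α₂_apply]
    congr 2
    exact h.agree i j x hx
  ne := by
    intro e
    apply h.not_le_B hij
    have hinj₂ : Function.Injective (h.α₂ i j) :=
      inj_of_noncomm _ (fun x y e => h.hom_inj j (congrArg Subtype.val e))
    -- involutions
    have h1 : ∀ σ : A5, σ * σ = 1 → β i σ ∈ h.B j := by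
      intro σ hσ
      have h2 : h.α₁ i j σ ∈ (h.α₂ i j).range := by rw [← e]; exact ⟨σ, rfl⟩
      obtain ⟨τ, hτ⟩ := h2
      have hττ : τ * τ = 1 := by
        apply hinj₂
        rw [map_mul, hτ, ← map_mul, hσ, map_one, map_one]
      rw [h.α₁_apply, h.α₂_apply, mk_eq_iff] at hτ
      obtain ⟨z, hz, hzc, e1⟩ := hτ
      have hzz : z * z = 1 := by
        have e2 : β i σ * β i σ = 1 := by rw [← h.mulβ, hσ, h.one]
        have e3 : β j τ * β j τ = 1 := by rw [← h.mulβ, hττ, h.one]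
        have e4 : β i σ = β j τ * z := e1
        rw [e4, show β j τ * z * (β j τ * z) = β j τ * (z * β j τ) * z by group,
          hzc _ (h.mem_H₂ i j τ), show β j τ * (β j τ * z) * z = (β j τ * β j τ) * (z * z) by group,
          e3, one_mul] at e2
        exact e2
      have e4 : β i σ = β j τ * z := e1
      rw [e4, h.center_odd hz hzc hzz, mul_one]
      exact h.mem_B' j τ
    have h2 : h.B i ≤ h.B j := by
      rintro _ ⟨σ, rfl⟩
      obtain ⟨a, ha, haσ⟩ := fact_two_inv σ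
      have e1 : β i σ = (β i a)⁻¹ * β i (a * σ) := by rw [h.mulβ]; group
      show β i σ ∈ h.B j
      rw [e1]
      exact mul_mem (inv_mem (h1 a ha)) (h1 _ haσ)
    exact eq_of_le_of_card_ge h2 (by
      rw [B, B, Amalg.card_range (h.hom_inj i), Amalg.card_range (h.hom_inj j)])
  gen := by
    set S := (h.α₁ i j).range ⊔ (h.α₂ i j).range with hS
    have h1 : h.H i j ≤ (S.comap (QuotientGroup.mk' (center ↥(h.H i j)))).map (h.H i j).subtype := by
      refine sup_le ?_ ?_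
      · rintro _ ⟨σ, rfl⟩
        refine ⟨⟨β i σ, h.mem_H₁ i j σ⟩, ?_, rfl⟩
        exact (le_sup_left : (h.α₁ i j).range ≤ S) ⟨σ, rfl⟩
      · rintro _ ⟨σ, rfl⟩
        refine ⟨⟨β j σ, h.mem_H₂ i j σ⟩, ?_, rfl⟩
        exact (le_sup_right : (h.α₂ i j).range ≤ S) ⟨σ, rfl⟩
    rw [eq_top_iff]
    intro q _
    obtain ⟨x, rfl⟩ := QuotientGroup.mk_surjective q
    obtain ⟨y, hy, e⟩ := h1 x.2
    have : y = x := Subtype.ext e
    rw [← this]
    exact hy

/-- **Carmichael's relation.** -/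
theorem pair [Finite G] (h : TypeTwo A φ β) {i j : Fin 5} (hij : i ≠ j) :
    (β i γ * β j γ) ^ 2 = 1 := by
  have hmk : ∀ (x : ↥(h.H i j)) {ρ : A5}, IsV ρ →
      (QuotientGroup.mk x : ↥(h.H i j) ⧸ center ↥(h.H i j)) * h.α₁ i j ρ =
      h.α₁ i j ρ * QuotientGroup.mk x → (x : G) * β i ρ = β i ρ * x := by
    intro x ρ hρ e
    rw [h.α₁_apply, ← QuotientGroup.mk_mul, ← QuotientGroup.mk_mul] at e
    obtain ⟨z, hz, hzc, e1⟩ := mk_eq_iff.1 e.symm
    exact h.comm_of_central x.2 (h.mem_H₁ i j ρ) (h.sq_of_V i hρ) hz hzc e1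
  have hV : ∀ x : ↥(h.H i j), (x : G) * β i r1 = β i r1 * x → Perm.sign (φ x) = 1 →
      (QuotientGroup.mk x : ↥(h.H i j) ⧸ center ↥(h.H i j)) ∈ Amalg.V (h.α₁ i j) := by
    intro x hx hs
    obtain ⟨σ, hσ, a, ha, -, d, hd, haH, e⟩ := h.str_even x.2 hx hs
    refine ⟨σ, hσ, ?_⟩
    rw [h.α₁_apply, mk_eq_iff]
    refine ⟨a * d, ?_, ?_, e⟩
    · have e1 : a * d = (β i σ)⁻¹ * x := by rw [e]; group
      rw [e1]
      exact mul_mem (inv_mem (h.mem_H₁ i j σ)) x.2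
    · intro w hw
      rw [mul_assoc, h.comm_D hd w hw, ← mul_assoc, haH w hw, mul_assoc]
  have key := (h.amalg hij).sq ?_ ?_
  · -- lift the relation
    have e1 : (QuotientGroup.mk (1 : ↥(h.H i j)) : ↥(h.H i j) ⧸ center ↥(h.H i j)) =
        QuotientGroup.mk ((⟨β i γ, h.mem_H₁ i j γ⟩ * ⟨β j γ, h.mem_H₂ i j γ⟩) ^ 2) := key.symm
    obtain ⟨y, hy, hyc, e2⟩ := mk_eq_iff.1 e1
    have e3 : (β i γ * β j γ) ^ 2 = y := by
      have : (β i γ * β j γ) ^ 2 = (1 : G) * y := e2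
      rw [this, one_mul]
    rw [e3]
    apply h.center_odd hy hyc
    -- `t` inverts `y`
    have g1 : ∀ k, β k r1 * β k γ * (β k r1)⁻¹ = (β k γ)⁻¹ := by
      intro k
      rw [← h.inv, ← h.mulβ, ← h.mulβ, fact_inv_γ, h.inv]
    have g2 := g1 j
    rw [h.agree j i r1 isV_r1.2] at g2
    have g3 : β i r1 * y * (β i r1)⁻¹ = (β i γ)⁻¹ * (β j γ)⁻¹ * ((β i γ)⁻¹ * (β j γ)⁻¹) := by
      rw [← e3, pow_two]
      nth_rewrite 1 [← g1 i]
      nth_rewrite 1 [← g2]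
      nth_rewrite 1 [← g1 i]
      nth_rewrite 1 [← g2]
      group
    have g4 : β i r1 * y * (β i r1)⁻¹ = y := by
      rw [← hyc _ (h.mem_H₁ i j r1), mul_inv_cancel_right]
    have g5 : (β i γ)⁻¹ * (β j γ)⁻¹ * ((β i γ)⁻¹ * (β j γ)⁻¹) = y⁻¹ := by
      have g6 : (β i γ)⁻¹ * y⁻¹ * β i γ = y⁻¹ := by
        have g7 : y⁻¹ * β i γ = β i γ * y⁻¹ := by
          rw [inv_mul_eq_iff_eq_mul, ← mul_assoc, hyc _ (h.mem_H₁ i j γ), mul_inv_cancel_right]
        rw [mul_assoc, g7, inv_mul_cancel_left]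
      rw [← g6, ← e3, pow_two]
      group
    rw [g4, g5] at g3
    nth_rewrite 1 [g3]
    exact inv_mul_cancel y
  · intro x y hx hy hxV hyV
    obtain ⟨x, rfl⟩ := QuotientGroup.mk_surjective x
    obtain ⟨y, rfl⟩ := QuotientGroup.mk_surjective y
    have hx' := hmk x isV_r1 hx
    have hy' := hmk y isV_r1 hy
    have hxs : Perm.sign (φ x) = -1 := by
      rcases Int.units_eq_one_or (Perm.sign (φ x)) with h1 | h1
      · exact absurd (hV x hx' h1) hxV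
      · exact h1
    have hys : Perm.sign (φ y) = -1 := by
      rcases Int.units_eq_one_or (Perm.sign (φ y)) with h1 | h1
      · exact absurd (hV y hy' h1) hyV
      · exact h1
    have h3 : (y : G)⁻¹ * β i r1 = β i r1 * (y : G)⁻¹ := by
      rw [inv_mul_eq_iff_eq_mul, ← mul_assoc, hy', mul_inv_cancel_right]
    have hxN := h.nrm i hx'
    have hyN := h.nrm i hy'
    apply hV (x * y⁻¹)
    · show (x : G) * (y : G)⁻¹ * β i r1 = β i r1 * ((x : G) * (y : G)⁻¹)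
      rw [mul_assoc, h3, ← mul_assoc, hx', mul_assoc]
    · show Perm.sign (φ ((x : G) * (y : G)⁻¹)) = 1
      have e1 := h.lab.mul _ _ hxN (inv_mem hyN)
      have e2 := h.lab.inv hyN
      simp only [lab_φ] at e1 e2
      rw [e1, e2, Perm.sign_mul, Perm.sign_inv, hxs, hys]; decide
  · intro x hx hxc
    obtain ⟨x, rfl⟩ := QuotientGroup.mk_surjective x
    have hx' := hmk x isV_r1 hx
    apply hV x hx'
    obtain ⟨a, ha, -, haH, hN, ⟨l, hl⟩, hs, -⟩ := h.str x.2 hx'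
    rw [← hs]
    apply h.even_of_cent hN hl
    intro ρ hρ
    have e1 := hmk x hρ (hxc _ ⟨ρ, hρ, rfl⟩)
    rw [h.agree l i ρ hρ.2, mul_assoc, e1, ← mul_assoc, haH _ (h.mem_H₁ i j ρ), mul_assoc]

end TypeTwo

end Cfsg.Agent.StdAlt.Five
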