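import Cfsg.Agent.StdAlt.Five.TwoBase
import Cfsg.Agent.StdAlt.Final

/-!
# The type two configuration: the normal alternating group of degree nine

`TypeTwo.main`: in the type two configuration `A` lies in a normal subgroup isomorphic to `A_9`.
-/

set_option autoImplicit false
set_option linter.unusedSectionVars false

namespace Cfsg.Agent.StdAlt.Five

open Subgroup Equiv Equiv.Perm Cfsg.Agent.StdAlt.Conj Cfsg.Agent.StdAlt.Pairs
open Cfsg.Agent.StdAlt.Two (HasFour)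
open Cfsg.Agent.StdAlt.PermTypes (cyc)
open Cfsg.Agent.StdAlt.Roots (IsRoot)

/-- the nine points -/
abbrev Ω9 := Fin 5 ⊕ Fin 4

/-- the cycle `0 → 2 → 3 → 0` -/
def κ0 : A5 := ⟨cyc 0 2 3, PermTypes.cyc_mem_alt (by decide) (by decide)⟩

/-- the cycle `1 → 2 → 3 → 1` -/
def κ1 : A5 := ⟨cyc 1 2 3, PermTypes.cyc_mem_alt (by decide) (by decide)⟩

theorem κ0_fix : κ0.1 4 = 4 := by decide +kernel
theorem κ1_fix : κ1.1 4 = 4 := by decide +kernel
theorem γ_cube : γ * γ * γ = 1 := by decide +kernel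
theorem κ0_cube : κ0 * κ0 * κ0 = 1 := by decide +kernel
theorem κ1_cube : κ1 * κ1 * κ1 = 1 := by decide +kernel
theorem γκ0 : γ * κ0 * (γ * κ0) = 1 := by decide +kernel
theorem γκ1 : γ * κ1 * (γ * κ1) = 1 := by decide +kernel
theorem κ0γ : κ0 * γ * (κ0 * γ) = 1 := by decide +kernel
theorem κ1γ : κ1 * γ * (κ1 * γ) = 1 := by decide +kernel
theorem κ01 : κ0 * κ1 * (κ0 * κ1) = 1 := by decide +kernel
theorem κ10 : κ1 * κ0 * (κ1 * κ0) = 1 := by decide +kernel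
theorem κ0_ne : κ0 ≠ 1 := by decide +kernel

theorem fact_words : ∀ κ : A5, κ.1 4 = 4 → ∃ i j k : Fin 3, κ = κ0 ^ i.1 * κ1 ^ j.1 * κ0 ^ k.1 := by
  decide +kernel

theorem fact_center4 : ∀ κ : A5, κ.1 4 = 4 → κ * κ0 = κ0 * κ → κ * κ1 = κ1 * κ → κ = 1 := by
  decide +kernel

theorem fact_move_odd : ∀ x : Perm (Fin 5), Perm.sign x = -1 →
    ∃ a : A5, (a.1 * x) 0 = 0 := by decide +kernel

theorem fact_noswap : ∀ κ : A5, κ.1 4 = 4 → κ * κ0 * κ⁻¹ = κ1 → κ * κ1 * κ⁻¹ = κ0 → False := by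
  decide +kernel

namespace TypeTwo

variable {G : Type*} [Group G] {A : Subgroup G} {φ : G → Perm (Fin 5)} {β : Fin 5 → A5 → G}

/-- the images of the cycles -/
def y (_ : TypeTwo A φ β) : Ω9 → G := Sum.elim (fun i => β i γ)
  (fun k => if k = 0 then β 0 κ0 else β 0 κ1)

theorem y_inl (h : TypeTwo A φ β) (i : Fin 5) : h.y (Sum.inl i) = β i γ := rfl
theorem y_inr0 (h : TypeTwo A φ β) : h.y (Sum.inr 0) = β 0 κ0 := rfl
theorem y_inr1 (h : TypeTwo A φ β) : h.y (Sum.inr 1) = β 0 κ1 := rfl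

theorem cube_of (h : TypeTwo A φ β) (i : Fin 5) {σ : A5} (hσ : σ * σ * σ = 1) : β i σ ^ 3 = 1 := by
  rw [pow_succ, pow_two, ← h.mulβ, ← h.mulβ, hσ, h.one]

theorem sq_of (h : TypeTwo A φ β) (i : Fin 5) {σ τ : A5} (hσ : σ * τ * (σ * τ) = 1) :
    (β i σ * β i τ) ^ 2 = 1 := by
  rw [pow_two, ← h.mulβ, ← h.mulβ, hσ, h.one]

theorem y_cases {P : Ω9 → Prop} (h1 : ∀ i, P (Sum.inl i)) (h2 : P (Sum.inr 0))
    (h3 : P (Sum.inr 1)) (ω : Ω9) (h4 : ω ≠ Sum.inr 2) (h5 : ω ≠ Sum.inr 3) : P ω := by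
  rcases ω with i | k
  · exact h1 i
  · have hk : k = 0 ∨ k = 1 := by
      fin_cases k <;> simp_all
    rcases hk with rfl | rfl
    · exact h2
    · exact h3

theorem cd : (Sum.inr 2 : Ω9) ≠ Sum.inr 3 := fun h => by simp at h

/-- all `y ω` lie in some `B i` -/
theorem y_mem_B (h : TypeTwo A φ β) (ω : Ω9) (h2 : ω ≠ Sum.inr 2) (h3 : ω ≠ Sum.inr 3) :
    ∃ i, h.y ω ∈ h.B i := by
  refine y_cases (P := fun ω => ∃ i, h.y ω ∈ h.B i) (fun i => ⟨i, ?_⟩) ⟨0, ?_⟩ ⟨0, ?_⟩ ω h2 h3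
  · exact h.mem_B' i γ
  · exact h.mem_B' 0 κ0
  · exact h.mem_B' 0 κ1

theorem exists_f [Finite G] (h : TypeTwo A φ β) :
    ∃ f : alternatingGroup Ω9 →* G, Function.Injective f ∧
      ∀ (σ : alternatingGroup Ω9) (ω : Ω9), ω ≠ Sum.inr 2 → ω ≠ Sum.inr 3 →
      (σ : Perm Ω9) = cyc ω (Sum.inr 2) (Sum.inr 3) → f σ = h.y ω := by
  have h0 : ∀ i, β 0 κ0 = β i κ0 := fun i => h.agree 0 i κ0 κ0_fix
  have h1 : ∀ i, β 0 κ1 = β i κ1 := fun i => h.agree 0 i κ1 κ1_fix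
  have r1 : ∀ ω : Ω9, ω ≠ Sum.inr 2 → ω ≠ Sum.inr 3 → h.y ω ^ 3 = 1 :=
    y_cases (P := fun ω => h.y ω ^ 3 = 1) (fun i => h.cube_of i γ_cube) (h.cube_of 0 κ0_cube)
      (h.cube_of 0 κ1_cube)
  have r2 : ∀ ω τ : Ω9, ω ≠ Sum.inr 2 → ω ≠ Sum.inr 3 → τ ≠ Sum.inr 2 → τ ≠ Sum.inr 3 → ω ≠ τ →
      (h.y ω * h.y τ) ^ 2 = 1 := by
    rintro (i | k) (j | l) e1 e2 e3 e4 e5
    · exact h.pair (fun e => e5 (by rw [e]))
    · have hl : l = 0 ∨ l = 1 := by
        fin_cases l <;> simp_all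
      rcases hl with rfl | rfl
      · rw [h.y_inl, h.y_inr0, h0 i]; exact h.sq_of i γκ0
      · rw [h.y_inl, h.y_inr1, h1 i]; exact h.sq_of i γκ1
    · have hk : k = 0 ∨ k = 1 := by
        fin_cases k <;> simp_all
      rcases hk with rfl | rfl
      · rw [h.y_inl, h.y_inr0, h0 j]; exact h.sq_of j κ0γ
      · rw [h.y_inl, h.y_inr1, h1 j]; exact h.sq_of j κ1γ
    · have hk : k = 0 ∨ k = 1 := by
        fin_cases k <;> simp_all
      have hl : l = 0 ∨ l = 1 := by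
        fin_cases l <;> simp_all
      rcases hk with rfl | rfl <;> rcases hl with rfl | rfl
      · exact absurd rfl e5
      · rw [h.y_inr0, h.y_inr1]; exact h.sq_of 0 κ01
      · rw [h.y_inr0, h.y_inr1]; exact h.sq_of 0 κ10
      · exact absurd rfl e5
  obtain ⟨f, hf⟩ := Carm.exists_hom (G := G) (y := h.y) cd (by decide) r1 r2
  refine ⟨f, ?_, hf⟩
  have hsimple : IsSimpleGroup (alternatingGroup Ω9) :=
    alternatingGroup.isSimpleGroup (by rw [Nat.card_eq_fintype_card]; decide)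
  rw [← MonoidHom.ker_eq_bot_iff]
  rcases (inferInstance : f.ker.Normal).eq_bot_or_eq_top with hb | ht
  · exact hb
  · exfalso
    apply h.ne_one 0 κ0_ne
    have h8 := hf ⟨cyc (Sum.inr 0) (Sum.inr 2) (Sum.inr 3),
      PermTypes.cyc_mem_alt (fun h => by simp at h) cd⟩ (Sum.inr 0) (fun h => by simp at h)
      (fun h => by simp at h) rfl
    rw [← h.y_inr0, ← h8]
    have : (⟨cyc (Sum.inr 0) (Sum.inr 2) (Sum.inr 3),
      PermTypes.cyc_mem_alt (fun h => by simp at h) cd⟩ : alternatingGroup Ω9) ∈ f.ker := by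
      rw [ht]; exact mem_top _
    exact this

/-- the type two configuration together with the embedding of `A_9` -/
structure NineEmb (h : TypeTwo A φ β) where
  /-- the embedding -/
  f : alternatingGroup Ω9 →* G
  inj : Function.Injective f
  hf : ∀ (σ : alternatingGroup Ω9) (ω : Ω9), ω ≠ Sum.inr 2 → ω ≠ Sum.inr 3 →
      (σ : Perm Ω9) = cyc ω (Sum.inr 2) (Sum.inr 3) → f σ = h.y ω

theorem exists_emb [Finite G] (h : TypeTwo A φ β) : Nonempty h.NineEmb := by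
  obtain ⟨f, h1, h2⟩ := h.exists_f
  exact ⟨⟨f, h1, h2⟩⟩

namespace NineEmb

variable {h : TypeTwo A φ β} (E : h.NineEmb)

include E

/-- the alternating subgroup -/
def L₀ : Subgroup G := E.f.range

theorem f_mem (σ : alternatingGroup Ω9) : E.f σ ∈ E.L₀ := ⟨σ, rfl⟩

theorem y_mem {ω : Ω9} (h2 : ω ≠ Sum.inr 2) (h3 : ω ≠ Sum.inr 3) : h.y ω ∈ E.L₀ := by
  rw [← E.hf ⟨cyc ω (Sum.inr 2) (Sum.inr 3), PermTypes.cyc_mem_alt h2 cd⟩ ω h2 h3 rfl]
  exact E.f_mem _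

theorem B_le (i : Fin 5) : h.B i ≤ E.L₀ := by
  have h1 : E.L₀.comap (h.hom i) = ⊤ := by
    apply Carm.eq_top_of_cyc (Ω := Fin 5) (c := 2) (d := 3) (by decide) (by decide)
    intro σ p hc hd hσ
    rw [mem_comap, h.hom_apply]
    have hp : p = 4 ∨ p = 0 ∨ p = 1 := by
      fin_cases p <;> simp_all
    rcases hp with rfl | rfl | rfl
    · have : σ = γ := Subtype.ext hσ
      rw [this, ← h.y_inl]
      exact E.y_mem (fun h => by simp at h) (fun h => by simp at h)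
    · have : σ = κ0 := Subtype.ext hσ
      rw [this, h.agree i 0 κ0 κ0_fix, ← h.y_inr0]
      exact E.y_mem (fun h => by simp at h) (fun h => by simp at h)
    · have : σ = κ1 := Subtype.ext hσ
      rw [this, h.agree i 0 κ1 κ1_fix, ← h.y_inr1]
      exact E.y_mem (fun h => by simp at h) (fun h => by simp at h)
  rintro _ ⟨σ, rfl⟩
  have : σ ∈ E.L₀.comap (h.hom i) := by rw [h1]; trivial
  exact this

/-- an element normalizes `L₀` if it maps the `y ω` into `L₀` -/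
theorem mem_N_of_y [Finite G] {x : G} (hx : ∀ ω, ω ≠ Sum.inr 2 → ω ≠ Sum.inr 3 →
    x * h.y ω * x⁻¹ ∈ E.L₀) : x ∈ N E.L₀ := by
  have h1 : (E.L₀.comap ((MulAut.conj x).toMonoidHom.comp E.f)) = ⊤ := by
    apply Carm.eq_top_of_cyc cd (by decide)
    intro σ ω h2 h3 h4
    rw [mem_comap]
    show x * E.f σ * x⁻¹ ∈ E.L₀
    rw [E.hf σ ω h2 h3 h4]
    exact hx ω h2 h3
  apply mem_N_of
  rintro _ ⟨σ, rfl⟩
  have h2 : σ ∈ (E.L₀.comap ((MulAut.conj x).toMonoidHom.comp E.f)) := by rw [h1]; exact mem_top _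
  exact h2

theorem NA_le [Finite G] : N A ≤ N E.L₀ := by
  intro m hm
  apply E.mem_N_of_y
  intro ω h2 h3
  obtain ⟨i, hi⟩ := h.y_mem_B ω h2 h3
  apply E.B_le (φ m i)
  rw [← h.cj_eq hm]
  exact conj_mem_cj.2 hi

omit E in
/-- elements commuting with the common subgroup `A_4` -/
theorem comm_K0 {x : G} (h0 : x * β 0 κ0 = β 0 κ0 * x) (h1 : x * β 0 κ1 = β 0 κ1 * x)
    {κ : A5} (hκ : κ.1 4 = 4) (h : TypeTwo A φ β) : x * β 0 κ = β 0 κ * x := by
  have hp : ∀ (σ : A5), x * β 0 σ = β 0 σ * x → ∀ n : ℕ, x * β 0 (σ ^ n) = β 0 (σ ^ n) * x := by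
    intro σ hσ n
    induction n with
    | zero => rw [pow_zero, h.one, mul_one, one_mul]
    | succ n ih => rw [pow_succ, h.mulβ, ← mul_assoc, ih, mul_assoc, hσ, mul_assoc]
  have hm : ∀ σ τ : A5, x * β 0 σ = β 0 σ * x → x * β 0 τ = β 0 τ * x →
      x * β 0 (σ * τ) = β 0 (σ * τ) * x := by
    intro σ τ hσ hτ
    rw [h.mulβ, ← mul_assoc, hσ, mul_assoc, hτ, mul_assoc]
  obtain ⟨i, j, k, rfl⟩ := fact_words κ hκ
  exact hm _ _ (hm _ _ (hp _ h0 _) (hp _ h1 _)) (hp _ h0 _)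

omit E in
/-- the centralizer of the common subgroup `A_4` is `A × D` -/
theorem mem_AD [Finite G] (h : TypeTwo A φ β) {x : G} (h0 : x * β 0 κ0 = β 0 κ0 * x)
    (h1 : x * β 0 κ1 = β 0 κ1 * x) : ∃ a ∈ A, ∃ d, CD A β d ∧ x = a * d := by
  have hc : ∀ {κ : A5}, κ.1 4 = 4 → x * β 0 κ = β 0 κ * x := fun hκ => comm_K0 h0 h1 hκ h
  have hxN : x ∈ N A := h.nrm 0 (hc isV_r1.2)
  have hs : Perm.sign (φ x) = 1 := by
    rcases Int.units_eq_one_or (Perm.sign (φ x)) with hs | hs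
    · exact hs
    exfalso
    obtain ⟨a', ha'⟩ := fact_move_odd _ hs
    obtain ⟨a, ha, rfl⟩ := Lab.exists_ev h.lab a'
    have e1 : φ (a * x) = φ a * φ x := h.lab.mul _ _ (le_N ha) hxN
    have h2 := h.even_of_cent (x := a * x) (mul_mem (le_N ha) hxN) (l := 0)
      (by rw [e1]; exact ha') (fun ρ hρ => by
        rw [mul_assoc, hc hρ.2, ← mul_assoc, ← comm_of_C (h.t_mem 0 hρ) ha, mul_assoc])
    rw [e1, Perm.sign_mul, mem_alt_iff.1 (h.std.act.even a ha), hs] at h2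
    exact absurd h2 (by decide)
  obtain ⟨a, ha, hax⟩ := h.lab.lift (φ x) (mem_alt_iff.2 hs)
  have h2 : a⁻¹ * x ∈ C A := by
    have e1 := h.lab.mul_inv_mem_C (le_N ha) hxN hax
    have e2 := inv_mem e1
    rw [mul_inv_rev, inv_inv] at e2
    have e3 := conj_mem_C' (le_N ha) e2
    rwa [show a⁻¹ * (x * a⁻¹) * a = a⁻¹ * x by group] at e3
  obtain ⟨κ, hκ, d, hd, e⟩ := h.CA _ h2
  have hκ1 : κ = 1 := by
    have key : ∀ {τ : A5}, τ.1 4 = 4 → κ * τ = τ * κ := by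
      intro τ hτ
      apply h.inj (i := 0)
      rw [h.mulβ, h.mulβ]
      have e1 : a⁻¹ * x * β 0 τ = β 0 τ * (a⁻¹ * x) := by
        rw [mul_assoc, hc hτ, ← mul_assoc, ← comm_of_C ((h.K0 0 τ).2 hτ) (inv_mem ha), mul_assoc]
      rw [e, mul_assoc, hd.2, ← mul_assoc, ← mul_assoc] at e1
      exact mul_right_cancel e1
    exact fact_center4 κ hκ (key κ0_fix) (key κ1_fix)
  rw [hκ1, h.one, one_mul] at e
  exact ⟨a, ha, d, hd, by rw [← e]; group⟩

omit E in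
/-- involutions commuting with the common subgroup `A_4` lie in `A` -/
theorem mem_A_of_inv [Finite G] (h : TypeTwo A φ β) {x : G} (h0 : x * β 0 κ0 = β 0 κ0 * x)
    (h1 : x * β 0 κ1 = β 0 κ1 * x) (hxx : x * x = 1) : x ∈ A := by
  obtain ⟨a, ha, d, hd, rfl⟩ := mem_AD h h0 h1
  have hcomm : a * d = d * a := (comm_of_C hd.1 ha).symm
  have e1 : a * a * (d * d) = 1 := by
    rw [← hxx, show a * a * (d * d) = a * (a * d) * d by group, hcomm,
      show a * (d * a) * d = (a * d) * (a * d) by group, hcomm]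
  have e2 : a * a = 1 := by
    apply h.te.disj _ (mul_mem ha ha)
    rw [eq_inv_of_mul_eq_one_left e1]
    exact inv_mem (mul_mem hd.1 hd.1)
  rw [e2, one_mul] at e1
  rw [h.odd d hd e1, mul_one]
  exact ha

/-- the permutations of the first five points -/
def ι : A5 →* alternatingGroup Ω9 where
  toFun σ := ⟨Perm.sumCongr σ.1 1, by
    rw [mem_alternatingGroup, Perm.sign_sumCongr, map_one, mul_one]
    exact mem_alternatingGroup.1 σ.2⟩
  map_one' := by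
    apply Subtype.ext
    exact Perm.sumCongr_one
  map_mul' σ τ := by
    apply Subtype.ext
    show Perm.sumCongr (σ.1 * τ.1) 1 = Perm.sumCongr σ.1 1 * Perm.sumCongr τ.1 1
    rw [Perm.sumCongr_mul, one_mul]

omit E in
theorem ι_val (σ : A5) : ((ι σ : alternatingGroup Ω9) : Perm Ω9) = Perm.sumCongr σ.1 1 := rfl

omit E in
theorem ι_inj : Function.Injective ι := by
  intro σ τ h
  apply Subtype.ext
  ext i : 1
  have h1 := congrArg (fun t : alternatingGroup Ω9 => t.1 (Sum.inl i)) h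
  exact Sum.inl_injective h1

omit E in
theorem ι_comm (σ : A5) {ω : Ω9} (k : Fin 4) (hω : ω = Sum.inr k) (h2 : ω ≠ Sum.inr 2) :
    ι σ * ⟨cyc ω (Sum.inr 2) (Sum.inr 3), PermTypes.cyc_mem_alt h2 cd⟩ =
      ⟨cyc ω (Sum.inr 2) (Sum.inr 3), PermTypes.cyc_mem_alt h2 cd⟩ * ι σ := by
  apply Subtype.ext
  show Perm.sumCongr σ.1 1 * cyc ω (Sum.inr 2) (Sum.inr 3) =
    cyc ω (Sum.inr 2) (Sum.inr 3) * Perm.sumCongr σ.1 1
  have h1 := PermTypes.cyc_conj (Perm.sumCongr σ.1 (1 : Perm (Fin 4))) ω (Sum.inr 2) (Sum.inr 3)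
  have h3 : ∀ m : Fin 4, Perm.sumCongr σ.1 (1 : Perm (Fin 4)) (Sum.inr m) = Sum.inr m := fun _ => rfl
  rw [hω, h3, h3, h3, mul_inv_eq_iff_eq_mul] at h1
  rw [hω]; exact h1

/-- the image of the alternating group on the first five points is `A` -/
theorem range_eq [Finite G] : (E.f.comp ι).range = A := by
  have hinj : Function.Injective (E.f.comp ι) := E.inj.comp ι_inj
  have h0 := E.hf ⟨cyc (Sum.inr 0) (Sum.inr 2) (Sum.inr 3),
    PermTypes.cyc_mem_alt (fun h => by simp at h) cd⟩ (Sum.inr 0) (fun h => by simp at h)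
    (fun h => by simp at h) rfl
  have h1 := E.hf ⟨cyc (Sum.inr 1) (Sum.inr 2) (Sum.inr 3),
    PermTypes.cyc_mem_alt (fun h => by simp at h) cd⟩ (Sum.inr 1) (fun h => by simp at h)
    (fun h => by simp at h) rfl
  have key : ∀ σ : A5, σ * σ = 1 → E.f (ι σ) ∈ A := by
    intro σ hσ
    apply mem_A_of_inv h
    · rw [← h.y_inr0, ← h0, ← map_mul, ← map_mul, ι_comm σ 0 rfl (fun h => by simp at h)]
    · rw [← h.y_inr1, ← h1, ← map_mul, ← map_mul, ι_comm σ 1 rfl (fun h => by simp at h)]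
    · rw [← map_mul, ← map_mul, hσ, map_one, map_one]
  have hle : (E.f.comp ι).range ≤ A := by
    rintro _ ⟨σ, rfl⟩
    obtain ⟨a, ha, haσ⟩ := fact_two_inv σ
    have e1 : E.f (ι σ) = (E.f (ι a))⁻¹ * E.f (ι (a * σ)) := by
      rw [map_mul, map_mul]; group
    show E.f (ι σ) ∈ A
    rw [e1]
    exact mul_mem (inv_mem (key a ha)) (key _ haσ)
  have hcard : Nat.card A = 60 := by
    have hb : Function.Bijective (fun a : A => Lab.ev h.lab a.2) := by
      constructor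
      · intro a b hab
        exact Subtype.ext (h.lab.inj h.te a.2 b.2 (congrArg Subtype.val hab))
      · intro x
        obtain ⟨a, ha, e⟩ := Lab.exists_ev h.lab x
        exact ⟨⟨a, ha⟩, e⟩
    rw [Nat.card_congr (Equiv.ofBijective _ hb), card_A5]
  exact eq_of_le_of_card_ge hle (by rw [hcard, Amalg.card_range hinj])

theorem A_le [Finite G] : A ≤ E.L₀ := by
  intro a ha
  have h1 : a ∈ (E.f.comp ι).range := by rw [E.range_eq]; exact ha
  obtain ⟨σ, rfl⟩ := h1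
  exact E.f_mem _

/-- the four-group of the letters `inr k` centralizes `A` -/
theorem four_mem :
    (∀ ρ : alternatingGroup Ω9, (ρ : Perm Ω9) =
        swap (Sum.inr 0) (Sum.inr 2) * swap (Sum.inr 1) (Sum.inr 3) → E.f ρ ∈ C A) ∧
      ∀ ρ : alternatingGroup Ω9, (ρ : Perm Ω9) =
        swap (Sum.inr 1) (Sum.inr 2) * swap (Sum.inr 0) (Sum.inr 3) → E.f ρ ∈ C A := by
  have h02 : (Sum.inr 0 : Ω9) ≠ Sum.inr 2 := fun h => by simp at h
  have h03 : (Sum.inr 0 : Ω9) ≠ Sum.inr 3 := fun h => by simp at h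
  have h12 : (Sum.inr 1 : Ω9) ≠ Sum.inr 2 := fun h => by simp at h
  have h13 : (Sum.inr 1 : Ω9) ≠ Sum.inr 3 := fun h => by simp at h
  have e0 := E.hf ⟨cyc (Sum.inr 0) (Sum.inr 2) (Sum.inr 3), PermTypes.cyc_mem_alt h02 cd⟩
    (Sum.inr 0) h02 h03 rfl
  have e1 := E.hf ⟨cyc (Sum.inr 1) (Sum.inr 2) (Sum.inr 3), PermTypes.cyc_mem_alt h12 cd⟩
    (Sum.inr 1) h12 h13 rfl
  have m0 : h.y (Sum.inr 0) ∈ C A := (h.K0 0 κ0).2 κ0_fix
  have m1 : h.y (Sum.inr 1) ∈ C A := (h.K0 0 κ1).2 κ1_fix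
  constructor
  · intro ρ hρ
    rw [← Final.cyc_mul_cyc h12 h13] at hρ
    have h1 : ρ = ⟨cyc (Sum.inr 0) (Sum.inr 2) (Sum.inr 3), PermTypes.cyc_mem_alt h02 cd⟩ *
      ⟨cyc (Sum.inr 1) (Sum.inr 2) (Sum.inr 3), PermTypes.cyc_mem_alt h12 cd⟩ := Subtype.ext hρ
    rw [h1, map_mul, e0, e1]
    exact mul_mem m0 m1
  · intro ρ hρ
    rw [← Final.cyc_mul_cyc h02 h03] at hρ
    have h1 : ρ = ⟨cyc (Sum.inr 1) (Sum.inr 2) (Sum.inr 3), PermTypes.cyc_mem_alt h12 cd⟩ *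
      ⟨cyc (Sum.inr 0) (Sum.inr 2) (Sum.inr 3), PermTypes.cyc_mem_alt h02 cd⟩ := Subtype.ext hρ
    rw [h1, map_mul, e0, e1]
    exact mul_mem m1 m0

omit E in
theorem fact_root : ∀ σ : A5, σ * σ = 1 → σ ≠ 1 →
    (Perm.sumCongr σ.1 (1 : Perm (Fin 4))).support.card = 4 := by decide +kernel

theorem isRoot_of [Finite G] {a : G} (ha : a ∈ A) (ha1 : a ≠ 1) (haa : a * a = 1) :
    ∃ ρ : alternatingGroup Ω9, E.f ρ = a ∧ IsRoot (ρ : Perm Ω9) := by
  rw [← E.range_eq] at ha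
  obtain ⟨σ, rfl⟩ := ha
  have hinj : Function.Injective (E.f.comp ι) := E.inj.comp ι_inj
  have h1 : σ * σ = 1 := by
    apply hinj
    rw [map_mul, haa, map_one]
  have h2 : σ ≠ 1 := by
    rintro rfl
    exact ha1 (map_one _)
  refine ⟨ι σ, rfl, ?_, fact_root σ h1 h2⟩
  have h3 : ι σ * ι σ = 1 := by rw [← map_mul, h1, map_one]
  exact congrArg Subtype.val h3

omit E in
theorem allK (h : TypeTwo A φ β) : AllK A := by
  refine allK_of_exists h.lab h.te ?_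
  obtain ⟨g, hg⟩ := h.cj_B 0
  have e : g * (g⁻¹ * β 0 r1 * g) * g⁻¹ = β 0 r1 := by group
  refine ⟨g, g⁻¹ * β 0 r1 * g, ?_, ?_, ?_, ?_⟩
  · rw [hg, e]; exact h.mem_B' 0 r1
  · intro e1
    apply h.ne_one 0 r1_ne
    rw [← e, e1]; group
  · rw [show g⁻¹ * β 0 r1 * g * (g⁻¹ * β 0 r1 * g) = g⁻¹ * (β 0 r1 * β 0 r1) * g by group,
      h.sq_of_V 0 isV_r1]; group
  · rw [e]; exact h.t_mem 0 isV_r1

omit E in
/-- pairs -/
theorem hpairs [Finite G] (h : TypeTwo A φ β) (A' : Subgroup G) (hc : Cj A A') (hne : A' ≠ A)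
    (h4 : 4 ∣ Nat.card ↥(C A ⊓ N A')) : ∃ x ∈ A, x ∈ C A' ∧ x ≠ 1 ∧ x * x = 1 := by
  have hF2 : Fact (Nat.Prime 2) := ⟨Nat.prime_two⟩
  obtain ⟨T₀, hT₀⟩ := Sylow.exists_subgroup_card_pow_prime (G := ↥(C A ⊓ N A')) 2 (n := 2) (by
    norm_num; exact h4)
  set T : Subgroup G := T₀.map (C A ⊓ N A').subtype with hT
  have hT4 : Nat.card T = 4 := by
    rw [hT, Nat.card_congr (T₀.equivMapOfInjective _ (subtype_injective _)).toEquiv.symm, hT₀]
    norm_num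
  have hTC : T ≤ C A ⊓ N A' := map_subtype_le _
  obtain ⟨g, hg⟩ := hc.exists_eq
  obtain ⟨L', -⟩ : ∃ L' : Lab A' (Fin 5), True := by
    rw [hg]; exact ⟨h.lab.cj g, trivial⟩
  have hTA' : T ≤ A' := no_odd L' (h.te.of_cj hc) (h.hasFour.of_cj hc) ((allK h).of_cj hc) hc.symm hne
    (hTC.trans inf_le_left) (hTC.trans inf_le_right) hT4
  -- an involution of `T`
  obtain ⟨b, hb⟩ := exists_prime_orderOf_dvd_card' (G := T) 2 (by rw [hT4]; norm_num)
  have hb1 : (b : G) ≠ 1 := by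
    intro e
    have : b = 1 := Subtype.ext e
    rw [this, orderOf_one] at hb
    exact absurd hb (by norm_num)
  have hbb : (b : G) * b = 1 := by
    have := pow_orderOf_eq_one b
    rw [hb, pow_two] at this
    exact congrArg Subtype.val this
  exact exists_inv_B L' h.lab (h.te.of_cj hc) hc.symm hne (h.hasFour.of_cj hc) (hTA' b.2) hb1 hbb
    (hTC b.2).1

/-- **The closing.** -/
theorem normal [Finite G] : E.L₀.Normal := by
  have h02 : (Sum.inr 0 : Ω9) ≠ Sum.inr 2 := fun h => by simp at h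
  have h03 : (Sum.inr 0 : Ω9) ≠ Sum.inr 3 := fun h => by simp at h
  have h12 : (Sum.inr 1 : Ω9) ≠ Sum.inr 2 := fun h => by simp at h
  have h13 : (Sum.inr 1 : Ω9) ≠ Sum.inr 3 := fun h => by simp at h
  have h01 : (Sum.inr 0 : Ω9) ≠ Sum.inr 1 := fun h => by simp at h
  have h20 := Ne.symm h02
  have hr0 : IsRoot (swap (Sum.inr 0) (Sum.inr 2) * swap (Sum.inr 1) (Sum.inr 3) :
      Perm Ω9) := Roots.isRoot_swap_mul h02 h01 h03 (Ne.symm h12) cd h13
  have hr1 : IsRoot (swap (Sum.inr 1) (Sum.inr 2) * swap (Sum.inr 0) (Sum.inr 3) :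
      Perm Ω9) := Roots.isRoot_swap_mul h12 (Ne.symm h01) h13 (Ne.symm h02) cd h03
  set ρ₀ : alternatingGroup Ω9 := ⟨_, hr0.mem_alternatingGroup⟩ with hρ₀
  set ρ₁ : alternatingGroup Ω9 := ⟨_, hr1.mem_alternatingGroup⟩ with hρ₁
  have hk0 : E.f ρ₀ ∈ C A := E.four_mem.1 ρ₀ rfl
  have hk1 : E.f ρ₁ ∈ C A := E.four_mem.2 ρ₁ rfl
  have hsq0 : E.f ρ₀ * E.f ρ₀ = 1 := by
    rw [← map_mul, show ρ₀ * ρ₀ = 1 from Subtype.ext hr0.1, map_one]
  have hsq1 : E.f ρ₁ * E.f ρ₁ = 1 := by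
    rw [← map_mul, show ρ₁ * ρ₁ = 1 from Subtype.ext hr1.1, map_one]
  have hne : ∀ {ρ : alternatingGroup Ω9}, IsRoot (ρ : Perm Ω9) → E.f ρ ≠ 1 := by
    intro ρ hρ h
    rw [← map_one E.f] at h
    have h1 := hρ.2
    rw [E.inj h] at h1
    simp at h1
  have hne0 : E.f ρ₀ ≠ 1 := hne hr0
  have hne1 : E.f ρ₁ ≠ 1 := hne hr1
  have hne01 : E.f ρ₀ ≠ E.f ρ₁ := by
    intro h
    have h1 := congrArg Subtype.val (E.inj h)
    have h2 := congrArg (fun g : Perm Ω9 => g (Sum.inr 0)) h1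
    simp only [hρ₀, hρ₁, mul_apply] at h2
    rw [swap_apply_of_ne_of_ne h01 h03, swap_apply_left, swap_apply_left,
      swap_apply_of_ne_of_ne (Ne.symm h13) (Ne.symm cd)] at h2
    exact cd h2
  have hcomm : E.f ρ₀ * E.f ρ₁ = E.f ρ₁ * E.f ρ₀ := by
    rw [← map_mul, ← map_mul]
    congr 1
    apply Subtype.ext
    show swap (Sum.inr 0) (Sum.inr 2) * swap (Sum.inr 1) (Sum.inr 3) *
      (swap (Sum.inr 1) (Sum.inr 2) * swap (Sum.inr 0) (Sum.inr 3)) =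
      swap (Sum.inr 1) (Sum.inr 2) * swap (Sum.inr 0) (Sum.inr 3) *
      (swap (Sum.inr 0) (Sum.inr 2) * swap (Sum.inr 1) (Sum.inr 3))
    decide +kernel
  have hNC : ∀ x : G, x ∈ normalizer ((C A : Subgroup G) : Set G) → x ∈ N A := by
    intro x hx
    exact h.te.key _ x hk0 hne0 hsq0 ((mem_normalizer_iff.1 hx _).1 hk0)
  set e : alternatingGroup Ω9 ≃* E.L₀ := MonoidHom.ofInjective E.inj with he
  have hef : ∀ ρ, ((e ρ : E.L₀) : G) = E.f ρ := fun ρ => rfl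
  refine Closing.normal_of_tight (by decide) e hr0 hk0 ?_ ?_ ?_
  · intro x t ht htt ht1 hx
    exact N_le_N_C (h.te.key t x ht ht1 htt hx)
  · intro x hx
    exact E.NA_le (hNC x hx)
  · intro g x y z w hxy hxz hxw hyz hyw hzw a₁ a₂ ha₁ ha₂ hN1 hN2
    rw [hef] at hN1 hN2
    obtain ⟨l, hl, l1, l2, l3, l4⟩ := Final.exists_even_four (by decide)
      (PermTypes.nodup_four h20 (Ne.symm h12) cd h01 h03 h13)
      (PermTypes.nodup_four hxy hxz hxw hyz hyw hzw)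
    set m' : alternatingGroup Ω9 := ⟨l, hl⟩ with hm'
    have c1 : m' * a₁ * m'⁻¹ = ρ₀ := by
      apply Subtype.ext
      show l * a₁ * l⁻¹ = _
      rw [ha₁, Final.swap4_conj, l1, l2, l3, l4, swap_comm (Sum.inr 2)]
    have c2 : m' * a₂ * m'⁻¹ = ρ₁ := by
      apply Subtype.ext
      show l * a₂ * l⁻¹ = _
      rw [ha₂, Final.swap4_conj, l1, l2, l3, l4, swap_comm (Sum.inr 2)]
    set k : G := E.f m' * g with hk
    have d1 : ∀ a : alternatingGroup Ω9, k⁻¹ * E.f (m' * a * m'⁻¹) * k =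
        g⁻¹ * E.f a * g := by
      intro a
      rw [map_mul, map_mul, map_inv, hk]; group
    have d0 : k⁻¹ * E.f ρ₀ * k ∈ N A := by
      rw [← c1, d1]; exact hNC _ hN1
    have d0' : k⁻¹ * E.f ρ₁ * k ∈ N A := by
      rw [← c2, d1]; exact hNC _ hN2
    by_cases hA' : Conj.cj k A = A
    · rw [cj_eq_iff] at hA'
      refine ⟨a₁, ?_, ?_⟩
      · rw [ha₁]
        exact Roots.isRoot_swap_mul hxy hxz hxw hyz hyw hzw
      · rw [hef, ← d1, c1]
        exact conj_mem_C' hA' hk0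
    · have h4 : 4 ∣ Nat.card ↥(C A ⊓ N (Conj.cj k A)) := by
        have m0 : E.f ρ₀ ∈ C A ⊓ N (Conj.cj k A) := mem_inf.2 ⟨hk0, mem_N_cj.2 d0⟩
        have m1 : E.f ρ₁ ∈ C A ⊓ N (Conj.cj k A) := mem_inf.2 ⟨hk1, mem_N_cj.2 d0'⟩
        rw [← card_four (htt := hsq0) (hyy := hsq1) (hty := hcomm) hne0 hne1 hne01]
        apply card_dvd_of_le
        rintro x (rfl | rfl | rfl | rfl)
        · exact one_mem _
        · exact m0
        · exact m1
        · exact mul_mem m0 m1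
      obtain ⟨v, hv, hvC, hv1, hvv⟩ := hpairs h _ (Cj.cj A k) hA' h4
      obtain ⟨ρ, hρ, hρR⟩ := E.isRoot_of hv hv1 hvv
      refine ⟨m'⁻¹ * ρ * m', ?_, ?_⟩
      · have := hρR.conj l⁻¹
        rwa [inv_inv] at this
      · rw [hef, ← d1, show m' * (m'⁻¹ * ρ * m') * m'⁻¹ = ρ by group, hρ]
        exact mem_C_cj.1 hvC

end NineEmb

/-- **Main theorem** on the type two configuration. -/
theorem main [Finite G] (h : TypeTwo A φ β) :
    ∃ L₀ : Subgroup G, L₀.Normal ∧ A ≤ L₀ ∧ Nonempty (L₀ ≃* alternatingGroup (Fin 9)) := by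
  obtain ⟨E⟩ := h.exists_emb
  refine ⟨E.L₀, E.normal, E.A_le, ⟨(MonoidHom.ofInjective E.inj).symm.trans ?_⟩⟩
  apply Equiv.altCongrHom
  apply Fintype.equivFinOfCardEq
  rfl

/-- the normal closure of `A` -/
theorem normalClosure_equiv [Finite G] (h : TypeTwo A φ β) :
    Nonempty (↥(normalClosure (A : Set G)) ≃* alternatingGroup (Fin 9)) := by
  obtain ⟨L₀, hn, hle, ⟨e⟩⟩ := h.main
  have hsimple : IsSimpleGroup (alternatingGroup (Fin 9)) :=
    alternatingGroup.isSimpleGroup (by simp)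
  have hnt : Nontrivial L₀ := e.toEquiv.nontrivial
  have hs : IsSimpleGroup L₀ := IsSimpleGroup.isSimpleGroup_of_surjective e.symm.toMonoidHom e.symm.surjective
  have h1 : normalClosure (A : Set G) ≤ L₀ := normalClosure_le_normal hle
  have h2 : normalClosure (A : Set G) = L₀ := by
    rcases (inferInstance : ((normalClosure (A : Set G)).subgroupOf L₀).Normal).eq_bot_or_eq_top with h3 | h3
    · exfalso
      obtain ⟨a, ha, ha1, -⟩ := h.exists_inv 0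
      have h4 : (⟨a, hle ha⟩ : L₀) ∈ (normalClosure (A : Set G)).subgroupOf L₀ :=
        mem_subgroupOf.2 (subset_normalClosure ha)
      rw [h3, mem_bot] at h4
      exact ha1 (congrArg Subtype.val h4)
    · exact le_antisymm h1 (subgroupOf_eq_top.1 h3)
  rw [h2]
  exact ⟨e⟩

end TypeTwo

end Cfsg.Agent.StdAlt.Five
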