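import Cfsg.Agent.StdAlt.Five.Pair
import Cfsg.Agent.StdAlt.CaseB

/-!
# Pairs with an involution of `A` centralizing `B`
-/

set_option autoImplicit false
set_option linter.unusedSectionVars false

namespace Cfsg.Agent.StdAlt.Five

open Subgroup Equiv Cfsg.Agent.StdAlt.Conj Cfsg.Agent.StdAlt.Pairs Cfsg.Agent.StdAlt.First
open Cfsg.Agent.StdAlt.Two (HasFour)

variable {G : Type*} [Group G] {A B : Subgroup G}

/-- An element of `N B` commuting with two commuting involutions of `C A ⊓ N B` acts on `B` like one of their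
products. -/
theorem four_cases [Finite G] (L' : Lab B (Fin 5)) (hA : TE A) (hB : Cj A B) (hne : A ≠ B)
    {r s : G} (hr : r ∈ C A) (hs : s ∈ C A) (hrN : r ∈ N B) (hsN : s ∈ N B) (hr1 : r ≠ 1)
    (hs1 : s ≠ 1) (hsr : s ≠ r) (hrr : r * r = 1) (hss : s * s = 1) (hc : r * s = s * r)
    {v : G} (hv : v ∈ N B) (hvr : v * r = r * v) (hvs : v * s = s * v) :
    ∃ w, (w = 1 ∨ w = r ∨ w = s ∨ w = r * s) ∧ L'.φ v = L'.φ w := by
  have hBt : TE B := hA.of_cj hB
  have key : ∀ z ∈ C A, z ∈ N B → z * z = 1 → L'.φ z = 1 → z = 1 := by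
    intro z hz hzN hzz h
    by_contra hz1
    exact hne (hA.eq_of_mem hB hz1 hzz hz ((L'.ker z hzN).1 h))
  have h1 := fact_four (s := L'.φ r) (t := L'.φ s) (x := L'.φ v)
    (by rw [← L'.mul _ _ hrN hrN, hrr, L'.one]) (fun h => hr1 (key r hr hrN hrr h))
    (by rw [← L'.mul _ _ hsN hsN, hss, L'.one]) (fun h => hs1 (key s hs hsN hss h))
    (by
      intro h
      apply hsr
      have h2 : s * r = 1 := by
        apply key _ (mul_mem hs hr) (mul_mem hsN hrN)
        · rw [show s * r * (s * r) = s * (r * s) * r by group, hc,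
            show s * (s * r) * r = (s * s) * (r * r) by group, hss, hrr, one_mul]
        · rw [L'.mul _ _ hsN hrN, h, ← L'.mul _ _ hrN hrN, hrr, L'.one]
      rw [eq_inv_of_mul_eq_one_left h2]
      exact inv_eq_of_mul_eq_one_left hrr)
    (L'.comm' hrN hsN hc) (L'.comm' hv hrN hvr) (L'.comm' hv hsN hvs)
  rcases h1 with h | h | h | h
  · exact ⟨1, Or.inl rfl, by rw [h, L'.one]⟩
  · exact ⟨r, Or.inr (Or.inl rfl), h⟩
  · exact ⟨s, Or.inr (Or.inr (Or.inl rfl)), h⟩
  · exact ⟨r * s, Or.inr (Or.inr (Or.inr rfl)), by rw [h, L'.mul _ _ hrN hsN]⟩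

/-- commuting involutions of `C A` generate a group of order at most four -/
theorem rank_two [Finite G] (L' : Lab B (Fin 5)) (hA : TE A) (hB : Cj A B) (hne : A ≠ B)
    (hle : C A ≤ N B)
    {r s : G} (hr : r ∈ C A) (hs : s ∈ C A) (hr1 : r ≠ 1)
    (hs1 : s ≠ 1) (hsr : s ≠ r) (hrr : r * r = 1) (hss : s * s = 1) (hc : r * s = s * r)
    {v : G} (hv : v ∈ C A) (hvv : v * v = 1) (hvr : v * r = r * v) (hvs : v * s = s * v) :
    v = 1 ∨ v = r ∨ v = s ∨ v = r * s := by
  obtain ⟨w, hw, hvw⟩ := four_cases L' hA hB hne hr hs (hle hr) (hle hs) hr1 hs1 hsr hrr hss hc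
    (hle hv) hvr hvs
  have hwC : w ∈ C A := by
    rcases hw with rfl | rfl | rfl | rfl
    · exact one_mem _
    · exact hr
    · exact hs
    · exact mul_mem hr hs
  have hww : w * w = 1 := by
    rcases hw with rfl | rfl | rfl | rfl
    · exact one_mul _
    · exact hrr
    · exact hss
    · rw [show r * s * (r * s) = r * (s * r) * s by group, ← hc,
        show r * (r * s) * s = (r * r) * (s * s) by group, hrr, hss, one_mul]
  have hvwc : v * w = w * v := by
    rcases hw with rfl | rfl | rfl | rfl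
    · rw [mul_one, one_mul]
    · exact hvr
    · exact hvs
    · rw [← mul_assoc, hvr, mul_assoc, hvs, mul_assoc]
  have h1 : v * w = 1 := by
    by_contra h
    refine hne (hA.eq_of_mem hB h ?_ (mul_mem hv hwC) ?_)
    · rw [show v * w * (v * w) = v * (w * v) * w by group, ← hvwc,
        show v * (v * w) * w = (v * v) * (w * w) by group, hvv, hww, one_mul]
    · rw [← L'.ker _ (hle (mul_mem hv hwC)), L'.mul _ _ (hle hv) (hle hwC), hvw,
        ← L'.mul _ _ (hle hwC) (hle hwC), hww, L'.one]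
  have h2 : v = w := by
    rw [eq_inv_of_mul_eq_one_left h1]
    exact inv_eq_of_mul_eq_one_left hww
  rw [h2]; exact hw

/-- **(P2)**: if an involution of `Kl i` centralizes `B` then so does the stabilizer of `i` in `A`. -/
theorem stab_le [Finite G] (L : Lab A (Fin 5)) (L' : Lab B (Fin 5)) (hA : TE A) (hB : Cj A B)
    (hne : A ≠ B) (hF : HasFour A) {y : G} (hyA : y ∈ A) (hy1 : y ≠ 1) (hyy : y * y = 1)
    (hyB : y ∈ C B) {i : Fin 5} (hyi : L.φ y i = i) :
    ∀ a ∈ A, L.φ a i = i → a ∈ C B := by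
  have hBt : TE B := hA.of_cj hB
  have hle : C A ≤ N B := fun k hk => hBt.nrm hyB hy1 hyy (comm_of_C hk hyA)
  obtain ⟨r, hr, s, hs, hr1, hs1, hsr, hrr, hss, hc⟩ := hF
  have hY1 : Lab.ev L hyA ≠ 1 := fun h => hy1 ((Lab.ev_eq_one L hA hyA).1 h)
  have hYY : Lab.ev L hyA * Lab.ev L hyA = 1 := (Lab.ev_sq L hA hyA).2 hyy
  -- the four-group
  have hV : ∀ v ∈ A, v * v = 1 → L.φ v i = i → v ∈ C B := by
    intro v hv hvv hvi
    by_cases hv1 : v = 1
    · rw [hv1]; exact one_mem _
    by_cases hvy : v = y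
    · rw [hvy]; exact hyB
    have hW1 : Lab.ev L hv ≠ 1 := fun h => hv1 ((Lab.ev_eq_one L hA hv).1 h)
    have hWW : Lab.ev L hv * Lab.ev L hv = 1 := (Lab.ev_sq L hA hv).2 hvv
    have hWY : Lab.ev L hv ≠ Lab.ev L hyA := fun h => hvy (L.inj hA hv hyA (congrArg Subtype.val h))
    have hcomm : v * y = y * v :=
      (Lab.ev_comm L hA hv hyA).1 (comm_of_fix _ hWW hW1 _ hYY hY1 i hvi hyi)
    have hvN : v ∈ N B := hBt.nrm hyB hy1 hyy hcomm
    obtain ⟨w, hw, hvw⟩ := four_cases L' hA hB hne hr hs (hle hr) (hle hs) hr1 hs1 hsr hrr hss hc.symm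
      hvN (comm_of_C hr hv).symm (comm_of_C hs hv).symm
    have hwC : w ∈ C A := by
      rcases hw with rfl | rfl | rfl | rfl
      · exact one_mem _
      · exact hr
      · exact hs
      · exact mul_mem hr hs
    have hww : w * w = 1 := by
      rcases hw with rfl | rfl | rfl | rfl
      · exact one_mul _
      · exact hrr
      · exact hss
      · rw [show r * s * (r * s) = r * (s * r) * s by group, hc,
          show r * (r * s) * s = (r * r) * (s * s) by group, hrr, hss, one_mul]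
    by_cases hw1 : w = 1
    · rw [hw1, L'.one] at hvw
      exact (L'.ker v hvN).1 hvw
    exfalso
    -- `w v ∈ C B`
    have hwv : w * v ∈ C B := by
      rw [← L'.ker _ (mul_mem (hle hwC) hvN), L'.mul _ _ (hle hwC) hvN, hvw,
        ← L'.mul _ _ (hle hwC) (hle hwC), hww, L'.one]
    have hwvc : w * v = v * w := comm_of_C hwC hv
    have hwv1 : w * v ≠ 1 := by
      intro h
      have h2 : w = v⁻¹ := eq_inv_of_mul_eq_one_left h
      apply hw1
      apply hA.disj w _ hwC
      rw [h2]; exact inv_mem hv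
    have hwv2 : w * v * (w * v) = 1 := by
      rw [show w * v * (w * v) = w * (v * w) * v by group, ← hwvc,
        show w * (w * v) * v = (w * w) * (v * v) by group, hww, hvv, one_mul]
    obtain ⟨ρ', hρi, hρ1, hρ2⟩ := fact_rho i _ hYY hY1 hyi _ hWW hW1 hWY hvi
    obtain ⟨ρ, hρ, rfl⟩ := Lab.exists_ev L ρ'
    have e1 : ρ * v * ρ⁻¹ = v * y := by
      apply L.inj hA (conj_mem (le_N hρ) hv) (mul_mem hv hyA)
      rw [L.conj (le_N hρ) (le_N hv), L.mul _ _ (le_N hv) (le_N hyA)]
      exact congrArg Subtype.val hρ1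
    have e2 : ρ * y * ρ⁻¹ = v := by
      apply L.inj hA (conj_mem (le_N hρ) hyA) hv
      rw [L.conj (le_N hρ) (le_N hyA)]
      exact congrArg Subtype.val hρ2
    have hρw : ρ * w = w * ρ := (comm_of_C hwC hρ).symm
    have h3 : ρ * (w * v) * ρ⁻¹ = w * v * y := by
      rw [← mul_assoc, hρw, show w * ρ * v * ρ⁻¹ = w * (ρ * v * ρ⁻¹) by group, e1, mul_assoc]
    have hρN : ρ ∈ N B := hBt.key (w * v) ρ hwv hwv1 hwv2 (by rw [h3]; exact mul_mem hwv hyB)
    have h4 : v ∈ C B := by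
      rw [← e2]; exact conj_mem_C hρN hyB
    have h5 : w ∈ C B := by
      have := mul_mem hwv (inv_mem h4)
      rwa [mul_inv_cancel_right] at this
    exact hne (hA.eq_of_mem hB hw1 hww hwC h5)
  -- the whole stabilizer
  intro a ha hai
  have hsq : a * a ∈ C B := by
    have haN : a ∈ N B := by
      apply hBt.key y a hyB hy1 hyy
      apply hV _ (conj_mem (le_N ha) hyA)
      · rw [show a * y * a⁻¹ * (a * y * a⁻¹) = a * (y * y) * a⁻¹ by group, hyy]; group
      · have h8 : (L.φ a)⁻¹ i = i := by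
          rw [Perm.inv_eq_iff_eq]; exact hai.symm
        rw [L.conj (le_N ha) (le_N hyA), Perm.mul_apply, Perm.mul_apply, h8, hyi, hai]
    obtain ⟨w, hw, hvw⟩ := four_cases L' hA hB hne hr hs (hle hr) (hle hs) hr1 hs1 hsr hrr hss hc.symm
      haN (comm_of_C hr ha).symm (comm_of_C hs ha).symm
    have hwN : w ∈ N B ∧ w * w = 1 := by
      rcases hw with rfl | rfl | rfl | rfl
      · exact ⟨one_mem _, one_mul _⟩
      · exact ⟨hle hr, hrr⟩
      · exact ⟨hle hs, hss⟩
      · refine ⟨mul_mem (hle hr) (hle hs), ?_⟩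
        rw [show r * s * (r * s) = r * (s * r) * s by group, hc,
          show r * (r * s) * s = (r * r) * (s * s) by group, hrr, hss, one_mul]
    rw [← L'.ker _ (mul_mem haN haN), L'.mul _ _ haN haN, hvw, ← L'.mul _ _ hwN.1 hwN.1, hwN.2,
      L'.one]
  rcases fact_stab i (Lab.ev L ha) hai with h | h
  · exact hV a ha ((Lab.ev_sq L hA ha).1 h) hai
  · have h1 : a * a * a = 1 := by
      apply L.eq_one hA (mul_mem (mul_mem ha ha) ha)
      rw [L.mul _ _ (mul_mem (le_N ha) (le_N ha)) (le_N ha), L.mul _ _ (le_N ha) (le_N ha)]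
      exact congrArg Subtype.val h
    have h2 : a = (a * a) * (a * a) := by
      rw [show a * a * (a * a) = (a * a * a) * a by group, h1, one_mul]
    rw [h2]; exact mul_mem hsq hsq

/-- conversely elements of `A ⊓ C B` fix `i` -/
theorem fix_of_mem [Finite G] (L : Lab A (Fin 5)) (hA : TE A) (hB : Cj A B) {i : Fin 5}
    (hst : ∀ a ∈ A, L.φ a i = i → a ∈ C B) : ∀ a ∈ A, a ∈ C B → L.φ a i = i := by
  intro a ha haB
  by_contra hai
  apply hA.ncomm B hB
  intro x hx
  by_cases hxi : L.φ x i = i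
  · exact hst x hx hxi
  obtain ⟨s', hs1, hs2⟩ := fact_trans i (L.φ a i) (L.φ x i) hai hxi
  obtain ⟨s, hs, rfl⟩ := Lab.exists_ev L s'
  rw [Lab.ev_val] at hs1 hs2
  have h1 : L.φ ((s * a)⁻¹ * x) i = i := by
    rw [L.mul _ _ (inv_mem (mul_mem (le_N hs) (le_N ha))) (le_N hx),
      L.inv (mul_mem (le_N hs) (le_N ha)), L.mul _ _ (le_N hs) (le_N ha), Perm.mul_apply,
      Perm.inv_eq_iff_eq, Perm.mul_apply, hs2]
  have h2 := hst _ (mul_mem (inv_mem (mul_mem hs ha)) hx) h1
  have h3 : x = s * a * ((s * a)⁻¹ * x) := by group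
  rw [h3]
  exact mul_mem (mul_mem (hst s hs hs1) haB) h2

end Cfsg.Agent.StdAlt.Five
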