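import Cfsg.Agent.StdAlt.Five.TwoPair

/-!
# Pairs of type two: the structure of the centralizers
-/

set_option autoImplicit false
set_option linter.unusedSectionVars false

namespace Cfsg.Agent.StdAlt.Five

open Subgroup Equiv Cfsg.Agent.StdAlt.Conj Cfsg.Agent.StdAlt.Pairs Cfsg.Agent.StdAlt.First
open Cfsg.Agent.StdAlt.Two (HasFour)

variable {G : Type*} [Group G] {A B : Subgroup G}

theorem perm_inv_fix {σ : Perm (Fin 5)} {i : Fin 5} (h : σ i = i) : σ⁻¹ i = i := by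
  rw [Perm.inv_eq_iff_eq]; exact h.symm

/-- some involution of `B` centralizes `A` -/
theorem exists_inv_B [Finite G] (L : Lab A (Fin 5)) (L' : Lab B (Fin 5)) (hA : TE A) (hB : Cj A B)
    (hne : A ≠ B) (hF : HasFour A) {y : G} (hyA : y ∈ A) (hy1 : y ≠ 1) (hyy : y * y = 1)
    (hyB : y ∈ C B) : ∃ b ∈ B, b ∈ C A ∧ b ≠ 1 ∧ b * b = 1 := by
  have hBt : TE B := hA.of_cj hB
  have hle : C A ≤ N B := fun k hk => hBt.nrm hyB hy1 hyy (comm_of_C hk hyA)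
  by_contra hcon
  push Not at hcon
  have hno : ∀ b ∈ B, b ∈ C A → b * b = 1 → b = 1 := by
    intro b hb hbA hbb
    by_contra hb1
    exact hcon b hb hbA hb1 hbb
  obtain ⟨r, hr, s, hs, hr1, hs1, hsr, hrr, hss, hc⟩ := hF
  have hTle : four r s hrr hss hc.symm ≤ C A := by
    intro x hx
    rcases mem_four.1 hx with rfl | rfl | rfl | rfl
    · exact one_mem _
    · exact hr
    · exact hs
    · exact mul_mem hr hs
  obtain ⟨j, hj, -⟩ := odd_pair L' hBt hB.symm (Ne.symm hne) hno hTle (hTle.trans hle)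
    (card_four hr1 hs1 (Ne.symm hsr))
  have hrT : r ∈ four r s hrr hss hc.symm := mem_four.2 (Or.inr (Or.inl rfl))
  obtain ⟨b, hb, hbr⟩ := L'.lift (L'.φ r) (hj r hrT).2.2
  have hbrc : b * r = r * b := L'.comm_of hBt hb (hle hr) (by rw [hbr])
  have hbb : b * b = 1 := by
    apply L'.eq_one hBt (mul_mem hb hb)
    rw [L'.mul _ _ (le_N hb) (le_N hb), hbr, ← L'.mul _ _ (hle hr) (hle hr), hrr, L'.one]
  set w : G := r * b with hw
  have hwB : w ∈ C B := by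
    rw [← L'.ker _ (mul_mem (hle hr) (le_N hb)), L'.mul _ _ (hle hr) (le_N hb), hbr,
      ← L'.mul _ _ (hle hr) (hle hr), hrr, L'.one]
  have hw1 : w ≠ 1 := by
    intro h
    have h1 : b = r⁻¹ := eq_inv_of_mul_eq_one_right h
    have h2 : b = 1 := hno b hb (by rw [h1]; exact inv_mem hr) hbb
    rw [h2] at h1
    exact hr1 (inv_eq_one.1 h1.symm)
  have hww : w * w = 1 := by
    rw [hw, show r * b * (r * b) = r * (b * r) * b by group, hbrc,
      show r * (r * b) * b = (r * r) * (b * b) by group, hrr, hbb, one_mul]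
  -- the point fixed by `y`
  have hY1 : Lab.ev L hyA ≠ 1 := fun h => hy1 ((Lab.ev_eq_one L hA hyA).1 h)
  have hYY : Lab.ev L hyA * Lab.ev L hyA = 1 := (Lab.ev_sq L hA hyA).2 hyy
  obtain ⟨i, hyi⟩ := exists_fix _ hYY hY1
  have hst := stab_le L L' hA hB hne ⟨r, hr, s, hs, hr1, hs1, hsr, hrr, hss, hc⟩ hyA hy1 hyy hyB hyi
  have hwst : ∀ a ∈ A, L.φ a i = i → w * a = a * w := by
    intro a ha hai
    have h1 : r * a = a * r := comm_of_C hr ha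
    have h2 : a * b = b * a := comm_of_C (hst a ha hai) hb
    rw [hw, mul_assoc, ← h2, ← mul_assoc, h1, mul_assoc]
  obtain ⟨v', hvv', hv1', hvy', hvi'⟩ := fact_kl2 i _ hYY hY1 hyi
  obtain ⟨v, hv, rfl⟩ := Lab.exists_ev L v'
  have hvv : v * v = 1 := (Lab.ev_sq L hA hv).1 hvv'
  have hv1 : v ≠ 1 := fun h => hv1' ((Lab.ev_eq_one L hA hv).2 h)
  have hvy : v ≠ y := by
    rintro rfl
    exact hvy' rfl
  have hyv : y * v = v * y := (Lab.ev_comm L hA hyA hv).1 (comm_of_fix _ hYY hY1 _ hvv' hv1' i hyi hvi')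
  -- transport to `C A`
  obtain ⟨g, rfl⟩ := hB.exists_eq
  have ci : ∀ x z : G, g⁻¹ * x * g = g⁻¹ * z * g → x = z := by
    intro x z h
    rw [show x = g * (g⁻¹ * x * g) * g⁻¹ by group, h]; group
  have cm : ∀ x z : G, g⁻¹ * (x * z) * g = (g⁻¹ * x * g) * (g⁻¹ * z * g) := by
    intro x z; group
  have c1 : g⁻¹ * 1 * g = 1 := by group
  have hres := rank_two L' hA hB hne hle (r := g⁻¹ * y * g) (s := g⁻¹ * v * g) (v := g⁻¹ * w * g)
    (mem_C_cj.1 hyB) (mem_C_cj.1 (hst v hv hvi'))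
    (fun h => hy1 (ci _ _ (by rw [h, c1]))) (fun h => hv1 (ci _ _ (by rw [h, c1])))
    (fun h => hvy (ci _ _ h)) (by rw [← cm, hyy, c1]) (by rw [← cm, hvv, c1])
    (by rw [← cm, ← cm, hyv]) (mem_C_cj.1 hwB) (by rw [← cm, hww, c1])
    (by rw [← cm, ← cm, hwst y hyA hyi]) (by rw [← cm, ← cm, hwst v hv hvi'])
  have hwA : w ∈ Kl L hA i := by
    have hyK : y ∈ Kl L hA i := mem_Kl.2 ⟨hyA, hyy, hyi⟩
    have hvK : v ∈ Kl L hA i := mem_Kl.2 ⟨hv, hvv, hvi'⟩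
    rcases hres with h | h | h | h
    · rw [ci w 1 (by rw [h, c1])]; exact one_mem _
    · rw [ci _ _ h]; exact hyK
    · rw [ci _ _ h]; exact hvK
    · rw [← cm] at h
      rw [ci _ _ h]; exact mul_mem hyK hvK
  obtain ⟨hwA1, hwA2, hwA3⟩ := mem_Kl.1 hwA
  obtain ⟨ρ', hρi, -, hρ⟩ := fact_ord3 i
  obtain ⟨ρ, hρA, rfl⟩ := Lab.exists_ev L ρ'
  apply hρ (Lab.ev L hwA1) ((Lab.ev_sq L hA hwA1).2 hwA2) hwA3
    (fun h => hw1 ((Lab.ev_eq_one L hA hwA1).1 h))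
  have h1 := (Lab.ev_comm L hA hwA1 hρA).2 (hwst ρ hρA hρi)
  rw [← h1, mul_inv_cancel_right]

/-- the pair structure -/
structure TwoP (L : Lab A (Fin 5)) (L' : Lab B (Fin 5)) (i j : Fin 5) : Prop where
  teA : TE A
  cj : Cj A B
  ne : A ≠ B
  leB : C A ≤ N B
  leA : C B ≤ N A
  fixA : ∀ a ∈ A, a ∈ C B ↔ L.φ a i = i
  fixB : ∀ b ∈ B, b ∈ C A ↔ L'.φ b j = j

/-- an element of `N B` normalizing `C A` fixes `j` -/
theorem fix_of_norm {L : Lab A (Fin 5)} {L' : Lab B (Fin 5)} {i j : Fin 5} (h : TwoP L L' i j)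
    {x : G} (hxB : x ∈ N B) (hxA : x ∈ N A) : L'.φ x j = j := by
  by_contra hne
  -- `x` conjugates the stabilizer of `j` to itself
  have key : ∀ b ∈ B, L'.φ b j = j → L'.φ b (L'.φ x j) = L'.φ x j := by
    intro b hb hbj
    have h1 : x⁻¹ * b * x ∈ C A := conj_mem_C' hxA ((h.fixB b hb).2 hbj)
    have h2 : x⁻¹ * b * x ∈ B := conj_mem' hxB hb
    have h3 := (h.fixB _ h2).1 h1
    rw [L'.mul _ _ (mul_mem (inv_mem hxB) (le_N hb)) hxB, L'.mul _ _ (inv_mem hxB) (le_N hb),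
      L'.inv hxB, Perm.mul_apply, Perm.mul_apply, Perm.inv_eq_iff_eq] at h3
    exact h3
  obtain ⟨k, hk1, hk2⟩ : ∃ k : Fin 5, k ≠ j ∧ k ≠ L'.φ x j := by
    have : ∀ a b : Fin 5, ∃ k : Fin 5, k ≠ a ∧ k ≠ b := by decide
    exact this _ _
  obtain ⟨s', hs1, hs2⟩ := fact_trans j (L'.φ x j) k hne hk1
  obtain ⟨s, hs, rfl⟩ := Lab.exists_ev L' s'
  exact hk2 (hs2.symm.trans (key s hs hs1))

/-- all elements of `C A` act evenly on `B` -/
theorem even_of_C [Finite G] {L : Lab A (Fin 5)} {L' : Lab B (Fin 5)} {i j : Fin 5}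
    (h : TwoP L L' i j) {k : G} (hk : k ∈ C A) : Perm.sign (L'.φ k) = 1 := by
  rcases Int.units_eq_one_or (Perm.sign (L'.φ k)) with h1 | h1
  · exact h1
  exfalso
  have hBt : TE B := h.teA.of_cj h.cj
  have hkj : L'.φ k j = j := fix_of_norm h (h.leB hk) (C_le_N hk)
  obtain ⟨b', hb1, hb2, hb3, c', hc1, hc2⟩ := fact_odd j (L'.φ k) hkj h1
  obtain ⟨b, hb, rfl⟩ := Lab.exists_ev L' b'
  obtain ⟨c, hc, rfl⟩ := Lab.exists_ev L' c'
  rw [Lab.ev_val] at hb1 hb2 hb3 hc1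
  rw [Lab.ev_val] at hc1 hc2
  have hbA : b ∈ C A := (h.fixB b hb).2 hb1
  rw [← L'.mul _ _ (le_N hb) (h.leB hk)] at hb2 hb3 hc1
  have hmem : L'.φ (b * k) ∈ L'.img (C A) :=
    L'.φ_mem_img (mul_mem hbA hk) (mul_mem (le_N hb) (h.leB hk))
  obtain ⟨u, huA, huN, huφ, huu⟩ := L'.lift_inv hBt h.cj.symm (Ne.symm h.ne) hmem hb2
  have hu1 : u ≠ 1 := by
    rintro rfl
    rw [L'.one] at huφ
    exact hb3 huφ.symm
  have hcu : c * u = u * c := L'.comm_of hBt hc huN (by rw [huφ]; exact hc1)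
  have hcA : c ∈ N A := h.teA.nrm huA hu1 huu hcu
  exact hc2 (fix_of_norm h (le_N hc) hcA)

/-- decomposition of `C A` -/
theorem decomp [Finite G] {L : Lab A (Fin 5)} {L' : Lab B (Fin 5)} {i j : Fin 5}
    (h : TwoP L L' i j) {k : G} (hk : k ∈ C A) :
    ∃ b ∈ B, L'.φ b j = j ∧ ∃ d ∈ C A, d ∈ C B ∧ k = b * d := by
  obtain ⟨b, hb, hbk⟩ := L'.lift (L'.φ k) (mem_alt_iff.2 (even_of_C h hk))
  have hbj : L'.φ b j = j := by
    rw [hbk]; exact fix_of_norm h (h.leB hk) (C_le_N hk)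
  refine ⟨b, hb, hbj, b⁻¹ * k, mul_mem (inv_mem ((h.fixB b hb).2 hbj)) hk, ?_, by group⟩
  rw [← L'.ker _ (mul_mem (inv_mem (le_N hb)) (h.leB hk)), L'.mul _ _ (inv_mem (le_N hb)) (h.leB hk),
    L'.inv (le_N hb), hbk, inv_mul_cancel]

/-- existence of the structure -/
theorem exists_twoP [Finite G] (L : Lab A (Fin 5)) (L' : Lab B (Fin 5)) (hA : TE A) (hB : Cj A B)
    (hne : A ≠ B) (hF : HasFour A) {y : G} (hyA : y ∈ A) (hy1 : y ≠ 1) (hyy : y * y = 1)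
    (hyB : y ∈ C B) : ∃ i j, TwoP L L' i j := by
  have hBt : TE B := hA.of_cj hB
  have hle : C A ≤ N B := fun k hk => hBt.nrm hyB hy1 hyy (comm_of_C hk hyA)
  have hY1 : Lab.ev L hyA ≠ 1 := fun h => hy1 ((Lab.ev_eq_one L hA hyA).1 h)
  obtain ⟨i, hyi⟩ := exists_fix _ ((Lab.ev_sq L hA hyA).2 hyy) hY1
  have hst := stab_le L L' hA hB hne hF hyA hy1 hyy hyB hyi
  have hfx := fix_of_mem L hA hB hst
  obtain ⟨b, hb, hbA, hb1, hbb⟩ := exists_inv_B L L' hA hB hne hF hyA hy1 hyy hyB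
  have hle' : C B ≤ N A := fun k hk => hA.nrm hbA hb1 hbb (comm_of_C hk hb)
  have hB1 : Lab.ev L' hb ≠ 1 := fun h => hb1 ((Lab.ev_eq_one L' hBt hb).1 h)
  obtain ⟨j, hbj⟩ := exists_fix _ ((Lab.ev_sq L' hBt hb).2 hbb) hB1
  have hst' := stab_le L' L hBt hB.symm (Ne.symm hne) (hF.of_cj hB) hb hb1 hbb hbA hbj
  have hfx' := fix_of_mem L' hBt hB.symm hst'
  exact ⟨i, j, hA, hB, hne, hle, hle', fun a ha => ⟨hfx a ha, hst a ha⟩,
    fun b hb => ⟨hfx' b hb, hst' b hb⟩⟩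

end Cfsg.Agent.StdAlt.Five
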