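import Cfsg.Agent.StdAlt.Five.Act
import Cfsg.Agent.StdAlt.PermTypes

/-!
# Two alternating groups of degree five acting on six points

`exists_bij`: an injective homomorphism from `A_5` into the symmetric group of a set with six points, whose image fixes
a point `p`, is the natural action on the remaining points.

`sq_eq_one`: two such homomorphisms which agree on the stabilizer of the last letter and fix different points.
-/

set_option autoImplicit false

namespace Cfsg.Agent.StdAlt.Five

open Subgroup Equiv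
open Cfsg.Agent.StdAlt.PermTypes (cyc)

/-- homomorphisms from `A5` to a commutative group are trivial -/
theorem map_eq_one {M : Type*} [CommGroup M] (f : A5 →* M) (x : A5) : f x = 1 := by
  have h5 : IsSimpleGroup A5 := alternatingGroup.isSimpleGroup (by simp)
  rcases (inferInstance : f.ker.Normal).eq_bot_or_eq_top with h | h
  · exfalso
    have hinj : Function.Injective f := (MonoidHom.ker_eq_bot_iff f).1 h
    have : ∀ x y : A5, x * y = y * x := fun x y => hinj (by rw [map_mul, map_mul, mul_comm])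
    revert this
    decide +kernel
  · have : x ∈ f.ker := by rw [h]; trivial
    exact this

/-- an injective homomorphism from `A5` to `S5` is induced by a permutation -/
theorem exists_conj_perm (f : A5 →* Perm (Fin 5)) (hf : Function.Injective f) :
    ∃ s : Perm (Fin 5), ∀ x, f x = s * x.1 * s⁻¹ := by
  have hev : ∀ x, f x ∈ alternatingGroup (Fin 5) := by
    intro x
    rw [Perm.mem_alternatingGroup]
    exact map_eq_one (Perm.sign.comp f) x
  let g : A5 →* A5 := f.codRestrict _ hev
  have hg : Function.Injective g := by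
    intro x y h
    exact hf (congrArg Subtype.val h)
  obtain ⟨s, hs⟩ := exists_perm (MulEquiv.ofBijective g ⟨hg, Finite.surjective_of_injective hg⟩)
  exact ⟨s, fun x => hs x⟩

theorem exists_bij {Ω : Type*} [Finite Ω] (h6 : Nat.card Ω = 6) (f : A5 →* Perm Ω)
    (hf : Function.Injective f) {p : Ω} (hp : ∀ x, f x p = p) :
    ∃ s : Fin 5 → Ω, Function.Injective s ∧ (∀ i, s i ≠ p) ∧ ∀ x i, f x (s i) = s (x.1 i) := by
  classical
  have hc : Nat.card {ω : Ω // ω ≠ p} = 5 := by
    have := Fintype.ofFinite Ω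
    rw [Nat.card_eq_fintype_card, Fintype.card_subtype_compl, Fintype.card_subtype_eq]
    rw [Nat.card_eq_fintype_card] at h6
    omega
  have hne : ∀ x (ω : Ω), f x ω ≠ p ↔ ω ≠ p := by
    intro x ω
    rw [not_iff_not]
    constructor
    · intro h
      apply (f x).injective
      rw [h, hp]
    · rintro rfl
      exact hp x
  have e : {ω : Ω // ω ≠ p} ≃ Fin 5 := Finite.equivFinOfCardEq hc
  let g₀ : A5 →* Perm {ω : Ω // ω ≠ p} :=
    { toFun := fun x => (f x).subtypePerm (hne x)
      map_one' := by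
        ext ω
        show f 1 ω.1 = ω.1
        rw [map_one]; rfl
      map_mul' := fun x y => by
        ext ω
        show f (x * y) ω.1 = f x (f y ω.1)
        rw [map_mul]; rfl }
  have hg₀ : Function.Injective g₀ := by
    rw [injective_iff_map_eq_one]
    intro x hx
    apply hf
    rw [map_one]
    ext ω
    by_cases h : ω = p
    · rw [h, hp]; rfl
    · have := congrArg (fun h' : Perm {ω : Ω // ω ≠ p} => (h' ⟨ω, h⟩).1) hx
      exact this
  let g : A5 →* Perm (Fin 5) := e.permCongrHom.toMonoidHom.comp g₀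
  have hg : Function.Injective g := e.permCongrHom.injective.comp hg₀
  obtain ⟨s, hs⟩ := exists_conj_perm g hg
  refine ⟨fun i => (e.symm (s i)).1, ?_, fun i => (e.symm (s i)).2, ?_⟩
  · intro i j h
    exact s.injective (e.symm.injective (Subtype.ext h))
  · intro x i
    have h1 : e.permCongrHom (g₀ x) (s i) = s (x.1 i) := by
      have h2 := congrArg (fun t : Perm (Fin 5) => t (s i)) (hs x)
      refine h2.trans ?_
      show s (x.1 (s⁻¹ (s i))) = _
      rw [inv_app]
    have h3 : e (g₀ x (e.symm (s i))) = s (x.1 i) := h1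
    have h4 : g₀ x (e.symm (s i)) = e.symm (s (x.1 i)) := by rw [← h3, e.symm_apply_apply]
    exact congrArg Subtype.val h4

theorem fact_fix4 : ∀ i : Fin 5, (∀ x : A5, x.1 4 = 4 → x.1 i = i) → i = 4 := by decide +kernel

/-- the centralizer of `A_4` in `S_4` is trivial -/
theorem fact_stab_ne : ∀ i : Fin 5, i ≠ 4 → ∀ j : Fin 5, j ≠ 4 → j ≠ i →
    ∃ x : A5, x.1 4 = 4 ∧ x.1 i = i ∧ x.1 j ≠ j := by decide +kernel

/-- the cycle `4 → 2 → 3 → 4` -/
def γ : A5 := ⟨cyc 4 2 3, PermTypes.cyc_mem_alt (by decide) (by decide)⟩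

/-- **The relation.** -/
theorem sq_eq_one {Ω : Type*} [Finite Ω] (h6 : Nat.card Ω = 6) (f g : A5 →* Perm Ω)
    (hf : Function.Injective f) (hg : Function.Injective g)
    (hfg : ∀ x : A5, x.1 4 = 4 → f x = g x) {p q : Ω} (hpq : p ≠ q) (hp : ∀ x, f x p = p)
    (hq : ∀ x, g x q = q) : (f γ * g γ) ^ 2 = 1 := by
  obtain ⟨s, hs1, hs2, hs3⟩ := exists_bij h6 f hf hp
  obtain ⟨t, ht1, ht2, ht3⟩ := exists_bij h6 g hg hq
  -- all points different from `p` are of the form `s i`
  have hall : ∀ {r : Ω} {u : Fin 5 → Ω}, Function.Injective u → (∀ i, u i ≠ r) → ∀ ω, ω ≠ r →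
      ∃ i, u i = ω := by
    intro r u hu hur ω hω
    classical
    have := Fintype.ofFinite Ω
    have h1 : (Finset.univ.image u) = Finset.univ.erase r := by
      apply Finset.eq_of_subset_of_card_le
      · intro x hx
        rw [Finset.mem_image] at hx
        obtain ⟨i, -, rfl⟩ := hx
        exact Finset.mem_erase.2 ⟨hur i, Finset.mem_univ _⟩
      · rw [Finset.card_image_of_injective _ hu, Finset.card_erase_of_mem (Finset.mem_univ _)]
        rw [Nat.card_eq_fintype_card] at h6
        rw [Finset.card_univ, Finset.card_univ, Fintype.card_fin]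
        omega
    have h2 : ω ∈ Finset.univ.image u := by
      rw [h1]; exact Finset.mem_erase.2 ⟨hω, Finset.mem_univ _⟩
    obtain ⟨i, -, hi⟩ := Finset.mem_image.1 h2
    exact ⟨i, hi⟩
  -- `q = s 4` and `p = t 4`
  have hq4 : s 4 = q := by
    obtain ⟨i, hi⟩ := hall hs1 hs2 q (Ne.symm hpq)
    have : i = 4 := by
      apply fact_fix4
      intro x hx
      apply hs1
      rw [← hs3, hi, hfg x hx, hq]
    rw [← this, hi]
  have hp4 : t 4 = p := by
    obtain ⟨i, hi⟩ := hall ht1 ht2 p hpq
    have : i = 4 := by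
      apply fact_fix4
      intro x hx
      apply ht1
      rw [← ht3, hi, ← hfg x hx, hp]
    rw [← this, hi]
  have hst : ∀ i, i ≠ 4 → s i = t i := by
    intro i hi
    have h1 : s i ≠ q := by
      rw [← hq4]; exact fun h => hi (hs1 h)
    obtain ⟨j, hj⟩ := hall ht1 ht2 (s i) h1
    have hj4 : j ≠ 4 := by
      rintro rfl
      exact hs2 i (by rw [← hj, hp4])
    by_contra hcon
    have hji : j ≠ i := by
      rintro rfl
      exact hcon hj.symm
    obtain ⟨x, hx4, hxi, hxj⟩ := fact_stab_ne i hi j hj4 hji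
    apply hxj
    apply ht1
    rw [← ht3, hj, ← hfg x hx4, hs3, hxi]
  have k4 : γ.1 4 = 2 := by decide
  have k2 : γ.1 2 = 3 := by decide
  have k3 : γ.1 3 = 4 := by decide
  have k0 : γ.1 0 = 0 := by decide
  have k1 : γ.1 1 = 1 := by decide
  have n2 := hst 2 (by decide)
  have n3 := hst 3 (by decide)
  have n0 := hst 0 (by decide)
  have n1 := hst 1 (by decide)
  have fp : f γ p = p := hp γ
  have gq : g γ q = q := hq γ
  have f4 : f γ q = s 2 := by rw [← hq4, hs3, k4]
  have f2 : f γ (s 2) = s 3 := by rw [hs3, k2]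
  have f3 : f γ (s 3) = q := by rw [hs3, k3, hq4]
  have f0 : f γ (s 0) = s 0 := by rw [hs3, k0]
  have f1 : f γ (s 1) = s 1 := by rw [hs3, k1]
  have g4 : g γ p = s 2 := by rw [← hp4, ht3, k4, n2]
  have g2 : g γ (s 2) = s 3 := by rw [n2, ht3, k2, n3]
  have g3 : g γ (s 3) = p := by rw [n3, ht3, k3, hp4]
  have g0 : g γ (s 0) = s 0 := by rw [n0, ht3, k0]
  have g1 : g γ (s 1) = s 1 := by rw [n1, ht3, k1]
  ext ω : 1
  rw [pow_two]
  simp only [Perm.mul_apply, Perm.one_apply]
  by_cases hω : ω = p
  · rw [hω, g4, f2, g3, fp]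
  · obtain ⟨i, rfl⟩ := hall hs1 hs2 ω hω
    fin_cases i
    · show f γ (g γ (f γ (g γ (s 0)))) = s 0
      rw [g0, f0, g0, f0]
    · show f γ (g γ (f γ (g γ (s 1)))) = s 1
      rw [g1, f1, g1, f1]
    · show f γ (g γ (f γ (g γ (s 2)))) = s 2
      rw [g2, f3, gq, f4]
    · show f γ (g γ (f γ (g γ (s 3)))) = s 3
      rw [g3, fp, g4, f2]
    · show f γ (g γ (f γ (g γ (s 4)))) = s 4
      rw [hq4, gq, f4, g2, f3]

end Cfsg.Agent.StdAlt.Five
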