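import Cfsg.Agent.StdAlt.Five.TwoPts
import Cfsg.Agent.SmallSimple.PSLTwoPart
import Cfsg.Agent.SmallSimple.OrderEight
import Cfsg.Agent.S1230
import Cfsg.Agent.S0848

/-!
# Amalgams of two alternating groups of degree five over an alternating group of degree four

`Amalg.sq`: a finite group generated by two different subgroups isomorphic to `A_5` with a common subgroup `A_4`, such
that the centralizer of an involution `t` of the latter is the four-group or a nonabelian group of order eight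
satisfies Carmichael's relation (the group is `A_6`).
-/

set_option autoImplicit false

namespace Cfsg.Agent.StdAlt.Five

open Subgroup Equiv

/-- the involution `(01)(23)` -/
def r1 : A5 := ⟨swap 0 1 * swap 2 3, PermTypes.swap_mul_mem (by decide) (by decide)⟩

/-- the involution `(02)(13)` -/
def r2 : A5 := ⟨swap 0 2 * swap 1 3, PermTypes.swap_mul_mem (by decide) (by decide)⟩

/-- the elements of the four-group fixing the last letter -/
def IsV (ρ : A5) : Prop := ρ * ρ = 1 ∧ ρ.1 4 = 4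

instance (ρ : A5) : Decidable (IsV ρ) := by unfold IsV; infer_instance

theorem isV_one : IsV 1 := by decide
theorem isV_r1 : IsV r1 := by decide +kernel
theorem isV_r2 : IsV r2 := by decide +kernel
theorem r1_ne : r1 ≠ 1 := by decide +kernel
theorem r2_ne : r2 ≠ 1 := by decide +kernel
theorem r12_ne : r1 ≠ r2 := by decide +kernel
theorem r12_comm : r1 * r2 = r2 * r1 := by decide +kernel
theorem isV_mul : ∀ ρ, IsV ρ → ∀ σ, IsV σ → IsV (ρ * σ) := by decide +kernel
theorem isV_inv : ∀ ρ, IsV ρ → ρ⁻¹ = ρ := by decide +kernel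
theorem isV_cases : ∀ ρ, IsV ρ → ρ = 1 ∨ ρ = r1 ∨ ρ = r2 ∨ ρ = r1 * r2 := by decide +kernel
theorem isV_conj : ∀ ρ, IsV ρ → ρ ≠ 1 → ∃ κ : A5, κ.1 4 = 4 ∧ κ * ρ * κ⁻¹ = r1 := by decide +kernel
theorem isV_conj_mem : ∀ κ : A5, κ.1 4 = 4 → ∀ ρ, IsV ρ → IsV (κ * ρ * κ⁻¹) := by decide +kernel
theorem exists_not_V : ∃ κ : A5, ¬ IsV (κ * r1 * κ⁻¹) := by decide +kernel
theorem card_A5 : Nat.card A5 = 60 := by
  rw [Nat.card_eq_fintype_card]; decide +kernel
theorem card_stab4 : Fintype.card {x : A5 // x.1 4 = 4} = 12 := by decide +kernel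
theorem card_isV : Fintype.card {x : A5 // IsV x} = 4 := by decide +kernel

/-- two different embeddings of `A5` which agree on `A_4` -/
structure Amalg {Q : Type*} [Group Q] (α₁ α₂ : A5 →* Q) : Prop where
  inj₁ : Function.Injective α₁
  inj₂ : Function.Injective α₂
  agree : ∀ x : A5, x.1 4 = 4 → α₁ x = α₂ x
  ne : α₁.range ≠ α₂.range
  gen : α₁.range ⊔ α₂.range = ⊤

namespace Amalg

variable {Q : Type*} [Group Q] {α₁ α₂ : A5 →* Q}

/-- the common four-group -/
def V (α : A5 →* Q) : Subgroup Q where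
  carrier := {x | ∃ ρ, IsV ρ ∧ α ρ = x}
  one_mem' := ⟨1, isV_one, map_one α⟩
  mul_mem' := by
    rintro _ _ ⟨ρ, hρ, rfl⟩ ⟨σ, hσ, rfl⟩
    exact ⟨ρ * σ, isV_mul ρ hρ σ hσ, map_mul α ρ σ⟩
  inv_mem' := by
    rintro _ ⟨ρ, hρ, rfl⟩
    exact ⟨ρ, hρ, by rw [← map_inv, isV_inv ρ hρ]⟩

theorem mem_V {α : A5 →* Q} {x : Q} : x ∈ V α ↔ ∃ ρ, IsV ρ ∧ α ρ = x := Iff.rfl

theorem card_V {α : A5 →* Q} (h : Function.Injective α) : Nat.card (V α) = 4 := by
  let f : {x : A5 // IsV x} → V α := fun x => ⟨α x, x.1, x.2, rfl⟩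
  have hf : Function.Bijective f := by
    constructor
    · intro x y hxy
      exact Subtype.ext (h (congrArg Subtype.val hxy))
    · rintro ⟨_, ρ, hρ, rfl⟩
      exact ⟨⟨ρ, hρ⟩, rfl⟩
  rw [← Nat.card_congr (Equiv.ofBijective f hf), Nat.card_eq_fintype_card, card_isV]

theorem card_range {α : A5 →* Q} (h : Function.Injective α) : Nat.card α.range = 60 := by
  rw [← card_A5]
  exact Nat.card_congr (MonoidHom.ofInjective h).toEquiv.symm

theorem perfect (h : Amalg α₁ α₂) : commutator Q = ⊤ := by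
  rw [eq_top_iff, ← h.gen, ← Abelianization.ker_of]
  refine sup_le ?_ ?_
  · rintro _ ⟨x, rfl⟩
    rw [MonoidHom.mem_ker]
    exact map_eq_one (Abelianization.of.comp α₁) x
  · rintro _ ⟨x, rfl⟩
    rw [MonoidHom.mem_ker]
    exact map_eq_one (Abelianization.of.comp α₂) x

/-- the four-group is not its own centralizer -/
theorem not_le [Finite Q] (h : Amalg α₁ α₂) : ¬ ∀ x, x * α₁ r1 = α₁ r1 * x → x ∈ V α₁ := by
  intro hC
  have hF2 : Fact (Nat.Prime 2) := ⟨Nat.prime_two⟩
  have hcard := card_V h.inj₁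
  have ht : α₁ r1 ∈ V α₁ := ⟨r1, isV_r1, rfl⟩
  have hsq : ∀ x ∈ V α₁, x * x = 1 := by
    rintro _ ⟨ρ, hρ, rfl⟩
    rw [← map_mul, hρ.1, map_one]
  -- centralizers of all involutions of `V`
  have hC' : ∀ v ∈ V α₁, v ≠ 1 → ∀ x, x * v = v * x → x ∈ V α₁ := by
    rintro _ ⟨ρ, hρ, rfl⟩ hne x hx
    obtain ⟨κ, hκ4, hκ⟩ := isV_conj ρ hρ (fun e => hne (by rw [e, map_one]))
    have h1 := hC (α₁ κ * x * (α₁ κ)⁻¹) (by
      rw [← hκ, map_mul, map_mul, map_inv]
      calc α₁ κ * x * (α₁ κ)⁻¹ * (α₁ κ * α₁ ρ * (α₁ κ)⁻¹) = α₁ κ * (x * α₁ ρ) * (α₁ κ)⁻¹ := by group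
        _ = α₁ κ * (α₁ ρ * x) * (α₁ κ)⁻¹ := by rw [hx]
        _ = _ := by group)
    obtain ⟨σ, hσ, hσx⟩ := h1
    refine ⟨κ⁻¹ * σ * κ, ?_, ?_⟩
    · have := isV_conj_mem κ⁻¹ (by
        show (κ.1)⁻¹ 4 = 4
        rw [Perm.inv_eq_iff_eq, hκ4]) σ hσ
      rwa [inv_inv] at this
    · rw [map_mul, map_mul, map_inv, hσx]; group
  have hp : IsPGroup 2 (V α₁) := IsPGroup.of_card (n := 2) (by rw [hcard]; norm_num)
  obtain ⟨T, hT⟩ := hp.exists_le_sylow
  have hTV : (T : Subgroup Q) = V α₁ := by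
    apply le_antisymm _ hT
    have hnt : Nontrivial (T : Subgroup Q) := by
      refine ⟨⟨⟨α₁ r1, hT ht⟩, 1, ?_⟩⟩
      intro e
      have : α₁ r1 = 1 := congrArg Subtype.val e
      exact r1_ne (h.inj₁ (by rw [this, map_one]))
    have := T.isPGroup'.center_nontrivial
    obtain ⟨z, hz⟩ := exists_ne (1 : center (T : Subgroup Q))
    have hzc : ∀ x ∈ (T : Subgroup Q), x * ((z : (T : Subgroup Q)) : Q) = z * x := by
      intro x hx
      exact congrArg Subtype.val (mem_center_iff.1 z.2 ⟨x, hx⟩)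
    have hz1 : ((z : (T : Subgroup Q)) : Q) ≠ 1 := by
      intro e
      apply hz
      exact Subtype.ext (Subtype.ext e)
    have hzV : ((z : (T : Subgroup Q)) : Q) ∈ V α₁ := hC _ (hzc _ (hT ht)).symm
    intro x hx
    exact hC' _ hzV hz1 x (hzc x hx)
  have hnc : ¬ IsCyclic (T : Subgroup Q) := by
    rw [hTV]
    intro hcy
    obtain ⟨g, hg⟩ := hcy.exists_generator
    have h1 : orderOf g = 4 := by rw [orderOf_eq_card_of_forall_mem_zpowers hg, hcard]
    have h2 : orderOf g ∣ 2 := orderOf_dvd_of_pow_eq_one (by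
      rw [pow_two]; exact Subtype.ext (hsq g g.2))
    rw [h1] at h2
    exact absurd h2 (by norm_num)
  have hnn : ¬ (T : Subgroup Q).Normal := by
    rw [hTV]
    intro hn
    obtain ⟨κ, hκ⟩ := exists_not_V
    obtain ⟨ρ, hρ, hρ'⟩ := hn.conj_mem _ ht (α₁ κ)
    rw [← map_inv, ← map_mul, ← map_mul] at hρ'
    exact hκ (h.inj₁ hρ' ▸ hρ)
  have hinv : ∀ t : Q, orderOf t = 2 → IsMulCommutative (centralizer ({t} : Set Q)) ∧
      ∀ c ∈ centralizer ({t} : Set Q), c ^ 2 = 1 := by
    intro t ht2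
    -- conjugate `t` into `V`
    have h1 : IsPGroup 2 (zpowers t) := IsPGroup.of_card (n := 1) (by
      rw [Nat.card_zpowers, ht2]; norm_num)
    obtain ⟨S, hS⟩ := h1.exists_le_sylow
    obtain ⟨g, hg⟩ := MulAction.exists_smul_eq Q S T
    have hgt : g * t * g⁻¹ ∈ V α₁ := by
      rw [← hTV, ← hg, Sylow.coe_subgroup_smul, ← MulAut.conj_apply]
      exact Subgroup.smul_mem_pointwise_smul _ _ _ (hS (mem_zpowers t))
    have hgt1 : g * t * g⁻¹ ≠ 1 := by
      intro e
      have : t = 1 := by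
        rw [show t = g⁻¹ * (g * t * g⁻¹) * g by group, e]; group
      rw [this, orderOf_one] at ht2
      exact absurd ht2 (by norm_num)
    have h2 : ∀ c ∈ centralizer ({t} : Set Q), g * c * g⁻¹ ∈ V α₁ := by
      intro c hc
      have h3 := mem_centralizer_singleton_iff.1 hc
      apply hC' _ hgt hgt1
      calc g * c * g⁻¹ * (g * t * g⁻¹) = g * (c * t) * g⁻¹ := by group
        _ = g * (t * c) * g⁻¹ := by rw [h3]
        _ = _ := by group
    have h3 : ∀ c ∈ centralizer ({t} : Set Q), c * c = 1 := by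
      intro c hc
      have h4 := hsq _ (h2 c hc)
      rw [show c * c = g⁻¹ * (g * c * g⁻¹ * (g * c * g⁻¹)) * g by group, h4]; group
    refine ⟨⟨⟨fun a b => ?_⟩⟩, fun c hc => by rw [pow_two]; exact h3 c hc⟩
    have ha := h3 a a.2
    have hb := h3 b b.2
    have hab := h3 (a * b : Q) (mul_mem a.2 b.2)
    apply Subtype.ext
    show (a : Q) * b = b * a
    have e1 : (a : Q)⁻¹ = a := inv_eq_of_mul_eq_one_left ha
    have e2 : (b : Q)⁻¹ = b := inv_eq_of_mul_eq_one_left hb
    have e3 : ((a : Q) * b)⁻¹ = a * b := inv_eq_of_mul_eq_one_left hab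
    rw [← e3, mul_inv_rev, e1, e2]
  obtain ⟨F, _, _, hF, ⟨e⟩⟩ := Cfsg.Agent.S1230.result T hnc hnn hinv
  have hF4 : Fintype.card F = 4 := by rw [hF, hTV, hcard]
  have hQ : Nat.card Q = 60 := by
    rw [Nat.card_congr e.toEquiv, Cfsg.Agent.SmallSimple.PSLTwoPart.card_psl_two_even
      (by rw [hF4]; decide), hF4]
    norm_num
  have htop : ∀ {α : A5 →* Q}, Function.Injective α → α.range = ⊤ := fun h' =>
    Subgroup.eq_top_of_card_eq _ (by rw [card_range h', hQ])
  exact h.ne (by rw [htop h.inj₁, htop h.inj₂])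

/-- the order of the group -/
theorem card_eq [Finite Q] (h : Amalg α₁ α₂)
    (h1 : ∀ x y, x * α₁ r1 = α₁ r1 * x → y * α₁ r1 = α₁ r1 * y → x ∉ V α₁ → y ∉ V α₁ →
      x * y⁻¹ ∈ V α₁)
    (h2 : ∀ x, x * α₁ r1 = α₁ r1 * x → (∀ v ∈ V α₁, x * v = v * x) → x ∈ V α₁) :
    Nat.card Q = 360 := by
  obtain ⟨x, hx, hxV⟩ : ∃ x, x * α₁ r1 = α₁ r1 * x ∧ x ∉ V α₁ := by
    by_contra hcon
    push Not at hcon
    exact h.not_le hcon
  have hcard := card_V h.inj₁
  set C : Subgroup Q := centralizer {α₁ r1} with hC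
  have hVC : V α₁ ≤ C := by
    rintro _ ⟨ρ, hρ, rfl⟩
    rw [hC, mem_centralizer_singleton_iff, ← map_mul, ← map_mul]
    congr 1
    rcases isV_cases ρ hρ with rfl | rfl | rfl | rfl <;> decide +kernel
  have hmC : ∀ {y}, y ∈ C ↔ y * α₁ r1 = α₁ r1 * y := mem_centralizer_singleton_iff
  have hrel : (V α₁).relIndex C = 2 := by
    rw [relIndex_eq_two_iff]
    refine ⟨x, hmC.2 hx, fun b hb => ?_⟩
    by_cases hbV : b ∈ V α₁
    · right
      refine ⟨hbV, fun hbx => hxV ?_⟩
      have := mul_mem (inv_mem hbV) hbx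
      rwa [inv_mul_cancel_left] at this
    · left
      refine ⟨?_, hbV⟩
      have := h1 b x⁻¹ (hmC.1 hb) (hmC.1 (inv_mem (hmC.2 hx))) hbV
        (fun e => hxV (inv_mem_iff.1 e))
      rwa [inv_inv] at this
  have hC8 : Nat.card C = 8 := by
    have h3 := card_mul_index ((V α₁).subgroupOf C)
    rw [← relIndex, hrel, Nat.card_congr (subgroupOfEquivOfLe hVC).toEquiv, hcard] at h3
    exact h3.symm
  have hna : ¬ IsMulCommutative C := by
    intro hcomm
    apply hxV
    apply h2 x hx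
    intro v hv
    have := hcomm.is_comm.comm ⟨x, hmC.2 hx⟩ ⟨v, hVC hv⟩
    exact congrArg Subtype.val this
  have hne : ∀ {ρ σ : A5}, ρ ≠ σ → α₁ ρ ≠ α₁ σ := fun h' e => h' (h.inj₁ e)
  have ht : orderOf (α₁ r1) = 2 := by
    apply orderOf_eq_prime
    · rw [pow_two, ← map_mul, isV_r1.1, map_one]
    · intro e
      exact r1_ne (h.inj₁ (by rw [e, map_one]))
  have hdih : Nonempty (C ≃* DihedralGroup 4) := by
    rcases Cfsg.Agent.SmallSimple.OrderEight.dihedral_or_quaternion_of_card_eight hC8 hna with h3 | ⟨⟨e⟩⟩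
    · exact h3
    · exfalso
      -- the quaternion group has only one involution
      have hq : ∀ a b : QuaternionGroup 2, a * a = 1 → b * b = 1 → a ≠ 1 → b ≠ 1 → a = b := by
        decide
      have hm : ∀ {ρ : A5}, IsV ρ → α₁ ρ ∈ C := fun hρ => hVC ⟨_, hρ, rfl⟩
      have key := hq (e ⟨α₁ r1, hm isV_r1⟩) (e ⟨α₁ r2, hm isV_r2⟩) ?_ ?_ ?_ ?_
      · exact hne r12_ne (congrArg Subtype.val (e.injective key))
      · rw [← map_mul, ← map_one e]
        congr 1
        apply Subtype.ext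
        show α₁ r1 * α₁ r1 = 1
        rw [← map_mul, isV_r1.1, map_one]
      · rw [← map_mul, ← map_one e]
        congr 1
        apply Subtype.ext
        show α₁ r2 * α₁ r2 = 1
        rw [← map_mul, isV_r2.1, map_one]
      · intro e1
        rw [← map_one e] at e1
        have e2 : α₁ r1 = 1 := congrArg Subtype.val (e.injective e1)
        exact r1_ne (h.inj₁ (by rw [e2, map_one]))
      · intro e1
        rw [← map_one e] at e1
        have e2 : α₁ r2 = 1 := congrArg Subtype.val (e.injective e1)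
        exact r2_ne (h.inj₁ (by rw [e2, map_one]))
  obtain ⟨e⟩ := hdih
  rcases Cfsg.Agent.S0848.result h.perfect (α₁ r1) ht e with h3 | h3
  · exfalso
    have h4 := card_subgroup_dvd_card α₁.range
    rw [card_range h.inj₁, h3] at h4
    exact absurd h4 (by norm_num)
  · exact h3

/-- the stabilizer of the last letter -/
def S4 : Subgroup A5 where
  carrier := {x | x.1 4 = 4}
  one_mem' := rfl
  mul_mem' := by
    intro x y hx hy
    show x.1 (y.1 4) = 4
    rw [show y.1 4 = 4 from hy]; exact hx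
  inv_mem' := by
    intro x hx
    show (x.1)⁻¹ 4 = 4
    rw [Perm.inv_eq_iff_eq]
    exact (show x.1 4 = 4 from hx).symm

theorem card_S4 : Nat.card S4 = 12 := by
  rw [← card_stab4, ← Nat.card_eq_fintype_card]
  exact Nat.card_congr (Equiv.refl _)

/-- **The relation.** -/
theorem sq [Finite Q] (h : Amalg α₁ α₂)
    (h1 : ∀ x y, x * α₁ r1 = α₁ r1 * x → y * α₁ r1 = α₁ r1 * y → x ∉ V α₁ → y ∉ V α₁ →
      x * y⁻¹ ∈ V α₁)
    (h2 : ∀ x, x * α₁ r1 = α₁ r1 * x → (∀ v ∈ V α₁, x * v = v * x) → x ∈ V α₁) :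
    (α₁ γ * α₂ γ) ^ 2 = 1 := by
  have hcard := h.card_eq h1 h2
  have hsimple : IsSimpleGroup A5 := alternatingGroup.isSimpleGroup (by simp)
  set R := α₁.range with hR
  have hRc : Nat.card R = 60 := card_range h.inj₁
  have hidx : R.index = 6 := by
    have := card_mul_index R
    rw [hRc, hcard] at this
    omega
  have h6 : Nat.card (Q ⧸ R) = 6 := by rw [← hidx, index_eq_card]
  have hnle : ¬ α₂.range ≤ R := by
    intro hle
    apply h.ne
    symm
    apply eq_of_le_of_card_ge hle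
    rw [hRc, card_range h.inj₂]
  let π : Q →* Perm (Q ⧸ R) := MulAction.toPermHom Q (Q ⧸ R)
  have hker : π.ker ≤ R := by
    show (MulAction.toPermHom Q (Q ⧸ R)).ker ≤ R
    rw [← normalCore_eq_ker]
    exact normalCore_le R
  have hbot : π.ker = ⊥ := by
    rcases (inferInstance : (π.ker.comap α₁).Normal).eq_bot_or_eq_top with h3 | h3
    · rw [eq_bot_iff]
      intro x hx
      obtain ⟨y, rfl⟩ := hker hx
      have : y ∈ π.ker.comap α₁ := hx
      rw [h3, mem_bot] at this
      rw [this, map_one]; exact mem_bot.2 rfl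
    · exfalso
      have h4 : R ≤ π.ker := by
        rintro _ ⟨y, rfl⟩
        have : y ∈ π.ker.comap α₁ := by rw [h3]; trivial
        exact this
      apply hnle
      rcases (inferInstance : (π.ker.comap α₂).Normal).eq_bot_or_eq_top with h5 | h5
      · exfalso
        have : r1 ∈ π.ker.comap α₂ := by
          rw [mem_comap, ← h.agree r1 isV_r1.2]
          exact h4 ⟨r1, rfl⟩
        rw [h5, mem_bot] at this
        exact r1_ne this
      · rintro _ ⟨y, rfl⟩
        have : y ∈ π.ker.comap α₂ := by rw [h5]; trivial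
        exact hker this
  have hπ : Function.Injective π := (MonoidHom.ker_eq_bot_iff π).1 hbot
  set p : Q ⧸ R := ((1 : Q) : Q ⧸ R) with hp
  have hstab : ∀ x : Q, π x p = p ↔ x ∈ R := by
    intro x
    show x • ((1 : Q) : Q ⧸ R) = ((1 : Q) : Q ⧸ R) ↔ x ∈ R
    rw [← MulAction.mem_stabilizer_iff, MulAction.stabilizer_quotient]
  have hfp : ∀ x, (π.comp α₁) x p = p := fun x => (hstab _).2 ⟨x, rfl⟩
  -- the fixed point of the second group
  obtain ⟨q, hq⟩ : ∃ q, ∀ x, (π.comp α₂) x q = q := by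
    let _ : MulAction A5 (Q ⧸ R) := MulAction.compHom (Q ⧸ R) (π.comp α₂)
    have hsm : ∀ (x : A5) (ω : Q ⧸ R), x • ω = (π.comp α₂) x ω := fun _ _ => rfl
    have h3 := MulAction.index_stabilizer A5 p
    have h4 : S4 ≤ MulAction.stabilizer A5 p := by
      intro x hx
      rw [MulAction.mem_stabilizer_iff, hsm]
      show π (α₂ x) p = p
      rw [← h.agree x hx]
      exact hfp x
    have h5 : MulAction.stabilizer A5 p ≠ ⊤ := by
      intro e
      apply hnle
      rintro _ ⟨x, rfl⟩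
      rw [← hstab]
      have : x ∈ MulAction.stabilizer A5 p := by rw [e]; trivial
      exact MulAction.mem_stabilizer_iff.1 this
    have h7 := card_mul_index (MulAction.stabilizer A5 p)
    have h8 := card_dvd_of_le h4
    have h9 : (MulAction.stabilizer A5 p).index ≠ 1 := fun e => h5 (index_eq_one.1 e)
    rw [card_A5] at h7
    rw [card_S4] at h8
    have h10 : (MulAction.stabilizer A5 p).index = 5 := by
      obtain ⟨k, hk⟩ := h8
      rw [hk] at h7
      have h11 : k * (MulAction.stabilizer A5 p).index = 5 := by nlinarith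
      have h12 : (MulAction.stabilizer A5 p).index ∣ 5 := ⟨k, by rw [mul_comm]; exact h11.symm⟩
      rcases (Nat.dvd_prime (by norm_num)).1 h12 with h13 | h13
      · exact absurd h13 h9
      · exact h13
    rw [h10] at h3
    -- the complement of the orbit
    have h11 : (MulAction.orbit A5 p)ᶜ.ncard = 1 := by
      have := Set.ncard_add_ncard_compl (MulAction.orbit A5 p)
      rw [h6, ← h3] at this
      omega
    obtain ⟨q, hq⟩ := Set.ncard_eq_one.1 h11
    refine ⟨q, fun x => ?_⟩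
    have h12 : q ∉ MulAction.orbit A5 p := by
      have : q ∈ (MulAction.orbit A5 p)ᶜ := by rw [hq]; rfl
      exact this
    have h13 : x • q ∈ (MulAction.orbit A5 p)ᶜ := by
      intro h14
      apply h12
      have h15 : MulAction.orbit A5 q = MulAction.orbit A5 p :=
        (MulAction.orbit_smul x q).symm.trans (MulAction.orbit_eq_iff.2 h14)
      exact MulAction.orbit_eq_iff.1 h15
    rw [hq] at h13
    exact h13
  have hpq : p ≠ q := by
    intro e
    apply hnle
    rintro _ ⟨x, rfl⟩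
    rw [← hstab, e]
    exact hq x
  apply hπ
  have := sq_eq_one h6 (π.comp α₁) (π.comp α₂) (hπ.comp h.inj₁) (hπ.comp h.inj₂)
    (fun x hx => by
      show π (α₁ x) = π (α₂ x)
      rw [h.agree x hx]) hpq hfp hq
  rw [map_pow, map_mul, map_one]
  exact this

end Amalg

end Cfsg.Agent.StdAlt.Five
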